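import Cfsg.Agent.SylowL.Lower
import Cfsg.Agent.ClassicalGeometry.AutPSL.SylowU

/-!
The Sylow `p`-subgroups of `PSL(m, F)`, `p = char F`, are isomorphic to `UT m F`.
-/

set_option autoImplicit false

namespace Cfsg.Agent.SylowL.SylowPSL

open Matrix
open Cfsg.Agent.SylowL.Lev Cfsg.Agent.SylowL.UT

variable {m : ℕ} {F : Type*} [Field F]

local notation "Mat" => Matrix (Fin m) (Fin m) F

open Cfsg.Agent.ClassicalGeometry.AutPSL.SylowU in
theorem mem_upper_iff [Finite F] (g : Matrix.SpecialLinearGroup (Fin m) F) :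
    g ∈ upper m F ↔ (g : Mat) - 1 ∈ lev m F 1 := by
  rw [mem_upper, mem_lev']
  constructor
  · intro h i j hij
    rw [Matrix.sub_apply, h i j (by rw [Fin.le_def]; omega), Matrix.one_apply, sub_self]
  · intro h i j hij
    have h1 := h i j (by rw [Fin.le_def] at hij; omega)
    rw [Matrix.sub_apply, Matrix.one_apply, sub_eq_zero] at h1
    exact h1

theorem det_eq_one {a : Mat} (ha : a ∈ lev m F 1) : (1 + a).det = 1 := by
  rw [det_of_isUpperTriangular]
  · refine Finset.prod_eq_one fun i _ => ?_
    rw [Matrix.add_apply, Matrix.one_apply_eq, Lev.apply_eq_zero ha (by omega), add_zero]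
  · intro i j hij
    have hij' : j < i := hij
    rw [Fin.lt_def] at hij'
    rw [Matrix.add_apply, Matrix.one_apply_ne (by intro h; rw [h] at hij'; omega),
      Lev.apply_eq_zero ha (by omega), add_zero]

/-- `UT m F` inside `SL`. -/
def toSL : UT m F →* Matrix.SpecialLinearGroup (Fin m) F where
  toFun g := ⟨1 + N g, det_eq_one (N_mem g)⟩
  map_one' := by
    apply Subtype.ext
    change 1 + N (1 : UT m F) = 1
    rw [N_one, add_zero]
  map_mul' g h := by
    apply Subtype.ext
    change 1 + N (g * h) = (1 + N g) * (1 + N h)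
    rw [N_mul]
    noncomm_ring

theorem toSL_coe (g : UT m F) : ((toSL g : Matrix.SpecialLinearGroup (Fin m) F) : Mat) = 1 + N g :=
  rfl

theorem toSL_injective : Function.Injective (toSL : UT m F →* _) := by
  intro g h hgh
  apply N_injective
  have h1 := congrArg (fun x : Matrix.SpecialLinearGroup (Fin m) F => (x : Mat)) hgh
  simp only [toSL_coe, add_right_inj] at h1
  exact h1

open Cfsg.Agent.ClassicalGeometry.AutPSL.SylowU in
theorem range_toSL [Finite F] : (toSL : UT m F →* _).range = upper m F := by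
  ext g
  rw [MonoidHom.mem_range, mem_upper_iff]
  constructor
  · rintro ⟨x, rfl⟩
    rw [toSL_coe, add_sub_cancel_left]
    exact N_mem x
  · intro h
    refine ⟨mk _ h, ?_⟩
    apply Subtype.ext
    change 1 + N (mk ((g : Mat) - 1) h) = (g : Mat)
    rw [N_mk, add_sub_cancel]

open Cfsg.Agent.ClassicalGeometry.AutPSL.SylowU Cfsg.Agent.ClassicalGeometry.AutPSL.Root in
/-- The Sylow `p`-subgroups of `PSL(m, F)` are isomorphic to `UT m F`. -/
theorem sylow_equiv [Fintype F] (p : ℕ) [Fact p.Prime] [CharP F p]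
    (P : Sylow p (Matrix.ProjectiveSpecialLinearGroup (Fin m) F)) :
    Nonempty (↥(P : Subgroup (Matrix.ProjectiveSpecialLinearGroup (Fin m) F)) ≃* UT m F) := by
  obtain ⟨S, hS⟩ := exists_sylow (F := F) m p
  have e1 : (P : Subgroup (Matrix.ProjectiveSpecialLinearGroup (Fin m) F)) ≃*
      (S : Subgroup (Matrix.ProjectiveSpecialLinearGroup (Fin m) F)) := Sylow.equiv P S
  let f : UT m F →* Matrix.ProjectiveSpecialLinearGroup (Fin m) F := pr.comp toSL
  have hf : Function.Injective f := by
    intro x y hxy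
    apply toSL_injective
    refine pr_injOn_upper ?_ ?_ hxy
    · rw [SetLike.mem_coe, ← range_toSL]; exact ⟨x, rfl⟩
    · rw [SetLike.mem_coe, ← range_toSL]; exact ⟨y, rfl⟩
  have hr : f.range = (S : Subgroup (Matrix.ProjectiveSpecialLinearGroup (Fin m) F)) := by
    rw [hS, ← range_toSL, MonoidHom.range_comp]
  exact ⟨e1.trans ((MulEquiv.subgroupCongr hr.symm).trans (MonoidHom.ofInjective hf).symm)⟩

end Cfsg.Agent.SylowL.SylowPSL
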