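import Cfsg.Agent.SylowL.RectInv
import Cfsg.Agent.TypeL3.Closed

/-!
# Fusion in groups with Sylow `2`-subgroup `UT m F`
-/

set_option autoImplicit false
set_option linter.unusedSectionVars false
set_option linter.unusedVariables false
set_option linter.unusedSimpArgs false

namespace Cfsg.Agent.SylowL.Fus

open Matrix
open Cfsg.Agent.SylowL.Lev Cfsg.Agent.SylowL.UT Cfsg.Agent.SylowL.Pat Cfsg.Agent.SylowL.Series
open Cfsg.Agent.SylowL.Rect Cfsg.Agent.SylowL.NatSec Cfsg.Agent.SylowL.PSec Cfsg.Agent.SylowL.Inv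
open Cfsg.Agent.SylowL.Dual Cfsg.Agent.SylowL.RectInv
open Cfsg.Agent.Lib.EssentialFusion Cfsg.Agent.Lib.GoldschmidtFusion
open Subgroup

section General

variable {G : Type*} [Group G] [Finite G] {S : Sylow 2 G}

theorem conj_mem_iff {X : Subgroup G} {g x : G} (hg : g ∈ normalizer (X : Set G)) :
    g * x * g⁻¹ ∈ X ↔ x ∈ X := (mem_normalizer_iff.1 hg x).symm

/-- A subgroup of `S` normalised by `N_G(S)` and by the normalizers of all essential subgroups is
strongly closed. -/
theorem stronglyClosed_of {D : Subgroup G} (hD : D ≤ (S : Subgroup G))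
    (h1 : normalizer ((S : Subgroup G) : Set G) ≤ normalizer (D : Set G))
    (h2 : ∀ X : Subgroup G, Ess S X → normalizer (X : Set G) ≤ normalizer (D : Set G)) :
    Cfsg.IsStronglyClosed D (S : Subgroup G) := by
  refine ⟨hD, fun x hx g hg => ?_⟩
  have h3 : zpowers x ≤ (S : Subgroup G) := zpowers_le.2 (hD hx)
  have h4 := gen_of_conj_ess S (fun X => X = (S : Subgroup G) ∨ Ess S X) (Or.inl rfl)
    (fun X hX => Or.inr hX) h3 (zpowers_map_conj_le hg)
  have h5 := h4.invariant (fun y => y ∈ D) ?_ x (mem_zpowers x)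
  · exact (iff_of_eq h5).2 hx
  · intro X hXS hX n hn y hy
    apply propext
    rcases hX with rfl | hX
    · exact conj_mem_iff (h1 hn)
    · exact conj_mem_iff (h2 X hX hn)

/-- The normalizers of `S` and of the essential subgroups control fusion. -/
theorem exists_conj_of_le {M : Subgroup G}
    (h1 : normalizer ((S : Subgroup G) : Set G) ≤ M)
    (h2 : ∀ X : Subgroup G, Ess S X → normalizer (X : Set G) ≤ M) {x g : G}
    (hx : x ∈ (S : Subgroup G)) (hg : g * x * g⁻¹ ∈ (S : Subgroup G)) :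
    ∃ n ∈ M, n * x * n⁻¹ = g * x * g⁻¹ := by
  have h3 : zpowers x ≤ (S : Subgroup G) := zpowers_le.2 hx
  have h4 := gen_of_conj_ess S (fun X => X = (S : Subgroup G) ∨ Ess S X) (Or.inl rfl)
    (fun X hX => Or.inr hX) h3 (zpowers_map_conj_le hg)
  obtain ⟨n, hn, c, hc, rfl⟩ := h4.exists_mul (M := M) (by
    intro X _ hX
    rcases hX with rfl | hX
    · exact h1
    · exact h2 X hX)
  refine ⟨n, hn, ?_⟩
  have h5 : c * x * c⁻¹ = x := conj_eq_of_mem_centralizer hc (mem_zpowers x)
  calc n * x * n⁻¹ = n * (c * x * c⁻¹) * n⁻¹ := by rw [h5]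
    _ = n * c * x * (n * c)⁻¹ := by group

theorem map_eq_of_gen {P : Subgroup G} {F : Subgroup G → Prop} {Z A : Subgroup G}
    (hZ : ∀ X : Subgroup G, X ≤ P → F X → Z ≤ X → normalizer (X : Set G) ≤ normalizer (Z : Set G))
    {g : G} (h : Gen P F A g) (hA : A = Z) : A.map (MulAut.conj g).toMonoidHom = Z := by
  induction h with
  | cent _ hc => rw [map_conj_of_mem_centralizer hc, hA]
  | base hX hF hAX hg =>
    rw [hA] at hAX ⊢
    exact mem_normalizer_iff_map_conj.1 (hZ _ hX hF hAX hg)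
  | mul _ _ ih1 ih2 =>
    have h1 := ih1 hA
    have h2 := ih2 h1
    rwa [map_conj_map_conj] at h2

/-- Weak closure. -/
theorem mem_normalizer_of_weak {A : Subgroup G} (hA : A ≤ (S : Subgroup G))
    (h1 : normalizer ((S : Subgroup G) : Set G) ≤ normalizer (A : Set G))
    (h2 : ∀ X : Subgroup G, Ess S X → A ≤ X → normalizer (X : Set G) ≤ normalizer (A : Set G))
    {g : G} (hg : ∀ a ∈ A, g * a * g⁻¹ ∈ (S : Subgroup G)) : g ∈ normalizer (A : Set G) := by
  have h3 : A.map (MulAut.conj g).toMonoidHom ≤ (S : Subgroup G) := by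
    rintro _ ⟨a, ha, rfl⟩
    exact hg a ha
  have h4 := gen_of_conj_ess S (fun X => X = (S : Subgroup G) ∨ Ess S X) (Or.inl rfl)
    (fun X hX => Or.inr hX) hA h3
  rw [mem_normalizer_iff_map_conj]
  refine map_eq_of_gen ?_ h4 rfl
  intro X _ hX hAX
  rcases hX with rfl | hX
  · exact h1
  · exact h2 X hX hAX

end General

/-! ### Elements of `UT m F` -/

section UTm

variable {m : ℕ} {F : Type*} [Field F]

/-- The rectangle subgroups. -/
abbrev R (m : ℕ) (F : Type*) [Field F] {a b : ℕ} (hab : a ≤ b) : Subgroup (UT m F) :=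
  X F (isUR_R m hab)

theorem root_mem_R {a b : ℕ} (hab : a ≤ b) {i j : Fin m} (hij : i < j) {c : F}
    (hi : (i : ℕ) < a) (hj : b ≤ j) : root i j hij c ∈ R m F hab := by
  by_cases hc : c = 0
  · rw [hc, root_zero]; exact one_mem _
  · exact (root_mem_X _ hij hc).2 ⟨hi, hj⟩

theorem root_ne_one {i j : Fin m} (hij : i < j) {c : F} (hc : c ≠ 0) : root i j hij c ≠ 1 := by
  intro h
  rw [← N_eq_zero_iff, N_root] at h
  have h1 := congrFun (congrFun h i) j
  rw [Matrix.single_apply_same] at h1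
  exact hc h1

theorem root_sq [CharP F 2] {i j : Fin m} (hij : i < j) (c : F) :
    root i j hij c * root i j hij c = 1 := by
  rw [root_mul_root, CharTwo.add_self_eq_zero, root_zero]

theorem not_commute_roots {i j k : Fin m} (hij : i < j) (hjk : j < k) {c d : F} (hc : c ≠ 0)
    (hd : d ≠ 0) : root i j hij c * root j k hjk d ≠ root j k hjk d * root i j hij c := by
  intro h
  rw [commute_root_iff hjk hd] at h
  have h1 := h.1 i
  rw [N_root, Matrix.single_apply_same] at h1
  exact hc h1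

theorem R_mul_zero {a b : ℕ} (hab : a ≤ b) {g h : UT m F} (hg : g ∈ R m F hab)
    (hh : h ∈ R m F hab) : N g * N h = 0 := by
  refine mul_eq_zero_of_pat (D := fun i j : Fin m => Rd a b i j)
    (D' := fun i j : Fin m => Rd a b i j) ?_ hg hh
  intro i j k h1 h2
  have h3 := h1.2
  have h4 := h2.1
  omega

theorem R_comm {a b : ℕ} (hab : a ≤ b) {g h : UT m F} (hg : g ∈ R m F hab)
    (hh : h ∈ R m F hab) : g * h = h * g := by
  rw [commute_iff, R_mul_zero hab hg hh, R_mul_zero hab hh hg]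

theorem R_sq [CharP F 2] {a b : ℕ} (hab : a ≤ b) {g : UT m F} (hg : g ∈ R m F hab) : g * g = 1 := by
  rw [← N_eq_zero_iff, N_mul, R_mul_zero hab hg hg, add_zero]
  ext i j
  rw [Matrix.add_apply, Matrix.zero_apply]
  exact CharTwo.add_self_eq_zero _

end UTm

section Simple

universe u w

variable {m : ℕ} {F : Type w} [Field F] [Finite F] [CharP F 2] {G : Type u} [Group G] [Finite G]
  {S : Sylow 2 G} {ι : UT m F →* G}

/-- All essential subgroups are of the form `Q k`. -/
def EssQ (m : ℕ) (F : Type*) [Field F] {G : Type*} [Group G] [Finite G] (S : Sylow 2 G)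
    (ι : UT m F →* G) : Prop :=
  ∀ X : Subgroup G, Ess S X → ∃ k, 0 < k ∧ k < m ∧ X = (Q m F k).map ι

variable (hP : P2 m F S) (c : Ctx S ι) (hQ : EssQ m F S ι)

include hP c hQ

theorem stronglyClosed_A {a : ℕ} (ha : 0 < a) (ham : a < m)
    (hna : ¬ Ess S ((Q m F a).map ι)) :
    Cfsg.IsStronglyClosed ((R m F (le_refl a)).map ι) (S : Subgroup G) := by
  refine stronglyClosed_of (c.emb.map_le _) (c.hK _ _) ?_
  intro X hX
  obtain ⟨k, hk, hkm, rfl⟩ := hQ X hX
  have hak : a ≠ k := by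
    rintro rfl
    exact hna hX
  exact rect hP c hk hkm hX (by omega) le_rfl ham hak hak _

/-- **(F3)** -/
theorem ess_of_simple (h1169 : TypeL3.H1169.{u}) [IsSimpleGroup G] {a : ℕ} (ha : 0 < a)
    (ham : a < m) : Ess S ((Q m F a).map ι) := by
  by_contra hna
  have hm := c.m4
  have hcl := stronglyClosed_A hP c hQ ha ham hna
  set D : Subgroup G := (R m F (le_refl a)).map ι with hD
  have hz : root ⟨0, by omega⟩ ⟨m - 1, by omega⟩ (by rw [Fin.lt_def]; simp only; omega) (1 : F) ∈
      R m F (le_refl a) := root_mem_R _ _ (by simp only; omega) (by simp only; omega)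
  have hz1 : ι (root ⟨0, by omega⟩ ⟨m - 1, by omega⟩ (by rw [Fin.lt_def]; simp only; omega)
      (1 : F)) ≠ 1 := by
    rw [← map_one ι]
    exact fun h => root_ne_one _ one_ne_zero (c.emb.inj h)
  have hDne : D ≠ ⊥ := by
    intro h
    apply hz1
    rw [← mem_bot, ← h]
    exact ⟨_, hz, rfl⟩
  have hDc : IsMulCommutative D := by
    refine ⟨⟨?_⟩⟩
    rintro ⟨_, ⟨x, hx, rfl⟩⟩ ⟨_, ⟨y, hy, rfl⟩⟩
    apply Subtype.ext
    change ι x * ι y = ι y * ι x
    rw [← map_mul, ← map_mul, R_comm _ hx hy]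
  rcases h1169 G S D hDne hDc hcl with h1 | ⟨H, hH⟩
  · have h2 := h1.1.1 (⟨_, c.emb.mem (root ⟨0, by omega⟩ ⟨1, by omega⟩
      (by rw [Fin.lt_def]; simp only; omega) (1 : F))⟩ : (S : Subgroup G))
      ⟨_, c.emb.mem (root ⟨1, by omega⟩ ⟨2, by omega⟩
      (by rw [Fin.lt_def]; simp only; omega) (1 : F))⟩
    have h3 := congrArg Subtype.val h2
    change ι _ * ι _ = ι _ * ι _ at h3
    rw [← map_mul, ← map_mul] at h3
    exact not_commute_roots _ _ one_ne_zero one_ne_zero (c.emb.inj h3)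
  · have key : ∀ (i j : Fin m) (hij : i < j), root i j hij (1 : F) ∈ R m F (le_refl a) := by
      intro i j hij
      have h2 := TypeL3.mem_of_stronglyEmbedded hH hcl (a := ι _) ⟨_, hz, rfl⟩
        (by rw [← map_mul, root_sq, map_one]) hz1 (s := ι (root i j hij 1)) (c.emb.mem _)
        (by rw [← map_mul, root_sq, map_one])
      exact c.emb.map_mem.1 h2
    by_cases ha1 : a = 1
    · have h2 := (root_mem_X (isUR_R m (le_refl a)) (i := ⟨1, by omega⟩) (j := ⟨2, by omega⟩)
        (by rw [Fin.lt_def]; simp only; omega) one_ne_zero).1 (key _ _ _)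
      have h3 := h2.1
      simp only at h3
      omega
    · have h2 := (root_mem_X (isUR_R m (le_refl a)) (i := ⟨0, by omega⟩) (j := ⟨1, by omega⟩)
        (by rw [Fin.lt_def]; simp only; omega) one_ne_zero).1 (key _ _ _)
      have h3 := h2.2
      simp only at h3
      omega

end Simple

local macro "po" : tactic => `(tactic| ((try simp only [Qd, Rd, flipD, true_and, and_true, true_or,
  or_true, false_and, and_false, false_or, or_false, not_true_eq_false, not_false_eq_true] at *)
  <;> omega))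

section Trans

universe u w

variable {m : ℕ} {F : Type w} [Field F] [Finite F] [CharP F 2] {G : Type u} [Group G] [Finite G]
  {S : Sylow 2 G} {ι : UT m F →* G}

/-- The lower part of the section moved by `Q k` in row `a - 1`. -/
def Pd (a k l : ℕ) : ℕ → ℕ → Prop := fun i j => Rd (a - 1) (k - 1) i j ∨ Rd a l i j

theorem isUR_P {a k l : ℕ} (ha : a + 1 ≤ k) (hl : a ≤ l) : IsUR m (Pd a k l) :=
  isUR_or (isUR_R m (by omega)) (isUR_R m hl)

theorem ps_gen {a k : ℕ} (ha : 1 ≤ a) (hak : a + 1 ≤ k) (hkm : k < m) :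
    PS m k (Rd a (k - 1)) (Pd a k k) (Pd a k k) (Pd a k (k + 1)) := by
  refine ⟨isUR_R m (by omega), isUR_P hak (by omega), isUR_P hak (by omega),
    isUR_P hak (by omega), ?_, ?_, ?_, ?_, ?_, ?_, ?_, ?_, ?_, ?_,
    Or.inr ⟨a - 1, ?_, ?_, ?_, ?_, ?_⟩⟩ <;> intros <;>
    (try simp only [Pd] at *) <;> po

variable (hP : P2 m F S) (c : Ctx S ι)

include hP c

theorem inv_P {a k : ℕ} (ha : 1 ≤ a) (hak : a + 1 ≤ k) (hkm : k < m)
    (hE : Ess S ((Q m F k).map ι)) :
    PInv ι (normalizer (((Q m F k).map ι : Subgroup G) : Set G)) (Pd a k (k + 1)) := by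
  refine PInv.or c.emb.inj (isUR_R m (by omega)) (isUR_R m (by omega)) ?_ ?_
  · by_cases h : a = 1
    · refine PInv.congr inv_zero (isUR_R m (Nat.zero_le m)) ?_
      intro i j hj
      po
    · exact rect hP c (by omega) hkm hE (by omega) (by omega) (by omega) (by omega) (by omega)
  · by_cases h : k + 1 = m
    · refine PInv.congr inv_zero (isUR_R m (Nat.zero_le m)) ?_
      intro i j hj
      po
    · exact rect hP c (by omega) hkm hE (by omega) (by omega) (by omega) (by omega) (by omega)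

theorem trans_gen {a k : ℕ} (ha : 1 ≤ a) (hak : a + 1 ≤ k) (hkm : k < m)
    (hE : Ess S ((Q m F k).map ι)) {x y : UT m F} (hx : x ∈ R m F (show a ≤ k - 1 by omega))
    (hx1 : x ∉ X F (isUR_P (m := m) hak (show a ≤ k + 1 by omega)))
    (hy : y ∈ R m F (show a ≤ k - 1 by omega))
    (hy1 : y ∉ X F (isUR_P (m := m) hak (show a ≤ k + 1 by omega))) :
    ∃ n ∈ normalizer (((Q m F k).map ι : Subgroup G) : Set G),
      n * ι x * n⁻¹ * (ι y)⁻¹ ∈ (X F (isUR_P (m := m) hak (show a ≤ k + 1 by omega))).map ι := by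
  have hk0 : 0 < k := by omega
  have p := ps_gen (m := m) ha hak hkm
  have h1 : PInv ι (normalizer (((Q m F k).map ι : Subgroup G) : Set G)) (Rd a (k - 1)) :=
    rect hP c hk0 hkm hE ha (by omega) (by omega) (by omega) (by omega)
  refine (p.tsec (F := F) hk0 hkm).trans c.emb (tq hk0 hkm c.q4) hE
    (psec c hk0 hkm p h1 (inv_P hP c ha hak hkm hE)) ?_ hx hx1 hy hy1
  rw [← relIndex_mul_relIndex (X F p.urΨ) (X F p.urY) (X F p.urΩ) ((X_le _ _).2 p.leY)
    ((X_le _ _).2 p.leΩ), (p.tsec (F := F) hk0 hkm).card_Y, (p.tsec (F := F) hk0 hkm).card_U]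

end Trans

section Final

universe u w

variable {m : ℕ} {F : Type w} [Field F] [Finite F] [CharP F 2] {G : Type u} [Group G] [Finite G]
  {S : Sylow 2 G} {ι : UT m F →* G} (hP : P2 m F S) (c : Ctx S ι) (hQ : EssQ m F S ι)
  (hI : ∀ k, 0 < k → k < m → Ess S ((Q m F k).map ι))

include hP c hQ hI

/-- `N_G(Q k)`, `k ≠ a`, normalises `A a`. -/
theorem le_A {a k : ℕ} (ha : 0 < a) (ham : a < m) (hk : 0 < k) (hkm : k < m) (hak : a ≠ k) :
    normalizer (((Q m F k).map ι : Subgroup G) : Set G) ≤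
      normalizer (((R m F (le_refl a)).map ι : Subgroup G) : Set G) :=
  rect hP c hk hkm (hI k hk hkm) ha le_rfl ham hak hak _

theorem exists_conj_Z_aux : ∀ n j, j + n + 1 = m → ∀ hj : 1 ≤ j, ∀ x ∈ R m F hj, x ≠ 1 →
    ∃ g ∈ normalizer (((R m F (le_refl 1)).map ι : Subgroup G) : Set G),
      g * ι x * g⁻¹ ∈ (R m F (show 1 ≤ m - 1 by have := c.m4; omega)).map ι := by
  have hm := c.m4
  intro n
  induction n with
  | zero =>
    intro j hj hj1 x hx hx1
    refine ⟨1, one_mem _, ⟨x, ?_, by simp⟩⟩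
    have h1 : j = m - 1 := by omega
    subst h1
    exact hx
  | succ n ih =>
    intro j hj hj1 x hx hx1
    by_cases hx2 : x ∈ R m F (show 1 ≤ j + 1 by omega)
    · exact ih (j + 1) (by omega) (by omega) x hx2 hx1
    · -- use `Q (j + 1)`
      have hjm : j + 1 < m := by omega
      have hle : X F (isUR_P (m := m) (a := 1) (k := j + 1) (l := j + 2) (by omega) (by omega)) ≤
          R m F (show 1 ≤ j + 1 by omega) := by
        rw [X_le]
        intro a b hb h
        simp only [Pd] at h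
        po
      have hR : R m F (show 1 ≤ j + 1 - 1 by omega) = R m F hj1 :=
        X_congr _ _ (fun a b hb => by po)
      have hij : (⟨0, by omega⟩ : Fin m) < ⟨j + 1, hjm⟩ := by
        rw [Fin.lt_def]; simp only; omega
      obtain ⟨g, hg, h1⟩ := trans_gen hP c (a := 1) (k := j + 1) le_rfl (by omega) hjm
        (hI (j + 1) (by omega) hjm) (x := x) (y := root ⟨0, by omega⟩ ⟨j + 1, hjm⟩ hij 1)
        (by rw [hR]; exact hx) (fun h => hx2 (hle h))
        (by rw [hR]; exact root_mem_R _ _ (by simp only; omega) (by simp only; omega))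
        (by
          intro h
          have h2 := (root_mem_X _ hij one_ne_zero).1 h
          simp only [Pd] at h2
          po)
      obtain ⟨w, hw, hw1⟩ := h1
      have h2 : g * ι x * g⁻¹ = ι (w * root ⟨0, by omega⟩ ⟨j + 1, hjm⟩ hij 1) := by
        rw [map_mul, hw1]
        group
      have h3 : w * root ⟨0, by omega⟩ ⟨j + 1, hjm⟩ hij 1 ∈ R m F (show 1 ≤ j + 1 by omega) :=
        mul_mem (hle hw) (root_mem_R _ _ (by simp only; omega) (by simp only; omega))
      have h4 : w * root ⟨0, by omega⟩ ⟨j + 1, hjm⟩ hij 1 ≠ 1 := by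
        intro h4
        rw [h4, map_one] at h2
        apply hx1
        apply c.emb.inj
        rw [map_one]
        have h5 : ι x = g⁻¹ * 1 * g := by
          rw [← h2]
          group
        rw [h5]
        group
      obtain ⟨g', hg', h5⟩ := ih (j + 1) (by omega) (by omega) _ h3 h4
      refine ⟨g' * g, mul_mem hg' (le_A hP c hQ hI one_pos (by omega) (by omega) hjm (by omega) hg),
        ?_⟩
      rw [← h2] at h5
      have h6 : g' * g * ι x * (g' * g)⁻¹ = g' * (g * ι x * g⁻¹) * g'⁻¹ := by group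
      rw [h6]
      exact h5

/-- Every nontrivial element of `A 1` is conjugate in `N(A 1)` into the centre of `S`. -/
theorem exists_conj_Z {x : UT m F} (hx : x ∈ R m F (le_refl 1)) (hx1 : x ≠ 1) :
    ∃ g ∈ normalizer (((R m F (le_refl 1)).map ι : Subgroup G) : Set G),
      g * ι x * g⁻¹ ∈ (R m F (show 1 ≤ m - 1 by have := c.m4; omega)).map ι := by
  have hm := c.m4
  exact exists_conj_Z_aux hP c hQ hI (m - 2) 1 (by omega) le_rfl x hx hx1

omit hQ hI in
/-- The nontrivial elements of the centre of `S` are conjugate. -/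
theorem conj_Z (hI : Ess S ((Q m F (m - 1)).map ι)) {x y : UT m F}
    (hx : x ∈ R m F (show 1 ≤ m - 2 by have := c.m4; omega)) (hx1 : x ≠ 1)
    (hy : y ∈ R m F (show 1 ≤ m - 2 by have := c.m4; omega)) (hy1 : y ≠ 1) :
    ∃ n ∈ normalizer (((Q m F (m - 1)).map ι : Subgroup G) : Set G), n * ι x * n⁻¹ = ι y := by
  have hm := c.m4
  have hle : X F (isUR_P (m := m) (a := 1) (k := m - 1) (l := m - 1 + 1) (by omega) (by omega)) =
      ⊥ := by
    rw [← X_bot]
    refine X_congr _ _ fun a b hb => ?_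
    constructor
    · intro h
      simp only [Pd] at h
      have : b < m := hb
      po
    · exact fun h => h.elim
  obtain ⟨n, hn, h1⟩ := trans_gen hP c (a := 1) (k := m - 1) le_rfl (by omega) (by omega) hI
    (x := x) (y := y) hx (by rw [hle, mem_bot]; exact hx1) hy (by rw [hle, mem_bot]; exact hy1)
  rw [hle, Subgroup.map_bot, mem_bot, mul_inv_eq_one] at h1
  exact ⟨n, hn, h1⟩

end Final

section DualCtx

universe u w

variable {m : ℕ} {F : Type w} [Field F] [Finite F] [CharP F 2] {G : Type u} [Group G] [Finite G]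
  {S : Sylow 2 G} {ι : UT m F →* G}

theorem map_delta_R {a b : ℕ} (hab : a ≤ b) (hb : b ≤ m) :
    (R m F hab).map (ι.comp delta) = (R m F (show m - b ≤ m - a by omega)).map ι := by
  rw [map_comp_delta]
  congr 1
  refine X_congr _ _ fun i j hj => ?_
  unfold flipD Rd
  omega

theorem essQ_delta (h : EssQ m F S ι) : EssQ m F S (ι.comp delta) := by
  intro X hX
  obtain ⟨k, hk, hkm, rfl⟩ := h X hX
  exact ⟨m - k, by omega, by omega, (map_Q hk hkm).symm⟩

theorem ess_delta (hI : ∀ k, 0 < k → k < m → Ess S ((Q m F k).map ι)) :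
    ∀ k, 0 < k → k < m → Ess S ((Q m F k).map (ι.comp delta)) := by
  intro k hk hkm
  have h1 := map_Q (F := F) (ι := ι) (k := m - k) (by omega) (by omega)
  have h2 : m - (m - k) = k := by omega
  rw [h2] at h1
  rw [h1]
  exact hI _ (by omega) (by omega)

/-- Every nontrivial element of `A (m - 1)` is conjugate in `N(A (m - 1))` into the centre of `S`. -/
theorem exists_conj_Z' (hP : P2 m F S) (c : Ctx S ι) (hQ : EssQ m F S ι)
    (hI : ∀ k, 0 < k → k < m → Ess S ((Q m F k).map ι)) {x : UT m F}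
    (hx : x ∈ R m F (le_refl (m - 1))) (hx1 : x ≠ 1) :
    ∃ g ∈ normalizer (((R m F (le_refl (m - 1))).map ι : Subgroup G) : Set G),
      g * ι x * g⁻¹ ∈ (R m F (show 1 ≤ m - 1 by have := c.m4; omega)).map ι := by
  have hm := c.m4
  have h1 : ι x ∈ (R m F (le_refl 1)).map (ι.comp delta) := by
    rw [map_delta_R _ (by omega)]
    exact ⟨x, hx, rfl⟩
  obtain ⟨y, hy, hyx⟩ := h1
  have hy1 : y ≠ 1 := by
    rintro rfl
    rw [map_one] at hyx
    exact hx1 (c.emb.inj (by rw [map_one]; exact hyx.symm))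
  obtain ⟨g, hg, h2⟩ := exists_conj_Z hP (ctx_delta c) (essQ_delta hQ) (ess_delta hI) hy hy1
  rw [map_delta_R _ (by omega)] at hg h2
  refine ⟨g, hg, ?_⟩
  rw [hyx] at h2
  obtain ⟨w, hw, h3⟩ := h2
  refine ⟨w, ?_, h3⟩
  have h4 : R m F (show m - (m - 1) ≤ m - 1 by omega) = R m F (show 1 ≤ m - 1 by omega) :=
    X_congr _ _ fun i j hj => by unfold Rd; omega
  rw [← h4]
  exact hw

end DualCtx

end Cfsg.Agent.SylowL.Fus
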