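import Cfsg.Agent.SylowL.SylowPSL
import Cfsg.Agent.S0256
import Cfsg.Agent.LieClassical.FieldTransfer
import Cfsg.Agent.LieRecognition.PSUThreeSylow
import Cfsg.Prelude.Def_Sporadic
import Cfsg.Prelude.Def_Exceptional
import Cfsg.Prelude.Def_Classical

/-!
Comparison of `UT m F`, `m ≥ 3`, `|F| = 2 ^ r`, `r ≥ 2`, with the Sylow 2-subgroups of the groups in
the conclusion of S1179.
-/

set_option autoImplicit false
open Cfsg

namespace Cfsg.Agent.SylowL.Compare

open Matrix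
open Cfsg.Agent.SylowL.Lev Cfsg.Agent.SylowL.UT Cfsg.Agent.SylowL.Pat
open Cfsg.Agent.SylowL.Lower Cfsg.Agent.SylowL.SylowPSL

theorem sylow_transfer {p : ℕ} [Fact p.Prime] {G H : Type*} [Group G] [Group H] [Finite G]
    [Finite H] (f : G ≃* H) (S : Sylow p G) (P : Sylow p H) :
    Nonempty (↥(S : Subgroup G) ≃* ↥(P : Subgroup H)) := by
  have e1 : (S : Subgroup G) ≃* (S : Subgroup G).map (f : G →* H) :=
    Subgroup.equivMapOfInjective _ _ f.injective
  have e2 : ((S.mapSurjective (f := (f : G →* H)) f.surjective : Sylow p H) : Subgroup H)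
      = (S : Subgroup G).map (f : G →* H) := rfl
  exact ⟨e1.trans ((MulEquiv.subgroupCongr e2.symm).trans (Sylow.equiv _ P))⟩

/-- A `p`-group embedded in `G` and of the order of a Sylow subgroup is isomorphic to it. -/
theorem sylow_of_embedding {p : ℕ} [Fact p.Prime] {G H : Type*} [Group G] [Group H] [Finite G]
    [Finite H] (S : Sylow p G) (f : H →* G) (hf : Function.Injective f)
    (hc : Nat.card H = Nat.card (S : Subgroup G)) : Nonempty (↥(S : Subgroup G) ≃* H) := by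
  have h1 : IsPGroup p f.range := by
    obtain ⟨n, hn⟩ := IsPGroup.iff_card.1 S.isPGroup'
    refine IsPGroup.of_card (n := n) ?_
    rw [Nat.card_congr (MonoidHom.ofInjective hf).toEquiv.symm, hc, hn]
  obtain ⟨P, hP⟩ := h1.exists_le_sylow
  have h2 : f.range = (P : Subgroup G) := by
    refine Subgroup.eq_of_le_of_card_ge hP ?_
    rw [Nat.card_congr (MonoidHom.ofInjective hf).toEquiv.symm, hc,
      Nat.card_congr (Sylow.equiv P S).toEquiv]
  exact ⟨(Sylow.equiv S P).trans ((MulEquiv.subgroupCongr h2.symm).trans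
    (MonoidHom.ofInjective hf).symm)⟩

theorem pow_two_unique {a b c d : ℕ} (hb : ¬ 2 ∣ b) (hd : ¬ 2 ∣ d) (h : 2 ^ a * b = 2 ^ c * d) :
    a = c := by
  wlog hac : a ≤ c generalizing a b c d with H
  · exact (H hd hb h.symm (by omega)).symm
  by_contra hne
  obtain ⟨k, rfl⟩ : ∃ k, c = a + (k + 1) := ⟨c - a - 1, by omega⟩
  rw [pow_add, mul_assoc, Nat.mul_right_inj (by positivity)] at h
  exact hb (h ▸ Dvd.intro (2 ^ k * d) (by rw [pow_succ]; ring))

theorem exponent_eq {G : Type*} [Group G] [Finite G] (S : Sylow 2 G) {k c d : ℕ}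
    (hS : Nat.card (S : Subgroup G) = 2 ^ k) (hd : ¬ 2 ∣ d) (hG : Nat.card G = 2 ^ c * d) :
    k = c := by
  have : Fact (Nat.Prime 2) := ⟨Nat.prime_two⟩
  have h1 := (S : Subgroup G).card_mul_index
  rw [hS, hG] at h1
  exact pow_two_unique S.not_dvd_index hd h1

section

variable {G : Type*} [Group G] [Finite G] {F : Type*} [Field F] [Fintype F]

theorem psl {m : ℕ} (hm : 2 ≤ m) (S : Sylow 2 G)
    (e : Nonempty (↥(S : Subgroup G) ≃* UT m F)) {n : ℕ} {K : Type*} [Field K] [Fintype K]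
    [CharP K 2] (hn : 2 ≤ n) (f : G ≃* Matrix.ProjectiveSpecialLinearGroup (Fin n) K) :
    Nonempty (G ≃* Matrix.ProjectiveSpecialLinearGroup (Fin m) F) := by
  have : Fact (Nat.Prime 2) := ⟨Nat.prime_two⟩
  have P : Sylow 2 (Matrix.ProjectiveSpecialLinearGroup (Fin n) K) := default
  obtain ⟨e⟩ := e
  obtain ⟨e1⟩ := sylow_transfer f S P
  obtain ⟨e2⟩ := sylow_equiv (F := K) 2 P
  obtain ⟨h1, h2⟩ := eq_of_mulEquiv hm hn (e.symm.trans (e1.trans e2))
  subst h1
  have h3 : Fintype.card K = Fintype.card F := by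
    rw [← Nat.card_eq_fintype_card, ← Nat.card_eq_fintype_card, h2]
  exact ⟨f.trans (Cfsg.Agent.LieClassical.FieldTransfer.pslCongr
    (FiniteField.ringEquivOfCardEq h3))⟩

omit [Finite G] in
theorem card_sylow {m r : ℕ} (hF : Fintype.card F = 2 ^ r) (S : Sylow 2 G)
    (e : Nonempty (↥(S : Subgroup G) ≃* UT m F)) :
    Nat.card (S : Subgroup G) = 2 ^ (r * (m * (m - 1) / 2)) := by
  obtain ⟨e⟩ := e
  rw [Nat.card_congr e.toEquiv, card_UT, Nat.card_eq_fintype_card, hF, ← pow_mul]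

theorem triangular (m : ℕ) (hm : 3 ≤ m) :
    m * (m - 1) / 2 = 3 ∧ m = 3 ∨ m * (m - 1) / 2 = 6 ∧ m = 4 ∨ 10 ≤ m * (m - 1) / 2 := by
  rcases Nat.lt_or_ge m 5 with h | h
  · interval_cases m
    · left; simp
    · right; left; simp
  · right; right
    have h1 : 5 * 4 ≤ m * (m - 1) := Nat.mul_le_mul h (by omega)
    omega

theorem exponent_not {m r : ℕ} (hr : 2 ≤ r) (hm : 3 ≤ m) (k : ℕ)
    (hk : k = 3 ∨ k = 7 ∨ k = 10) : r * (m * (m - 1) / 2) ≠ k := by
  intro h
  rcases triangular m hm with ⟨h1, -⟩ | ⟨h1, -⟩ | h1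
  · rw [h1] at h; omega
  · rw [h1] at h; omega
  · have : 2 * 10 ≤ r * (m * (m - 1) / 2) := Nat.mul_le_mul hr h1
    omega

theorem exponent_six {m r : ℕ} (hr : 2 ≤ r) (hm : 3 ≤ m)
    (h : r * (m * (m - 1) / 2) = 6) : m = 3 ∧ r = 2 := by
  rcases triangular m hm with ⟨h1, h2⟩ | ⟨h1, h2⟩ | h1
  · rw [h1] at h; omega
  · rw [h1] at h; omega
  · have : 2 * 10 ≤ r * (m * (m - 1) / 2) := Nat.mul_le_mul hr h1
    omega

theorem not_order {m r : ℕ} (hr : 2 ≤ r) (hm : 3 ≤ m) (hF : Fintype.card F = 2 ^ r)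
    (S : Sylow 2 G) (e : Nonempty (↥(S : Subgroup G) ≃* UT m F)) (k d : ℕ)
    (hk : k = 3 ∨ k = 7 ∨ k = 10) (hd : ¬ 2 ∣ d) (hG : Nat.card G = 2 ^ k * d) : False := by
  have h1 := exponent_eq S (card_sylow hF S e) hd hG
  exact exponent_not hr hm k hk h1

omit [Finite G] in
theorem not_suzuki (h3 : 3 ∣ Nat.card G) (h : IsSuzuki G) : False := by
  obtain ⟨-, n, hn, hc⟩ := h
  obtain ⟨q, hq⟩ : ∃ q, q = 2 ^ (2 * n + 1) := ⟨_, rfl⟩
  rw [← hq] at hc
  have h1 : q % 3 = 2 := by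
    rw [hq, pow_succ, pow_mul]
    have h2 : (2 ^ 2) ^ n % 3 = 1 := by
      rw [Nat.pow_mod]
      norm_num
    rw [Nat.mul_mod, h2]
  have h2 : (q - 1) % 3 = 1 := by omega
  have h4 : q ^ 2 % 3 = 1 := by rw [Nat.pow_mod, h1]
  have h5 : (q ^ 2 + 1) % 3 = 2 := by rw [Nat.add_mod, h4]
  have h6 : Nat.card G % 3 = 2 := by
    have h7 : q ^ 2 * (q ^ 2 + 1) % 3 = 2 := by
      rw [Nat.mul_mod, h4, h5]
    rw [hc, Nat.mul_mod, h7, h2]
  omega

omit [Fintype F] in
theorem not_psu {m : ℕ} (hm : 3 ≤ m) (S : Sylow 2 G) [CharP F 2]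
    (e : Nonempty (↥(S : Subgroup G) ≃* UT m F)) {K : Type*} [Field K] [Fintype K] {q : ℕ}
    (hK : Fintype.card K = q ^ 2) (hq : Even q) (hq4 : 4 ≤ q) (f : G ≃* Cfsg.PSU 3 K q) :
    False := by
  have : Fact (Nat.Prime 2) := ⟨Nat.prime_two⟩
  -- characteristic two
  obtain ⟨p, hp⟩ := CharP.exists K
  have hpp : p.Prime := CharP.char_is_prime K p
  obtain ⟨k, -, hk⟩ := FiniteField.card K p
  have hp2 : p = 2 := by
    have h1 : 2 ∣ p ^ (k : ℕ) := by
      rw [← hk, hK]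
      exact dvd_pow hq.two_dvd two_ne_zero
    exact ((Nat.prime_dvd_prime_iff_eq Nat.prime_two hpp).1
      (Nat.prime_two.dvd_of_dvd_pow h1)).symm
  subst hp2
  obtain ⟨n, -, hn⟩ : ∃ n ≤ (k : ℕ), q = 2 ^ n := by
    refine (Nat.dvd_prime_pow Nat.prime_two).1 ?_
    rw [← hk, hK]
    exact dvd_pow_self q two_ne_zero
  subst hn
  have hn1 : 1 ≤ n := by
    by_contra h
    have h0 : n = 0 := by omega
    subst h0
    norm_num at hq4
  have hs : ∀ x : K, iterateFrobenius K 2 n x = x ^ (2 ^ n) := fun x => rfl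
  have hfact : Fact (∀ x, iterateFrobenius K 2 n (iterateFrobenius K 2 n x) = x) := by
    refine ⟨fun x => ?_⟩
    rw [hs, hs, ← pow_mul, ← pow_two, ← hK]
    exact FiniteField.pow_card x
  have P : Sylow 2 (Cfsg.PSU 3 K (2 ^ n)) := default
  obtain ⟨e⟩ := e
  have : Finite (Cfsg.PSU 3 K (2 ^ n)) := Finite.of_equiv _ f.toEquiv
  obtain ⟨e1⟩ := sylow_transfer f S P
  obtain ⟨e2⟩ := Cfsg.Agent.LieRecognition.PSUThreeSylow.nonempty_sylow_PSU_equiv
    (σ := iterateFrobenius K 2 n) hn1 hs (by rw [Nat.card_eq_fintype_card, hK]) P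
  let g : UT m F ≃* Cfsg.Agent.LieRecognition.HermHeis.Heis (iterateFrobenius K 2 n) :=
    e.symm.trans (e1.trans e2.symm)
  have h01 : (⟨0, by omega⟩ : Fin m) < ⟨1, by omega⟩ := by rw [Fin.lt_def]; norm_num
  have h12 : (⟨1, by omega⟩ : Fin m) < ⟨2, by omega⟩ := by rw [Fin.lt_def]; norm_num
  set x : UT m F := root _ _ h01 1 with hx
  set y : UT m F := root _ _ h12 1 with hy
  have hxx : x * x = 1 := by
    rw [hx, root_mul_root, CharTwo.add_self_eq_zero, root_zero]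
  have h1 : g x * g x = 1 := by rw [← map_mul, hxx, map_one]
  rw [Cfsg.Agent.LieRecognition.HermHeis.mul_self_eq_one_iff] at h1
  have h2 : g x * g y = g y * g x := by
    rw [Cfsg.Agent.LieRecognition.HermHeis.commute_iff, h1, map_zero, mul_zero, zero_mul]
  rw [← map_mul, ← map_mul] at h2
  have h3 := g.injective h2
  rw [hx, hy] at h3
  have h4 := (commute_root_iff h12 (c := (1 : F)) one_ne_zero).1 h3
  have h5 := h4.1 ⟨0, by omega⟩
  rw [N_root, Matrix.single_apply_same] at h5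
  exact one_ne_zero h5

/-- Extending a permutation of `Fin 8` to `Fin n`. -/
theorem exists_alt_hom {n : ℕ} (hn : 8 ≤ n) :
    ∃ f : alternatingGroup (Fin 8) →* alternatingGroup (Fin n), Function.Injective f := by
  classical
  let g : Fin 8 ≃ {x : Fin n // (x : ℕ) < 8} :=
    { toFun := fun x => ⟨⟨x, by omega⟩, x.2⟩
      invFun := fun x => ⟨x.1, x.2⟩
      left_inv := fun x => rfl
      right_inv := fun x => rfl }
  let f0 : Equiv.Perm (Fin 8) →* Equiv.Perm (Fin n) := Equiv.Perm.extendDomainHom g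
  have hf0 : Function.Injective f0 := Equiv.Perm.extendDomainHom_injective g
  refine ⟨(f0.comp (alternatingGroup (Fin 8)).subtype).codRestrict _ ?_, ?_⟩
  · intro x
    change Equiv.Perm.extendDomain (x : Equiv.Perm (Fin 8)) g ∈ alternatingGroup (Fin n)
    rw [Equiv.Perm.mem_alternatingGroup, Equiv.Perm.sign_extendDomain]
    exact Equiv.Perm.mem_alternatingGroup.1 x.2
  · intro x y hxy
    have h1 := congrArg Subtype.val hxy
    exact Subtype.ext (hf0 h1)

theorem not_alt {m r : ℕ} (hr : 2 ≤ r) (hm : 3 ≤ m) (hF : Fintype.card F = 2 ^ r)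
    (S : Sylow 2 G) (e : Nonempty (↥(S : Subgroup G) ≃* UT m F)) {n : ℕ} (hn : 6 ≤ n)
    (hn9 : n ≤ 9) (f : G ≃* alternatingGroup (Fin n)) : False := by
  have : Fact (Nat.Prime 2) := ⟨Nat.prime_two⟩
  have hcard : Nat.card G = n.factorial / 2 := by
    have h1 : Nontrivial (Fin n) := Fin.nontrivial_iff_two_le.2 (by omega)
    rw [Nat.card_congr f.toEquiv, Nat.card_eq_fintype_card]
    have h2 := two_mul_card_alternatingGroup (α := Fin n)
    rw [Fintype.card_perm, Fintype.card_fin] at h2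
    omega
  have hcS := card_sylow hF S e
  have main : 8 ≤ n → r * (m * (m - 1) / 2) = 6 → False := by
    intro hn8 h6
    obtain ⟨e⟩ := e
    obtain ⟨g, hg⟩ := exists_alt_hom hn8
    obtain ⟨i8⟩ := Cfsg.Agent.S0256.result (F := ZMod 2) (ZMod.card 2)
    have P : Sylow 2 (Matrix.ProjectiveSpecialLinearGroup (Fin 4) (ZMod 2)) := default
    obtain ⟨e2⟩ := sylow_equiv (F := ZMod 2) 2 P
    let h : UT 4 (ZMod 2) →* G := (f.symm : _ →* G).comp (g.comp
      ((i8 : _ →* alternatingGroup (Fin 8)).comp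
        ((P : Subgroup (Matrix.ProjectiveSpecialLinearGroup (Fin 4) (ZMod 2))).subtype.comp
          e2.symm.toMonoidHom)))
    have hh : Function.Injective h := by
      refine f.symm.injective.comp (hg.comp (i8.injective.comp ?_))
      exact Subtype.val_injective.comp e2.symm.injective
    obtain ⟨e3⟩ := sylow_of_embedding S h hh (by
      rw [hcS, h6, card_UT, Nat.card_zmod])
    have h7 := (eq_of_mulEquiv (by norm_num) (by omega) (e3.symm.trans e)).1
    have h8 := (exponent_six hr hm h6).1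
    omega
  interval_cases n
  · exact exponent_not hr hm 3 (Or.inl rfl) (exponent_eq S hcS (d := 45) (by norm_num) (by
      rw [hcard]; decide))
  · exact exponent_not hr hm 3 (Or.inl rfl) (exponent_eq S hcS (d := 315) (by norm_num) (by
      rw [hcard]; decide))
  · exact main (by norm_num) (exponent_eq S hcS (c := 6) (d := 315) (by norm_num) (by
      rw [hcard]; decide))
  · exact main (by norm_num) (exponent_eq S hcS (c := 6) (d := 2835) (by norm_num) (by
      rw [hcard]; decide))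

/-- The groups in the conclusion of S1179 with Sylow 2-subgroup `UT m F`, `m ≥ 3`, `|F| ≥ 4`. -/
theorem main {m r : ℕ} (hr : 2 ≤ r) (hm : 3 ≤ m) (hF : Fintype.card F = 2 ^ r)
    (S : Sylow 2 G) (e : Nonempty (↥(S : Subgroup G) ≃* UT m F)) (h3 : 3 ∣ Nat.card G)
    (h : (∃ (n : ℕ) (F : Type) (_ : Field F) (_ : Fintype F), 2 ≤ n ∧ CharP F 2 ∧
        Nonempty (G ≃* Matrix.ProjectiveSpecialLinearGroup (Fin n) F)) ∨ Cfsg.IsSuzuki G ∨
      (∃ (F : Type) (_ : Field F) (_ : Fintype F) (q : ℕ), Fintype.card F = q ^ 2 ∧ Even q ∧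
        4 ≤ q ∧ Nonempty (G ≃* Cfsg.PSU 3 F q)) ∨
      (∃ n : ℕ, 6 ≤ n ∧ n ≤ 9 ∧ Nonempty (G ≃* alternatingGroup (Fin n))) ∨
      Cfsg.IsM22 G ∨ Cfsg.IsM23 G ∨ Cfsg.IsM24 G ∨ Cfsg.IsHe G) :
    Nonempty (G ≃* Matrix.ProjectiveSpecialLinearGroup (Fin m) F) := by
  have hc2 : CharP F 2 := by
    obtain ⟨p, hp⟩ := CharP.exists F
    have hpp : p.Prime := CharP.char_is_prime F p
    obtain ⟨k, -, hk⟩ := FiniteField.card F p
    have h1 : p ∣ 2 ^ r := by
      rw [← hF, hk]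
      exact dvd_pow_self p k.ne_zero
    have h2 : p = 2 := (Nat.prime_dvd_prime_iff_eq hpp Nat.prime_two).1
      (hpp.dvd_of_dvd_pow h1)
    rwa [h2] at hp
  rcases h with ⟨n, K, _, _, hn, _, ⟨f⟩⟩ | h | ⟨K, _, _, q, hK, hq, hq4, ⟨f⟩⟩ |
    ⟨n, hn, hn9, ⟨f⟩⟩ | h | h | h | h
  · exact psl (by omega) S e hn f
  · exact (not_suzuki h3 h).elim
  · exact (not_psu hm S e hK hq hq4 f).elim
  · exact (not_alt hr hm hF S e hn hn9 f).elim
  · exact (not_order hr hm hF S e 7 3465 (by norm_num) (by norm_num) (by rw [h.2]; norm_num)).elim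
  · exact (not_order hr hm hF S e 7 79695 (by norm_num) (by norm_num) (by rw [h.2]; norm_num)).elim
  · exact (not_order hr hm hF S e 10 239085 (by norm_num) (by norm_num) (by rw [h.2]; norm_num)).elim
  · exact (not_order hr hm hF S e 10 3935925 (by norm_num) (by norm_num) (by rw [h.2]; norm_num)).elim

end

end Cfsg.Agent.SylowL.Compare
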