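import Cfsg.Agent.SylowL.LinData
import Cfsg.Agent.S1295

/-!
# The signalizer functor `a ↦ O(C(a))`

Step (C2): the functor is complete on `A` and on `B`, with the same completion `WW Z`, whose normalizer `M`
contains `N(A)`, `N(B)` and `C(z)`, `1 ≠ z ∈ Z`; moreover `g z g⁻¹ ∈ M` implies `g ∈ M`. If `WW Z = 1` then
`C(a) ≤ N(A)` for `1 ≠ a ∈ A`, and `A` satisfies the hypothesis of Timmesfeld's theorem.
-/

set_option autoImplicit false
set_option linter.unusedSectionVars false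

namespace Cfsg.Agent.SylowL.CoreFunctor

open Subgroup Cfsg
open Cfsg.Agent.SylowL.CompFacts

universe u

/-- The subgroup generated by the cores of the centralizers of the non-identity elements. -/
def WW {G : Type*} [Group G] (E : Subgroup G) : Subgroup G :=
  ⨆ a : {a : G // a ∈ E ∧ a ≠ 1}, centralizerPPrimeCore 2 (a : G)

theorem le_WW {G : Type*} [Group G] {E : Subgroup G} {a : G} (ha : a ∈ E) (ha1 : a ≠ 1) :
    centralizerPPrimeCore 2 a ≤ WW E :=
  le_iSup (fun a : {a : G // a ∈ E ∧ a ≠ 1} => centralizerPPrimeCore 2 (a : G)) ⟨a, ha, ha1⟩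

section General

variable {G : Type*} [Group G] [Finite G]

theorem map_WW (E : Subgroup G) (g : G) :
    (WW E).map (MulAut.conj g).toMonoidHom ≤ WW (E.map (MulAut.conj g).toMonoidHom) := by
  haveI : Fact (Nat.Prime 2) := ⟨Nat.prime_two⟩
  unfold WW
  rw [Subgroup.map_iSup]
  refine iSup_le ?_
  rintro ⟨a, ha, ha1⟩
  have h1 := S1295.core_conj 2 a g
  rw [← h1]
  refine le_WW (E := E.map (MulAut.conj g).toMonoidHom) ⟨a, ha, rfl⟩ ?_
  intro h
  apply ha1
  have := congrArg (fun x => g⁻¹ * x * g) h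
  simpa [mul_assoc] using this

theorem mem_normalizer_of_map_le {K : Subgroup G} {g : G}
    (h : K.map (MulAut.conj g).toMonoidHom ≤ K) : g ∈ normalizer (K : Set G) := by
  apply Cfsg.Agent.SignalizersComponents.BalanceAux.mem_normalizer_of_map_conj_eq
  apply Subgroup.eq_of_le_of_card_ge h
  rw [Subgroup.card_map_of_injective (MulAut.conj g).injective]

theorem map_eq_of_mem_normalizer {K : Subgroup G} {g : G} (h : g ∈ normalizer (K : Set G)) :
    K.map (MulAut.conj g).toMonoidHom = K := by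
  apply Subgroup.eq_of_le_of_card_ge
  · rintro _ ⟨x, hx, rfl⟩
    exact (mem_normalizer_iff.1 h x).1 hx
  · rw [Subgroup.card_map_of_injective (MulAut.conj g).injective]

theorem normalizer_le_normalizer_WW (E : Subgroup G) :
    normalizer (E : Set G) ≤ normalizer (WW E : Set G) := by
  intro g hg
  apply mem_normalizer_of_map_le
  have := map_WW E g
  rwa [map_eq_of_mem_normalizer hg] at this

theorem constrained_conj {a g : G}
    (h : Cfsg.IsPConstrained 2 (centralizer ({g * a * g⁻¹} : Set G))) :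
    Cfsg.IsPConstrained 2 (centralizer ({a} : Set G)) := by
  haveI : Fact (Nat.Prime 2) := ⟨Nat.prime_two⟩
  rw [← S1295.centralizer_conj] at h
  exact (PLocal.PConstrained.isPConstrained_congr
    ((centralizer ({a} : Set G)).equivMapOfInjective _ (MulAut.conj g).injective)).2 h

/-- The completeness of the functor and its consequence for noncyclic subgroups. -/
theorem complete (hodd : ∀ X : Subgroup G, Odd (Nat.card X) → Group.IsSolvable X) {A E : Subgroup G}
    (hA : Cfsg.IsElementaryAbelian 2 A) (hA3 : 8 ≤ Nat.card A)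
    (hL : ∀ a ∈ A, a ≠ 1 → Cfsg.IsPConstrained 2 (centralizer ({a} : Set G)))
    (hEA : E ≤ A) (hE : 4 ≤ Nat.card E) :
    ¬ 2 ∣ Nat.card (WW A) ∧ (∀ a ∈ A, a ≠ 1 → WW A ⊓ centralizer {a} = centralizerPPrimeCore 2 a) ∧
      WW E = WW A := by
  haveI : Fact (Nat.Prime 2) := ⟨Nat.prime_two⟩
  have hcard : ∀ a : G, ¬ 2 ∣ Nat.card (centralizerPPrimeCore 2 a) := fun a => S1295.core_card 2 a
  have hnorm : ∀ a ∈ A, ∀ b ∈ A, b ∈ normalizer (centralizerPPrimeCore 2 a : Set G) := by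
    intro a ha b hb
    exact S1295.core_normalized 2 a (mem_centralizer_singleton_iff.2 (elem_comm hA hb ha))
  obtain ⟨h1, h2⟩ := Cfsg.Agent.S0217.result (p := 2) A (fun a ha b hb => elem_comm hA ha hb) hA.2
    (by norm_num; exact hA3) (fun a => centralizerPPrimeCore 2 a)
    (fun a _ _ => S1295.core_le 2 a)
    (fun a _ _ => hcard a)
    (fun a ha _ b hb x hx => (mem_normalizer_iff.1 (hnorm a ha b hb) x).1 hx)
    (fun a _ _ => hodd _ (by
      rw [← Nat.not_even_iff_odd, even_iff_two_dvd]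
      exact hcard a))
    (fun a ha ha1 b hb hb1 => by
      refine S1295.balance 2 (orderOf_eq_prime (hA.2 a ha) ha1) ?_ (elem_comm hA ha hb)
      exact (Cfsg.Agent.SignalizersComponents.PConstrained.isPConstrained_iff_pLayer_eq_bot 2).1
        (hL b hb hb1))
  refine ⟨h1, h2, ?_⟩
  have hEe : Cfsg.IsElementaryAbelian 2 E := by
    refine ⟨⟨⟨fun x y => Subtype.ext (elem_comm hA (hEA x.2) (hEA y.2))⟩⟩, fun a ha => hA.2 a (hEA ha)⟩
  haveI := hEe.1
  have hncyc : ¬ IsCyclic E := by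
    intro hcyc
    obtain ⟨g, hg⟩ := IsCyclic.exists_generator (α := E)
    have h3 : orderOf g = Nat.card E := orderOf_eq_card_of_forall_mem_zpowers hg
    have h4 : g ^ 2 = 1 := Subtype.ext (hEe.2 g g.2)
    have h5 : orderOf g ≤ 2 := orderOf_le_of_pow_eq_one (by norm_num) h4
    omega
  have hEp : IsPGroup 2 E := by
    intro x
    refine ⟨1, Subtype.ext ?_⟩
    rw [pow_one]
    exact hEe.2 x x.2
  have hcop : (Nat.card E).Coprime (Nat.card (WW A)) := by
    obtain ⟨n, hn⟩ := IsPGroup.iff_card.1 hEp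
    rw [hn]
    exact Nat.Coprime.pow_left n ((Nat.Prime.coprime_iff_not_dvd Nat.prime_two).2 h1)
  have hAn : A ≤ normalizer (WW A : Set G) :=
    Subgroup.le_normalizer.trans (normalizer_le_normalizer_WW A)
  have h7 := Cfsg.Agent.S0058.result E (WW A) hncyc (hEA.trans hAn) hcop
  apply le_antisymm
  · refine iSup_le ?_
    rintro ⟨a, ha, ha1⟩
    exact le_WW (hEA ha) ha1
  · rw [← h7]
    refine iSup₂_le ?_
    rintro a ⟨ha, ha1⟩
    have h8 := h2 a (hEA ha) ha1
    change WW A ⊓ centralizer {a} = _ at h8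
    rw [h8]
    exact le_WW ha ha1

end General

variable {G : Type u} [Group G] [Finite G] {S : Sylow 2 G} {A B Z : Subgroup G}

/-- Context: the data of the fusion analysis, Goldschmidt's theorem and the odd order theorem. -/
structure Ctx (S : Sylow 2 G) (A B Z : Subgroup G) : Prop where
  D : LinData (S : Subgroup G) A B Z
  gold : GoldHyp.{u}
  odd : ∀ X : Subgroup G, Odd (Nat.card X) → Group.IsSolvable X

namespace Ctx

variable (h : Ctx S A B Z)

include h

theorem constrained_Z {z : G} (hz : z ∈ Z) (hz1 : z ≠ 1) :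
    Cfsg.IsPConstrained 2 (centralizer ({z} : Set G)) :=
  (h.D.centralizer_struct h.gold hz hz1).1

theorem constrained_A {a : G} (ha : a ∈ A) (ha1 : a ≠ 1) :
    Cfsg.IsPConstrained 2 (centralizer ({a} : Set G)) := by
  obtain ⟨g, -, hg⟩ := h.D.fusA a ha ha1
  refine constrained_conj (g := g) (h.constrained_Z hg ?_)
  intro h1
  apply ha1
  rwa [mul_inv_eq_one, mul_eq_left] at h1

theorem constrained_B {a : G} (ha : a ∈ B) (ha1 : a ≠ 1) :
    Cfsg.IsPConstrained 2 (centralizer ({a} : Set G)) := by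
  obtain ⟨g, -, hg⟩ := h.D.fusB a ha ha1
  refine constrained_conj (g := g) (h.constrained_Z hg ?_)
  intro h1
  apply ha1
  rwa [mul_inv_eq_one, mul_eq_left] at h1

theorem WZ_eq_WA : WW Z = WW A :=
  (complete h.odd h.D.elA h.D.cardA (fun _ ha ha1 => h.constrained_A ha ha1) h.D.leZA h.D.cardZ).2.2

theorem WZ_eq_WB : WW Z = WW B :=
  (complete h.odd h.D.elB h.D.cardB (fun _ ha ha1 => h.constrained_B ha ha1) h.D.leZB h.D.cardZ).2.2

theorem odd_WZ : ¬ 2 ∣ Nat.card (WW Z) := by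
  rw [h.WZ_eq_WA]
  exact (complete h.odd h.D.elA h.D.cardA (fun _ ha ha1 => h.constrained_A ha ha1) h.D.leZA h.D.cardZ).1

theorem inf_centralizer_A {a : G} (ha : a ∈ A) (ha1 : a ≠ 1) :
    WW Z ⊓ centralizer {a} = centralizerPPrimeCore 2 a := by
  rw [h.WZ_eq_WA]
  exact (complete h.odd h.D.elA h.D.cardA (fun _ ha ha1 => h.constrained_A ha ha1) h.D.leZA
    h.D.cardZ).2.1 a ha ha1

theorem normalizer_A_le : normalizer (A : Set G) ≤ normalizer (WW Z : Set G) := by
  rw [h.WZ_eq_WA]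
  exact normalizer_le_normalizer_WW A

theorem normalizer_B_le : normalizer (B : Set G) ≤ normalizer (WW Z : Set G) := by
  rw [h.WZ_eq_WB]
  exact normalizer_le_normalizer_WW B

/-- `C(z) = (C(z) ∩ N(A)) O(C(z))` -/
theorem exists_mul {z : G} (hz : z ∈ Z) (hz1 : z ≠ 1) {g : G} (hg : g ∈ centralizer ({z} : Set G)) :
    ∃ n ∈ normalizer (A : Set G), ∃ o ∈ centralizerPPrimeCore 2 z, n ∈ centralizer ({z} : Set G) ∧
      g = n * o := by
  obtain ⟨-, h1, -⟩ := h.D.centralizer_struct h.gold hz hz1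
  have hAC : A ≤ centralizer ({z} : Set G) := h.D.leA.trans (h.D.S_le_centralizer hz)
  have h2 : (⟨g, hg⟩ : centralizer ({z} : Set G)) ∈
      normalizer ((A.subgroupOf (centralizer ({z} : Set G)) : Subgroup _) : Set _) ⊔
        Cfsg.oddCore (centralizer ({z} : Set G)) := by
    rw [h1]
    exact mem_top _
  obtain ⟨n, hn, o, ho, hno⟩ := (mem_sup_of_normal_right (ht := inferInstance)).1 h2
  rw [← Subgroup.subgroupOf_normalizer_eq hAC] at hn
  exact ⟨n, hn, o, ⟨o, ho, rfl⟩, n.2, (congrArg Subtype.val hno).symm⟩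

theorem centralizer_le {z : G} (hz : z ∈ Z) (hz1 : z ≠ 1) :
    centralizer ({z} : Set G) ≤ normalizer (WW Z : Set G) := by
  intro g hg
  obtain ⟨n, hn, o, ho, -, rfl⟩ := h.exists_mul hz hz1 hg
  exact mul_mem (h.normalizer_A_le hn) (Subgroup.le_normalizer (le_WW hz hz1 ho))

theorem exists_ne_one : ∃ z ∈ Z, z ≠ 1 := by
  by_contra hcon
  push Not at hcon
  have h1 : Z = ⊥ := by
    rw [eq_bot_iff]
    intro z hz
    exact mem_bot.2 (hcon z hz)
  have h2 := h.D.cardZ
  rw [h1, Subgroup.card_bot] at h2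
  omega

theorem S_le : (S : Subgroup G) ≤ normalizer (WW Z : Set G) := by
  obtain ⟨z, hz, hz1⟩ := h.exists_ne_one
  exact (h.D.S_le_centralizer hz).trans (h.centralizer_le hz hz1)

/-- every 2-element of `M = N(WW Z)` is `M`-conjugate into `S` -/
theorem exists_conj_mem {M : Subgroup G} (hM : (S : Subgroup G) ≤ M) {P : Subgroup G} (hP : IsPGroup 2 P)
    (hPM : P ≤ M) : ∃ m ∈ M, ∀ x ∈ P, m * x * m⁻¹ ∈ (S : Subgroup G) := by
  haveI : Fact (Nat.Prime 2) := ⟨Nat.prime_two⟩
  have hP' : IsPGroup 2 (P.subgroupOf M) := hP.comap_of_injective M.subtype M.subtype_injective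
  obtain ⟨Q, hQ⟩ := hP'.exists_le_sylow
  obtain ⟨m, hm⟩ := MulAction.exists_smul_eq M Q (S.subtype hM)
  refine ⟨m, m.2, ?_⟩
  intro x hx
  have h1 : (⟨x, hPM hx⟩ : M) ∈ (Q : Subgroup M) := hQ (mem_subgroupOf.2 hx)
  have h2 : m * ⟨x, hPM hx⟩ * m⁻¹ ∈ ((m • Q : Sylow 2 M) : Subgroup M) := by
    have : ((m • Q : Sylow 2 M) : Subgroup M) = (Q : Subgroup M).map (MulAut.conj m).toMonoidHom := rfl
    rw [this]
    exact ⟨_, h1, rfl⟩
  rw [hm] at h2
  exact h2

/-- (M1) -/
theorem mem_of_conj_mem {z : G} (hz : z ∈ Z) (hz1 : z ≠ 1) {g : G}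
    (hg : g * z * g⁻¹ ∈ normalizer (WW Z : Set G)) : g ∈ normalizer (WW Z : Set G) := by
  set M := normalizer (WW Z : Set G) with hM
  have hP : IsPGroup 2 (zpowers (g * z * g⁻¹)) := by
    rintro ⟨_, k, rfl⟩
    refine ⟨1, Subtype.ext ?_⟩
    have h1 : (g * z * g⁻¹) * (g * z * g⁻¹) = 1 := by
      have := h.D.sq hz
      calc (g * z * g⁻¹) * (g * z * g⁻¹) = g * (z * z) * g⁻¹ := by group
        _ = 1 := by rw [this]; group
    change ((g * z * g⁻¹) ^ k) ^ (2 ^ 1) = 1
    rw [pow_one, pow_two, ← Commute.mul_zpow (Commute.refl _), h1, one_zpow]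
  obtain ⟨m, hm, hmx⟩ := h.exists_conj_mem h.S_le hP (by rw [zpowers_le]; exact hg)
  have h1 := hmx _ (mem_zpowers _)
  have h2 : (m * g) * z * (m * g)⁻¹ ∈ (S : Subgroup G) := by
    have : (m * g) * z * (m * g)⁻¹ = m * (g * z * g⁻¹) * m⁻¹ := by group
    rw [this]
    exact h1
  obtain ⟨m', hm', h3⟩ := h.D.ctl M h.normalizer_A_le h.normalizer_B_le z (h.D.leZ hz) (m * g) h2
  have h4 : m'⁻¹ * (m * g) ∈ centralizer ({z} : Set G) := by
    rw [mem_centralizer_singleton_iff]
    calc m'⁻¹ * (m * g) * z = m'⁻¹ * ((m * g) * z * (m * g)⁻¹) * (m * g) := by group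
      _ = m'⁻¹ * (m' * z * m'⁻¹) * (m * g) := by rw [h3]
      _ = z * (m'⁻¹ * (m * g)) := by group
  have h5 := h.centralizer_le hz hz1 h4
  have h6 : g = m⁻¹ * (m' * (m'⁻¹ * (m * g))) := by group
  rw [h6]
  exact mul_mem (inv_mem hm) (mul_mem hm' h5)

/-- If the completion is trivial then `C(z) ≤ N(A)`. -/
theorem centralizer_le_normalizer (hW : WW Z = ⊥) {a : G} (ha : a ∈ A) (ha1 : a ≠ 1) :
    centralizer ({a} : Set G) ≤ normalizer (A : Set G) := by
  have key : ∀ z ∈ Z, z ≠ 1 → centralizer ({z} : Set G) ≤ normalizer (A : Set G) := by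
    intro z hz hz1 g hg
    obtain ⟨n, hn, o, ho, -, rfl⟩ := h.exists_mul hz hz1 hg
    have h1 : o ∈ WW Z := le_WW hz hz1 ho
    rw [hW, mem_bot] at h1
    rw [h1, mul_one]
    exact hn
  obtain ⟨g, hg, hga⟩ := h.D.fusA a ha ha1
  have hga1 : g * a * g⁻¹ ≠ 1 := by
    intro h1
    apply ha1
    rwa [mul_inv_eq_one, mul_eq_left] at h1
  intro c hc
  rw [mem_centralizer_singleton_iff] at hc
  have h1 : g * c * g⁻¹ ∈ centralizer ({g * a * g⁻¹} : Set G) := by
    rw [mem_centralizer_singleton_iff]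
    calc g * c * g⁻¹ * (g * a * g⁻¹) = g * (c * a) * g⁻¹ := by group
      _ = g * (a * c) * g⁻¹ := by rw [hc]
      _ = g * a * g⁻¹ * (g * c * g⁻¹) := by group
  have h2 := key _ hga hga1 h1
  have h3 : c = g⁻¹ * (g * c * g⁻¹) * g := by group
  rw [h3]
  exact mul_mem (mul_mem (inv_mem hg) h2) hg

/-- If the completion is trivial then `A` satisfies the hypothesis of Timmesfeld's theorem. -/
theorem timmesfeld (hW : WW Z = ⊥) : ∀ a ∈ A, a ≠ 1 → ∀ g : G,
    A.map (MulAut.conj g).toMonoidHom ≤ centralizer ({a} : Set G) →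
      A.map (MulAut.conj g).toMonoidHom = A := by
  intro a ha ha1 g hg
  obtain ⟨n, hn, hna⟩ := h.D.fusA a ha ha1
  have hna1 : n * a * n⁻¹ ≠ 1 := by
    intro h1
    apply ha1
    rwa [mul_inv_eq_one, mul_eq_left] at h1
  have hAp : IsPGroup 2 A := by
    intro x
    refine ⟨1, Subtype.ext ?_⟩
    rw [pow_one]
    exact h.D.elA.2 x x.2
  have hP : IsPGroup 2 (A.map (MulAut.conj (n * g)).toMonoidHom) := hAp.map _
  have hPC : A.map (MulAut.conj (n * g)).toMonoidHom ≤ centralizer ({n * a * n⁻¹} : Set G) := by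
    rintro _ ⟨x, hx, rfl⟩
    have h1 : g * x * g⁻¹ ∈ centralizer ({a} : Set G) := hg ⟨x, hx, rfl⟩
    rw [mem_centralizer_singleton_iff] at h1 ⊢
    change (n * g) * x * (n * g)⁻¹ * (n * a * n⁻¹) = n * a * n⁻¹ * ((n * g) * x * (n * g)⁻¹)
    calc (n * g) * x * (n * g)⁻¹ * (n * a * n⁻¹) = n * (g * x * g⁻¹ * a) * n⁻¹ := by group
      _ = n * (a * (g * x * g⁻¹)) * n⁻¹ := by rw [h1]
      _ = n * a * n⁻¹ * ((n * g) * x * (n * g)⁻¹) := by group
  obtain ⟨c, hc, hcx⟩ := h.exists_conj_mem (h.D.S_le_centralizer hna) hP hPC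
  have h2 : c * (n * g) ∈ normalizer (A : Set G) := by
    apply h.D.wcA
    intro x hx
    have := hcx _ ⟨x, hx, rfl⟩
    have h3 : c * (n * g) * x * (c * (n * g))⁻¹ = c * ((MulAut.conj (n * g)).toMonoidHom x) * c⁻¹ := by
      change _ = c * ((n * g) * x * (n * g)⁻¹) * c⁻¹
      group
    rw [h3]
    exact this
  have h4 : c ∈ normalizer (A : Set G) :=
    h.centralizer_le_normalizer hW (h.D.leZA hna) hna1 hc
  have h5 : g ∈ normalizer (A : Set G) := by
    have : g = n⁻¹ * (c⁻¹ * (c * (n * g))) := by group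
    rw [this]
    exact mul_mem (inv_mem hn) (mul_mem (inv_mem h4) h2)
  exact map_eq_of_mem_normalizer h5

end Ctx

end Cfsg.Agent.SylowL.CoreFunctor
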