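import Cfsg.Agent.SylowL.QuotCore
import Cfsg.Agent.SignalizersComponents.EvenComponent
import Cfsg.Agent.S0631

/-!
# Elements with 2-constrained centralizer centralise no component
-/

set_option autoImplicit false
set_option linter.unusedSectionVars false

namespace Cfsg.Agent.SylowL.LocalComp

open Subgroup Cfsg
open Cfsg.Agent.SignalizersComponents
open Cfsg.Agent.SignalizersComponents.Components

variable {Y : Type*} [Group Y] [Finite Y]

theorem centralizer_zpowers' (z : Y) :
    centralizer ((zpowers z : Subgroup Y) : Set Y) = centralizer ({z} : Set Y) := by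
  apply le_antisymm
  · intro x hx
    rw [mem_centralizer_singleton_iff]
    exact (mem_centralizer_iff.1 hx z (mem_zpowers z)).symm
  · intro x hx
    rw [mem_centralizer_singleton_iff] at hx
    rw [mem_centralizer_iff]
    rintro _ ⟨k, rfl⟩
    have : Commute x z := hx
    exact (this.zpow_right k).eq.symm

/-- centralizers of 2-elements and quotients by normal subgroups of odd order -/
theorem exists_centralizer_lift {Q : Type*} [Group Q] (f : Y →* Q) (hf : Function.Surjective f)
    (hk : (Nat.card f.ker).Coprime 2) {z : Y} (hz : IsPGroup 2 (zpowers z)) {q : Q}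
    (hq : q ∈ centralizer ({f z} : Set Q)) : ∃ y ∈ centralizer ({z} : Set Y), f y = q := by
  have : Fact (Nat.Prime 2) := ⟨Nat.prime_two⟩
  have : Finite Q := Finite.of_surjective f hf
  have h1 := PLocal.PConstrained.map_centralizer_eq f hf hk hz
  rw [MonoidHom.map_zpowers, centralizer_zpowers', centralizer_zpowers'] at h1
  rw [← h1] at hq
  obtain ⟨y, hy, rfl⟩ := hq
  exact ⟨y, hy, rfl⟩

/-- The centralizer in a quotient by a normal subgroup of odd order is again 2-constrained. -/
theorem constrained_map {Q : Type*} [Group Q] (f : Y →* Q) (hf : Function.Surjective f)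
    (hk : (Nat.card f.ker).Coprime 2) {z : Y} (hz : IsPGroup 2 (zpowers z))
    (hcon : Cfsg.IsPConstrained 2 (centralizer ({z} : Set Y))) :
    Cfsg.IsPConstrained 2 (centralizer ({f z} : Set Q)) := by
  have : Fact (Nat.Prime 2) := ⟨Nat.prime_two⟩
  let φ : centralizer ({z} : Set Y) →* centralizer ({f z} : Set Q) :=
    (f.comp (centralizer ({z} : Set Y)).subtype).codRestrict _ (by
      intro x
      rw [mem_centralizer_singleton_iff]
      change f x * f z = f z * f x
      rw [← map_mul, ← map_mul, mem_centralizer_singleton_iff.1 x.2])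
  have hφ : Function.Surjective φ := by
    rintro ⟨q, hq⟩
    obtain ⟨y, hy, rfl⟩ := exists_centralizer_lift f hf hk hz hq
    exact ⟨⟨y, hy⟩, rfl⟩
  refine (PLocal.PConstrained.isPConstrained_iff_of_surjective φ hφ ?_).1 hcon
  refine Nat.Coprime.coprime_dvd_left ?_ hk
  have h1 : φ.ker = f.ker.subgroupOf (centralizer ({z} : Set Y)) := by
    ext x
    rw [MonoidHom.mem_ker, mem_subgroupOf, MonoidHom.mem_ker]
    constructor
    · intro h
      exact congrArg Subtype.val h
    · intro h
      exact Subtype.ext h
  rw [h1]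
  exact Subgroup.card_comap_dvd_of_injective _ _ (Subgroup.subtype_injective _)

/-- A 2-element with 2-constrained centralizer centralises no component of even order. -/
theorem not_mem_centralizer_component {z : Y}
    (hcon : Cfsg.IsPConstrained 2 (centralizer ({z} : Set Y))) (hO : Cfsg.oddCore Y = ⊥)
    {K : Subgroup Y} (hK : Cfsg.IsComponent K) : z ∉ centralizer (K : Set Y) := by
  have : Fact (Nat.Prime 2) := ⟨Nat.prime_two⟩
  intro hz
  have hKC : K ≤ centralizer ({z} : Set Y) := by
    intro k hk
    rw [mem_centralizer_singleton_iff]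
    exact mem_centralizer_iff.1 hz k hk
  have h1 : Cfsg.IsComponent (K.subgroupOf (centralizer ({z} : Set Y))) :=
    isComponent_subgroupOf hKC hK
  have h2 : 2 ∣ Nat.card (K.subgroupOf (centralizer ({z} : Set Y))) := by
    rw [Nat.card_congr (subgroupOfEquivOfLe hKC).toEquiv]
    exact BalanceAux.dvd_card_component 2 hO hK
  have h3 := EvenComponent.isPComponent_of_isComponent h1 h2
  have h4 := (Cfsg.Agent.SignalizersComponents.PConstrained.isPConstrained_iff_pLayer_eq_bot 2).1 hcon
  have h5 : K.subgroupOf (centralizer ({z} : Set Y)) ≤ pLayer 2 (centralizer ({z} : Set Y)) :=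
    le_sSup h3
  rw [h4] at h5
  exact component_ne_bot h1 (le_bot_iff.1 h5)

/-- An element of 2-power order of `Y` with 2-constrained centralizer centralises no component of
`Y/O(Y)`. -/
theorem not_centralized {z : Y} (hz : IsPGroup 2 (zpowers z))
    (hcon : Cfsg.IsPConstrained 2 (centralizer ({z} : Set Y)))
    {K : Subgroup (Y ⧸ Cfsg.oddCore Y)} (hK : Cfsg.IsComponent K) :
    QuotientGroup.mk' (Cfsg.oddCore Y) z ∉ centralizer (K : Set (Y ⧸ Cfsg.oddCore Y)) := by
  have hs := QuotientGroup.mk'_surjective (Cfsg.oddCore Y)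
  have hk : (Nat.card (QuotientGroup.mk' (Cfsg.oddCore Y)).ker).Coprime 2 := by
    rw [QuotientGroup.ker_mk']
    exact QuotCore.odd_oddCore
  exact not_mem_centralizer_component (constrained_map _ hs hk hz hcon)
    (Lib.Cores.pPrimeCore_quotient_pPrimeCore 2) hK

/-- `C_U(z)` and `C_V(t)`, `U = C(t)`, `V = C(z)`. -/
theorem constrained_comm {t z : Y} (ht : IsPGroup 2 (zpowers t))
    (hcon : Cfsg.IsPConstrained 2 (centralizer ({z} : Set Y)))
    (hzt : z ∈ centralizer ({t} : Set Y)) :
    Cfsg.IsPConstrained 2
      (centralizer ({(⟨z, hzt⟩ : centralizer ({t} : Set Y))} : Set (centralizer ({t} : Set Y)))) := by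
  have : Fact (Nat.Prime 2) := ⟨Nat.prime_two⟩
  have htz : t ∈ centralizer ({z} : Set Y) := by
    rw [mem_centralizer_singleton_iff] at hzt ⊢
    exact hzt.symm
  have hp : IsPGroup 2 (zpowers (⟨t, htz⟩ : centralizer ({z} : Set Y))) := by
    have h1 : (zpowers (⟨t, htz⟩ : centralizer ({z} : Set Y))).map (centralizer ({z} : Set Y)).subtype =
        zpowers t := by
      rw [MonoidHom.map_zpowers]
      rfl
    rintro ⟨_, k, rfl⟩
    obtain ⟨n, hn⟩ := ht ⟨t ^ k, k, rfl⟩
    refine ⟨n, Subtype.ext (Subtype.ext ?_)⟩
    have h2 := congrArg Subtype.val hn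
    exact h2
  have h1 := (Cfsg.Agent.S0631.result hcon _ hp).2
  rw [centralizer_zpowers'] at h1
  let e : centralizer ({(⟨t, htz⟩ : centralizer ({z} : Set Y))} : Set (centralizer ({z} : Set Y))) ≃*
      centralizer ({(⟨z, hzt⟩ : centralizer ({t} : Set Y))} : Set (centralizer ({t} : Set Y))) :=
    { toFun := fun x => ⟨⟨x.1.1, by
          rw [mem_centralizer_singleton_iff]
          exact congrArg Subtype.val (mem_centralizer_singleton_iff.1 x.2)⟩, by
          rw [mem_centralizer_singleton_iff]
          exact Subtype.ext (mem_centralizer_singleton_iff.1 x.1.2)⟩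
      invFun := fun x => ⟨⟨x.1.1, by
          rw [mem_centralizer_singleton_iff]
          exact congrArg Subtype.val (mem_centralizer_singleton_iff.1 x.2)⟩, by
          rw [mem_centralizer_singleton_iff]
          exact Subtype.ext (mem_centralizer_singleton_iff.1 x.1.2)⟩
      left_inv := fun x => rfl
      right_inv := fun x => rfl
      map_mul' := fun x y => rfl }
  exact (PLocal.PConstrained.isPConstrained_congr e).1 h1

/-- If `C(z) ≤ U` then the centralizer of `z` in `U` is 2-constrained. -/
theorem constrained_of_le {U : Subgroup Y} {z : Y} (hzU : z ∈ U) (hU : centralizer ({z} : Set Y) ≤ U)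
    (hcon : Cfsg.IsPConstrained 2 (centralizer ({z} : Set Y))) :
    Cfsg.IsPConstrained 2 (centralizer ({(⟨z, hzU⟩ : U)} : Set U)) := by
  have : Fact (Nat.Prime 2) := ⟨Nat.prime_two⟩
  let e : centralizer ({z} : Set Y) ≃* centralizer ({(⟨z, hzU⟩ : U)} : Set U) :=
    { toFun := fun x => ⟨⟨x.1, hU x.2⟩, by
          rw [mem_centralizer_singleton_iff]
          exact Subtype.ext (mem_centralizer_singleton_iff.1 x.2)⟩
      invFun := fun x => ⟨x.1.1, by
          rw [mem_centralizer_singleton_iff]
          exact congrArg Subtype.val (mem_centralizer_singleton_iff.1 x.2)⟩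
      left_inv := fun x => rfl
      right_inv := fun x => rfl
      map_mul' := fun x y => rfl }
  exact (PLocal.PConstrained.isPConstrained_congr e).1 hcon

end Cfsg.Agent.SylowL.LocalComp
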