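import Cfsg.Agent.SylowL.CoreFunctor
import Cfsg.Agent.SylowL.LocalComp
import Cfsg.Agent.Lib.NormalAbelian

/-!
# The structure of `M/O(M)`, `M = N(WW Z)`

Step (C3): `F*(M/O(M))` is simple and contains the image of `S`.
-/

set_option autoImplicit false
set_option linter.unusedSectionVars false

namespace Cfsg.Agent.SylowL.LocalSimple

open Subgroup Cfsg
open scoped commutatorElement
open Cfsg.Agent.SignalizersComponents
open Cfsg.Agent.SignalizersComponents.Components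
open Cfsg.Agent.SignalizersComponents.ComponentExists (layer_eq_bot_iff)
open Cfsg.Agent.SylowL.CompFacts
open Cfsg.Agent.SylowL.CoreFunctor

universe u

variable {G : Type u} [Group G] [Finite G] {S : Sylow 2 G} {A B Z : Subgroup G}

theorem layer_le_normalizer {Q : Type*} [Group Q] [Finite Q] {K : Subgroup Q} (hK : Cfsg.IsComponent K) :
    Cfsg.layer Q ≤ normalizer (K : Set Q) := by
  refine sSup_le ?_
  intro L hL
  by_cases h : L = K
  · rw [h]
    exact Subgroup.le_normalizer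
  · have h1 := component_commutator_eq_bot_of_ne hL hK h
    rw [commutator_eq_bot_iff_le_centralizer] at h1
    exact h1.trans (Subgroup.centralizer_le_normalizer _)

theorem exists_ne_one_sylow_central {Q : Type*} [Group Q] [Finite Q] (P : Sylow 2 Q) {K : Subgroup Q}
    (hPK : (P : Subgroup Q) ≤ normalizer (K : Set Q)) (hne : (P : Subgroup Q) ⊓ K ≠ ⊥) :
    ∃ x ∈ (P : Subgroup Q) ⊓ K, x ≠ 1 ∧ ∀ s ∈ (P : Subgroup Q), s * x = x * s := by
  have : Fact (Nat.Prime 2) := ⟨Nat.prime_two⟩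
  have hnil : Group.IsNilpotent (P : Subgroup Q) := P.2.isNilpotent
  have hnor : (K.subgroupOf (P : Subgroup Q)).Normal := normal_subgroupOf_of_le_normalizer hPK
  have hne' : K.subgroupOf (P : Subgroup Q) ≠ ⊥ := by
    intro h
    apply hne
    rw [eq_bot_iff]
    intro x hx
    have h1 : (⟨x, hx.1⟩ : (P : Subgroup Q)) ∈ K.subgroupOf (P : Subgroup Q) := hx.2
    rw [h, mem_bot] at h1
    exact congrArg Subtype.val h1
  have h1 := Lib.NormalAbelian.normal_inf_center_ne_bot (K.subgroupOf (P : Subgroup Q)) hne'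
  obtain ⟨⟨x, hx⟩, hx1'⟩ := Subgroup.ne_bot_iff_exists_ne_one.1 h1
  have hx1 : x ≠ 1 := fun h => hx1' (Subtype.ext h)
  refine ⟨x, ⟨x.2, hx.1⟩, fun h => hx1 (Subtype.ext h), ?_⟩
  intro s hs
  exact congrArg Subtype.val (mem_center_iff.1 hx.2 ⟨s, hs⟩)

variable (h : Ctx S A B Z)

include h

/-- `M = N(WW Z)` -/
abbrev MM (Z : Subgroup G) : Subgroup G := normalizer (WW Z : Set G)

omit h in
/-- the quotient map of `M` by its odd core -/
abbrev pr (Z : Subgroup G) : MM Z →* MM Z ⧸ Cfsg.oddCore (MM Z) :=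
  QuotientGroup.mk' (Cfsg.oddCore (MM Z))

/-- `S` is not abelian -/
theorem not_comm : ¬ ∀ s ∈ (S : Subgroup G), ∀ t ∈ (S : Subgroup G), s * t = t * s := by
  intro hc
  obtain ⟨z, hz, hz1⟩ := h.exists_ne_one
  apply hz1
  have h1 := h.D.Zcom hz
  have h2 : ⁅A, (S : Subgroup G)⁆ = ⊥ := by
    rw [commutator_eq_bot_iff_le_centralizer]
    intro a ha
    rw [mem_centralizer_iff]
    intro s hs
    exact hc s hs a (h.D.leA ha)
  rw [h2, mem_bot] at h1
  exact h1

/-- A nontrivial normal subgroup of `M/O(M)` contains the image of `S`. -/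
theorem le_of_normal {N : Subgroup (MM Z ⧸ Cfsg.oddCore (MM Z))} (hN : N.Normal) (hne : N ≠ ⊥) :
    ∀ s : MM Z, (s : G) ∈ (S : Subgroup G) → pr Z s ∈ N := by
  have : Fact (Nat.Prime 2) := ⟨Nat.prime_two⟩
  set R : Subgroup G := (N.comap (pr Z)).map (MM Z).subtype ⊓ (S : Subgroup G) with hR
  have hmemR : ∀ s : MM Z, (s : G) ∈ R ↔ pr Z s ∈ N ∧ (s : G) ∈ (S : Subgroup G) := by
    intro s
    constructor
    · rintro ⟨⟨y, hy, hys⟩, h2⟩
      have : y = s := Subtype.ext hys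
      rw [← this]
      exact ⟨hy, this ▸ h2⟩
    · rintro ⟨h1, h2⟩
      exact ⟨⟨s, h1, rfl⟩, h2⟩
  have hsc : Cfsg.IsStronglyClosed R (S : Subgroup G) := by
    refine ⟨inf_le_right, ?_⟩
    intro x hx g hg
    obtain ⟨m, hm, hmx⟩ := h.D.ctl (MM Z) h.normalizer_A_le h.normalizer_B_le x hx.2 g hg
    obtain ⟨⟨y, hy, rfl⟩, h2⟩ := hx
    rw [← hmx] at hg ⊢
    refine ⟨⟨⟨m, hm⟩ * y * ⟨m, hm⟩⁻¹, ?_, rfl⟩, hg⟩
    exact (hN.comap (pr Z)).conj_mem y hy ⟨m, hm⟩
  by_cases hR0 : R = ⊥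
  · exfalso
    apply hne
    let P : Sylow 2 (MM Z) := S.subtype h.S_le
    let P' : Sylow 2 (MM Z ⧸ Cfsg.oddCore (MM Z)) := P.mapSurjective (QuotientGroup.mk'_surjective _)
    have h1 : (P' : Subgroup (MM Z ⧸ Cfsg.oddCore (MM Z))) ⊓ N = ⊥ := by
      rw [eq_bot_iff]
      rintro x ⟨⟨s, hs, hsx⟩, hx⟩
      have hs' : (s : G) ∈ (S : Subgroup G) := hs
      have h2 : (s : G) ∈ R := (hmemR s).2 ⟨by rw [← hsx] at hx; exact hx, hs'⟩
      rw [hR0, mem_bot] at h2
      have h3 : s = 1 := Subtype.ext h2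
      rw [mem_bot, ← hsx, h3]
      exact map_one _
    have h2 := Lib.SylowNormalInf.not_dvd_relIndex P' N
    have h3 : (P' : Subgroup (MM Z ⧸ Cfsg.oddCore (MM Z))).relIndex N = Nat.card N := by
      rw [← Subgroup.inf_relIndex_right, h1, Subgroup.relIndex_bot_left]
    rw [h3] at h2
    have h4 : N ≤ Cfsg.oddCore (MM Z ⧸ Cfsg.oddCore (MM Z)) :=
      Lib.Cores.le_pPrimeCore hN ((Nat.Prime.coprime_iff_not_dvd Nat.prime_two).2 h2).symm
    have h5 : Cfsg.oddCore (MM Z ⧸ Cfsg.oddCore (MM Z)) = ⊥ :=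
      Lib.Cores.pPrimeCore_quotient_pPrimeCore 2
    rw [h5] at h4
    exact le_bot_iff.1 h4
  · have h1 := h.D.sc R hsc hR0
    intro s hs
    exact ((hmemR s).1 (h1 ▸ hs)).1

/-- a subgroup of `M/O(M)` containing the image of `S` is not abelian -/
theorem not_comm_of_le {N : Subgroup (MM Z ⧸ Cfsg.oddCore (MM Z))}
    (hN : ∀ s : MM Z, (s : G) ∈ (S : Subgroup G) → pr Z s ∈ N) :
    ¬ ∀ x ∈ N, ∀ y ∈ N, x * y = y * x := by
  intro hc
  apply not_comm h
  intro s hs t ht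
  have h1 := hc _ (hN ⟨s, h.S_le hs⟩ hs) _ (hN ⟨t, h.S_le ht⟩ ht)
  have h2 := QuotCore.eq_of_mk_eq (S.subtype h.S_le) (x := ⟨s, h.S_le hs⟩ * ⟨t, h.S_le ht⟩)
    (y := ⟨t, h.S_le ht⟩ * ⟨s, h.S_le hs⟩)
    (Subgroup.mul_mem (S : Subgroup G) hs ht) (Subgroup.mul_mem (S : Subgroup G) ht hs)
    (by rw [map_mul, map_mul]; exact h1)
  exact congrArg Subtype.val h2

/-- an element of `1 ≠ z ∈ Z` centralises no component of `M/O(M)` -/
theorem not_centralized {z : G} (hz : z ∈ Z) (hz1 : z ≠ 1) (hzM : z ∈ MM Z)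
    {K : Subgroup (MM Z ⧸ Cfsg.oddCore (MM Z))} (hK : Cfsg.IsComponent K) :
    pr Z ⟨z, hzM⟩ ∉ centralizer (K : Set (MM Z ⧸ Cfsg.oddCore (MM Z))) := by
  apply LocalComp.not_centralized _ _ hK
  · rintro ⟨_, k, rfl⟩
    refine ⟨1, Subtype.ext (Subtype.ext ?_)⟩
    have h1 : (⟨z, hzM⟩ : MM Z) * ⟨z, hzM⟩ = 1 := Subtype.ext (h.D.sq hz)
    have h2 : ((⟨z, hzM⟩ : MM Z) ^ k) ^ (2 ^ 1) = 1 := by
      rw [pow_one, pow_two, ← Commute.mul_zpow (Commute.refl _), h1, one_zpow]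
    exact congrArg Subtype.val h2
  · exact LocalComp.constrained_of_le hzM (h.centralizer_le hz hz1) (h.constrained_Z hz hz1)

/-- (C3) -/
theorem exists_simple : ∃ K : Subgroup (MM Z ⧸ Cfsg.oddCore (MM Z)), K.Normal ∧ IsSimpleGroup K ∧
    ¬ IsMulCommutative K ∧ (∀ s : MM Z, (s : G) ∈ (S : Subgroup G) → pr Z s ∈ K) ∧
    centralizer (K : Set (MM Z ⧸ Cfsg.oddCore (MM Z))) = ⊥ := by
  have : Fact (Nat.Prime 2) := ⟨Nat.prime_two⟩
  have hO : Cfsg.oddCore (MM Z ⧸ Cfsg.oddCore (MM Z)) = ⊥ :=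
    Lib.Cores.pPrimeCore_quotient_pPrimeCore 2
  let P : Sylow 2 (MM Z) := S.subtype h.S_le
  let P' : Sylow 2 (MM Z ⧸ Cfsg.oddCore (MM Z)) := P.mapSurjective (QuotientGroup.mk'_surjective _)
  have hP' : ∀ x, x ∈ (P' : Subgroup (MM Z ⧸ Cfsg.oddCore (MM Z))) ↔
      ∃ s : MM Z, (s : G) ∈ (S : Subgroup G) ∧ pr Z s = x := fun x => Iff.rfl
  have hle : ∀ N : Subgroup (MM Z ⧸ Cfsg.oddCore (MM Z)), N.Normal → N ≠ ⊥ →
      (P' : Subgroup (MM Z ⧸ Cfsg.oddCore (MM Z))) ≤ N := by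
    rintro N hN hne x hx
    obtain ⟨s, hs, rfl⟩ := (hP' x).1 hx
    exact le_of_normal h hN hne s hs
  have hncomm : ∀ N : Subgroup (MM Z ⧸ Cfsg.oddCore (MM Z)),
      (P' : Subgroup (MM Z ⧸ Cfsg.oddCore (MM Z))) ≤ N → ¬ ∀ x ∈ N, ∀ y ∈ N, x * y = y * x := by
    intro N hN
    exact not_comm_of_le h (fun s hs => hN ((hP' _).2 ⟨s, hs, rfl⟩))
  have hlayer : Cfsg.layer (MM Z ⧸ Cfsg.oddCore (MM Z)) ≠ ⊥ := by
    intro hl
    have h1 := (Cfsg.Agent.SignalizersComponents.PConstrained.centralizer_pCore_le_iff_layer_eq_bot 2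
      hO).2 hl
    set Q := Cfsg.pCore 2 (MM Z ⧸ Cfsg.oddCore (MM Z)) with hQ
    have hQn : Q.Normal := Lib.Cores.pCore_normal 2
    have hQP : Q ≤ (P' : Subgroup _) := Lib.Cores.pCore_le_sylow P'
    by_cases hQ0 : Q = ⊥
    · rw [hQ0] at h1
      apply hncomm ⊥
      · refine le_trans ?_ h1
        intro x _
        rw [mem_centralizer_iff]
        intro y hy
        rw [(mem_bot.1 hy), one_mul, mul_one]
      · intro x hx y hy
        rw [mem_bot.1 hx, mem_bot.1 hy]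
    · have h2 := hle Q hQn hQ0
      have h3 : Q ⊓ centralizer (Q : Set _) ≠ ⊥ := by
        obtain ⟨x, hx, hx1, hxc⟩ := exists_ne_one_sylow_central P' (K := Q)
          (by rw [Subgroup.normalizer_eq_top]; exact le_top)
          (by rw [inf_eq_right.2 hQP]; exact hQ0)
        intro hb
        apply hx1
        rw [← mem_bot, ← hb]
        refine ⟨hx.2, mem_centralizer_iff.2 ?_⟩
        intro y hy
        exact hxc y (hQP hy)
      have h4 : (Q ⊓ centralizer (Q : Set _)).Normal := by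
        have : (centralizer (Q : Set (MM Z ⧸ Cfsg.oddCore (MM Z)))).Normal := inferInstance
        infer_instance
      have h5 := hle _ h4 h3
      apply hncomm _ h5
      rintro x ⟨hx, -⟩ y ⟨-, hy⟩
      exact mem_centralizer_iff.1 hy x hx
  have hlayern : (Cfsg.layer (MM Z ⧸ Cfsg.oddCore (MM Z))).Normal := layer_normal _
  have hPl := hle _ hlayern hlayer
  have hex : ∃ K : Subgroup (MM Z ⧸ Cfsg.oddCore (MM Z)), Cfsg.IsComponent K := by
    by_contra hcon
    push Not at hcon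
    exact hlayer (layer_eq_bot_iff.2 hcon)
  obtain ⟨K, hK⟩ := hex
  -- a nontrivial element of `Z` in `K`
  have h1 : (P' : Subgroup (MM Z ⧸ Cfsg.oddCore (MM Z))) ⊓ K ≠ ⊥ := by
    intro h2
    have h3 := NoComp.not_sylow_central hO P' hK
    apply h3
    rw [h2]
    exact bot_le
  obtain ⟨x, hx, hx1, hxc⟩ := exists_ne_one_sylow_central P' (hPl.trans (layer_le_normalizer hK)) h1
  obtain ⟨z, hz, hzx⟩ := (hP' x).1 hx.1
  have hzZ : (z : G) ∈ Z := by
    rw [h.D.mem_Z_iff]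
    refine ⟨hz, ?_⟩
    intro s hs
    have h3 := hxc (pr Z ⟨s, h.S_le hs⟩) ((hP' _).2 ⟨_, hs, rfl⟩)
    rw [← hzx, ← map_mul, ← map_mul] at h3
    have h4 := QuotCore.eq_of_mk_eq (S.subtype h.S_le) (x := ⟨s, h.S_le hs⟩ * z)
      (y := z * ⟨s, h.S_le hs⟩) (Subgroup.mul_mem (S : Subgroup G) hs hz)
      (Subgroup.mul_mem (S : Subgroup G) hz hs) h3
    exact congrArg Subtype.val h4
  have hz1 : (z : G) ≠ 1 := by
    intro h3
    apply hx1
    rw [← hzx]
    have : z = 1 := Subtype.ext h3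
    rw [this, map_one]
  have huniq : ∀ L : Subgroup (MM Z ⧸ Cfsg.oddCore (MM Z)), Cfsg.IsComponent L → L = K := by
    intro L hL
    by_contra hne
    have h3 := component_commutator_eq_bot_of_ne hL hK hne
    rw [commutator_eq_bot_iff_le_centralizer, le_centralizer_iff] at h3
    apply not_centralized h hzZ hz1 z.2 hL
    have h4 : pr Z ⟨z, z.2⟩ ∈ K := by
      have : pr Z ⟨z, z.2⟩ = x := hzx
      rw [this]
      exact hx.2
    exact h3 h4
  have hlK : Cfsg.layer (MM Z ⧸ Cfsg.oddCore (MM Z)) = K := by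
    apply le_antisymm
    · refine sSup_le ?_
      intro L hL
      rw [huniq L hL]
    · exact component_le_layer hK
  rw [hlK] at hPl hlayern
  have hcen : K ⊓ centralizer (K : Set (MM Z ⧸ Cfsg.oddCore (MM Z))) = ⊥ := by
    by_contra hne
    have h4 : (K ⊓ centralizer (K : Set (MM Z ⧸ Cfsg.oddCore (MM Z)))).Normal := by
      have : (centralizer (K : Set (MM Z ⧸ Cfsg.oddCore (MM Z)))).Normal := inferInstance
      infer_instance
    apply hncomm _ (hle _ h4 hne)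
    rintro x ⟨hx, -⟩ y ⟨-, hy⟩
    exact mem_centralizer_iff.1 hy x hx
  refine ⟨K, hlayern, ?_, ?_, ?_, ?_⟩
  · have hn := quasisimple_nontrivial hK.2
    have hz : center K = ⊥ := by
      rw [eq_bot_iff]
      intro x hx
      have h2 : (x : MM Z ⧸ Cfsg.oddCore (MM Z)) ∈
          K ⊓ centralizer (K : Set (MM Z ⧸ Cfsg.oddCore (MM Z))) :=
        ⟨x.2, mem_center_iff_mem_centralizer.1 hx⟩
      rw [hcen] at h2
      exact Subtype.ext h2
    refine ⟨fun N hN => ?_⟩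
    rcases quasisimple_normal hK.2 N hN with h2 | h2
    · exact Or.inr h2
    · rw [hz] at h2
      exact Or.inl (le_bot_iff.mp h2)
  · exact quasisimple_not_isMulCommutative hK.2
  · intro s hs
    exact hPl ((hP' _).2 ⟨s, hs, rfl⟩)
  · by_contra hne
    have h2 : (centralizer (K : Set (MM Z ⧸ Cfsg.oddCore (MM Z)))).Normal := inferInstance
    have h3 := hle _ h2 hne
    apply hncomm _ h3
    intro x' _ y' _
    have h4 : ∀ w ∈ (P' : Subgroup (MM Z ⧸ Cfsg.oddCore (MM Z))), w = 1 := by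
      intro w hw
      rw [← mem_bot, ← hcen]
      exact ⟨hPl hw, h3 hw⟩
    exfalso
    exact hx1 (h4 _ hx.1)

end Cfsg.Agent.SylowL.LocalSimple
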