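import Cfsg.Agent.SylowL.RelThree
import Cfsg.Agent.SylowL.LocalSimple

/-!
# Construction of the setting from the induction hypothesis
-/

set_option autoImplicit false
set_option linter.unusedSectionVars false

namespace Cfsg.Agent.SylowL.RelExists

open Subgroup Cfsg
open Cfsg.Agent.SylowL.CompFacts
open Cfsg.Agent.SylowL.CoreFunctor
open Cfsg.Agent.SylowL.LocalSimple
open Cfsg.Agent.SylowL.RelSet
open Cfsg.Agent.SylowL.UT
open Cfsg.Agent.ClassicalGeometry.AutPSL.SylowU (upper)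

universe u

/-- a homomorphism from `SL` onto a normal subgroup isomorphic to `PSL`, adapted to a Sylow 2-subgroup -/
theorem exists_hom {Q : Type u} [Group Q] [Finite Q] {m : ℕ} {F : Type*} [Field F] [Finite F]
    [CharP F 2] (P : Sylow 2 Q) {K : Subgroup Q} (hPK : (P : Subgroup Q) ≤ K)
    (e : K ≃* Matrix.ProjectiveSpecialLinearGroup (Fin m) F) :
    ∃ f : Matrix.SpecialLinearGroup (Fin m) F →* Q, f.range = K ∧ f.ker = center _ ∧
      (upper m F).map f = P := by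
  haveI : Fact (Nat.Prime 2) := ⟨Nat.prime_two⟩
  haveI : Fintype F := Fintype.ofFinite F
  let pr : Matrix.SpecialLinearGroup (Fin m) F →* Matrix.ProjectiveSpecialLinearGroup (Fin m) F :=
    Cfsg.Agent.ClassicalGeometry.AutPSL.Root.pr
  obtain ⟨S0, hS0⟩ := Cfsg.Agent.ClassicalGeometry.AutPSL.SylowU.exists_sylow (F := F) m 2
  let S1 : Sylow 2 K := S0.mapSurjective (f := e.symm.toMonoidHom) e.symm.surjective
  have hS1 : (S1 : Subgroup K) = (S0 : Subgroup _).map e.symm.toMonoidHom := rfl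
  let P1 : Sylow 2 K := P.subtype hPK
  obtain ⟨k, hk⟩ := MulAction.exists_smul_eq K S1 P1
  let f : Matrix.SpecialLinearGroup (Fin m) F →* Q :=
    K.subtype.comp ((MulAut.conj k).toMonoidHom.comp (e.symm.toMonoidHom.comp pr))
  have hpr : Function.Surjective pr := QuotientGroup.mk'_surjective _
  refine ⟨f, ?_, ?_, ?_⟩
  · ext x
    constructor
    · rintro ⟨σ, rfl⟩
      exact SetLike.coe_mem _
    · intro hx
      obtain ⟨y, hy⟩ := (MulAut.conj k).surjective ⟨x, hx⟩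
      obtain ⟨w, hw⟩ := e.symm.surjective y
      obtain ⟨σ, hσ⟩ := hpr w
      refine ⟨σ, ?_⟩
      change ((MulAut.conj k (e.symm (pr σ)) : K) : Q) = x
      rw [hσ, hw, hy]
  · have h1 : ∀ σ, f σ = 1 ↔ pr σ = 1 := by
      intro σ
      change ((MulAut.conj k (e.symm (pr σ)) : K) : Q) = 1 ↔ _
      rw [OneMemClass.coe_eq_one, EmbeddingLike.map_eq_one_iff, EmbeddingLike.map_eq_one_iff]
    ext σ
    rw [MonoidHom.mem_ker, h1]
    exact Cfsg.Agent.ClassicalGeometry.AutPSL.Root.pr_eq_one_iff σ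
  · have h1 : (upper m F).map f = (((upper m F).map pr).map e.symm.toMonoidHom).map
        (K.subtype.comp (MulAut.conj k).toMonoidHom) := by
      rw [Subgroup.map_map, Subgroup.map_map]
      rfl
    have hS0' : (S0 : Subgroup (Matrix.ProjectiveSpecialLinearGroup (Fin m) F)) =
      (upper m F).map pr := hS0
    rw [h1, ← hS0', ← hS1, ← Subgroup.map_map]
    have h2 : (S1 : Subgroup K).map (MulAut.conj k).toMonoidHom = (P1 : Subgroup K) := by
      rw [← hk]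
      rfl
    rw [h2]
    change ((P : Subgroup Q).subgroupOf K).map K.subtype = P
    rw [Subgroup.map_subgroupOf_eq_of_le hPK]

variable {G : Type u} [Group G] [Finite G] {S : Sylow 2 G} {A B Z : Subgroup G}

/-- the fiber product -/
def RR {G : Type u} [Group G] {H : Type*} [Group H] {Q : Type*} [Group Q] (M : Subgroup G)
    (π : M →* Q) (f : H →* Q) : Subgroup (G × H) where
  carrier := {p | ∃ hg : p.1 ∈ M, π ⟨p.1, hg⟩ = f p.2}
  mul_mem' := by
    rintro ⟨a, b⟩ ⟨c, d⟩ ⟨h1, h2⟩ ⟨h3, h4⟩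
    refine ⟨M.mul_mem h1 h3, ?_⟩
    change π (⟨a, h1⟩ * ⟨c, h3⟩) = f (b * d)
    rw [map_mul, map_mul, h2, h4]
  one_mem' := ⟨M.one_mem, by
    change π 1 = f 1
    rw [map_one, map_one]⟩
  inv_mem' := by
    rintro ⟨a, b⟩ ⟨h1, h2⟩
    refine ⟨M.inv_mem h1, ?_⟩
    change π (⟨a, h1⟩⁻¹) = f b⁻¹
    rw [map_inv, map_inv, h2]

theorem exists_rel (h : Ctx S A B Z) {n : ℕ} {F : Type*} [Field F] [Finite F] [CharP F 2]
    (hM : MM Z ≠ ⊤)
    (eS : (S : Subgroup G) ≃* UT (n + 4) F)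
    (IH : ∀ (L : Type u) [Group L] [Finite L] [IsSimpleGroup L], Nat.card L < Nat.card G →
      (∃ P : Sylow 2 L, Nonempty ((P : Subgroup L) ≃* UT (n + 4) F)) →
      Nonempty (L ≃* Matrix.ProjectiveSpecialLinearGroup (Fin (n + 4)) F)) :
    ∃ (R : Subgroup (G × Matrix.SpecialLinearGroup (Fin (n + 4)) F)) (O : Subgroup G),
      Rel (n := n) (F := F) S (MM Z) Z R O := by
  haveI : Fact (Nat.Prime 2) := ⟨Nat.prime_two⟩
  obtain ⟨K, hKn, hKs, hKna, hSK, hKC⟩ := exists_simple h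
  have hsur := QuotientGroup.mk'_surjective (Cfsg.oddCore (MM Z))
  let P0 : Sylow 2 (MM Z) := S.subtype h.S_le
  let P : Sylow 2 (MM Z ⧸ Cfsg.oddCore (MM Z)) := P0.mapSurjective (f := pr Z) hsur
  have hP : ∀ x, x ∈ (P : Subgroup (MM Z ⧸ Cfsg.oddCore (MM Z))) ↔
      ∃ s : MM Z, (s : G) ∈ (S : Subgroup G) ∧ pr Z s = x := fun x => Iff.rfl
  have hPK : (P : Subgroup (MM Z ⧸ Cfsg.oddCore (MM Z))) ≤ K := by
    intro x hx
    obtain ⟨s, hs, rfl⟩ := (hP x).1 hx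
    exact hSK s hs
  have hcard : Nat.card K < Nat.card G := by
    have h1 : Nat.card K ≤ Nat.card (MM Z ⧸ Cfsg.oddCore (MM Z)) := Subgroup.card_le_card_group K
    have h2 : Nat.card (MM Z ⧸ Cfsg.oddCore (MM Z)) ≤ Nat.card (MM Z) :=
      Nat.card_le_card_of_surjective _ hsur
    have h3 : Nat.card (MM Z) < Nat.card G := by
      by_contra hcon
      push Not at hcon
      apply hM
      exact Subgroup.eq_top_of_card_eq _ (le_antisymm (Subgroup.card_le_card_group _) hcon)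
    omega
  -- the Sylow 2-subgroup of `K`
  have e1 : (S : Subgroup G) ≃* (P0 : Subgroup (MM Z)) :=
    (Subgroup.subgroupOfEquivOfLe h.S_le).symm
  have hinj : Function.Injective ((pr Z).comp (P0 : Subgroup (MM Z)).subtype) := by
    intro x y hxy
    exact Subtype.ext (QuotCore.eq_of_mk_eq P0 x.2 y.2 hxy)
  have hrange : ((pr Z).comp (P0 : Subgroup (MM Z)).subtype).range =
      (P : Subgroup (MM Z ⧸ Cfsg.oddCore (MM Z))) := by
    rw [MonoidHom.range_comp, Subgroup.range_subtype]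
    rfl
  have e2 : (P0 : Subgroup (MM Z)) ≃* (P : Subgroup (MM Z ⧸ Cfsg.oddCore (MM Z))) :=
    (MonoidHom.ofInjective hinj).trans (MulEquiv.subgroupCongr hrange)
  have e3 : (P : Subgroup (MM Z ⧸ Cfsg.oddCore (MM Z))) ≃* ((P.subtype hPK : Sylow 2 K) : Subgroup K) :=
    (Subgroup.subgroupOfEquivOfLe hPK).symm
  obtain ⟨φ⟩ := IH K hcard ⟨P.subtype hPK, ⟨(e3.symm.trans (e2.symm.trans e1.symm)).trans eS⟩⟩
  obtain ⟨f, hfr, hfk, hfu⟩ := exists_hom P hPK φ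
  have hR : ∀ g σ, (g, σ) ∈ RR (MM Z) (pr Z) f ↔ ∃ hg : g ∈ MM Z, pr Z ⟨g, hg⟩ = f σ :=
    fun g σ => Iff.rfl
  refine ⟨RR (MM Z) (pr Z) f, (Cfsg.oddCore (MM Z)).map (MM Z).subtype, ?_⟩
  refine ⟨?_, ?_, ?_, ?_, ?_, ?_, ?_, h.S_le, ?_, ?_, h.D.mem_Z_iff, ?_, ?_⟩
  · rintro g σ ⟨hg, -⟩
    exact hg
  · intro σ
    obtain ⟨g, hg⟩ := hsur (f σ)
    exact ⟨g, g.2, hg⟩
  · intro x
    rw [hR]
    constructor
    · rintro ⟨y, hy, rfl⟩
      refine ⟨y.2, ?_⟩
      rw [map_one]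
      exact (QuotientGroup.eq_one_iff _).2 hy
    · rintro ⟨hx, h1⟩
      rw [map_one] at h1
      exact ⟨⟨x, hx⟩, (QuotientGroup.eq_one_iff _).1 h1, rfl⟩
  · rw [Subgroup.card_map_of_injective (MM Z).subtype_injective]
    exact QuotCore.odd_oddCore
  · intro g hg
    apply NoCompT.mem_normalizer_of_conj_mem
    rintro _ ⟨y, hy, rfl⟩
    have hn : (Cfsg.oddCore (MM Z)).Normal := inferInstance
    exact ⟨⟨g, hg⟩ * y * ⟨g, hg⟩⁻¹, hn.conj_mem y hy ⟨g, hg⟩, rfl⟩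
  · rintro σ ⟨hg, h1⟩
    rw [← hfk, MonoidHom.mem_ker, ← h1]
    exact map_one _
  · rintro g hg x σ ⟨hx, h1⟩
    have h2 : pr Z (⟨g, hg⟩ * ⟨x, hx⟩ * ⟨g, hg⟩⁻¹) ∈ f.range := by
      rw [hfr, map_mul, map_mul, map_inv, h1]
      apply hKn.conj_mem
      rw [← hfr]
      exact ⟨σ, rfl⟩
    obtain ⟨τ, hτ⟩ := h2
    exact ⟨τ, (MM Z).mul_mem ((MM Z).mul_mem hg hx) ((MM Z).inv_mem hg), hτ.symm⟩
  · intro s hs
    have h1 : pr Z ⟨s, h.S_le hs⟩ ∈ (P : Subgroup _) := (hP _).2 ⟨_, hs, rfl⟩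
    rw [← hfu] at h1
    obtain ⟨σ, hσ, h2⟩ := h1
    exact ⟨σ, hσ, h.S_le hs, h2.symm⟩
  · intro σ hσ
    have h1 : f σ ∈ (P : Subgroup _) := by
      rw [← hfu]
      exact ⟨σ, hσ, rfl⟩
    obtain ⟨s, hs, h2⟩ := (hP _).1 h1
    exact ⟨s, hs, s.2, h2⟩
  · intro z hz hz1 g hg
    exact h.mem_of_conj_mem hz hz1 hg
  · intro z hz hz1
    exact h.constrained_Z hz hz1

/-- the hypotheses of Aschbacher's criterion -/
def AHyp (G : Type u) [Group G] : Prop :=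
  ∃ (M : Subgroup G) (z : G), M ≠ ⊤ ∧ orderOf z = 2 ∧ z ∈ M ∧
      (∃ S : Sylow 2 G, z ∈ S ∧ ∀ s ∈ S, Commute s z) ∧
      (∀ g : G, g * z * g⁻¹ ∈ M → g ∈ M) ∧
      (∀ g : G, Commute z (g * z * g⁻¹) → g * z * g⁻¹ ≠ z →
        centralizer ({z * (g * z * g⁻¹)} : Set G) ≤ M)

theorem aHyp [IsSimpleGroup G] (h : Ctx S A B Z) {n : ℕ} {F : Type*} [Field F] [Finite F] [CharP F 2]
    (hF : 4 ≤ Nat.card F)
    (eS : (S : Subgroup G) ≃* UT (n + 4) F)
    (IH : ∀ (L : Type u) [Group L] [Finite L] [IsSimpleGroup L], Nat.card L < Nat.card G →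
      (∃ P : Sylow 2 L, Nonempty ((P : Subgroup L) ≃* UT (n + 4) F)) →
      Nonempty (L ≃* Matrix.ProjectiveSpecialLinearGroup (Fin (n + 4)) F)) (hW : WW Z ≠ ⊥) :
    AHyp G := by
  obtain ⟨z, hz, hz1⟩ := h.exists_ne_one
  have hzz := h.D.sq hz
  have hord : orderOf z = 2 := by
    apply orderOf_eq_prime
    · rw [pow_two]
      exact hzz
    · exact hz1
  have hM : MM Z ≠ ⊤ := by
    intro h1
    have h2 : (WW Z).Normal := normalizer_eq_top_iff.1 h1
    rcases h2.eq_bot_or_eq_top with h3 | h3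
    · exact hW h3
    · apply h.odd_WZ
      rw [h3, Subgroup.card_top, ← hord]
      exact orderOf_dvd_natCard z
  obtain ⟨R, O, hR⟩ := exists_rel h hM eS IH
  refine ⟨MM Z, z, hM, hord, h.S_le (h.D.leZ hz), ⟨S, h.D.leZ hz, fun s hs => h.D.cen hz hs⟩, ?_, ?_⟩
  · intro g hg
    exact h.mem_of_conj_mem hz hz1 hg
  · intro g hcom hne
    exact hR.centralizer_mul_le h.gold hF hz hz1 hcom.eq hne

/-- Output of [C]. -/
theorem main [IsSimpleGroup G] (h : Ctx S A B Z) {n : ℕ} {F : Type*} [Field F] [Finite F] [CharP F 2]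
    (hF : 4 ≤ Nat.card F)
    (eS : (S : Subgroup G) ≃* UT (n + 4) F)
    (IH : ∀ (L : Type u) [Group L] [Finite L] [IsSimpleGroup L], Nat.card L < Nat.card G →
      (∃ P : Sylow 2 L, Nonempty ((P : Subgroup L) ≃* UT (n + 4) F)) →
      Nonempty (L ≃* Matrix.ProjectiveSpecialLinearGroup (Fin (n + 4)) F)) :
    (∀ a ∈ A, a ≠ 1 → ∀ g : G,
      A.map (MulAut.conj g).toMonoidHom ≤ centralizer ({a} : Set G) →
        A.map (MulAut.conj g).toMonoidHom = A) ∨ AHyp G := by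
  by_cases hW : WW Z = ⊥
  · exact Or.inl (h.timmesfeld hW)
  · exact Or.inr (aHyp h hF eS IH hW)

end Cfsg.Agent.SylowL.RelExists
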