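import Cfsg.Agent.SylowL.Final
import Cfsg.Agent.SylowL.RelExists

/-!
# `Final.CHyp` from Aschbacher's criterion (S1175)
-/

set_option autoImplicit false

namespace Cfsg.Agent.SylowL.CHypOf

open Subgroup Cfsg
open Cfsg.Agent.SylowL.UT Cfsg.Agent.SylowL.Rect Cfsg.Agent.SylowL.Inv Cfsg.Agent.SylowL.Dual
open Cfsg.Agent.SylowL.NatSec Cfsg.Agent.SylowL.PSec Cfsg.Agent.SylowL.Fus

universe u w

/-- Aschbacher's criterion (S1175). -/
def H1175 : Prop := ∀ (G : Type u) [Group G] [Finite G] [IsSimpleGroup G] (M : Subgroup G), M ≠ ⊤ →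
  ∀ z : G, orderOf z = 2 → z ∈ M → (∃ S : Sylow 2 G, z ∈ S ∧ ∀ s ∈ S, Commute s z) →
  (∀ g : G, g * z * g⁻¹ ∈ M → g ∈ M) →
  (∀ g : G, Commute z (g * z * g⁻¹) → g * z * g⁻¹ ≠ z →
    centralizer ({z * (g * z * g⁻¹)} : Set G) ≤ M) → ∃ H : Subgroup G, Cfsg.IsStronglyEmbedded H

theorem cHyp {m : ℕ} {F : Type w} [Field F] [Finite F] [CharP F 2] (h1175 : H1175.{u}) :
    Final.CHyp.{u} m F := by
  intro G _ _ _ S ι c h1 C IH
  have hm := c.m4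
  have hq := c.q4
  obtain ⟨n, rfl⟩ : ∃ n, m = n + 4 := ⟨m - 4, by omega⟩
  by_cases hW : CoreFunctor.WW ((R (n + 4) F h1).map ι) = ⊥
  · exact Or.inl hW
  right
  have eS : (S : Subgroup G) ≃* UT (n + 4) F :=
    ((MonoidHom.ofInjective c.emb.inj).trans (MulEquiv.subgroupCongr c.emb.range)).symm
  obtain ⟨M, z, hM, hz, hzM, hc1, hc2, hc3⟩ := RelExists.aHyp C hq eS (by
    rintro L _ _ _ hL ⟨P, hP⟩
    exact IH L hL P hP) hW
  exact h1175 G M hM z hz hzM hc1 hc2 hc3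

end Cfsg.Agent.SylowL.CHypOf
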