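import Cfsg.Agent.SylowL.CompFacts
import Cfsg.Agent.TwoFusion.GoldMain
import Cfsg.Agent.TwoFusion.GoldInner
import Cfsg.Agent.TwoFusion.GoldLayer
import Cfsg.Agent.TwoFusion.GoldSolid

/-!
# The hypotheses `GoldHyp` and `H1169` from the induction statement (T) of Goldschmidt's theorem
-/

set_option autoImplicit false

namespace Cfsg.Agent.SylowL.GoldOf

open Subgroup
open Cfsg.Agent.SylowL.CompFacts
open Cfsg.Agent.TwoFusion Cfsg.Agent.TwoFusion.ClosedFam Cfsg.Agent.TwoFusion.Gold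

universe u

/-- The induction statement for all simple groups. -/
def TAll : Prop := ∀ (L : Type u) [Group L] [Finite L], IsSimpleGroup L →
  (∃ a b : L, a * b ≠ b * a) → TProp L

/-- The elementary family of a strongly closed elementary abelian subgroup. -/
theorem elemFam {X : Type*} [Group X] [Finite X] (S : Sylow 2 X) {A : Subgroup X}
    (hA : Cfsg.IsElementaryAbelian 2 A) (hs : Cfsg.IsStronglyClosed A (S : Subgroup X)) :
    IsElemFam {x : X | ∃ g : X, g * x * g⁻¹ ∈ A} := by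
  refine { toIsClosedFam := isClosedFam_of_isStronglyClosed S A hs, sq := ?_ }
  rintro x ⟨g, hg⟩
  have h1 := elem_sq hA hg
  have h2 : g * (x * x) * g⁻¹ = 1 := by
    rw [← h1]; group
  rwa [mul_inv_eq_one, mul_eq_left] at h2

theorem goldHyp (hT : TAll.{u}) : GoldHyp.{u} where
  inner X _ _ hO S A hA hs K hK hKA a ha := by
    set 𝒜 : Set X := {x : X | ∃ g : X, g * x * g⁻¹ ∈ A} with h𝒜
    have hfam : IsElemFam 𝒜 := elemFam S hA hs
    have hctx : Ctx 𝒜 := by
      refine ⟨hfam, hO, fun L hL => ?_⟩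
      exact hT _ hL.2.2 (GoldSolid.quasisimple_nonab hL.2)
    have hmem : ∀ x ∈ 𝒜, x ∈ (S : Subgroup X) → x ∈ A := by
      rintro x ⟨g, hg⟩ hx
      have h1 := hs.2 _ hg g⁻¹ (by
        have e : g⁻¹ * (g * x * g⁻¹) * g⁻¹⁻¹ = x := by group
        rw [e]; exact hx)
      have e : g⁻¹ * (g * x * g⁻¹) * g⁻¹⁻¹ = x := by group
      rwa [e] at h1
    have hA𝒜 : ∀ x ∈ A, x ∈ 𝒜 := fun x hx => ⟨1, by simpa using hx⟩
    have hact : Act 𝒜 K := by
      by_contra hn
      apply hKA
      intro l hl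
      rw [mem_centralizer_iff]
      intro k hk
      exact GoldLayer.comm_of_mem_fam hctx.fam hctx.core hK hn k
        (subset_closure ⟨hA𝒜 k hk, mem_top k⟩) l hl
    obtain ⟨b, hb, hbS, hbK, h1⟩ := GoldInner.exists_inner hctx hK hact S a (hA𝒜 a ha) (hs.1 ha)
    have hbA := hmem b hb hbS
    refine ⟨b, ⟨hbA, hbK⟩, b⁻¹ * a, mem_inf.2 ⟨mul_mem (inv_mem hbA) ha, mem_centralizer_iff.2 ?_⟩,
      by group⟩
    intro k hk
    have h2 := h1 k hk
    calc k * (b⁻¹ * a) = b⁻¹ * (b * k * b⁻¹) * a := by group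
      _ = b⁻¹ * (a * k * a⁻¹) * a := by rw [h2]
      _ = b⁻¹ * a * k := by group
  conj L _ _ _ hna S A hA hs hne := by
    have hna' : ∃ a b : L, a * b ≠ b * a := by
      by_contra hcon
      push Not at hcon
      exact hna ⟨⟨hcon⟩⟩
    have hfam := elemFam S hA hs
    have hne' : ∃ x ∈ {x : L | ∃ g : L, g * x * g⁻¹ ∈ A}, x ≠ 1 := by
      by_contra hcon
      push Not at hcon
      apply hne
      rw [eq_bot_iff]
      intro x hx
      rw [mem_bot]
      exact hcon x ⟨1, by simpa using hx⟩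
    have h1 := hT L inferInstance hna' _ hfam hne'
    exact ⟨h1.conj, fun x hx hxx s hs => h1.central S x hx hxx s hs⟩

end Cfsg.Agent.SylowL.GoldOf
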