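import Mathlib

/-!
# The action on `2 × 2` matrices

`P` acts additively on the `2 × 2` matrices over a finite field of characteristic 2, the Sylow 2-subgroup `S` by right
multiplication with upper unitriangular matrices, and the normal closure of `S` preserves `det`. Then the normal closure
of `S` fixes the space of matrices with second row `0`, unless `P` normalises the space of matrices with first
column `0`.
-/

set_option autoImplicit false
set_option linter.unusedSectionVars false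
set_option linter.unusedSimpArgs false
set_option linter.style.haveILetI false

namespace Cfsg.Agent.SylowL.PTwo

open Matrix

section form

variable {F : Type*} [Field F]

/-- the polar form of `det` -/
def B (u w : Matrix (Fin 2) (Fin 2) F) : F := u 0 0 * w 1 1 + w 0 0 * u 1 1 - u 0 1 * w 1 0 - w 0 1 * u 1 0

theorem B_eq (u w : Matrix (Fin 2) (Fin 2) F) : B u w = (u + w).det - u.det - w.det := by
  simp only [B, Matrix.det_fin_two, Matrix.add_apply]
  ring

theorem B_sub (u u' w : Matrix (Fin 2) (Fin 2) F) : B (u - u') w = B u w - B u' w := by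
  simp only [B, Matrix.sub_apply]
  ring

theorem B_smul (c : F) (u w : Matrix (Fin 2) (Fin 2) F) : B (c • u) w = c * B u w := by
  simp only [B, Matrix.smul_apply, smul_eq_mul]
  ring

theorem ext2 {u w : Matrix (Fin 2) (Fin 2) F} (h00 : u 0 0 = w 0 0) (h01 : u 0 1 = w 0 1) (h10 : u 1 0 = w 1 0)
    (h11 : u 1 1 = w 1 1) : u = w := by
  ext i j
  fin_cases i <;> fin_cases j
  · exact h00
  · exact h01
  · exact h10
  · exact h11

theorem eq_zero_of_B {u : Matrix (Fin 2) (Fin 2) F} (h : ∀ w, B u w = 0) : u = 0 := by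
  have h1 := h !![0, 0; 0, 1]
  have h2 := h !![0, 0; 1, 0]
  have h3 := h !![0, 1; 0, 0]
  have h4 := h !![1, 0; 0, 0]
  simp [B] at h1 h2 h3 h4
  exact ext2 (by simpa using h1) (by simpa using h2) (by simpa using h3) (by simpa using h4)

/-- first column `0` -/
def InD (u : Matrix (Fin 2) (Fin 2) F) : Prop := u 0 0 = 0 ∧ u 1 0 = 0

/-- the columns are multiples of `(x0, x1)` -/
def InV (x0 x1 : F) (u : Matrix (Fin 2) (Fin 2) F) : Prop := x0 * u 1 0 = x1 * u 0 0 ∧ x0 * u 1 1 = x1 * u 0 1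

theorem InV.exists_eq {x0 x1 : F} (hx : x0 ≠ 0 ∨ x1 ≠ 0) {u : Matrix (Fin 2) (Fin 2) F} (h : InV x0 x1 u) :
    ∃ p q : F, u = !![x0 * p, x0 * q; x1 * p, x1 * q] := by
  rcases hx with hx | hx
  · refine ⟨u 0 0 / x0, u 0 1 / x0, ext2 ?_ ?_ ?_ ?_⟩
    · simp [mul_div_cancel₀ _ hx]
    · simp [mul_div_cancel₀ _ hx]
    · have := h.1
      simp only [of_apply, cons_val', cons_val_zero, cons_val_one, cons_val_fin_one]
      field_simp
      linear_combination this
    · have := h.2
      simp only [of_apply, cons_val', cons_val_zero, cons_val_one, cons_val_fin_one]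
      field_simp
      linear_combination this
  · refine ⟨u 1 0 / x1, u 1 1 / x1, ext2 ?_ ?_ ?_ ?_⟩
    · have := h.1
      simp only [of_apply, cons_val', cons_val_zero, cons_val_one, cons_val_fin_one]
      field_simp
      linear_combination -this
    · have := h.2
      simp only [of_apply, cons_val', cons_val_zero, cons_val_one, cons_val_fin_one]
      field_simp
      linear_combination -this
    · simp [mul_div_cancel₀ _ hx]
    · simp [mul_div_cancel₀ _ hx]

theorem inV_mk (x0 x1 p q : F) : InV x0 x1 !![x0 * p, x0 * q; x1 * p, x1 * q] := by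
  constructor <;> simp <;> ring

theorem InV.smul_add {x0 x1 a b : F} {u w : Matrix (Fin 2) (Fin 2) F} (h : InV x0 x1 u) (k : InV x0 x1 w) :
    InV x0 x1 (a • u + b • w) := by
  constructor
  · simp only [Matrix.add_apply, Matrix.smul_apply, smul_eq_mul]
    linear_combination a * h.1 + b * k.1
  · simp only [Matrix.add_apply, Matrix.smul_apply, smul_eq_mul]
    linear_combination a * h.2 + b * k.2

theorem InV.of_smul {x0 x1 a : F} (ha : a ≠ 0) {u : Matrix (Fin 2) (Fin 2) F} (h : InV x0 x1 (a • u)) :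
    InV x0 x1 u := by
  constructor
  · have h1 := h.1
    simp only [Matrix.smul_apply, smul_eq_mul] at h1
    apply mul_left_cancel₀ ha
    linear_combination h1
  · have h1 := h.2
    simp only [Matrix.smul_apply, smul_eq_mul] at h1
    apply mul_left_cancel₀ ha
    linear_combination h1

theorem mul_uni (u : Matrix (Fin 2) (Fin 2) F) (t : F) :
    u * !![1, t; 0, 1] = !![u 0 0, t * u 0 0 + u 0 1; u 1 0, t * u 1 0 + u 1 1] := by
  apply ext2 <;> simp [Matrix.mul_apply, Fin.sum_univ_two] <;> ring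

end form

/-- If `S` is a Sylow 2-subgroup contained in `H` and all `h ^ 4`, `h ∈ H` act trivially, then each `h ∈ H` acts as an
element of `S`. -/
theorem exists_sylow_act {P X : Type*} [Group P] [Finite P] [MulAction P X] (S : Sylow 2 P) {H : Subgroup P}
    (hS : (S : Subgroup P) ≤ H) (h4 : ∀ h ∈ H, ∀ x : X, h ^ 4 • x = x) {h : P} (hh : h ∈ H) :
    ∃ s ∈ (S : Subgroup P), ∀ x : X, h • x = s • x := by
  classical
  set K := (MulAction.toPermHom H X).ker with hK
  have hKn : K.Normal := by rw [hK]; infer_instance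
  have memK : ∀ y : H, y ∈ K ↔ ∀ x : X, (y : P) • x = x := by
    intro y
    rw [hK, MonoidHom.mem_ker]
    constructor
    · intro h1 x
      exact congrArg (fun f : Equiv.Perm X => f x) h1
    · intro h1
      ext x
      exact h1 x
  have hp : IsPGroup 2 (H ⧸ K) := by
    intro x
    induction x using QuotientGroup.induction_on with
    | H y =>
      refine ⟨2, ?_⟩
      rw [← QuotientGroup.mk_pow, QuotientGroup.eq_one_iff, memK]
      intro u
      rw [Subgroup.coe_pow]
      exact h4 y y.2 u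
  set SH : Sylow 2 H := S.subtype hS with hSH
  have h2 : ((SH : Subgroup H).map (QuotientGroup.mk' K)) = ⊤ := by
    have h3 := Sylow.not_dvd_index (SH.mapSurjective (QuotientGroup.mk'_surjective K))
    rw [Sylow.coe_mapSurjective] at h3
    have h4 := hp.index ((SH : Subgroup H).map (QuotientGroup.mk' K))
    obtain ⟨n, hn⟩ := h4
    rw [← Subgroup.index_eq_one, hn]
    rcases Nat.eq_zero_or_pos n with h0 | h0
    · rw [h0, pow_zero]
    · exact absurd (by rw [hn]; exact dvd_pow_self 2 h0.ne') h3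
  have h3 : (QuotientGroup.mk' K ⟨h, hh⟩) ∈ ((SH : Subgroup H).map (QuotientGroup.mk' K)) := by
    rw [h2]; exact Subgroup.mem_top _
  obtain ⟨s, hs, hse⟩ := h3
  have hs' : (s : P) ∈ (S : Subgroup P) := hs
  refine ⟨s, hs', fun u => ?_⟩
  rw [QuotientGroup.mk'_apply, QuotientGroup.mk'_apply, QuotientGroup.eq, memK] at hse
  have h5 := hse u
  rw [Subgroup.coe_mul, Subgroup.coe_inv, mul_smul, inv_smul_eq_iff] at h5
  exact h5

variable {P F : Type*} [Group P] [Finite P] [Field F] [Finite F] [CharP F 2]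
  [DistribMulAction P (Matrix (Fin 2) (Fin 2) F)]

/-- the hypotheses -/
structure Ctx (F : Type*) [Field F] [DistribMulAction P (Matrix (Fin 2) (Fin 2) F)] (L : Subgroup P) (S : Sylow 2 P) :
    Prop where
  norm : L.Normal
  le : (S : Subgroup P) ≤ L
  det : ∀ l ∈ L, ∀ u : Matrix (Fin 2) (Fin 2) F, (l • u).det = u.det
  right : ∀ s ∈ (S : Subgroup P), ∃ t : F, ∀ u : Matrix (Fin 2) (Fin 2) F, s • u = u * !![1, t; 0, 1]
  tr : ∃ s ∈ (S : Subgroup P), ∃ t : F, t ≠ 0 ∧ ∀ u : Matrix (Fin 2) (Fin 2) F, s • u = u * !![1, t; 0, 1]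

namespace Ctx

variable {L : Subgroup P} {S : Sylow 2 P} (c : Ctx F L S)
include c

theorem B_smul_smul {l : P} (hl : l ∈ L) (u w : Matrix (Fin 2) (Fin 2) F) : B (l • u) (l • w) = B u w := by
  rw [B_eq, B_eq, ← smul_add, c.det l hl, c.det l hl, c.det l hl]

theorem smul_smul_comm {l : P} (hl : l ∈ L) (a : F) (u : Matrix (Fin 2) (Fin 2) F) : l • (a • u) = a • (l • u) := by
  rw [← sub_eq_zero]
  refine eq_zero_of_B fun w => ?_
  have e : w = l • (l⁻¹ • w) := (smul_inv_smul l w).symm
  rw [e, B_sub, B_smul, c.B_smul_smul hl, c.B_smul_smul hl, B_smul, sub_self]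

theorem smul_comb {l : P} (hl : l ∈ L) (a b : F) (u w : Matrix (Fin 2) (Fin 2) F) :
    l • (a • u + b • w) = a • (l • u) + b • (l • w) := by
  rw [smul_add, c.smul_smul_comm hl, c.smul_smul_comm hl]

theorem fix {s : P} (hs : s ∈ (S : Subgroup P)) {u : Matrix (Fin 2) (Fin 2) F} (hu : InD u) : s • u = u := by
  obtain ⟨t, ht⟩ := c.right s hs
  rw [ht, mul_uni, hu.1, hu.2]
  apply ext2
  · simp [hu.1]
  · simp
  · simp [hu.2]
  · simp

/-- an element of `S` with exactly the fixed points `D` -/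
theorem exists_tr : ∃ s ∈ (S : Subgroup P), ∀ u : Matrix (Fin 2) (Fin 2) F, s • u = u → InD u := by
  obtain ⟨s, hs, t, ht, h⟩ := c.tr
  refine ⟨s, hs, fun u hu => ?_⟩
  rw [h, mul_uni] at hu
  have h1 := congrFun (congrFun hu 0) 1
  have h2 := congrFun (congrFun hu 1) 1
  simp only [of_apply, cons_val', cons_val_zero, cons_val_one, cons_val_fin_one, add_eq_right,
    mul_eq_zero] at h1 h2
  exact ⟨h1.resolve_left ht, h2.resolve_left ht⟩

/-- the group of the "transvections" with centre `v` -/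
def tv (L : Subgroup P) (hlin : ∀ l ∈ L, ∀ (a : F) (u : Matrix (Fin 2) (Fin 2) F), l • (a • u) = a • (l • u))
    (v : Matrix (Fin 2) (Fin 2) F) : Subgroup P where
  carrier := {h | h ∈ L ∧ h • v = v ∧ ∀ w, B w v = 0 → ∃ a : F, h • w = w + a • v}
  one_mem' := ⟨one_mem _, one_smul _ _, fun w _ => ⟨0, by rw [one_smul, zero_smul, add_zero]⟩⟩
  mul_mem' := by
    rintro h k ⟨hL, hv, hw⟩ ⟨kL, kv, kw⟩
    refine ⟨mul_mem hL kL, by rw [mul_smul, kv, hv], fun w hB => ?_⟩
    obtain ⟨a, ha⟩ := kw w hB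
    obtain ⟨b, hb⟩ := hw w hB
    refine ⟨a + b, ?_⟩
    rw [mul_smul, ha, smul_add, hlin h hL, hv, hb, add_smul]
    abel
  inv_mem' := by
    rintro h ⟨hL, hv, hw⟩
    have hv' : h⁻¹ • v = v := by rw [inv_smul_eq_iff, hv]
    refine ⟨inv_mem hL, hv', fun w hB => ?_⟩
    obtain ⟨a, ha⟩ := hw w hB
    refine ⟨-a, ?_⟩
    have h1 : h⁻¹ • (h • w) = h⁻¹ • w + a • v := by
      rw [ha, smul_add, hlin h⁻¹ (inv_mem hL), hv']
    rw [inv_smul_smul] at h1
    rw [neg_smul, ← sub_eq_add_neg]
    exact eq_sub_of_add_eq h1.symm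

theorem B_add_left (u u' w : Matrix (Fin 2) (Fin 2) F) : B (u + u') w = B u w + B u' w := by
  simp only [B, Matrix.add_apply]
  ring

theorem pow_four {v : Matrix (Fin 2) (Fin 2) F} {h : P} (hh : h ∈ tv L (fun _ hl => c.smul_smul_comm hl) v)
    (u : Matrix (Fin 2) (Fin 2) F) : h ^ 4 • u = u := by
  obtain ⟨hL, hv, hw⟩ := hh
  have two : ∀ w : Matrix (Fin 2) (Fin 2) F, w + w = 0 := by
    intro w
    have : (2 : F) = 0 := CharTwo.two_eq_zero
    rw [← two_smul F, this, zero_smul]
  have sq : ∀ u : Matrix (Fin 2) (Fin 2) F, ∃ a : F, h • (h • u) = u + a • v := by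
    intro u
    have h1 : B (h • u - u) v = 0 := by
      rw [B_sub]
      have := c.B_smul_smul hL u v
      rw [hv] at this
      rw [this, sub_self]
    obtain ⟨a, ha⟩ := hw _ h1
    refine ⟨a, ?_⟩
    rw [smul_sub] at ha
    have h2 := sub_eq_iff_eq_add.1 ha
    have h3 : -u = u := by
      rw [neg_eq_iff_add_eq_zero]
      exact two u
    rw [h2]
    have e1 : h • u - u + a • v + h • u = (h • u + h • u) + (-u) + a • v := by abel
    rw [e1, two, zero_add, h3]
  have e : h ^ 4 = h * (h * (h * h)) := by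
    rw [pow_succ, pow_succ, pow_succ, pow_one, mul_assoc, mul_assoc]
  rw [e, mul_smul, mul_smul, mul_smul]
  obtain ⟨b, hb⟩ := sq u
  have : h • h • (u + b • v) = u := by
    rw [smul_add, smul_add, c.smul_smul_comm hL, hv, c.smul_smul_comm hL, hv, hb, add_assoc, two, add_zero]
  rw [hb]
  exact this

theorem le_tv {v : Matrix (Fin 2) (Fin 2) F} (hv : InD v) (hv0 : v ≠ 0) :
    (S : Subgroup P) ≤ tv L (fun _ hl => c.smul_smul_comm hl) v := by
  intro s hs
  refine ⟨c.le hs, c.fix hs hv, fun w hw => ?_⟩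
  obtain ⟨t, ht⟩ := c.right s hs
  have h1 : v 0 1 ≠ 0 ∨ v 1 1 ≠ 0 := by
    by_contra h
    push Not at h
    exact hv0 (ext2 hv.1 h.1 hv.2 h.2)
  have h2 : w 0 0 * v 1 1 = v 0 1 * w 1 0 := by
    rw [B, hv.1, hv.2] at hw
    linear_combination hw
  rw [ht, mul_uni]
  rcases h1 with h1 | h1
  · refine ⟨t * w 0 0 / v 0 1, ?_⟩
    apply ext2
    · simp [hv.1]
    · simp only [of_apply, cons_val', cons_val_zero, cons_val_one, cons_val_fin_one, Matrix.add_apply,
        Matrix.smul_apply, smul_eq_mul]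
      field_simp
      ring
    · simp [hv.2]
    · simp only [of_apply, cons_val', cons_val_zero, cons_val_one, cons_val_fin_one, Matrix.add_apply,
        Matrix.smul_apply, smul_eq_mul]
      field_simp
      linear_combination -t * h2
  · refine ⟨t * w 1 0 / v 1 1, ?_⟩
    apply ext2
    · simp [hv.1]
    · simp only [of_apply, cons_val', cons_val_zero, cons_val_one, cons_val_fin_one, Matrix.add_apply,
        Matrix.smul_apply, smul_eq_mul]
      field_simp
      linear_combination t * h2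
    · simp [hv.2]
    · simp only [of_apply, cons_val', cons_val_zero, cons_val_one, cons_val_fin_one, Matrix.add_apply,
        Matrix.smul_apply, smul_eq_mul]
      field_simp
      ring

/-- (2) -/
theorem inD_inv_smul {l : P} (hl : l ∈ L) {v : Matrix (Fin 2) (Fin 2) F} (hv0 : v ≠ 0) (hv : InD v)
    (hv' : InD (l⁻¹ • v)) {u : Matrix (Fin 2) (Fin 2) F} (hu : InD u) : InD (l⁻¹ • u) := by
  have hlin : ∀ l ∈ L, ∀ (a : F) (u : Matrix (Fin 2) (Fin 2) F), l • (a • u) = a • (l • u) :=
    fun _ hl => c.smul_smul_comm hl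
  obtain ⟨s, hs, hsf⟩ := c.exists_tr
  have hl' := inv_mem hl
  have hlv0 : l⁻¹ • v ≠ 0 := by
    intro h
    apply hv0
    rw [inv_smul_eq_iff, smul_zero] at h
    exact h
  have hmem : l * s * l⁻¹ ∈ tv L hlin v := by
    have h1 := c.le_tv hv' hlv0 hs
    refine ⟨mul_mem (mul_mem hl (c.le hs)) hl', ?_, fun w hw => ?_⟩
    · rw [mul_smul, mul_smul, c.fix hs hv', smul_inv_smul]
    · obtain ⟨a, ha⟩ := h1.2.2 (l⁻¹ • w) (by rw [c.B_smul_smul hl', hw])
      refine ⟨a, ?_⟩
      rw [mul_smul, mul_smul, ha, smul_add, smul_inv_smul, hlin l hl, smul_inv_smul]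
  obtain ⟨s', hs', hss⟩ := exists_sylow_act (X := Matrix (Fin 2) (Fin 2) F) S (c.le_tv hv hv0)
    (fun h hh x => c.pow_four hh x) hmem
  have h2 : (l * s * l⁻¹) • u = u := by rw [hss, c.fix hs' hu]
  apply hsf
  rw [mul_smul, mul_smul, ← eq_inv_smul_iff] at h2
  exact h2

theorem inD_smul {l : P} (hl : l ∈ L) {v : Matrix (Fin 2) (Fin 2) F} (hv0 : v ≠ 0) (hv : InD v)
    (hv' : InD (l⁻¹ • v)) {u : Matrix (Fin 2) (Fin 2) F} (hu : InD u) : InD (l • u) := by
  have h1 := c.inD_inv_smul (inv_mem hl) (v := l⁻¹ • v) (fun h => hv0 (by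
    rw [inv_smul_eq_iff, smul_zero] at h
    exact h)) hv' (by rw [inv_inv, smul_inv_smul]; exact hv) hu
  rwa [inv_inv] at h1

omit [DistribMulAction P (Matrix (Fin 2) (Fin 2) F)] c in
theorem inD_mk (b d : F) : InD !![0, b; 0, d] := ⟨rfl, rfl⟩

/-- (3): `l D = D` or `l D = D_x` for some `x`. -/
theorem dich {l : P} (hl : l ∈ L) :
    ((∀ u : Matrix (Fin 2) (Fin 2) F, InD u → InD (l • u)) ∧ ∀ u : Matrix (Fin 2) (Fin 2) F, InD u → InD (l⁻¹ • u)) ∨
    ∃ x : F, (∀ u : Matrix (Fin 2) (Fin 2) F, InD u →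
        (l • u) 0 1 = x * (l • u) 0 0 ∧ (l • u) 1 1 = x * (l • u) 1 0) ∧
      ∀ a d : F, InD (l⁻¹ • !![a, x * a; d, x * d]) := by
  by_cases hex : ∃ v : Matrix (Fin 2) (Fin 2) F, v ≠ 0 ∧ InD v ∧ InD (l⁻¹ • v)
  · left
    obtain ⟨v, hv0, hv, hv'⟩ := hex
    exact ⟨fun u hu => c.inD_smul hl hv0 hv hv' hu, fun u hu => c.inD_inv_smul hl hv0 hv hv' hu⟩
  · right
    push Not at hex
    let φ : F × F → F × F := fun p => ((l • !![0, p.1; 0, p.2]) 0 0, (l • !![0, p.1; 0, p.2]) 1 0)
    have hφ : Function.Injective φ := by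
      rintro ⟨b, d⟩ ⟨b', d'⟩ h
      have h1 : (l • !![0, b; 0, d]) 0 0 = (l • !![0, b'; 0, d']) 0 0 := congrArg Prod.fst h
      have h2 : (l • !![0, b; 0, d]) 1 0 = (l • !![0, b'; 0, d']) 1 0 := congrArg Prod.snd h
      have h3 : InD (l • !![0, b; 0, d] - l • !![0, b'; 0, d']) :=
        ⟨by rw [Matrix.sub_apply, h1, sub_self], by rw [Matrix.sub_apply, h2, sub_self]⟩
      have h4 : InD (l⁻¹ • (l • !![0, b; 0, d] - l • !![0, b'; 0, d'])) := by
        rw [smul_sub, inv_smul_smul, inv_smul_smul]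
        exact ⟨by simp, by simp⟩
      have h5 : l • !![0, b; 0, d] - l • !![0, b'; 0, d'] = 0 := by
        by_contra h0
        exact hex _ h0 h3 h4
      rw [sub_eq_zero] at h5
      have h6 := smul_left_cancel l h5
      have h7 := congrFun (congrFun h6 0) 1
      have h8 := congrFun (congrFun h6 1) 1
      simp at h7 h8
      rw [h7, h8]
    have hφs : Function.Surjective φ := Finite.surjective_of_injective hφ
    obtain ⟨⟨b1, d1⟩, h1⟩ := hφs (1, 0)
    obtain ⟨⟨b2, d2⟩, h2⟩ := hφs (0, 1)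
    have h11 : (l • !![0, b1; 0, d1]) 0 0 = 1 := congrArg Prod.fst h1
    have h12 : (l • !![0, b1; 0, d1]) 1 0 = 0 := congrArg Prod.snd h1
    have h21 : (l • !![0, b2; 0, d2]) 0 0 = 0 := congrArg Prod.fst h2
    have h22 : (l • !![0, b2; 0, d2]) 1 0 = 1 := congrArg Prod.snd h2
    have hdet : ∀ u : Matrix (Fin 2) (Fin 2) F, InD u → (l • u).det = 0 := by
      intro u hu
      rw [c.det l hl, Matrix.det_fin_two, hu.1, hu.2]
      ring
    set m1 := l • !![0, b1; 0, d1] with hm1
    set m2 := l • !![0, b2; 0, d2] with hm2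
    have e1 : m1 1 1 = 0 := by
      have := hdet _ (inD_mk b1 d1)
      rw [← hm1, Matrix.det_fin_two, h11, h12] at this
      linear_combination this
    have e2 : m2 0 1 = 0 := by
      have := hdet _ (inD_mk b2 d2)
      rw [← hm2, Matrix.det_fin_two, h21, h22] at this
      linear_combination -this
    have e3 : m2 1 1 = m1 0 1 := by
      have := hdet (!![0, b1; 0, d1] + !![0, b2; 0, d2]) ⟨by simp, by simp⟩
      rw [smul_add, ← hm1, ← hm2, Matrix.det_fin_two] at this
      simp only [Matrix.add_apply, h11, h12, h21, h22, e1, e2] at this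
      linear_combination this
    have key : ∀ a d : F, l • (a • !![0, b1; 0, d1] + d • !![0, b2; 0, d2]) =
        !![a, m1 0 1 * a; d, m1 0 1 * d] := by
      intro a d
      rw [c.smul_comb hl, ← hm1, ← hm2]
      apply ext2
      · simp [h11, h21]
      · simp only [Matrix.add_apply, Matrix.smul_apply, smul_eq_mul, e2, of_apply, cons_val', cons_val_zero,
          cons_val_one, cons_val_fin_one]
        ring
      · simp [h12, h22]
      · simp only [Matrix.add_apply, Matrix.smul_apply, smul_eq_mul, e1, e3, of_apply, cons_val',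
          cons_val_one, cons_val_fin_one]
        ring
    have hD : ∀ a d : F, InD (a • !![0, b1; 0, d1] + d • !![0, b2; 0, d2]) := fun a d => ⟨by simp, by simp⟩
    refine ⟨m1 0 1, fun u hu => ?_, fun a d => ?_⟩
    · set a := (l • u) 0 0 with ha
      set d := (l • u) 1 0 with hd
      have hu' : u = a • !![0, b1; 0, d1] + d • !![0, b2; 0, d2] := by
        have h0 : InD (l • u - l • (a • !![0, b1; 0, d1] + d • !![0, b2; 0, d2])) := by
          rw [key]
          exact ⟨by rw [Matrix.sub_apply, ← ha]; simp, by rw [Matrix.sub_apply, ← hd]; simp⟩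
        have h3 : InD (l⁻¹ • (l • u - l • (a • !![0, b1; 0, d1] + d • !![0, b2; 0, d2]))) := by
          rw [smul_sub, inv_smul_smul, inv_smul_smul]
          exact ⟨by rw [Matrix.sub_apply, hu.1, (hD a d).1, sub_zero],
            by rw [Matrix.sub_apply, hu.2, (hD a d).2, sub_zero]⟩
        have h5 : l • u - l • (a • !![0, b1; 0, d1] + d • !![0, b2; 0, d2]) = 0 := by
          by_contra h
          exact hex _ h h0 h3
        rw [sub_eq_zero] at h5
        exact smul_left_cancel l h5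
      have h3 : l • u = !![a, m1 0 1 * a; d, m1 0 1 * d] := by
        conv_lhs => rw [hu']
        exact key a d
      rw [h3]
      exact ⟨by simp, by simp⟩
    · rw [← key, inv_smul_smul]
      exact hD a d

/-- every line of the second kind meets `l⁻¹ D` -/
theorem exists_inV {l : P} (hl : l ∈ L) {x0 x1 : F} (hx : x0 ≠ 0 ∨ x1 ≠ 0) :
    ∃ v : Matrix (Fin 2) (Fin 2) F, InV x0 x1 v ∧ v ≠ 0 ∧ InD (l • v) := by
  rcases c.dich (inv_mem hl) with ⟨-, h⟩ | ⟨x, -, h⟩
  · refine ⟨!![0, x0; 0, x1], ?_, ?_, ?_⟩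
    · constructor
      · simp
      · simp [mul_comm]
    · intro h0
      have h1 := congrFun (congrFun h0 0) 1
      have h2 := congrFun (congrFun h0 1) 1
      simp at h1 h2
      rcases hx with hx | hx
      · exact hx h1
      · exact hx h2
    · have := h _ (inD_mk x0 x1)
      rwa [inv_inv] at this
  · refine ⟨!![x0, x * x0; x1, x * x1], ?_, ?_, ?_⟩
    · constructor
      · simp [mul_comm]
      · simp only [of_apply, cons_val', cons_val_zero, cons_val_one, cons_val_fin_one]
        ring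
    · intro h0
      have h1 := congrFun (congrFun h0 0) 0
      have h2 := congrFun (congrFun h0 1) 0
      simp at h1 h2
      rcases hx with hx | hx
      · exact hx h1
      · exact hx h2
    · have := h x0 x1
      rwa [inv_inv] at this

/-- (4) `L` permutes the `V_x`. -/
theorem perm {l0 : P} (hl0 : l0 ∈ L) {u0 : Matrix (Fin 2) (Fin 2) F} (hu0 : InD u0) (hu0' : ¬ InD (l0 • u0))
    {l : P} (hl : l ∈ L) {x0 x1 : F} (hx : x0 ≠ 0 ∨ x1 ≠ 0) :
    ∃ y0 y1 : F, (y0 ≠ 0 ∨ y1 ≠ 0) ∧ ∀ u : Matrix (Fin 2) (Fin 2) F, InV x0 x1 u → InV y0 y1 (l • u) := by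
  obtain ⟨v0, hv0, hv00, hlv0⟩ := c.exists_inV hl hx
  obtain ⟨v1, hv1, hv10, hlv1⟩ := c.exists_inV (mul_mem (inv_mem hl0) hl) hx
  obtain ⟨y, hy⟩ : ∃ y : F, (l • v1) 0 1 = y * (l • v1) 0 0 ∧ (l • v1) 1 1 = y * (l • v1) 1 0 := by
    rcases c.dich hl0 with ⟨h, -⟩ | ⟨y, h, -⟩
    · exact absurd (h u0 hu0) hu0'
    · refine ⟨y, ?_⟩
      have := h _ hlv1
      rwa [mul_smul, smul_inv_smul] at this
  have hl0' : l • v0 ≠ 0 := fun h => hv00 (smul_left_cancel l (by rw [h, smul_zero]))
  have hl1' : l • v1 ≠ 0 := fun h => hv10 (smul_left_cancel l (by rw [h, smul_zero]))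
  obtain ⟨p0, q0, e0⟩ := hv0.exists_eq hx
  obtain ⟨p1, q1, e1⟩ := hv1.exists_eq hx
  have ne0 : (l • v0) 0 1 ≠ 0 ∨ (l • v0) 1 1 ≠ 0 := by
    by_contra h
    push Not at h
    exact hl0' (ext2 hlv0.1 h.1 hlv0.2 h.2)
  have ne1 : (l • v1) 0 0 ≠ 0 ∨ (l • v1) 1 0 ≠ 0 := by
    by_contra h
    push Not at h
    refine hl1' (ext2 h.1 ?_ h.2 ?_)
    · rw [hy.1, h.1, mul_zero]; rfl
    · rw [hy.2, h.2, mul_zero]; rfl
  have hB : B (l • v0) (l • v1) = 0 := by
    rw [c.B_smul_smul hl, e0, e1]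
    simp only [B, of_apply, cons_val', cons_val_zero, cons_val_one, cons_val_fin_one]
    ring
  rw [B, hlv0.1, hlv0.2, hy.1, hy.2] at hB
  set b0 := (l • v0) 0 1 with hb0
  set d0 := (l • v0) 1 1 with hd0
  set a1 := (l • v1) 0 0 with ha1
  set d1 := (l • v1) 1 0 with hd1
  have w0 : InV b0 d0 (l • v0) := ⟨by rw [hlv0.1, hlv0.2, mul_zero, mul_zero], by rw [← hb0, ← hd0]; ring⟩
  have w1 : InV b0 d0 (l • v1) := by
    constructor
    · rw [← ha1, ← hd1]
      linear_combination -hB
    · rw [hy.1, hy.2]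
      linear_combination -y * hB
  have hδ : p0 * q1 - q0 * p1 ≠ 0 := by
    intro h0
    have f1 : p1 • v0 + (-p0) • v1 = 0 := by
      rw [e0, e1]
      apply ext2
      · simp only [Matrix.add_apply, Matrix.smul_apply, smul_eq_mul, of_apply, cons_val', cons_val_zero,
          cons_val_fin_one, Matrix.zero_apply]
        ring
      · simp only [Matrix.add_apply, Matrix.smul_apply, smul_eq_mul, of_apply, cons_val', cons_val_zero,
          cons_val_one, cons_val_fin_one, Matrix.zero_apply]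
        linear_combination -x0 * h0
      · simp only [Matrix.add_apply, Matrix.smul_apply, smul_eq_mul, of_apply, cons_val', cons_val_zero,
          cons_val_one, cons_val_fin_one, Matrix.zero_apply]
        ring
      · simp only [Matrix.add_apply, Matrix.smul_apply, smul_eq_mul, of_apply, cons_val',
          cons_val_one, cons_val_fin_one, Matrix.zero_apply]
        linear_combination -x1 * h0
    have f2 : q1 • v0 + (-q0) • v1 = 0 := by
      rw [e0, e1]
      apply ext2
      · simp only [Matrix.add_apply, Matrix.smul_apply, smul_eq_mul, of_apply, cons_val', cons_val_zero,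
          cons_val_fin_one, Matrix.zero_apply]
        linear_combination x0 * h0
      · simp only [Matrix.add_apply, Matrix.smul_apply, smul_eq_mul, of_apply, cons_val', cons_val_zero,
          cons_val_one, cons_val_fin_one, Matrix.zero_apply]
        ring
      · simp only [Matrix.add_apply, Matrix.smul_apply, smul_eq_mul, of_apply, cons_val', cons_val_zero,
          cons_val_one, cons_val_fin_one, Matrix.zero_apply]
        linear_combination x1 * h0
      · simp only [Matrix.add_apply, Matrix.smul_apply, smul_eq_mul, of_apply, cons_val',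
          cons_val_one, cons_val_fin_one, Matrix.zero_apply]
        ring
    have g : ∀ a b : F, a • v0 + (-b) • v1 = 0 → b = 0 := by
      intro a b h
      have h1 : a • (l • v0) + (-b) • (l • v1) = 0 := by
        rw [← c.smul_comb hl, h, smul_zero]
      have h2 := congrFun (congrFun h1 0) 0
      have h3 := congrFun (congrFun h1 1) 0
      simp only [Matrix.add_apply, Matrix.smul_apply, smul_eq_mul, hlv0.1, hlv0.2, Matrix.zero_apply, mul_zero,
        zero_add, ← ha1, ← hd1, mul_eq_zero, neg_eq_zero] at h2 h3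
      rcases ne1 with h4 | h4
      · exact h2.resolve_right h4
      · exact h3.resolve_right h4
    have hp := g _ _ f1
    have hq := g _ _ f2
    apply hv00
    rw [e0, hp, hq]
    apply ext2 <;> simp
  refine ⟨b0, d0, ne0, fun u hu => ?_⟩
  obtain ⟨p, q, e⟩ := hu.exists_eq hx
  apply InV.of_smul hδ
  have h1 : (p0 * q1 - q0 * p1) • u = (p * q1 - q * p1) • v0 + (p0 * q - q0 * p) • v1 := by
    rw [e, e0, e1]
    apply ext2
    · simp only [Matrix.add_apply, Matrix.smul_apply, smul_eq_mul, of_apply, cons_val', cons_val_zero,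
        cons_val_fin_one]
      ring
    · simp only [Matrix.add_apply, Matrix.smul_apply, smul_eq_mul, of_apply, cons_val', cons_val_zero,
        cons_val_one, cons_val_fin_one]
      ring
    · simp only [Matrix.add_apply, Matrix.smul_apply, smul_eq_mul, of_apply, cons_val', cons_val_zero,
        cons_val_one, cons_val_fin_one]
      ring
    · simp only [Matrix.add_apply, Matrix.smul_apply, smul_eq_mul, of_apply, cons_val',
        cons_val_one, cons_val_fin_one]
      ring
  rw [← c.smul_smul_comm hl, h1, c.smul_comb hl]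
  exact w0.smul_add w1

theorem right_inV {s : P} (hs : s ∈ (S : Subgroup P)) {x0 x1 : F} {u : Matrix (Fin 2) (Fin 2) F}
    (hu : InV x0 x1 u) : InV x0 x1 (s • u) := by
  obtain ⟨t, ht⟩ := c.right s hs
  rw [ht, mul_uni]
  constructor
  · simpa using hu.1
  · have h1 := hu.1
    have h2 := hu.2
    simp only [of_apply, cons_val', cons_val_zero, cons_val_one, cons_val_fin_one]
    linear_combination t * h1 + h2

/-- (5) -/
theorem conj_inV {l0 : P} (hl0 : l0 ∈ L) {u0 : Matrix (Fin 2) (Fin 2) F} (hu0 : InD u0) (hu0' : ¬ InD (l0 • u0))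
    {l s : P} (hl : l ∈ L) (hs : s ∈ (S : Subgroup P)) {u : Matrix (Fin 2) (Fin 2) F} (hu : InV 1 0 u) :
    InV 1 0 ((l * s * l⁻¹) • u) := by
  obtain ⟨y0, y1, hy, h1⟩ := c.perm hl0 hu0 hu0' (inv_mem hl) (x0 := 1) (x1 := 0) (Or.inl one_ne_zero)
  obtain ⟨z0, z1, hz, h2⟩ := c.perm hl0 hu0 hu0' hl hy
  have h3 : ∀ w : Matrix (Fin 2) (Fin 2) F, InV 1 0 w → InV z0 z1 w := by
    intro w hw
    have := h2 _ (h1 w hw)
    rwa [smul_inv_smul] at this
  have h4 : z1 = 0 := by
    have := h3 !![1, 0; 0, 0] ⟨by simp, by simp⟩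
    have := this.1
    simp at this
    exact this.symm
  have h5 : z0 ≠ 0 := by
    rcases hz with h | h
    · exact h
    · exact absurd h4 h
  have h6 : ∀ w : Matrix (Fin 2) (Fin 2) F, InV z0 z1 w → InV 1 0 w := by
    intro w hw
    obtain ⟨ha, hb⟩ := hw
    rw [h4, zero_mul, mul_eq_zero] at ha hb
    exact ⟨by rw [ha.resolve_left h5]; ring, by rw [hb.resolve_left h5]; ring⟩
  rw [mul_smul, mul_smul]
  exact h6 _ (h2 _ (c.right_inV hs (h1 u hu)))

end Ctx

/-- **(P2)** -/
theorem smul_row_eq_zero (S : Sylow 2 P)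
    (hdet : ∀ l ∈ Subgroup.normalClosure ((S : Subgroup P) : Set P), ∀ u : Matrix (Fin 2) (Fin 2) F,
      (l • u).det = u.det)
    (hS : ∀ s ∈ (S : Subgroup P), ∃ t : F, ∀ u : Matrix (Fin 2) (Fin 2) F, s • u = u * !![1, t; 0, 1])
    (hT : ∃ s ∈ (S : Subgroup P), ∃ t : F, t ≠ 0 ∧ ∀ u : Matrix (Fin 2) (Fin 2) F, s • u = u * !![1, t; 0, 1])
    (hmove : ∃ g : P, ∃ u : Matrix (Fin 2) (Fin 2) F, u 0 0 = 0 ∧ u 1 0 = 0 ∧
      ¬ ((g • u) 0 0 = 0 ∧ (g • u) 1 0 = 0)) :
    ∀ l ∈ Subgroup.normalClosure ((S : Subgroup P) : Set P), ∀ u : Matrix (Fin 2) (Fin 2) F,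
      u 1 0 = 0 → u 1 1 = 0 → (l • u) 1 0 = 0 ∧ (l • u) 1 1 = 0 := by
  set L := Subgroup.normalClosure ((S : Subgroup P) : Set P) with hL
  have hSL : (S : Subgroup P) ≤ L := Subgroup.subset_normalClosure
  have hLn : L.Normal := Subgroup.normalClosure_normal
  have c : Ctx F L S := ⟨hLn, hSL, hdet, hS, hT⟩
  obtain ⟨s, hs, hsf⟩ := c.exists_tr
  -- Frattini
  have hfr : ∀ g : P, ∃ l ∈ L, ∃ n ∈ Subgroup.normalizer ((S : Subgroup P) : Set P), g = l * n := by
    intro g
    have h1 : g ∈ L ⊔ Subgroup.normalizer ((S : Subgroup P) : Set P) := by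
      have h0 : Subgroup.normalizer ((S : Subgroup P) : Set P) ⊔ L = ⊤ := Sylow.normalizer_sup_eq_top' S hSL
      rw [sup_comm, h0]
      exact Subgroup.mem_top g
    rw [← SetLike.mem_coe, Subgroup.normal_mul, Set.mem_mul] at h1
    obtain ⟨l, hl, n, hn, rfl⟩ := h1
    exact ⟨l, hl, n, hn, rfl⟩
  have hnD : ∀ n ∈ Subgroup.normalizer ((S : Subgroup P) : Set P), ∀ u : Matrix (Fin 2) (Fin 2) F, InD u →
      InD (n • u) := by
    intro n hn u hu
    apply hsf
    have h1 : n⁻¹ * s * n ∈ (S : Subgroup P) := by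
      have := (Subgroup.mem_normalizer_iff.1 (inv_mem hn) s).1 hs
      rwa [inv_inv] at this
    have h2 := c.fix h1 hu
    rw [mul_smul, mul_smul, inv_smul_eq_iff] at h2
    exact h2
  obtain ⟨g, u, hu0, hu1, hgu⟩ := hmove
  obtain ⟨l0, hl0, n0, hn0, rfl⟩ := hfr g
  rw [mul_smul] at hgu
  have hu0 : InD (n0 • u) := hnD n0 hn0 u ⟨hu0, hu1⟩
  let W : Subgroup P :=
    { carrier := {g | (∀ u : Matrix (Fin 2) (Fin 2) F, InV 1 0 u → InV 1 0 (g • u)) ∧
        ∀ u : Matrix (Fin 2) (Fin 2) F, InV 1 0 u → InV 1 0 (g⁻¹ • u)}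
      one_mem' := ⟨fun u hu => by rwa [one_smul], fun u hu => by rwa [inv_one, one_smul]⟩
      mul_mem' := by
        rintro a b ⟨ha, ha'⟩ ⟨hb, hb'⟩
        exact ⟨fun u hu => by rw [mul_smul]; exact ha _ (hb _ hu),
          fun u hu => by rw [_root_.mul_inv_rev, mul_smul]; exact hb' _ (ha' _ hu)⟩
      inv_mem' := by
        rintro a ⟨ha, ha'⟩
        exact ⟨ha', fun u hu => by rw [inv_inv]; exact ha _ hu⟩ }
  have hLW : L ≤ W := by
    rw [hL, Subgroup.normalClosure, Subgroup.closure_le]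
    intro x hx
    rw [Group.mem_conjugatesOfSet_iff] at hx
    obtain ⟨s', hs', hc⟩ := hx
    obtain ⟨g, hg⟩ := isConj_iff.1 hc
    obtain ⟨l, hl, n, hn, rfl⟩ := hfr g
    have h1 : n * s' * n⁻¹ ∈ (S : Subgroup P) := (Subgroup.mem_normalizer_iff.1 hn s').1 hs'
    have h2 : x = l * (n * s' * n⁻¹) * l⁻¹ := by rw [← hg]; group
    have h3 : x⁻¹ = l * (n * s' * n⁻¹)⁻¹ * l⁻¹ := by rw [h2]; group
    refine ⟨fun u hu => ?_, fun u hu => ?_⟩
    · rw [h2]
      exact c.conj_inV hl0 hu0 hgu hl h1 hu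
    · rw [h3]
      exact c.conj_inV hl0 hu0 hgu hl (inv_mem h1) hu
  intro l hl u h0 h1
  have := (hLW hl).1 u ⟨by rw [h0]; ring, by rw [h1]; ring⟩
  obtain ⟨ha, hb⟩ := this
  rw [one_mul, zero_mul] at ha hb
  exact ⟨ha, hb⟩

end Cfsg.Agent.SylowL.PTwo
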