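import Cfsg.Agent.SylowL.RectInv
import Cfsg.Agent.SylowL.PTwo

/-!
# `N_G(Q 2)` normalises the first row
-/

set_option autoImplicit false
set_option linter.unusedSectionVars false
set_option linter.unusedVariables false
set_option linter.unusedSimpArgs false
set_option linter.style.haveILetI false

open scoped Pointwise

namespace Cfsg.Agent.SylowL.PTwoApp

open Matrix
open Cfsg.Agent.SylowL.Lev Cfsg.Agent.SylowL.UT Cfsg.Agent.SylowL.Pat Cfsg.Agent.SylowL.Series
open Cfsg.Agent.SylowL.Rect Cfsg.Agent.SylowL.NatSec Cfsg.Agent.SylowL.PSec Cfsg.Agent.SylowL.Inv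
open Cfsg.Agent.SylowL.SecAct Cfsg.Agent.SylowL.EssAct
open Cfsg.Agent.Lib.EssentialFusion Cfsg.Agent.Lib.GoldschmidtFusion
open Subgroup

variable {m : ℕ} {F : Type*} [Field F]

local macro "po" : tactic => `(tactic| ((try simp only [Qd, Rd, true_and, and_true, true_or,
  or_true, false_and, and_false, false_or, or_false, not_true_eq_false, not_false_eq_true] at *)
  <;> omega))

/-- The positions `(0, ≥ 1)`, `(1, m - 1)`, `(2, m - 1)`. -/
def Od (m : ℕ) : ℕ → ℕ → Prop := fun i j => Rd 1 1 i j ∨ Rd 3 (m - 1) i j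

/-- The positions `(0, ≥ 2)`, `(1, m - 1)`. -/
def Dd (m : ℕ) : ℕ → ℕ → Prop := fun i j => Rd 1 2 i j ∨ Rd 2 (m - 1) i j

theorem isUR_O (hm : 4 ≤ m) : IsUR m (Od m) := isUR_or (isUR_R m le_rfl) (isUR_R m (by omega))

theorem isUR_D (hm : 4 ≤ m) : IsUR m (Dd m) :=
  isUR_or (isUR_R m (by omega)) (isUR_R m (by omega))

theorem isUR_Psi (hm : 4 ≤ m) : IsUR m (Rd 1 3) := isUR_R m (by omega)

/-- Indices. -/
abbrev i0 (hm : 4 ≤ m) : Fin m := ⟨0, by omega⟩
abbrev i1 (hm : 4 ≤ m) : Fin m := ⟨1, by omega⟩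
abbrev i2 (hm : 4 ≤ m) : Fin m := ⟨2, by omega⟩
abbrev il (hm : 4 ≤ m) : Fin m := ⟨m - 1, by omega⟩

section Coord

variable (hm : 4 ≤ m)

/-- The coordinates of an element of `X Od`. -/
def cm (g : UT m F) : Matrix (Fin 2) (Fin 2) F :=
  !![N g (i0 hm) (i1 hm), N g (i0 hm) (i2 hm); N g (i2 hm) (il hm), N g (i1 hm) (il hm)]

theorem entry_zero {D : ℕ → ℕ → Prop} {h : IsUR m D} {g : UT m F} (hg : g ∈ X F h) {i j : Fin m}
    (hij : ¬ D i j) : N g i j = 0 := by
  by_contra h1
  exact hij (hg i j h1)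

theorem diag_zero (g : UT m F) {i j : Fin m} (hij : (j : ℕ) ≤ i) : N g i j = 0 :=
  Lev.apply_eq_zero (N_mem g) (by omega)

/-- Products vanish. -/
theorem mul_entry_zero {A B : Matrix (Fin m) (Fin m) F} {i j : Fin m}
    (h : ∀ t : Fin m, A i t ≠ 0 → B t j = 0) : (A * B) i j = 0 := by
  rw [Matrix.mul_apply]
  refine Finset.sum_eq_zero fun t _ => ?_
  by_cases h1 : A i t = 0
  · rw [h1, zero_mul]
  · rw [h t h1, mul_zero]

theorem mul_entry_one {A B : Matrix (Fin m) (Fin m) F} {i j : Fin m} (t0 : Fin m)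
    (h : ∀ t : Fin m, t ≠ t0 → A i t ≠ 0 → B t j = 0) : (A * B) i j = A i t0 * B t0 j := by
  rw [Matrix.mul_apply, Finset.sum_eq_single t0]
  · intro t _ ht
    by_cases h1 : A i t = 0
    · rw [h1, zero_mul]
    · rw [h t ht h1, mul_zero]
  · intro h1
    exact absurd (Finset.mem_univ _) h1

theorem notO {i j : Fin m} (hi : 1 ≤ (i : ℕ)) (hj : (j : ℕ) + 1 < m) : ¬ Od m i j := by
  unfold Od; po

theorem notO' {i j : Fin m} (hi : 3 ≤ (i : ℕ)) : ¬ Od m i j := by
  unfold Od; po

theorem cm_mul {g h : UT m F} (hg : g ∈ X F (isUR_O hm)) (hh : h ∈ X F (isUR_O hm)) :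
    cm hm (g * h) = cm hm g + cm hm h := by
  have e1 : (N g * N h) (i0 hm) (i1 hm) = 0 := mul_entry_zero fun t ht => by
    by_cases h1 : 1 ≤ (t : ℕ)
    · exact entry_zero hh (notO h1 (by simp only; omega))
    · exact absurd (diag_zero g (by simp only; omega)) ht
  have e2 : (N g * N h) (i0 hm) (i2 hm) = 0 := mul_entry_zero fun t ht => by
    by_cases h1 : 1 ≤ (t : ℕ)
    · exact entry_zero hh (notO h1 (by simp only; omega))
    · exact absurd (diag_zero g (by simp only; omega)) ht
  have e3 : (N g * N h) (i1 hm) (il hm) = 0 := mul_entry_zero fun t ht => by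
    by_cases h1 : (t : ℕ) + 1 < m
    · exact absurd (entry_zero hg (notO le_rfl h1)) ht
    · exact diag_zero h (by simp only; omega)
  have e4 : (N g * N h) (i2 hm) (il hm) = 0 := mul_entry_zero fun t ht => by
    by_cases h1 : (t : ℕ) + 1 < m
    · exact absurd (entry_zero hg (notO (by simp only; omega) h1)) ht
    · exact diag_zero h (by simp only; omega)
  unfold cm
  rw [N_mul]
  simp only [Matrix.add_apply, e1, e2, e3, e4, add_zero]
  ext i j
  fin_cases i <;> fin_cases j <;> rfl

/-- Conjugation in coordinates. -/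
theorem cm_conj [CharP F 2] {g : UT m F} (hg : g ∈ X F (isUR_O hm)) (t : UT m F) :
    cm hm (t * g * t⁻¹) = cm hm g * !![1, N t (i1 hm) (i2 hm); 0, 1] := by
  set g' := t * g * t⁻¹ with hg'
  have hgm : g' ∈ X F (isUR_O hm) := (X_normal (isUR_O hm)).conj_mem g hg t
  have h1 : N g' = N g + N t * N g - N g' * N t := by
    have h2 : g' * t = t * g := by rw [hg']; group
    have h3 : N g' + N t + N g' * N t = N t + N g + N t * N g := by
      rw [← N_mul, ← N_mul, h2]
    rw [eq_sub_iff_add_eq]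
    have h4 : N g' + N g' * N t + N t = N g + N t * N g + N t := by
      rw [add_right_comm, h3]; abel
    exact add_right_cancel h4
  have a1 : (N t * N g) (i0 hm) (i1 hm) = 0 := mul_entry_zero fun s hs => by
    by_cases h1 : 1 ≤ (s : ℕ)
    · exact entry_zero hg (notO h1 (by simp only; omega))
    · exact absurd (diag_zero t (by simp only; omega)) hs
  have a2 : (N g' * N t) (i0 hm) (i1 hm) = 0 := mul_entry_zero fun s hs => by
    by_cases h1 : 1 ≤ (s : ℕ)
    · exact diag_zero t (by simp only; omega)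
    · exact absurd (diag_zero g' (by simp only; omega)) hs
  have b1 : (N t * N g) (i0 hm) (i2 hm) = 0 := mul_entry_zero fun s hs => by
    by_cases h1 : 1 ≤ (s : ℕ)
    · exact entry_zero hg (notO h1 (by simp only; omega))
    · exact absurd (diag_zero t (by simp only; omega)) hs
  have b2 : (N g' * N t) (i0 hm) (i2 hm) = N g' (i0 hm) (i1 hm) * N t (i1 hm) (i2 hm) :=
    mul_entry_one (i1 hm) fun s hs hs1 => by
      by_cases h1 : 2 ≤ (s : ℕ)
      · exact diag_zero t (by simp only; omega)
      · have h2 : (s : ℕ) ≠ 1 := fun h => hs (Fin.ext h)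
        exact absurd (diag_zero g' (by simp only; omega)) hs1
  have c1 : (N t * N g) (i1 hm) (il hm) = N t (i1 hm) (i2 hm) * N g (i2 hm) (il hm) :=
    mul_entry_one (i2 hm) fun s hs hs1 => by
      by_cases h1 : 3 ≤ (s : ℕ)
      · exact entry_zero hg (notO' h1)
      · have h2 : (s : ℕ) ≠ 2 := fun h => hs (Fin.ext h)
        exact absurd (diag_zero t (by simp only; omega)) hs1
  have c2 : (N g' * N t) (i1 hm) (il hm) = 0 := mul_entry_zero fun s hs => by
    by_cases h1 : (s : ℕ) + 1 < m
    · exact absurd (entry_zero hgm (notO le_rfl h1)) hs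
    · exact diag_zero t (by simp only; omega)
  have d1 : (N t * N g) (i2 hm) (il hm) = 0 := mul_entry_zero fun s hs => by
    by_cases h1 : 3 ≤ (s : ℕ)
    · exact entry_zero hg (notO' h1)
    · exact absurd (diag_zero t (by simp only; omega)) hs
  have d2 : (N g' * N t) (i2 hm) (il hm) = 0 := mul_entry_zero fun s hs => by
    by_cases h1 : (s : ℕ) + 1 < m
    · exact absurd (entry_zero hgm (notO (by simp only; omega) h1)) hs
    · exact diag_zero t (by simp only; omega)
  have f1 : N g' (i0 hm) (i1 hm) = N g (i0 hm) (i1 hm) := by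
    have h2 := congrFun (congrFun h1 (i0 hm)) (i1 hm)
    rw [Matrix.sub_apply, Matrix.add_apply, a1, a2] at h2
    simpa using h2
  have f2 : N g' (i0 hm) (i2 hm) = N g (i0 hm) (i2 hm) +
      N g (i0 hm) (i1 hm) * N t (i1 hm) (i2 hm) := by
    have h2 := congrFun (congrFun h1 (i0 hm)) (i2 hm)
    rw [Matrix.sub_apply, Matrix.add_apply, b1, b2, f1, add_zero, CharTwo.sub_eq_add] at h2
    exact h2
  have f3 : N g' (i1 hm) (il hm) = N g (i1 hm) (il hm) +
      N t (i1 hm) (i2 hm) * N g (i2 hm) (il hm) := by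
    have h2 := congrFun (congrFun h1 (i1 hm)) (il hm)
    rw [Matrix.sub_apply, Matrix.add_apply, c1, c2, sub_zero] at h2
    exact h2
  have f4 : N g' (i2 hm) (il hm) = N g (i2 hm) (il hm) := by
    have h2 := congrFun (congrFun h1 (i2 hm)) (il hm)
    rw [Matrix.sub_apply, Matrix.add_apply, d1, d2] at h2
    simpa using h2
  unfold cm
  rw [f1, f2, f3, f4]
  ext i j
  fin_cases i <;> fin_cases j <;> simp [Matrix.mul_apply, Fin.sum_univ_two] <;> ring

/-- Squares in coordinates. -/
theorem sq_eq [CharP F 2] {g : UT m F} (hg : g ∈ X F (isUR_O hm)) :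
    g * g = root (i0 hm) (il hm) (by rw [Fin.lt_def]; simp only; omega) (cm hm g).det := by
  apply N_injective
  have h0 : N (g * g) = N g * N g := by
    rw [N_mul]
    have h2 : N g + N g = 0 := by
      ext i j
      rw [Matrix.add_apply, Matrix.zero_apply]
      exact CharTwo.add_self_eq_zero _
    rw [h2, zero_add]
  rw [h0, N_root]
  ext i j
  by_cases hij : i0 hm = i ∧ il hm = j
  · obtain ⟨rfl, rfl⟩ := hij
    rw [Matrix.single_apply_same, Matrix.mul_apply, Matrix.det_fin_two]
    have h12 : i1 hm ≠ i2 hm := by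
      intro h
      have := congrArg Fin.val h
      simp at this
    rw [← Finset.sum_subset (Finset.subset_univ {i1 hm, i2 hm}), Finset.sum_pair h12]
    · simp only [cm, Matrix.of_apply, Matrix.cons_val', Matrix.cons_val_zero, Matrix.cons_val_one,
        Matrix.cons_val_fin_one]
      rw [CharTwo.sub_eq_add]
    · intro t _ ht
      by_cases h1 : 3 ≤ (t : ℕ)
      · rw [entry_zero hg (notO' h1), mul_zero]
      · have h2 : (t : ℕ) ≠ 1 := fun h => ht (by
          rw [Finset.mem_insert]
          exact Or.inl (Fin.ext h))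
        have h3 : (t : ℕ) ≠ 2 := fun h => ht (by
          rw [Finset.mem_insert, Finset.mem_singleton]
          exact Or.inr (Fin.ext h))
        rw [diag_zero g (i := i0 hm) (j := t) (by simp only; omega), zero_mul]
  · rw [Matrix.single_apply, if_neg hij]
    refine mul_entry_zero fun t ht => ?_
    by_contra h1
    apply hij
    have h2 : Od m i t := hg i t ht
    have h3 : Od m t j := hg t j h1
    have h4 := N_mem g i t ht
    have h5 := N_mem g t j h1
    have := t.2
    have := j.2
    unfold Od at h2 h3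
    constructor
    · apply Fin.ext
      simp only
      po
    · apply Fin.ext
      simp only
      po

end Coord

section Transport

variable {G : Type*} [Group G] [Finite G] [Finite F] [CharP F 2] {S : Sylow 2 G}
  {ι : UT m F →* G} (hm : 4 ≤ m) (e : Emb S ι)

/-- The preimage in `UT m F`. -/
noncomputable def pre (e : Emb S ι) (a : ↥((X F (isUR_O hm)).map ι)) : UT m F :=
  ((X F (isUR_O hm)).equivMapOfInjective ι e.inj).symm a

theorem pre_mem (a : ↥((X F (isUR_O hm)).map ι)) : pre hm e a ∈ X F (isUR_O hm) :=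
  (((X F (isUR_O hm)).equivMapOfInjective ι e.inj).symm a).2

theorem map_pre (a : ↥((X F (isUR_O hm)).map ι)) : ι (pre hm e a) = a := by
  have h := ((X F (isUR_O hm)).equivMapOfInjective ι e.inj).apply_symm_apply a
  exact congrArg Subtype.val h

theorem pre_mk {g : UT m F} (hg : g ∈ X F (isUR_O hm)) (h : ι g ∈ (X F (isUR_O hm)).map ι) :
    pre hm e ⟨ι g, h⟩ = g := by
  apply e.inj
  rw [map_pre]

theorem pre_mul (a b : ↥((X F (isUR_O hm)).map ι)) :
    pre hm e (a * b) = pre hm e a * pre hm e b := by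
  apply e.inj
  rw [map_mul, map_pre, map_pre, map_pre]
  rfl

/-- Coordinates on the image. -/
noncomputable def cf : ↥((X F (isUR_O hm)).map ι) →* Multiplicative (Matrix (Fin 2) (Fin 2) F) where
  toFun a := Multiplicative.ofAdd (cm hm (pre hm e a))
  map_one' := by
    have h1 : pre hm e 1 = 1 := by
      apply e.inj
      rw [map_pre, map_one]
      rfl
    rw [h1]
    have h2 : cm hm (1 : UT m F) = 0 := by
      unfold cm
      rw [N_one]
      ext i j
      fin_cases i <;> fin_cases j <;> rfl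
    rw [h2]
    rfl
  map_mul' a b := by
    rw [pre_mul, cm_mul hm (pre_mem hm e a) (pre_mem hm e b)]
    rfl

theorem cm_eq_zero_iff {g : UT m F} (hg : g ∈ X F (isUR_O hm)) :
    cm hm g = 0 ↔ g ∈ X F (isUR_Psi (m := m) hm) := by
  constructor
  · intro h i j hij
    have h00 := congrFun (congrFun h 0) 0
    have h01 := congrFun (congrFun h 0) 1
    have h10 := congrFun (congrFun h 1) 0
    have h11 := congrFun (congrFun h 1) 1
    simp only [cm, Matrix.of_apply, Matrix.cons_val', Matrix.cons_val_zero, Matrix.cons_val_one,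
        Matrix.cons_val_fin_one, Matrix.zero_apply] at h00 h01 h10 h11
    have h1 : Od m i j := hg i j hij
    by_contra h2
    unfold Od at h1
    have h3 : ((i : ℕ) = 0 ∧ (j : ℕ) = 1) ∨ ((i : ℕ) = 0 ∧ (j : ℕ) = 2) ∨
        ((i : ℕ) = 2 ∧ (j : ℕ) = m - 1) ∨ ((i : ℕ) = 1 ∧ (j : ℕ) = m - 1) := by
      have := j.2
      have := N_mem g i j hij
      po
    rcases h3 with ⟨h4, h5⟩ | ⟨h4, h5⟩ | ⟨h4, h5⟩ | ⟨h4, h5⟩
    · exact hij ((congrArg₂ (N g) (Fin.ext h4 : i = i0 hm) (Fin.ext h5 : j = i1 hm)).trans h00)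
    · exact hij ((congrArg₂ (N g) (Fin.ext h4 : i = i0 hm) (Fin.ext h5 : j = i2 hm)).trans h01)
    · exact hij ((congrArg₂ (N g) (Fin.ext h4 : i = i2 hm) (Fin.ext h5 : j = il hm)).trans h10)
    · exact hij ((congrArg₂ (N g) (Fin.ext h4 : i = i1 hm) (Fin.ext h5 : j = il hm)).trans h11)
  · intro h
    have h1 : N g (i0 hm) (i1 hm) = 0 := entry_zero h (by simp only; po)
    have h2 : N g (i0 hm) (i2 hm) = 0 := entry_zero h (by simp only; po)
    have h3 : N g (i2 hm) (il hm) = 0 := entry_zero h (by simp only; po)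
    have h4 : N g (i1 hm) (il hm) = 0 := entry_zero h (by simp only; po)
    unfold cm
    rw [h1, h2, h3, h4]
    ext i j
    fin_cases i <;> fin_cases j <;> rfl

theorem cm_surjective (u : Matrix (Fin 2) (Fin 2) F) : ∃ g ∈ X F (isUR_O hm), cm hm g = u := by
  have k1 : ∀ {i j : Fin m} (hij : i < j) (c : F), Od m i j → root i j hij c ∈ X F (isUR_O hm) := by
    intro i j hij c h
    by_cases hc : c = 0
    · rw [hc, root_zero]; exact one_mem _
    · exact (root_mem_X _ hij hc).2 h
  have l1 : i0 hm < i1 hm := by rw [Fin.lt_def]; simp only; omega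
  have l2 : i0 hm < i2 hm := by rw [Fin.lt_def]; simp only; omega
  have l3 : i2 hm < il hm := by rw [Fin.lt_def]; simp only; omega
  have l4 : i1 hm < il hm := by rw [Fin.lt_def]; simp only; omega
  have m1 := k1 l1 (u 0 0) (by unfold Od; simp only; po)
  have m2 := k1 l2 (u 0 1) (by unfold Od; simp only; po)
  have m3 := k1 l3 (u 1 0) (by unfold Od; simp only; po)
  have m4 := k1 l4 (u 1 1) (by unfold Od; simp only; po)
  refine ⟨root _ _ l1 (u 0 0) * root _ _ l2 (u 0 1) * root _ _ l3 (u 1 0) * root _ _ l4 (u 1 1),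
    mul_mem (mul_mem (mul_mem m1 m2) m3) m4, ?_⟩
  rw [cm_mul hm (mul_mem (mul_mem m1 m2) m3) m4, cm_mul hm (mul_mem m1 m2) m3, cm_mul hm m1 m2]
  have n12 : (1 : ℕ) ≠ 2 := by omega
  ext i j
  fin_cases i <;> fin_cases j <;>
    simp [cm, Matrix.single_apply, Fin.ext_iff]

variable {N' : Subgroup G}

theorem cf_eq (h : Sec N' ((X F (isUR_O hm)).map ι) ((X F (isUR_Psi (m := m) hm)).map ι))
    {a b : ↥((X F (isUR_O hm)).map ι)} : pr h a = pr h b ↔ cf hm e a = cf hm e b := by
  rw [pr_eq_iff]
  have h1 : (a : G)⁻¹ * b = ι (pre hm e (a⁻¹ * b)) := by rw [map_pre]; rfl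
  have h2 : cf hm e a = cf hm e b ↔ cf hm e (a⁻¹ * b) = 1 := by
    rw [map_mul, map_inv, inv_mul_eq_one]
  rw [h1, e.map_mem, ← cm_eq_zero_iff hm (pre_mem hm e _), h2]
  exact Iff.rfl

/-- The coordinates on the section. -/
noncomputable def co (h : Sec N' ((X F (isUR_O hm)).map ι) ((X F (isUR_Psi (m := m) hm)).map ι)) :
    SQ h ≃* Multiplicative (Matrix (Fin 2) (Fin 2) F) :=
  MulEquiv.ofBijective
    ({ toFun := fun x => cf hm e (Function.surjInv (pr_surjective h) x)
       map_one' := by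
        rw [← map_one (cf hm e), ← cf_eq hm e h, Function.surjInv_eq (pr_surjective h), map_one]
       map_mul' := fun x y => by
        rw [← map_mul, ← cf_eq hm e h, map_mul, Function.surjInv_eq (pr_surjective h), Function.surjInv_eq (pr_surjective h),
          Function.surjInv_eq (pr_surjective h)] } : SQ h →* Multiplicative (Matrix (Fin 2) (Fin 2) F))
    ⟨fun x y hxy => by
      have h1 : cf hm e (Function.surjInv (pr_surjective h) x) =
        cf hm e (Function.surjInv (pr_surjective h) y) := hxy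
      rw [← cf_eq hm e h, Function.surjInv_eq (pr_surjective h), Function.surjInv_eq (pr_surjective h)] at h1
      exact h1, fun u => by
      obtain ⟨g, hg, h1⟩ := cm_surjective hm (Multiplicative.toAdd u)
      refine ⟨pr h ⟨ι g, e.map_mem.2 hg⟩, ?_⟩
      change cf hm e (Function.surjInv (pr_surjective h) _) = u
      have h2 : cf hm e (Function.surjInv (pr_surjective h) (pr h ⟨ι g, e.map_mem.2 hg⟩)) =
          cf hm e ⟨ι g, e.map_mem.2 hg⟩ := by
        rw [← cf_eq hm e h, Function.surjInv_eq (pr_surjective h)]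
      rw [h2]
      change Multiplicative.ofAdd (cm hm (pre hm e _)) = u
      rw [pre_mk hm e hg, h1]
      rfl⟩

theorem co_pr (h : Sec N' ((X F (isUR_O hm)).map ι) ((X F (isUR_Psi (m := m) hm)).map ι))
    (a : ↥((X F (isUR_O hm)).map ι)) : co hm e h (pr h a) = Multiplicative.ofAdd (cm hm (pre hm e a)) := by
  have h2 : cf hm e (Function.surjInv (pr_surjective h) (pr h a)) = cf hm e a := by
    rw [← cf_eq hm e h, Function.surjInv_eq (pr_surjective h)]
  exact h2

/-- The action on the coordinates. -/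
@[reducible] noncomputable def act
    (h : Sec N' ((X F (isUR_O hm)).map ι) ((X F (isUR_Psi (m := m) hm)).map ι)) :
    DistribMulAction ↥N' (Matrix (Fin 2) (Fin 2) F) where
  smul n u := Multiplicative.toAdd (co hm e h (n • (co hm e h).symm (Multiplicative.ofAdd u)))
  one_smul u := by
    change Multiplicative.toAdd (co hm e h ((1 : ↥N') • (co hm e h).symm (Multiplicative.ofAdd u))) = u
    rw [one_smul, MulEquiv.apply_symm_apply]
    rfl
  mul_smul n n' u := by
    change Multiplicative.toAdd (co hm e h ((n * n') • (co hm e h).symm (Multiplicative.ofAdd u))) =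
      Multiplicative.toAdd (co hm e h (n • (co hm e h).symm (Multiplicative.ofAdd
        (Multiplicative.toAdd (co hm e h (n' • (co hm e h).symm (Multiplicative.ofAdd u)))))))
    rw [ofAdd_toAdd, MulEquiv.symm_apply_apply, mul_smul]
  smul_zero n := by
    change Multiplicative.toAdd (co hm e h (n • (co hm e h).symm 1)) = 0
    rw [map_one, smul_one, map_one]
    rfl
  smul_add n u u' := by
    change Multiplicative.toAdd (co hm e h (n • (co hm e h).symm
      (Multiplicative.ofAdd u * Multiplicative.ofAdd u'))) = _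
    rw [map_mul, smul_mul', map_mul]
    rfl

theorem act_cm (h : Sec N' ((X F (isUR_O hm)).map ι) ((X F (isUR_Psi (m := m) hm)).map ι))
    (n : ↥N') {g g' : UT m F} (hg : g ∈ X F (isUR_O hm)) (hg' : (n : G) * ι g * (n : G)⁻¹ = ι g') :
    letI := act hm e h
    n • cm hm g = cm hm g' := by
  letI := act hm e h
  have h1 : cm hm g = cm hm (pre hm e ⟨ι g, e.map_mem.2 hg⟩) := by rw [pre_mk hm e hg]
  rw [h1]
  change Multiplicative.toAdd (co hm e h (n • (co hm e h).symm
    (Multiplicative.ofAdd (cm hm (pre hm e ⟨ι g, e.map_mem.2 hg⟩))))) = _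
  rw [← co_pr hm e h, MulEquiv.symm_apply_apply, smul_pr, co_pr]
  have h2 : pre hm e (cj h n ⟨ι g, e.map_mem.2 hg⟩) = g' := by
    apply e.inj
    rw [map_pre]
    exact hg'
  rw [h2]
  rfl

end Transport

section Main

variable {G : Type*} [Group G] [Finite G] [Finite F] [CharP F 2] {S : Sylow 2 G}

/-- **(P2)** -/
theorem p2 (S : Sylow 2 G) : RectInv.P2 m F S := by
  intro ι c hE
  have hm := c.m4
  have hk0 : 0 < 2 := by omega
  have hkm : 2 < m := by omega
  have hΨ : PInv ι (normalizer (((Q m F 2).map ι : Subgroup G) : Set G)) (Rd 1 3) :=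
    inv_row c hkm le_rfl hE (m - 4) 3 (by omega) (by omega) (by omega) (by omega)
  have hZ : PInv ι (normalizer (((Q m F 2).map ι : Subgroup G) : Set G)) (Rd 1 (m - 1)) :=
    inv_row c hkm le_rfl hE 0 (m - 1) (by omega) (by omega) (by omega) (by omega)
  have hΩ : PInv ι (normalizer (((Q m F 2).map ι : Subgroup G) : Set G)) (Od m) := by
    refine inv_corner c hk0 hkm (isUR_R m (by omega)) hΨ ?_
    intro a b hab hb
    constructor
    · intro h
      unfold Od at h
      refine ⟨?_, fun x hx hq => ?_, fun x hq => ?_⟩ <;> po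
    · rintro ⟨h1, h2, h3⟩
      have h4 := h2 (m - 1)
      have h5 := h3 0
      have h6 := h3 1
      have h7 := h3 2
      have h8 := h2 (b + 1)
      have h9 := h2 (b + 2)
      unfold Od
      po
  have hn : (S : Subgroup G) ≤ normalizer (((Q m F 2).map ι : Subgroup G) : Set G) :=
    (tq hk0 hkm c.q4).le_normalizer c.emb
  have htriv : ∀ x ∈ Q m F 2, ∀ a ∈ X F (isUR_O hm), x * a * x⁻¹ * a⁻¹ ∈
      X F (isUR_Psi (m := m) hm) := by
    intro x hx a ha
    refine commutator_mem _ _ _ hx ha ?_ ?_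
    · intro i j l hl h1 h2
      unfold Od at h2
      po
    · intro i j l hl h1 h2
      unfold Od at h1
      po
  have hΩQ : X F (isUR_O hm) ≤ Q m F 2 := by
    rw [X_le]
    intro i j hj h
    unfold Od at h
    po
  have hΨΩ : X F (isUR_Psi (m := m) hm) ≤ X F (isUR_O hm) := by
    rw [X_le]
    intro i j hj h
    unfold Od
    po
  have h : Sec (normalizer (((Q m F 2).map ι : Subgroup G) : Set G)) ((X F (isUR_O hm)).map ι)
      ((X F (isUR_Psi (m := m) hm)).map ι) :=
    sec hΩQ hΨΩ htriv (hΩ _) (hΨ _)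
  letI := act hm c.emb h
  have hconj : ∀ (n : ↥(normalizer (((Q m F 2).map ι : Subgroup G) : Set G))) {g : UT m F},
      g ∈ X F (isUR_O hm) → ∃ g' ∈ X F (isUR_O hm), (n : G) * ι g * (n : G)⁻¹ = ι g' := by
    intro n g hg
    exact exists_conj c.emb.inj (hΩ (isUR_O hm) n.2) hg
  -- the normal closure centralises the centre of `S`
  have hcen : ∀ l ∈ Subgroup.normalClosure ((S.subtype hn : Subgroup
      ↥(normalizer (((Q m F 2).map ι : Subgroup G) : Set G))) : Set
      ↥(normalizer (((Q m F 2).map ι : Subgroup G) : Set G))),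
      ∀ z ∈ X F (isUR_R m (show 1 ≤ m - 1 by omega)), (l : G) * ι z * (l : G)⁻¹ = ι z := by
    have hZ' := hZ (isUR_R m (show 1 ≤ m - 1 by omega))
    set Zm : Subgroup G := (X F (isUR_R m (show 1 ≤ m - 1 by omega))).map ι with hZm
    have hK : ((centralizer (Zm : Set G)).subgroupOf
        (normalizer (((Q m F 2).map ι : Subgroup G) : Set G))).Normal := by
      refine ⟨fun k hk n => ?_⟩
      rw [mem_subgroupOf, mem_centralizer_iff] at hk ⊢
      intro z hz
      have h1 : (n : G)⁻¹ * z * n ∈ Zm := by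
        have h2 := (mem_normalizer_iff.1 (inv_mem (hZ' n.2)) z).1 hz
        rwa [inv_inv] at h2
      have h2 := hk _ h1
      have h3 : (n : G) * ((n : G)⁻¹ * z * n * k) * (n : G)⁻¹ =
          n * (k * ((n : G)⁻¹ * z * n)) * (n : G)⁻¹ := by rw [h2]
      calc z * ((n * k * n⁻¹ : ↥(normalizer (((Q m F 2).map ι : Subgroup G) : Set G))) : G)
          = (n : G) * ((n : G)⁻¹ * z * n * k) * (n : G)⁻¹ := by
            push_cast
            group
        _ = n * (k * ((n : G)⁻¹ * z * n)) * (n : G)⁻¹ := h3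
        _ = _ := by
            push_cast
            group
    intro l hl z hz
    have h1 : Subgroup.normalClosure ((S.subtype hn : Subgroup
        ↥(normalizer (((Q m F 2).map ι : Subgroup G) : Set G))) : Set
        ↥(normalizer (((Q m F 2).map ι : Subgroup G) : Set G))) ≤
        (centralizer (Zm : Set G)).subgroupOf _ := by
      refine Subgroup.normalClosure_le_normal fun s hs => ?_
      rw [SetLike.mem_coe, Sylow.coe_subtype, mem_subgroupOf] at hs
      obtain ⟨t, ht⟩ := c.emb.exists_eq hs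
      rw [SetLike.mem_coe, mem_subgroupOf, mem_centralizer_iff]
      rintro _ ⟨z, hz, rfl⟩
      rw [← ht, ← map_mul, ← map_mul]
      congr 1
      have h2 := commutator_mem (isUR_all m) (isUR_R m (show 1 ≤ m - 1 by omega))
        (isUR_bot m) (mem_all t) hz (by intro i j l hl h1 h2; exact absurd h2.1 (by omega))
        (by intro i j l hl h1 h2; exact absurd h1.2 (by omega))
      rw [X_bot, mem_bot, mul_inv_eq_one, mul_inv_eq_iff_eq_mul] at h2
      exact h2.symm
    have h2 := mem_centralizer_iff.1 (mem_subgroupOf.1 (h1 hl)) (ι z) ⟨z, hz, rfl⟩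
    rw [← h2, mul_inv_cancel_right]
  have hmain := PTwo.smul_row_eq_zero (F := F) (S.subtype hn) ?_ ?_ ?_ ?_
  · -- conclusion
    intro hW
    refine le_normalizer_of_closure c.emb (tq hk0 hkm c.q4) h ?_ ?_ (c.hK _ hW) ?_
    · rw [X_le]
      intro i j hj h
      po
    · rw [X_le]
      intro i j hj h
      unfold Od
      po
    · intro l hl
      apply Spread.Data.smul_eq_of_le
      intro x hx
      obtain ⟨y, hy, rfl⟩ := (Subgroup.mem_smul_pointwise_iff_exists _ _ _).1 hx
      obtain ⟨⟨_, ⟨w, hw, rfl⟩⟩, rfl⟩ := pr_surjective h y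
      have hΨW : X F (isUR_Psi (m := m) hm) ≤ X F hW := by
        rw [X_le]
        intro i j hj h
        po
      rw [mem_sub h (map_mono hΨW)] at hy
      have hwW : w ∈ X F hW := c.emb.map_mem.1 hy
      obtain ⟨w', hw', h1⟩ := hconj l hw
      have h2 := hmain l hl (cm hm w) (entry_zero hwW (by simp only; po))
        (entry_zero hwW (by simp only; po))
      rw [act_cm hm c.emb h l hw h1] at h2
      rw [smul_pr, mem_sub h (map_mono hΨW)]
      change (l : G) * ι w * (l : G)⁻¹ ∈ _
      rw [h1]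
      refine ⟨w', ?_, rfl⟩
      intro i j hij
      have h3 : Od m i j := hw' i j hij
      have h4 : ¬ (i = i2 hm ∧ j = il hm) := by
        rintro ⟨rfl, rfl⟩
        exact hij h2.1
      have h5 : ¬ (i = i1 hm ∧ j = il hm) := by
        rintro ⟨rfl, rfl⟩
        exact hij h2.2
      have h6 : ¬ ((i : ℕ) = 2 ∧ (j : ℕ) = m - 1) := fun h => h4 ⟨Fin.ext h.1, Fin.ext h.2⟩
      have h7 : ¬ ((i : ℕ) = 1 ∧ (j : ℕ) = m - 1) := fun h => h5 ⟨Fin.ext h.1, Fin.ext h.2⟩
      have h8 := N_mem w' i j hij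
      have := j.2
      unfold Od at h3
      po
  · -- determinants
    intro l hl u
    obtain ⟨g, hg, rfl⟩ := cm_surjective hm u
    obtain ⟨g', hg', h1⟩ := hconj l hg
    rw [act_cm hm c.emb h l hg h1]
    have h2 : ι (g' * g') = ι (g * g) := by
      rw [map_mul, ← h1]
      have h3 : (l : G) * ι g * (l : G)⁻¹ * ((l : G) * ι g * (l : G)⁻¹) =
          l * ι (g * g) * (l : G)⁻¹ := by
        rw [map_mul]; group
      rw [h3]
      refine hcen l hl _ ?_
      rw [sq_eq hm hg]
      by_cases hd : (cm hm g).det = 0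
      · rw [hd, root_zero]; exact one_mem _
      · exact (root_mem_X _ _ hd).2 ⟨by simp only; omega, by simp only; omega⟩
    have h3 := c.emb.inj h2
    rw [sq_eq hm hg, sq_eq hm hg'] at h3
    have h4 := congrArg (fun x => N x (i0 hm) (il hm)) h3
    simp only [N_root, Matrix.single_apply_same] at h4
    exact h4
  · -- the action of `S`
    intro s hs
    rw [Sylow.coe_subtype, mem_subgroupOf] at hs
    obtain ⟨t, ht⟩ := c.emb.exists_eq hs
    refine ⟨N t (i1 hm) (i2 hm), fun u => ?_⟩
    obtain ⟨g, hg, rfl⟩ := cm_surjective hm u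
    rw [act_cm hm c.emb h s hg (g' := t * g * t⁻¹) (by rw [← ht]; simp), cm_conj hm hg]
  · refine ⟨⟨_, hn (c.emb.mem (root (i1 hm) (i2 hm) (by rw [Fin.lt_def]; simp only; omega)
      (1 : F)))⟩, ?_, 1, one_ne_zero, ?_⟩
    · rw [Sylow.coe_subtype, mem_subgroupOf]
      exact c.emb.mem _
    · intro u
      obtain ⟨g, hg, rfl⟩ := cm_surjective hm u
      rw [act_cm hm c.emb h _ hg (g' := root (i1 hm) (i2 hm) (by rw [Fin.lt_def]; simp only; omega)
        1 * g * (root (i1 hm) (i2 hm) (by rw [Fin.lt_def]; simp only; omega) 1)⁻¹) (by simp),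
        cm_conj hm hg, N_root, Matrix.single_apply_same]
  · -- move
    have hq4 := c.q4
    have hΨD : X F (isUR_Psi (m := m) hm) ≤ X F (isUR_D hm) := by
      rw [X_le]
      intro i j hj h
      unfold Dd
      po
    have hS1 : ∀ s ∈ (S : Subgroup G), ∀ hs : s ∈ normalizer (((Q m F 2).map ι : Subgroup G) :
        Set G), ∀ u ∈ sub h ((X F (isUR_D hm)).map ι),
        (⟨s, hs⟩ : ↥(normalizer (((Q m F 2).map ι : Subgroup G) : Set G))) • u = u := by
      intro s hsS hs u hu
      obtain ⟨⟨_, ⟨a, ha, rfl⟩⟩, rfl⟩ := pr_surjective h u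
      rw [mem_sub h (map_mono hΨD)] at hu
      have ha' := c.emb.map_mem.1 hu
      obtain ⟨t, rfl⟩ := c.emb.exists_eq hsS
      rw [smul_eq_iff]
      refine ⟨_, commutator_mem (isUR_all m) (isUR_D hm) (isUR_Psi (m := m) hm) (mem_all t) ha'
        ?_ ?_, by simp⟩
      · intro i j l hl h1 h2
        unfold Dd at h2
        po
      · intro i j l hl h1 h2
        unfold Dd at h1
        po
    have hS2 : ∀ s ∈ (S : Subgroup G), ∀ hs : s ∈ normalizer (((Q m F 2).map ι : Subgroup G) :
        Set G), ∀ u : SQ h, (⟨s, hs⟩ : ↥(normalizer (((Q m F 2).map ι : Subgroup G) : Set G))) • u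
        * u⁻¹ ∈ sub h ((X F (isUR_D hm)).map ι) := by
      intro s hsS hs u
      obtain ⟨⟨_, ⟨a, ha, rfl⟩⟩, rfl⟩ := pr_surjective h u
      obtain ⟨t, rfl⟩ := c.emb.exists_eq hsS
      rw [smul_mul_inv_mem _ _ _ (map_mono hΨD)]
      refine ⟨_, commutator_mem (isUR_all m) (isUR_O hm) (isUR_D hm) (mem_all t) ha
        ?_ ?_, by simp⟩
      · intro i j l hl h1 h2
        unfold Od at h2
        unfold Dd
        po
      · intro i j l hl h1 h2
        unfold Od at h1
        unfold Dd
        po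
    have hQt : ∀ x : ↥(normalizer (((Q m F 2).map ι : Subgroup G) : Set G)),
        (x : G) ∈ (Q m F 2).map ι → ∀ u : SQ h, x • u = u := by
      rintro x ⟨t, ht, htx⟩ u
      obtain ⟨⟨_, ⟨a, ha, rfl⟩⟩, rfl⟩ := pr_surjective h u
      rw [smul_eq_iff]
      refine ⟨_, htriv t ht a ha, ?_⟩
      simp [htx]
    have hel : ∀ s ∈ (S : Subgroup G), s * s ∈ (Q m F 2).map ι := by
      intro s hs
      obtain ⟨t, rfl⟩ := c.emb.exists_eq hs
      exact ⟨t * t, (tq (F := F) hk0 hkm c.q4).sq t, by simp⟩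
    have htwo : IsPGroup 2 (SQ h) := by
      have h1 : IsPGroup 2 ((X F (isUR_O hm)).map ι) := S.isPGroup'.to_le (c.emb.map_le _)
      exact h1.of_surjective (pr h) (pr_surjective h)
    have hfix : ∀ s : ↥(normalizer (((Q m F 2).map ι : Subgroup G) : Set G)), (s : G) ∈ S →
        (∀ u : SQ h, s • u = u) → (s : G) ∈ (Q m F 2).map ι := by
      -- only `Q` acts trivially
      intro s hs hs1
      obtain ⟨t, ht⟩ := c.emb.exists_eq hs
      rw [← ht]
      refine c.emb.map_mem.2 ?_
      rw [mem_Q hk0 hkm]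
      obtain ⟨g, hg, h2⟩ := cm_surjective hm (!![1, 0; 0, 0] : Matrix (Fin 2) (Fin 2) F)
      have h3 := cm_conj hm hg t
      have h4 := act_cm hm c.emb h s hg (g' := t * g * t⁻¹) (by rw [← ht]; simp)
      have h5 : cm hm (t * g * t⁻¹) = cm hm g := by
        rw [← h4]
        change Multiplicative.toAdd (co hm c.emb h (s • (co hm c.emb h).symm
          (Multiplicative.ofAdd (cm hm g)))) = _
        rw [hs1, MulEquiv.apply_symm_apply]
        rfl
      rw [h3, h2] at h5
      have h6 := congrFun (congrFun h5 0) 1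
      simpa [Matrix.mul_apply, Fin.sum_univ_two] using h6
    have hstab : ∀ s : ↥(normalizer (((Q m F 2).map ι : Subgroup G) : Set G)), (s : G) ∈ S →
        s ∈ Spread.stab (P := ↥(normalizer (((Q m F 2).map ι : Subgroup G) : Set G)))
          (sub h ((X F (isUR_D hm)).map ι)) := by
      intro s hs
      exact ⟨fun u hu => hS1 s hs s.2 u hu, fun u => hS2 s hs s.2 u⟩
    obtain ⟨g, hg⟩ := move (U := SQ h) (U1 := sub h ((X F (isUR_D hm)).map ι)) hE hn
      ((c.emb.map_range).trans (tq hk0 hkm c.q4).index) hq4 hel htwo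
      (fun x hx u => XC_triv h (map_mono hΩQ) hQt x hx u) hfix hstab
    have h1 : ∃ u ∈ sub h ((X F (isUR_D hm)).map ι), g • u ∉ sub h ((X F (isUR_D hm)).map ι) := by
      by_contra hcon
      push Not at hcon
      apply hg
      apply Spread.Data.smul_eq_of_le
      intro x hx
      obtain ⟨y, hy, rfl⟩ := (Subgroup.mem_smul_pointwise_iff_exists _ _ _).1 hx
      exact hcon y hy
    obtain ⟨u, hu, hgu⟩ := h1
    obtain ⟨⟨_, ⟨w, hw, rfl⟩⟩, rfl⟩ := pr_surjective h u
    rw [mem_sub h (map_mono hΨD)] at hu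
    have hwD := c.emb.map_mem.1 hu
    obtain ⟨w', hw', h1⟩ := hconj g hw
    rw [smul_pr, mem_sub h (map_mono hΨD)] at hgu
    have hgu' : ι w' ∉ (X F (isUR_D hm)).map ι := by
      rw [← h1]
      exact hgu
    refine ⟨g, cm hm w, entry_zero hwD (by simp only; unfold Dd; po),
      entry_zero hwD (by simp only; unfold Dd; po), ?_⟩
    rw [act_cm hm c.emb h g hw h1]
    rintro ⟨h2, h3⟩
    apply hgu'
    refine ⟨w', ?_, rfl⟩
    intro i j hij
    have h3' : Od m i j := hw' i j hij
    have h4 : ¬ (i = i0 hm ∧ j = i1 hm) := by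
      rintro ⟨rfl, rfl⟩
      exact hij h2
    have h5 : ¬ (i = i2 hm ∧ j = il hm) := by
      rintro ⟨rfl, rfl⟩
      exact hij h3
    have h6 : ¬ ((i : ℕ) = 0 ∧ (j : ℕ) = 1) := fun h => h4 ⟨Fin.ext h.1, Fin.ext h.2⟩
    have h7 : ¬ ((i : ℕ) = 2 ∧ (j : ℕ) = m - 1) := fun h => h5 ⟨Fin.ext h.1, Fin.ext h.2⟩
    have h8 := N_mem w' i j hij
    have := j.2
    unfold Od at h3'
    unfold Dd
    po

end Main

end Cfsg.Agent.SylowL.PTwoApp
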