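import Cfsg.Agent.SylowL.Final
import Cfsg.Agent.SylowL.GoldOf
import Cfsg.Agent.SylowL.PTwoApp
import Cfsg.Agent.SylowL.CHypOf

/-!
# The recognition theorem from its remaining parts
-/

set_option autoImplicit false

namespace Cfsg.Agent.SylowL.Assembly

open Cfsg.Agent.SylowL.Final Cfsg.Agent.SylowL.UT Cfsg.Agent.SylowL.Fus2
open Cfsg.Agent.TwoFusion.Gold

universe u w

theorem h1169_of (hT : GoldOf.TAll.{u}) : TypeL3.H1169.{u} := by
  intro X _ _ _ S A hA hAc hs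
  exact Cfsg.Agent.TwoFusion.GoldMain.goldschmidt (fun hna => hT X inferInstance hna) S A hA hAc hs

theorem main (hT : GoldOf.TAll.{u}) (h1171 : TypeL3.H1171.{u}) (h1296 : TypeL3.H1296.{u}) (hodd : HOdd.{u}) (h1179 : H1179.{u})
    (h0222 : H0222.{u}) {G : Type u} [Group G] [Finite G] [IsSimpleGroup G] {F : Type w} [Field F]
    [Fintype F] (r : ℕ) (hr : 2 ≤ r) (hF : Fintype.card F = 2 ^ r) (m : ℕ) (hm : 3 ≤ m)
    (hE : 4 ≤ m → EHyp.{u} m F) (h1175 : CHypOf.H1175.{u}) (S : Sylow 2 G)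
    (P : Sylow 2 (Matrix.ProjectiveSpecialLinearGroup (Fin m) F))
    (hS : Nonempty (↥(S : Subgroup G) ≃*
      ↥(P : Subgroup (Matrix.ProjectiveSpecialLinearGroup (Fin m) F)))) :
    Nonempty (G ≃* Matrix.ProjectiveSpecialLinearGroup (Fin m) F) := by
  have hchar : CharP F 2 := TypeL3.Main.charP_two hF
  have h1169 := h1169_of hT
  rcases Nat.lt_or_ge 3 m with h4 | h4
  · obtain ⟨e⟩ := hS
    obtain ⟨e'⟩ := SylowPSL.sylow_equiv 2 P
    exact Final.main hF hr h4 (fun H _ _ S => PTwoApp.p2 S) (hE h4) (CHypOf.cHyp h1175) h1169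
      (GoldOf.goldHyp hT) hodd h1179 h0222 _ G (Nat.lt_succ_self _) S ⟨e.trans e'⟩
  · obtain rfl : m = 3 := by omega
    exact TypeL3.Main.nonempty_psl_of_sylow h1169 h1171 h1296 hr hF S P hS

end Cfsg.Agent.SylowL.Assembly
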