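import Cfsg.Agent.SylowL.EssBridgeBound
import Cfsg.Agent.StrongEmb.Main

/-!
# Essential subgroups give the local datum (unconditional form)
-/

set_option autoImplicit false

namespace Cfsg.Agent.SylowL.EssDatumMain

open Subgroup Cfsg.Agent.BenderMod Cfsg.Agent.Lib.EssentialFusion Cfsg.Agent.SylowL.EssDatum

universe u

/-- Bender's theorem. -/
theorem ball : BAll.{u} := fun K _ _ => Cfsg.Agent.StrongEmb.Main.bender K

/-- **The local datum of an essential subgroup.** -/
theorem datum {G : Type u} [Group G] [Finite G] {P : Sylow 2 G} {X : Subgroup G} (hE : Ess P X) :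
    Nonempty (Datum (P : Subgroup G).subtype (X.subgroupOf (P : Subgroup G))) :=
  EssBridgeBound.datum ball hE

end Cfsg.Agent.SylowL.EssDatumMain
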