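import Cfsg.Agent.SylowL.EssHyp
import Cfsg.Agent.SylowL.EssDatumMain

/-!
# The essential subgroups of `UT m F` are the `Q k` (unconditional form)
-/

set_option autoImplicit false

namespace Cfsg.Agent.SylowL.EssHypMain

universe u

/-- **(E)**. -/
theorem eHyp {m : ℕ} {F : Type*} [Field F] [Finite F] [CharP F 2] (hm : 3 ≤ m) (hq : 4 ≤ Nat.card F) :
    Fus2.EHyp.{u} m F :=
  EssHyp.eHyp_of_bender EssDatumMain.ball hm hq

end Cfsg.Agent.SylowL.EssHypMain
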