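import Cfsg.Agent.SylowL.Inv

/-!
# The graph automorphism of `UT m F`
-/

set_option autoImplicit false
set_option linter.unusedSectionVars false
set_option linter.unusedVariables false
set_option linter.unusedSimpArgs false

namespace Cfsg.Agent.SylowL.Dual

open Matrix
open Cfsg.Agent.SylowL.Lev Cfsg.Agent.SylowL.UT Cfsg.Agent.SylowL.Pat Cfsg.Agent.SylowL.Series
open Cfsg.Agent.SylowL.Rect Cfsg.Agent.SylowL.NatSec Cfsg.Agent.SylowL.PSec Cfsg.Agent.SylowL.Inv
open Cfsg.Agent.Lib.EssentialFusion Cfsg.Agent.Lib.GoldschmidtFusion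
open Subgroup

variable {m : ℕ} {F : Type*} [Field F]

local notation "Mat" => Matrix (Fin m) (Fin m) F

/-- Reflection in the second diagonal. -/
def flip (a : Mat) : Mat := fun i j => a (Fin.rev j) (Fin.rev i)

theorem flip_apply (a : Mat) (i j : Fin m) : flip a i j = a (Fin.rev j) (Fin.rev i) := rfl

theorem flip_flip (a : Mat) : flip (flip a) = a := by
  ext i j
  rw [flip_apply, flip_apply, Fin.rev_rev, Fin.rev_rev]

theorem flip_add (a b : Mat) : flip (a + b) = flip a + flip b := rfl

theorem flip_mul (a b : Mat) : flip (a * b) = flip b * flip a := by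
  ext i j
  rw [flip_apply, Matrix.mul_apply, Matrix.mul_apply]
  rw [← Equiv.sum_comp Fin.revPerm]
  refine Finset.sum_congr rfl fun t _ => ?_
  rw [flip_apply, flip_apply, mul_comm, Fin.revPerm_apply]

theorem flip_mem_lev {a : Mat} (ha : a ∈ lev m F 1) : flip a ∈ lev m F 1 := by
  intro i j hij
  have h := ha _ _ hij
  rw [Fin.val_rev, Fin.val_rev] at h
  omega

/-- The graph automorphism. -/
def delta : UT m F →* UT m F where
  toFun g := mk (flip (N g⁻¹)) (flip_mem_lev (N_mem _))
  map_one' := by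
    apply N_injective
    rw [N_mk, inv_one, N_one]
    rfl
  map_mul' g h := by
    apply N_injective
    rw [N_mk, N_mul, N_mk, N_mk, _root_.mul_inv_rev, N_mul, flip_add, flip_add, flip_mul,
      add_comm (flip (N h⁻¹))]

theorem N_delta (g : UT m F) : N (delta g) = flip (N g⁻¹) :=
  N_mk _ (flip_mem_lev (N_mem _))

theorem delta_delta (g : UT m F) : delta (delta g) = g := by
  apply N_injective
  rw [N_delta, ← map_inv, N_delta, inv_inv, flip_flip]

theorem delta_injective : Function.Injective (delta : UT m F →* UT m F) := by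
  intro g h hgh
  rw [← delta_delta g, hgh, delta_delta]

theorem delta_surjective : Function.Surjective (delta : UT m F →* UT m F) := fun g =>
  ⟨delta g, delta_delta g⟩

/-- The reflected set of positions. -/
def flipD (m : ℕ) (D : ℕ → ℕ → Prop) : ℕ → ℕ → Prop := fun i j =>
  j < m ∧ i < m ∧ D (m - 1 - j) (m - 1 - i)

theorem isUR_flip {D : ℕ → ℕ → Prop} (h : IsUR m D) : IsUR m (flipD m D) where
  lt i j hij := by
    have := h.lt _ _ hij.2.2
    omega
  up i j k hij hjk := by
    obtain ⟨h1, h2, h3⟩ := hjk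
    exact ⟨h1, by omega, h.right _ _ _ h3 (by omega) (by omega)⟩
  right i j k hij hjk hk := by
    obtain ⟨h1, h2, h3⟩ := hij
    exact ⟨hk, h2, h.up _ _ _ (by omega) h3⟩

theorem map_delta {D : ℕ → ℕ → Prop} (h : IsUR m D) :
    (X F h).map delta = X F (isUR_flip h) := by
  have key : ∀ {D : ℕ → ℕ → Prop} (h : IsUR m D) (g : UT m F), g ∈ X F h →
      delta g ∈ X F (isUR_flip h) := by
    intro D h g hg
    rw [mem_X]
    intro i j hij
    rw [N_delta, flip_apply] at hij
    have h1 : D ((Fin.rev j : Fin m) : ℕ) ((Fin.rev i : Fin m) : ℕ) :=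
      (inv_mem hg : g⁻¹ ∈ X F h) _ _ hij
    rw [Fin.val_rev, Fin.val_rev] at h1
    refine ⟨j.2, i.2, ?_⟩
    have h2 : m - 1 - (j : ℕ) = m - (j + 1) := by omega
    have h3 : m - 1 - (i : ℕ) = m - (i + 1) := by omega
    rw [h2, h3]
    exact h1
  apply le_antisymm
  · rintro _ ⟨g, hg, rfl⟩
    exact key h g hg
  · intro g hg
    refine ⟨delta g, ?_, delta_delta g⟩
    have h1 := key _ g hg
    rw [SetLike.mem_coe]
    have h2 : X F (isUR_flip (isUR_flip h)) = X F h := by
      refine X_congr _ _ fun i j hj => ?_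
      constructor
      · rintro ⟨h3, h4, h5, h6, h7⟩
        have h8 : m - 1 - (m - 1 - i) = i := by omega
        have h9 : m - 1 - (m - 1 - j) = j := by omega
        rwa [h8, h9] at h7
      · intro h3
        have hi : i < m := (h.lt _ _ h3).trans hj
        refine ⟨hj, hi, by omega, by omega, ?_⟩
        have h8 : m - 1 - (m - 1 - i) = i := by omega
        have h9 : m - 1 - (m - 1 - j) = j := by omega
        rwa [h8, h9]
    rwa [h2] at h1

theorem flip_Rd {a b : ℕ} (ha : a ≤ m) (hb : b ≤ m) {i j : ℕ} (hi : i < m) (hj : j < m) :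
    flipD m (Rd a b) i j ↔ Rd (m - b) (m - a) i j := by
  unfold flipD Rd
  omega

theorem flip_Qd {k : ℕ} (hk : 0 < k) (hkm : k < m) {i j : ℕ} (hi : i < m) (hj : j < m) :
    flipD m (Qd k) i j ↔ Qd (m - k) i j := by
  unfold flipD Qd
  omega

variable {G : Type*} [Group G] {ι : UT m F →* G} {M : Subgroup G}

theorem map_comp_delta {D : ℕ → ℕ → Prop} (h : IsUR m D) :
    (X F h).map (ι.comp delta) = (X F (isUR_flip h)).map ι := by
  rw [← Subgroup.map_map, map_delta]

theorem PInv_of_delta {D D' : ℕ → ℕ → Prop} (hD : IsUR m D) (h : PInv (ι.comp delta) M D)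
    (hD' : ∀ i j, i < j → j < m → (D' i j ↔ flipD m D i j)) : PInv ι M D' := by
  intro h'
  have h1 := h hD
  rw [map_comp_delta] at h1
  rw [X_congr h' (isUR_flip hD) fun i j hj => ?_]
  · exact h1
  · constructor
    · intro h2
      exact (hD' i j (h'.lt _ _ h2) hj).1 h2
    · intro h2
      exact (hD' i j ((isUR_flip hD).lt _ _ h2) hj).2 h2

theorem map_Q {k : ℕ} (hk : 0 < k) (hkm : k < m) :
    (Q m F (m - k)).map (ι.comp delta) = (Q m F k).map ι := by
  rw [map_comp_delta]
  congr 1
  refine X_congr _ _ fun i j hj => ?_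
  unfold flipD Qd
  omega

/-- The dual set-up. -/
theorem ctx_delta [Finite G] {S : Sylow 2 G} (c : Ctx S ι) : Ctx S (ι.comp delta) where
  emb := ⟨c.emb.inj.comp delta_injective, by
    rw [MonoidHom.range_comp, MonoidHom.range_eq_top.2 delta_surjective, ← MonoidHom.range_eq_map,
      c.emb.range]⟩
  hK D h := by
    rw [NInv, map_comp_delta]
    exact c.hK _ _
  m4 := c.m4
  q4 := c.q4

end Cfsg.Agent.SylowL.Dual
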