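import Mathlib
import Cfsg.Prelude.Def_TwoFusion

/-!
# A criterion for strong closure

If `A` is abelian and generated by a strongly closed set `D` of elements of the Sylow 2-subgroup `T`, and
`z ∈ D` is central in `T`, then `A` is strongly closed in `T` as soon as this holds with respect to `C(z)`.
-/

set_option autoImplicit false
set_option linter.unusedSectionVars false

namespace Cfsg.Agent.SylowL.KeyClosed

open Subgroup

variable {H : Type*} [Group H] [Finite H] {p : ℕ} [Fact p.Prime]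

/-- A `p`-subgroup of `M` is conjugate in `M` into a Sylow subgroup contained in `M`. -/
theorem exists_conj_mem (S : Sylow p H) {M : Subgroup H} (hM : (S : Subgroup H) ≤ M) {P : Subgroup H}
    (hP : IsPGroup p P) (hPM : P ≤ M) : ∃ m ∈ M, ∀ x ∈ P, m * x * m⁻¹ ∈ (S : Subgroup H) := by
  have hP' : IsPGroup p (P.subgroupOf M) := hP.comap_of_injective M.subtype M.subtype_injective
  obtain ⟨Q, hQ⟩ := hP'.exists_le_sylow
  obtain ⟨m, hm⟩ := MulAction.exists_smul_eq M Q (S.subtype hM)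
  refine ⟨m, m.2, ?_⟩
  intro x hx
  have h1 : (⟨x, hPM hx⟩ : M) ∈ (Q : Subgroup M) := hQ (mem_subgroupOf.2 hx)
  have h2 : m * ⟨x, hPM hx⟩ * m⁻¹ ∈ ((m • Q : Sylow p M) : Subgroup M) := by
    have : ((m • Q : Sylow p M) : Subgroup M) = (Q : Subgroup M).map (MulAut.conj m).toMonoidHom := rfl
    rw [this]
    exact ⟨_, h1, rfl⟩
  rw [hm] at h2
  exact h2

/-- Two `p`-subgroups of `M`: some conjugate of the first and the second lie in a common `p`-subgroup. -/
theorem exists_common {M P Q : Subgroup H} (hP : IsPGroup p P) (hPM : P ≤ M) (hQ : IsPGroup p Q)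
    (hQM : Q ≤ M) : ∃ m ∈ M, ∃ R : Subgroup H, IsPGroup p R ∧ Q ≤ R ∧ ∀ x ∈ P, m * x * m⁻¹ ∈ R := by
  have hP' : IsPGroup p (P.subgroupOf M) := hP.comap_of_injective M.subtype M.subtype_injective
  have hQ' : IsPGroup p (Q.subgroupOf M) := hQ.comap_of_injective M.subtype M.subtype_injective
  obtain ⟨P1, hP1⟩ := hP'.exists_le_sylow
  obtain ⟨Q1, hQ1⟩ := hQ'.exists_le_sylow
  obtain ⟨m, hm⟩ := MulAction.exists_smul_eq M P1 Q1
  refine ⟨m, m.2, (Q1 : Subgroup M).map M.subtype, Q1.2.map _, ?_, ?_⟩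
  · intro x hx
    exact ⟨⟨x, hQM hx⟩, hQ1 (mem_subgroupOf.2 hx), rfl⟩
  · intro x hx
    have h1 : (⟨x, hPM hx⟩ : M) ∈ (P1 : Subgroup M) := hP1 (mem_subgroupOf.2 hx)
    have h2 : m * ⟨x, hPM hx⟩ * m⁻¹ ∈ ((m • P1 : Sylow p M) : Subgroup M) := by
      have : ((m • P1 : Sylow p M) : Subgroup M) =
        (P1 : Subgroup M).map (MulAut.conj m).toMonoidHom := rfl
      rw [this]
      exact ⟨_, h1, rfl⟩
    rw [hm] at h2
    exact ⟨_, h2, rfl⟩

theorem conj_eq_of_closure {T : Subgroup H} {D : Set H}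
    (hD : ∀ d ∈ D, ∀ g : H, g * d * g⁻¹ ∈ T → g * d * g⁻¹ ∈ D) {g : H}
    (hg : ∀ d ∈ D, g * d * g⁻¹ ∈ T) :
    (closure D).map (MulAut.conj g).toMonoidHom = closure D := by
  apply Subgroup.eq_of_le_of_card_ge
  · rw [MonoidHom.map_closure, closure_le]
    rintro _ ⟨d, hd, rfl⟩
    exact subset_closure (hD d hd g (hg d hd))
  · rw [Subgroup.card_map_of_injective (MulAut.conj g).injective]

theorem main (T : Sylow p H) {D : Set H} (hDT : ∀ d ∈ D, d ∈ (T : Subgroup H))
    (hD : ∀ d ∈ D, ∀ g : H, g * d * g⁻¹ ∈ (T : Subgroup H) → g * d * g⁻¹ ∈ D)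
    (hAc : ∀ a ∈ closure D, ∀ b ∈ closure D, a * b = b * a) {z : H} (hz : z ∈ D)
    (hzT : ∀ t ∈ (T : Subgroup H), t * z = z * t)
    (hsc : ∀ a ∈ closure D, ∀ g : H, g * z = z * g → g * a * g⁻¹ ∈ (T : Subgroup H) →
      g * a * g⁻¹ ∈ closure D) :
    Cfsg.IsStronglyClosed (closure D) (T : Subgroup H) := by
  have hAT : closure D ≤ (T : Subgroup H) := (closure_le _).2 hDT
  refine ⟨hAT, ?_⟩
  intro a ha g hgT
  set b := g * a * g⁻¹ with hb
  have hAp : IsPGroup p (closure D) := T.2.to_le hAT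
  have hTz : (T : Subgroup H) ≤ centralizer ({z} : Set H) := by
    intro t ht
    rw [mem_centralizer_singleton_iff]
    exact hzT t ht
  -- `A^g` and `z` in `C(b)`
  have h1 : (closure D).map (MulAut.conj g).toMonoidHom ≤ centralizer ({b} : Set H) := by
    rintro _ ⟨x, hx, rfl⟩
    rw [mem_centralizer_singleton_iff]
    change g * x * g⁻¹ * (g * a * g⁻¹) = g * a * g⁻¹ * (g * x * g⁻¹)
    have := hAc x hx a ha
    calc g * x * g⁻¹ * (g * a * g⁻¹) = g * (x * a) * g⁻¹ := by group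
      _ = g * (a * x) * g⁻¹ := by rw [this]
      _ = g * a * g⁻¹ * (g * x * g⁻¹) := by group
  have hzC : zpowers z ≤ centralizer ({b} : Set H) := by
    rw [zpowers_le, mem_centralizer_singleton_iff]
    exact (hzT b hgT).symm
  have hzp : IsPGroup p (zpowers z) := T.2.to_le (by rw [zpowers_le]; exact hDT z hz)
  obtain ⟨l, hl, R, hR, hzR, hlR⟩ := exists_common (hAp.map _) h1 hzp hzC
  -- `R` is conjugate into `T`
  obtain ⟨h, -, hhR⟩ := exists_conj_mem T (M := ⊤) le_top hR le_top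
  have h2 : h * z * h⁻¹ ∈ closure D :=
    subset_closure (hD z hz h (hhR z (hzR (mem_zpowers z))))
  have h3 : (closure D).map (MulAut.conj (h * l * g)).toMonoidHom = closure D := by
    apply conj_eq_of_closure hD
    intro d hd
    have h4 := hhR _ (hlR _ ⟨d, subset_closure hd, rfl⟩)
    have h5 : h * l * g * d * (h * l * g)⁻¹ =
        h * (l * ((MulAut.conj g).toMonoidHom d) * l⁻¹) * h⁻¹ := by
      change _ = h * (l * (g * d * g⁻¹) * l⁻¹) * h⁻¹
      group
    rw [h5]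
    exact h4
  -- `z ∈ A^(l g)`
  have h4 : z ∈ (closure D).map (MulAut.conj (l * g)).toMonoidHom := by
    rw [← h3] at h2
    obtain ⟨x, hx, hxz⟩ := h2
    refine ⟨x, hx, ?_⟩
    change (l * g) * x * (l * g)⁻¹ = z
    change h * l * g * x * (h * l * g)⁻¹ = h * z * h⁻¹ at hxz
    have : z = h⁻¹ * (h * z * h⁻¹) * h := by group
    rw [this, ← hxz]
    group
  have h5 : (closure D).map (MulAut.conj (l * g)).toMonoidHom ≤ centralizer ({z} : Set H) := by
    obtain ⟨y, hy, hyz⟩ := h4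
    rintro _ ⟨x, hx, rfl⟩
    rw [mem_centralizer_singleton_iff, ← hyz]
    rw [← map_mul, ← map_mul, hAc x hx y hy]
  obtain ⟨c, hc, hcT⟩ := exists_conj_mem T hTz (hAp.map (MulAut.conj (l * g)).toMonoidHom) h5
  have h6 : (closure D).map (MulAut.conj (c * (l * g))).toMonoidHom = closure D := by
    apply conj_eq_of_closure hD
    intro d hd
    have h7 := hcT _ ⟨d, subset_closure hd, rfl⟩
    have h8 : c * (l * g) * d * (c * (l * g))⁻¹ = c * ((MulAut.conj (l * g)).toMonoidHom d) * c⁻¹ := by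
      change _ = c * ((l * g) * d * (l * g)⁻¹) * c⁻¹
      group
    rw [h8]
    exact h7
  have h7 : c * (l * g) * a * (c * (l * g))⁻¹ ∈ closure D := by
    have : c * (l * g) * a * (c * (l * g))⁻¹ ∈
      (closure D).map (MulAut.conj (c * (l * g))).toMonoidHom := ⟨a, ha, rfl⟩
    rwa [h6] at this
  have h8 : b = c⁻¹ * (c * (l * g) * a * (c * (l * g))⁻¹) * c⁻¹⁻¹ := by
    rw [mem_centralizer_singleton_iff] at hl
    have h9 : l * b * l⁻¹ = b := by rw [hl]; group
    rw [← h9, hb]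
    group
  rw [mem_centralizer_singleton_iff] at hc
  have h9 : c⁻¹ * z = z * c⁻¹ := by
    calc c⁻¹ * z = c⁻¹ * (z * c) * c⁻¹ := by group
      _ = c⁻¹ * (c * z) * c⁻¹ := by rw [hc]
      _ = z * c⁻¹ := by group
  rw [h8]
  exact hsc _ h7 c⁻¹ h9 (h8 ▸ hgT)

end Cfsg.Agent.SylowL.KeyClosed
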