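import Cfsg.Agent.SylowL.QuotT
import Cfsg.Agent.SylowL.KeyClosed
import Cfsg.Agent.SylowL.LocalComp
import Cfsg.Agent.Lib.NormalAbelian

/-!
# The centralizer of an involution of rank 2

Abstract form: `H` is the centralizer of the involution, `l B = 1 + U B W`. The conclusion is that the
subgroup `M` containing the centralizers of the long root involutions is all of `H`.
-/

set_option autoImplicit false
set_option linter.unusedSectionVars false

namespace Cfsg.Agent.SylowL.CentT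

open Subgroup Cfsg Matrix
open scoped commutatorElement
open Cfsg.Agent.SylowL.CompFacts

universe u

section Mat

variable {F : Type*} [Field F] [CharP F 2]

local notation "M2" => Matrix (Fin 2) (Fin 2) F

/-- upper unitriangular matrix -/
def up (b : F) : Matrix (Fin 2) (Fin 2) F := !![1, b; 0, 1]

/-- multiple of the matrix unit -/
def E (b : F) : Matrix (Fin 2) (Fin 2) F := !![0, b; 0, 0]

/-- lower matrix unit -/
def E' (b : F) : Matrix (Fin 2) (Fin 2) F := !![0, 0; b, 0]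

theorem two_zero (x : F) : x + x = 0 := CharTwo.add_self_eq_zero x

theorem add_self (B : M2) : B + B = 0 := by
  ext i j
  exact two_zero _

theorem E_add (b c : F) : E b + E c = E (b + c) := by
  simp [E]

theorem E_zero : E (0 : F) = 0 := by
  ext i j
  fin_cases i <;> fin_cases j <;> simp [E]

theorem trace_zero_iff (B : M2) : B.trace = 0 ↔ B 0 0 = B 1 1 := by
  rw [Matrix.trace_fin_two]
  constructor
  · intro h
    have := eq_neg_of_add_eq_zero_left h
    rwa [CharTwo.neg_eq] at this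
  · intro h
    rw [h, two_zero]

theorem eq_of_trace {B : M2} (h : B.trace = 0) : B = !![B 0 0, B 0 1; B 1 0, B 0 0] := by
  rw [trace_zero_iff] at h
  ext i j
  fin_cases i <;> fin_cases j <;> simp [h]

theorem up_conj {B : M2} (h : B.trace = 0) (b : F) :
    up b * B * up b + B = (b * B 1 0) • 1 + E (b ^ 2 * B 1 0) := by
  have h2 : (2 : F) = 0 := CharTwo.two_eq_zero
  have h1 := eq_of_trace h
  generalize B 0 0 = x at h1
  generalize B 0 1 = y at h1
  generalize hw : B 1 0 = w at h1 ⊢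
  subst h1
  ext i j
  fin_cases i <;> fin_cases j <;> simp [up, E]
  · linear_combination x * h2
  · linear_combination (b * x + y) * h2
  · linear_combination w * h2
  · linear_combination x * h2

theorem up_conj_eq {B : M2} (h : B.trace = 0) (b : F) :
    up b * B * up b = B + ((b * B 1 0) • 1 + E (b ^ 2 * B 1 0)) := by
  rw [← up_conj h b, add_comm (up b * B * up b), ← add_assoc, add_self, zero_add]

theorem up_mul_up (b : F) : up b * up b = 1 := by
  have h2 : (2 : F) = 0 := CharTwo.two_eq_zero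
  ext i j
  fin_cases i <;> fin_cases j <;> simp [up, Matrix.mul_apply, Fin.sum_univ_two]
  linear_combination b * h2

theorem trace_conj {P P' : M2} (h : P * P' = 1) (B : M2) : (P * B * P').trace = B.trace := by
  rw [mul_assoc, Matrix.trace_mul_comm, mul_assoc, mul_eq_one_comm.1 h, mul_one]

/-- a matrix normalising `E 1` modulo scalars -/
theorem eq_smul_up {P P' : M2} (h : P * P' = 1) {c : F} (hc : P * E 1 * P' = E 1 + c • 1) :
    ∃ b : F, ∀ B, P * B * P' = up b * B * up b := by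
  have h' := mul_eq_one_comm.1 h
  have h2 : (2 : F) = 0 := CharTwo.two_eq_zero
  have hE : E (1 : F) * E 1 = 0 := by
    ext i j
    fin_cases i <;> fin_cases j <;> simp [E, Matrix.mul_apply, Fin.sum_univ_two]
  have h1 : (P * E 1 * P') * (P * E 1 * P') = 0 := by
    calc (P * E 1 * P') * (P * E 1 * P') = P * E 1 * (P' * P) * E 1 * P' := by simp only [mul_assoc]
      _ = P * (E 1 * E 1) * P' := by rw [h', mul_one, mul_assoc P]
      _ = 0 := by rw [hE, mul_zero, zero_mul]
  have hc0 : c = 0 := by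
    rw [hc] at h1
    have h3 := congrFun (congrFun h1 0) 0
    simp [E, Matrix.mul_apply, Fin.sum_univ_two, Matrix.add_apply] at h3
    exact h3
  rw [hc0, zero_smul, add_zero] at hc
  have h3 : P * E 1 = E 1 * P := by
    calc P * E 1 = P * E 1 * (P' * P) := by rw [h', mul_one]
      _ = (P * E 1 * P') * P := by simp only [mul_assoc]
      _ = E 1 * P := by rw [hc]
  have h10 : P 1 0 = 0 := by
    have := congrFun (congrFun h3 0) 0
    simpa [E, Matrix.mul_apply, Fin.sum_univ_two] using this.symm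
  have h11 : P 0 0 = P 1 1 := by
    have := congrFun (congrFun h3 0) 1
    simpa [E, Matrix.mul_apply, Fin.sum_univ_two] using this
  have ha : P 0 0 ≠ 0 := by
    intro ha
    have h4 := congrArg Matrix.det h
    rw [Matrix.det_mul, Matrix.det_fin_two P, h10, ha] at h4
    simp at h4
  refine ⟨P 0 1 / P 0 0, ?_⟩
  set b := P 0 1 / P 0 0 with hb
  have hP : P = P 0 0 • up b := by
    ext i j
    fin_cases i <;> fin_cases j
    · simp [up]
    · simp [up, hb]
      field_simp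
    · simp [up, h10]
    · simp [up, ← h11]
  obtain ⟨a, ha', hP⟩ : ∃ a : F, a ≠ 0 ∧ P = a • up b := ⟨P 0 0, ha, hP⟩
  clear_value b
  clear ha
  subst hP
  have hP' : P' = a⁻¹ • up b := by
    have h5 : (a • up b) * (a⁻¹ • up b) = 1 := by
      rw [smul_mul_smul_comm, mul_inv_cancel₀ ha', up_mul_up, one_smul]
    calc P' = P' * ((a • up b) * (a⁻¹ • up b)) := by rw [h5, mul_one]
      _ = (P' * (a • up b)) * (a⁻¹ • up b) := by rw [mul_assoc]
      _ = _ := by rw [h', one_mul]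
  intro B
  rw [hP', smul_mul_assoc, smul_mul_smul_comm, mul_inv_cancel₀ ha', one_smul]

/-- trace zero matrices -/
def V0 (F : Type*) [Field F] : AddSubgroup (Matrix (Fin 2) (Fin 2) F) where
  carrier := {B | B.trace = 0}
  add_mem' {a b} ha hb := by
    change (a + b).trace = 0
    rw [Matrix.trace_add, ha, hb, add_zero]
  zero_mem' := Matrix.trace_zero _ _
  neg_mem' {a} ha := by
    change (-a).trace = 0
    rw [Matrix.trace_neg, ha, neg_zero]

/-- scalar matrices -/
def VI (F : Type*) [Field F] : AddSubgroup (Matrix (Fin 2) (Fin 2) F) where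
  carrier := {B | ∃ c : F, B = c • 1}
  add_mem' := by
    rintro _ _ ⟨c, rfl⟩ ⟨d, rfl⟩
    exact ⟨c + d, (add_smul c d _).symm⟩
  zero_mem' := ⟨0, (zero_smul _ _).symm⟩
  neg_mem' := by
    rintro _ ⟨c, rfl⟩
    exact ⟨-c, (neg_smul c _).symm⟩

/-- matrices commuting with `E 1`. -/
def VC (F : Type*) [Field F] : AddSubgroup (Matrix (Fin 2) (Fin 2) F) where
  carrier := {B | B 1 0 = 0 ∧ B 0 0 = B 1 1}
  add_mem' {a b} ha hb := by
    refine ⟨?_, ?_⟩
    · rw [Matrix.add_apply, ha.1, hb.1, add_zero]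
    · rw [Matrix.add_apply, Matrix.add_apply, ha.2, hb.2]
  zero_mem' := ⟨rfl, rfl⟩
  neg_mem' {a} ha := by
    refine ⟨?_, ?_⟩
    · rw [Matrix.neg_apply, ha.1, neg_zero]
    · rw [Matrix.neg_apply, Matrix.neg_apply, ha.2]

theorem trace_E (b : F) : (E b).trace = 0 := by
  rw [Matrix.trace_fin_two]
  simp [E]

theorem trace_one_smul (c : F) : (c • (1 : M2)).trace = 0 := by
  rw [trace_zero_iff]
  simp

theorem E_ne_zero {b : F} (hb : b ≠ 0) : E b ≠ 0 := by
  intro h
  have := congrFun (congrFun h 0) 1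
  simp [E] at this
  exact hb this

theorem smul_add_E (x y : F) : x • (1 : M2) + E y = !![x, y; 0, x] := by
  ext i j
  fin_cases i <;> fin_cases j <;> simp [E]

theorem VC_le : VC F ≤ V0 F := by
  intro B hB
  exact (trace_zero_iff B).2 hB.2

theorem up_conj_VC {B : M2} (hB : B ∈ VC F) (b : F) : up b * B * up b = B := by
  rw [up_conj_eq (VC_le hB), hB.1, mul_zero, mul_zero, zero_smul, E_zero, add_zero, add_zero]

end Mat

section Grp

variable {H : Type u} [Group H] [Finite H] {F : Type*} [Field F] [Finite F] [CharP F 2]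

/-- The setting. -/
structure Data (T : Sylow 2 H) (M O : Subgroup H) (l : Matrix (Fin 2) (Fin 2) F → H) : Prop where
  T_le : (T : Subgroup H) ≤ M
  O_nor : M ≤ normalizer (O : Set H)
  O_odd : (Nat.card O).Coprime 2
  l_mem : ∀ B, l B ∈ (T : Subgroup H)
  l_add : ∀ B B', l (B + B') = l B * l B'
  l_inj : Function.Injective l
  act : ∀ s ∈ (T : Subgroup H), ∃ P P' : Matrix (Fin 2) (Fin 2) F, P * P' = 1 ∧
    ∀ B, s * l B * s⁻¹ = l (P * B * P')
  up : ∀ b : F, ∃ s ∈ (T : Subgroup H), ∀ B, s * l B * s⁻¹ = l (up b * B * up b)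
  conj : ∀ P P' : Matrix (Fin 2) (Fin 2) F, P * P' = 1 → P.det = 1 → ∀ B, ∃ k ∈ M,
    k * l B * k⁻¹ = l (P * B * P')
  lng : (∀ b : F, ∀ s ∈ (T : Subgroup H), s * l (E b) = l (E b) * s) →
    ∀ g ∈ M, ∀ b : F, ∃ B : Matrix (Fin 2) (Fin 2) F, B.trace = 0 ∧
    (l B)⁻¹ * (g * l (E b) * g⁻¹) ∈ O
  M1 : ∀ b : F, b ≠ 0 → ∀ g, g * l (E b) * g⁻¹ ∈ M → g ∈ M
  con : ∀ b : F, b ≠ 0 → Cfsg.IsPConstrained 2 (centralizer ({l (E b)} : Set H))
  card : 4 ≤ Nat.card F

variable {T : Sylow 2 H} {M O : Subgroup H} {l : Matrix (Fin 2) (Fin 2) F → H}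

namespace Data

variable (D : Data T M O l)

include D

theorem l_zero : l 0 = 1 := by
  have := D.l_add 0 0
  rw [add_zero] at this
  exact mul_eq_left.1 this.symm

theorem l_sq (B : Matrix (Fin 2) (Fin 2) F) : l B * l B = 1 := by
  rw [← D.l_add, add_self, D.l_zero]

theorem l_inv (B : Matrix (Fin 2) (Fin 2) F) : (l B)⁻¹ = l B :=
  inv_eq_of_mul_eq_one_left (D.l_sq B)

theorem l_comm (B B' : Matrix (Fin 2) (Fin 2) F) : l B * l B' = l B' * l B := by
  rw [← D.l_add, ← D.l_add, add_comm]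

/-- image of an additive subgroup -/
def img (V : AddSubgroup (Matrix (Fin 2) (Fin 2) F)) : Subgroup H where
  carrier := {x | ∃ B ∈ V, l B = x}
  mul_mem' := by
    rintro _ _ ⟨B, hB, rfl⟩ ⟨B', hB', rfl⟩
    exact ⟨B + B', V.add_mem hB hB', D.l_add B B'⟩
  one_mem' := ⟨0, V.zero_mem, D.l_zero⟩
  inv_mem' := by
    rintro _ ⟨B, hB, rfl⟩
    exact ⟨B, hB, (D.l_inv B).symm⟩

theorem mem_img {V : AddSubgroup (Matrix (Fin 2) (Fin 2) F)} {x : H} :
    x ∈ D.img V ↔ ∃ B ∈ V, l B = x := Iff.rfl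

theorem l_mem_img {V : AddSubgroup (Matrix (Fin 2) (Fin 2) F)} {B : Matrix (Fin 2) (Fin 2) F} :
    l B ∈ D.img V ↔ B ∈ V := by
  constructor
  · rintro ⟨B', hB', h⟩
    rwa [← D.l_inj h]
  · exact fun h => ⟨B, h, rfl⟩

theorem img_le (V : AddSubgroup (Matrix (Fin 2) (Fin 2) F)) : D.img V ≤ (T : Subgroup H) := by
  rintro _ ⟨B, -, rfl⟩
  exact D.l_mem B

theorem img_mono {V W : AddSubgroup (Matrix (Fin 2) (Fin 2) F)} (h : V ≤ W) : D.img V ≤ D.img W := by
  rintro _ ⟨B, hB, rfl⟩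
  exact ⟨B, h hB, rfl⟩

/-- the action of `T` on `A` is the one of the group of upper unitriangular matrices -/
theorem exists_up {s : H} (hs : s ∈ (T : Subgroup H)) : ∃ b : F, ∀ B, s * l B * s⁻¹ = l (CentT.up b * B * CentT.up b) := by
  haveI : Fact (Nat.Prime 2) := ⟨Nat.prime_two⟩
  have hnil : Group.IsNilpotent (T : Subgroup H) := T.2.isNilpotent
  have hn : ∀ V : AddSubgroup (Matrix (Fin 2) (Fin 2) F),
      (∀ P P' : Matrix (Fin 2) (Fin 2) F, P * P' = 1 → ∀ B ∈ V, P * B * P' ∈ V) →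
      ((D.img V).subgroupOf (T : Subgroup H)).Normal := by
    intro V hV
    constructor
    rintro ⟨x, hx⟩ hx' ⟨s, hs⟩
    obtain ⟨B, hB, hBx⟩ := hx'
    obtain ⟨P, P', hP, h1⟩ := D.act s hs
    refine ⟨P * B * P', hV P P' hP B hB, ?_⟩
    change l (P * B * P') = s * x * s⁻¹
    rw [← h1]
    change l B = x at hBx
    rw [hBx]
  have hn0 := hn (V0 F) (fun P P' hP B hB => by
    change (P * B * P').trace = 0
    rw [trace_conj hP]
    exact hB)
  have hnI := hn (VI F) (by
    rintro P P' hP _ ⟨c, rfl⟩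
    refine ⟨c, ?_⟩
    rw [Matrix.mul_smul, mul_one, Matrix.smul_mul, hP])
  have hne : ¬ (D.img (V0 F)).subgroupOf (T : Subgroup H) ≤ (D.img (VI F)).subgroupOf (T : Subgroup H) := by
    intro h
    have h1 : (⟨l (E 1), D.l_mem _⟩ : (T : Subgroup H)) ∈ (D.img (V0 F)).subgroupOf (T : Subgroup H) :=
      ⟨E 1, trace_E 1, rfl⟩
    have h2 := h h1
    rw [mem_subgroupOf, D.l_mem_img] at h2
    obtain ⟨c, hc⟩ := h2
    have h3 := congrFun (congrFun hc 0) 1
    simp [E] at h3
  obtain ⟨⟨x, hxT⟩, hx, hxI, hcom⟩ := Lib.NormalAbelian.exists_mem_not_mem_central_mod hnI hn0 hne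
  obtain ⟨B, hB, rfl⟩ := hx
  rw [mem_subgroupOf, D.l_mem_img] at hxI
  have hB' : B.trace = 0 := hB
  have key : ∀ s ∈ (T : Subgroup H), ∀ P P' : Matrix (Fin 2) (Fin 2) F,
      s * l B * s⁻¹ = l (P * B * P') → ∃ c : F, B + P * B * P' = c • 1 := by
    intro s hs P P' h1
    obtain ⟨C, ⟨c, rfl⟩, hC⟩ := hcom ⟨s, hs⟩
    refine ⟨c, D.l_inj ?_⟩
    rw [hC, D.l_add, ← h1]
    change _ = l B * s * (l B)⁻¹ * s⁻¹
    rw [D.l_inv, mul_assoc, mul_assoc, mul_assoc]
  have hw : B 1 0 = 0 := by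
    obtain ⟨s, hs, h1⟩ := D.up 1
    obtain ⟨c, hc⟩ := key s hs _ _ (h1 B)
    rw [add_comm, up_conj hB'] at hc
    have h3 := congrFun (congrFun hc 0) 1
    simpa [E] using h3
  obtain ⟨P, P', hP, hPB⟩ := D.act s hs
  obtain ⟨c, hc⟩ := key s hs _ _ (hPB B)
  have hBd : B = (B 0 0) • 1 + (B 0 1) • E 1 := by
    rw [eq_of_trace hB', hw]
    ext i j
    fin_cases i <;> fin_cases j <;> simp [E]
  have hy : B 0 1 ≠ 0 := by
    intro hy
    apply hxI
    refine ⟨B 0 0, ?_⟩
    rw [hy, zero_smul, add_zero] at hBd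
    exact hBd
  have hfin : P * E 1 * P' = E 1 + (c / B 0 1) • 1 := by
    generalize B 0 0 = x at hBd
    generalize B 0 1 = y at hBd hy ⊢
    subst hBd
    have h1 : y • (E 1 + P * E 1 * P') = c • 1 := by
      rw [← hc]
      have h2 : P * (x • 1 + y • E 1) * P' = x • 1 + y • (P * E 1 * P') := by
        rw [mul_add, add_mul, Matrix.mul_smul, Matrix.mul_smul, mul_one, Matrix.smul_mul,
          Matrix.smul_mul, hP]
      rw [h2, smul_add]
      have h3 : x • (1 : Matrix (Fin 2) (Fin 2) F) + x • 1 = 0 := add_self _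
      calc y • E 1 + y • (P * E 1 * P') = (x • (1 : Matrix (Fin 2) (Fin 2) F) + x • 1) +
            (y • E 1 + y • (P * E 1 * P')) := by rw [h3, zero_add]
        _ = _ := by abel
    have h4 : E 1 + P * E 1 * P' = (c / y) • 1 := by
      rw [div_eq_inv_mul, mul_smul, ← h1, smul_smul, inv_mul_cancel₀ hy, one_smul]
    rw [← h4, ← add_assoc, add_self, zero_add]
  obtain ⟨b, hb⟩ := eq_smul_up hP hfin
  exact ⟨b, fun B => by rw [hPB, hb]⟩

theorem VC_central {B : Matrix (Fin 2) (Fin 2) F} (hB : B ∈ VC F) {s : H}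
    (hs : s ∈ (T : Subgroup H)) : s * l B = l B * s := by
  obtain ⟨b, hb⟩ := D.exists_up hs
  have h1 := hb B
  rw [up_conj_VC hB] at h1
  rw [mul_inv_eq_iff_eq_mul] at h1
  exact h1

omit D in
theorem E_mem_VC (b : F) : E b ∈ VC F := by
  refine ⟨?_, ?_⟩
  · simp [E]
  · simp [E]

theorem lng' {g : H} (hg : g ∈ M) (b : F) : ∃ B : Matrix (Fin 2) (Fin 2) F, B.trace = 0 ∧
    (l B)⁻¹ * (g * l (E b) * g⁻¹) ∈ O :=
  D.lng (fun b _ hs => D.VC_central (E_mem_VC b) hs) g hg b

theorem eq_of_mem {x y : H} (hx : x ∈ (T : Subgroup H)) (hy : y ∈ (T : Subgroup H))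
    (h : y⁻¹ * x ∈ O) : x = y := by
  have h1 := QuotCore.inf_eq_bot_of_coprime T.2 D.O_odd
  have h2 : y⁻¹ * x ∈ (T : Subgroup H) ⊓ O :=
    ⟨(T : Subgroup H).mul_mem ((T : Subgroup H).inv_mem hy) hx, h⟩
  rw [h1, mem_bot, inv_mul_eq_one] at h2
  exact h2.symm

omit D in
/-- conjugates in `T` of long root elements -/
def DD (T : Sylow 2 H) (l : Matrix (Fin 2) (Fin 2) F → H) : Set H :=
  {d | d ∈ (T : Subgroup H) ∧ ∃ h : H, ∃ b : F, b ≠ 0 ∧ d = h * l (E b) * h⁻¹}

theorem mem_M {b : F} (hb : b ≠ 0) {h : H} (hT : h * l (E b) * h⁻¹ ∈ (T : Subgroup H)) : h ∈ M :=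
  D.M1 b hb h (D.T_le hT)

theorem DD_le {d : H} (hd : d ∈ DD T l) : d ∈ D.img (V0 F) := by
  obtain ⟨hdT, h, b, hb, rfl⟩ := hd
  obtain ⟨B, hB, hBO⟩ := D.lng' (D.mem_M hb hdT) b
  rw [D.eq_of_mem hdT (D.l_mem B) hBO]
  exact ⟨B, hB, rfl⟩

theorem mem_closure {P P' : Matrix (Fin 2) (Fin 2) F} (hP : P * P' = 1) (hd : P.det = 1) (b : F) :
    l (P * E b * P') ∈ closure (DD T l) := by
  by_cases hb : b = 0
  · rw [hb, E_zero, mul_zero, zero_mul, D.l_zero]
    exact one_mem _
  · obtain ⟨k, -, hk⟩ := D.conj P P' hP hd (E b)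
    apply Subgroup.subset_closure
    refine ⟨D.l_mem _, k, b, hb, hk.symm⟩

theorem closure_DD : closure (DD T l) = D.img (V0 F) := by
  apply le_antisymm
  · rw [closure_le]
    intro d hd
    exact D.DD_le hd
  · rintro _ ⟨B, hB, rfl⟩
    have h2 : (2 : F) = 0 := CharTwo.two_eq_zero
    have hB' : B.trace = 0 := hB
    have h1 := eq_of_trace hB'
    generalize B 0 0 = x at h1
    generalize B 0 1 = y at h1
    generalize B 1 0 = w at h1
    subst h1
    have h3 : !![x, y; w, x] = (!![1, 0; 1, 1] * E x * !![1, 0; 1, 1] +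
        1 * E (y + x) * 1) + !![0, 1; 1, 0] * E (w + x) * !![0, 1; 1, 0] := by
      ext i j
      fin_cases i <;> fin_cases j <;> simp [E]
      · linear_combination (-x) * h2
      · linear_combination (-x) * h2
    rw [h3, D.l_add, D.l_add]
    refine mul_mem (mul_mem ?_ ?_) ?_
    · apply D.mem_closure
      · ext i j
        fin_cases i <;> fin_cases j <;> simp
        linear_combination h2
      · simp [Matrix.det_fin_two]
    · apply D.mem_closure
      · rw [mul_one]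
      · rw [Matrix.det_one]
    · apply D.mem_closure
      · ext i j
        fin_cases i <;> fin_cases j <;> simp
      · rw [Matrix.det_fin_two]
        simp
        linear_combination -h2

/-- conjugation of `A` by elements of `M` -/
theorem exists_conj {g : H} (hg : g ∈ M) {a : H} (ha : a ∈ D.img (V0 F)) :
    ∃ B : Matrix (Fin 2) (Fin 2) F, B ∈ V0 F ∧ (l B)⁻¹ * (g * a * g⁻¹) ∈ O := by
  rw [← D.closure_DD] at ha
  induction ha using closure_induction with
  | mem d hd =>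
    obtain ⟨hdT, h, b, hb, rfl⟩ := hd
    obtain ⟨B, hB, hBO⟩ := D.lng' (mul_mem hg (D.mem_M hb hdT)) b
    refine ⟨B, hB, ?_⟩
    have : g * (h * l (E b) * h⁻¹) * g⁻¹ = g * h * l (E b) * (g * h)⁻¹ := by group
    rwa [this]
  | one =>
    refine ⟨0, (V0 F).zero_mem, ?_⟩
    rw [D.l_zero, mul_one, mul_inv_cancel, inv_one, one_mul]
    exact one_mem _
  | mul x y _ _ hx hy =>
    obtain ⟨B, hB, h1⟩ := hx
    obtain ⟨B', hB', h2⟩ := hy
    refine ⟨B + B', (V0 F).add_mem hB hB', ?_⟩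
    have h3 : (l (B + B'))⁻¹ * (g * (x * y) * g⁻¹) =
        ((l B')⁻¹ * ((l B)⁻¹ * (g * x * g⁻¹)) * (l B')⁻¹⁻¹) * ((l B')⁻¹ * (g * y * g⁻¹)) := by
      rw [D.l_add]
      group
    rw [h3]
    refine mul_mem ?_ h2
    exact (mem_normalizer_iff.1 (D.O_nor (M.inv_mem (D.T_le (D.l_mem B')))) _).1 h1
  | inv x _ hx =>
    obtain ⟨B, hB, h1⟩ := hx
    refine ⟨B, hB, ?_⟩
    have h3 : (l B)⁻¹ * (g * x⁻¹ * g⁻¹) = l B * ((l B)⁻¹ * (g * x * g⁻¹))⁻¹ * (l B)⁻¹ := by
      rw [D.l_inv]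
      group
    rw [h3]
    exact (mem_normalizer_iff.1 (D.O_nor (D.T_le (D.l_mem B))) _).1 (inv_mem h1)

theorem elem (V : AddSubgroup (Matrix (Fin 2) (Fin 2) F)) : Cfsg.IsElementaryAbelian 2 (D.img V) := by
  constructor
  · constructor
    constructor
    rintro ⟨_, B, -, rfl⟩ ⟨_, B', -, rfl⟩
    exact Subtype.ext (D.l_comm B B')
  · rintro _ ⟨B, -, rfl⟩
    rw [pow_two]
    exact D.l_sq B

/-- `A` is strongly closed in `T` -/
theorem strongly_closed : Cfsg.IsStronglyClosed (D.img (V0 F)) (T : Subgroup H) := by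
  haveI : Fact (Nat.Prime 2) := ⟨Nat.prime_two⟩
  rw [← D.closure_DD]
  have h1 : l (E 1) ∈ DD T l := ⟨D.l_mem _, 1, 1, one_ne_zero, by rw [one_mul, inv_one, mul_one]⟩
  apply KeyClosed.main T (D := DD T l) (fun d hd => hd.1) ?_ ?_ h1
  · intro s hs
    exact D.VC_central (E_mem_VC 1) hs
  · intro a ha g hg hgT
    have hgM : g ∈ M := by
      apply D.mem_M one_ne_zero (b := 1)
      rw [hg, mul_inv_cancel_right]
      exact D.l_mem _
    rw [D.closure_DD] at ha ⊢
    obtain ⟨B, hB, hBO⟩ := D.exists_conj hgM ha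
    rw [D.eq_of_mem hgT (D.l_mem B) hBO]
    exact ⟨B, hB, rfl⟩
  · rintro d ⟨hdT, h, b, hb, rfl⟩ g hg
    refine ⟨hg, g * h, b, hb, ?_⟩
    group
  · rw [D.closure_DD]
    intro a ha b hb
    exact elem_comm (D.elem _) ha hb

theorem comm_eq {s : H} {b : F} (h : ∀ B, s * l B * s⁻¹ = l (CentT.up b * B * CentT.up b))
    {B : Matrix (Fin 2) (Fin 2) F} (hB : B ∈ V0 F) :
    s * l B * s⁻¹ * (l B)⁻¹ = l ((b * B 1 0) • 1 + E (b ^ 2 * B 1 0)) := by
  rw [h, D.l_inv, ← D.l_add, up_conj hB]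

theorem mem_centralizer_iff_eq_zero {s : H} {b : F}
    (h : ∀ B, s * l B * s⁻¹ = l (CentT.up b * B * CentT.up b)) :
    s ∈ centralizer (D.img (V0 F) : Set H) ↔ b = 0 := by
  constructor
  · intro hs
    have h1 : E' (1 : F) ∈ V0 F := by
      change (E' (1 : F)).trace = 0
      rw [Matrix.trace_fin_two]
      simp [E']
    have h2 := D.comm_eq h h1
    have h3 : l (E' 1) * s = s * l (E' 1) := mem_centralizer_iff.1 hs _ ⟨_, h1, rfl⟩
    rw [← h3, mul_inv_cancel_right, mul_inv_cancel, ← D.l_zero] at h2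
    have h4 := congrFun (congrFun (D.l_inj h2) 0) 0
    simpa [E, E'] using h4.symm
  · intro hb
    rw [mem_centralizer_iff]
    rintro _ ⟨B, hB, rfl⟩
    have h2 := D.comm_eq h hB
    rw [hb, zero_mul, zero_smul, zero_pow two_ne_zero, zero_mul, E_zero, add_zero, D.l_zero] at h2
    rw [mul_inv_eq_one, mul_inv_eq_iff_eq_mul] at h2
    exact h2.symm

omit D in
theorem exists_ne (hc : 4 ≤ Nat.card F) : ∃ c : F, c ≠ 0 ∧ c ≠ 1 := by
  by_contra hcon
  push Not at hcon
  have h1 : Set.univ ⊆ ({0, 1} : Set F) := by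
    intro c _
    by_cases h : c = 0
    · exact Or.inl h
    · exact Or.inr (hcon c h)
  have h2 := Set.ncard_le_ncard h1 (Set.toFinite _)
  have h3 := Set.ncard_insert_le (0 : F) {1}
  rw [Set.ncard_singleton] at h3
  rw [Set.ncard_univ] at h2
  omega

theorem l_eq_one {B : Matrix (Fin 2) (Fin 2) F} : l B = 1 ↔ B = 0 := by
  rw [← D.l_zero, D.l_inj.eq_iff]

theorem up_comp {s t : H} {b c : F} (hs : ∀ B, s * l B * s⁻¹ = l (CentT.up b * B * CentT.up b))
    (ht : ∀ B, t * l B * t⁻¹ = l (CentT.up c * B * CentT.up c)) :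
    ∀ B, (s * t) * l B * (s * t)⁻¹ = l (CentT.up (b + c) * B * CentT.up (b + c)) := by
  intro B
  have h1 : (s * t) * l B * (s * t)⁻¹ = s * (t * l B * t⁻¹) * s⁻¹ := by group
  have h2 : CentT.up b * CentT.up c = CentT.up (b + c) := by
    ext i j
    fin_cases i <;> fin_cases j <;> simp [CentT.up, add_comm]
  have h3 : CentT.up c * CentT.up b = CentT.up (b + c) := by
    ext i j
    fin_cases i <;> fin_cases j <;> simp [CentT.up]
  rw [h1, ht, hs]
  congr 1
  calc CentT.up b * (CentT.up c * B * CentT.up c) * CentT.up b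
      = (CentT.up b * CentT.up c) * B * (CentT.up c * CentT.up b) := by simp only [mul_assoc]
    _ = _ := by rw [h2, h3]

theorem isPGroup_zpowers (B : Matrix (Fin 2) (Fin 2) F) : IsPGroup 2 (zpowers (l B)) := by
  rintro ⟨_, k, rfl⟩
  refine ⟨1, Subtype.ext ?_⟩
  change (l B ^ k) ^ (2 ^ 1) = 1
  rw [pow_one, pow_two, ← Commute.mul_zpow (Commute.refl _), D.l_sq, _root_.one_zpow]

/-- the centralizer of the involution is contained in `M` -/
theorem eq_top (hG : GoldHyp.{u}) : M = ⊤ := by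
  haveI : Fact (Nat.Prime 2) := ⟨Nat.prime_two⟩
  have h2 : (2 : F) = 0 := CharTwo.two_eq_zero
  obtain ⟨c, hc0, hc1⟩ := exists_ne D.card
  have hcc : c + c ^ 2 ≠ 0 := by
    intro h
    have h3 : c * (1 + c) = 0 := by rw [← h]; ring
    rcases mul_eq_zero.1 h3 with h3 | h3
    · exact hc0 h3
    · apply hc1
      have := eq_neg_of_add_eq_zero_right h3
      rwa [CharTwo.neg_eq] at this
  have hcc' : 1 + c ^ 2 ≠ 0 := by
    intro h
    apply hc1
    have h3 : (c + 1) ^ 2 = 0 := by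
      rw [← h]
      linear_combination c * h2
    have h4 := pow_eq_zero_iff two_ne_zero |>.1 h3
    have := eq_neg_of_add_eq_zero_left h4
    rwa [CharTwo.neg_eq] at this
  have hex : ∀ s ∈ (T : Subgroup H), ∃ b : F, ∀ B, s * l B * s⁻¹ = l (CentT.up b * B * CentT.up b) :=
    fun s hs => D.exists_up hs
  set A := D.img (V0 F) with hA
  set C := D.img (VC F) with hC
  have hLC : ∀ b : F, b ≠ 0 → ∀ K : Subgroup (H ⧸ Cfsg.oddCore H), Cfsg.IsComponent K →
      QuotientGroup.mk' (Cfsg.oddCore H) (l (E b)) ∉ centralizer (K : Set (H ⧸ Cfsg.oddCore H)) := by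
    intro b hb K hK
    exact LocalComp.not_centralized (D.isPGroup_zpowers _) (D.con b hb) hK
  have hmain : normalizer (A : Set H) ⊔ Cfsg.oddCore H = ⊤ := by
    refine QuotT.main hG T (A := A) (C := C) (D.elem _) D.strongly_closed (D.img_mono VC_le)
      (z := l (E (c + c ^ 2))) ?_ ?_ ?_ ?_ ?_ ?_ ?_ ?_ ?_
    · rintro _ ⟨B, hB, rfl⟩ s hs
      exact D.VC_central hB hs
    · rintro s hs hsA _ ⟨B, hB, rfl⟩ hcom
      obtain ⟨b, hb⟩ := hex s hs
      rw [hA, D.mem_centralizer_iff_eq_zero hb] at hsA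
      have h3 := D.comm_eq hb hB
      rw [hcom, mul_inv_cancel_right, mul_inv_cancel, ← D.l_zero] at h3
      have h4 := congrFun (congrFun (D.l_inj h3) 0) 1
      have h5 : B 1 0 = 0 := by
        simpa [E, hsA] using h4.symm
      exact ⟨B, ⟨h5, (trace_zero_iff B).1 hB⟩, rfl⟩
    · rintro s hs _ ⟨B, hB, rfl⟩
      obtain ⟨b, hb⟩ := hex s hs
      rw [D.comm_eq hb hB]
      refine ⟨_, ?_, rfl⟩
      refine (VC F).add_mem ?_ (E_mem_VC _)
      refine ⟨?_, ?_⟩ <;> simp
    · rintro ⟨K, hK⟩ s hs hsA _ ⟨B, hB, rfl⟩ hcen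
      obtain ⟨b, hb⟩ := hex s hs
      rw [D.comm_eq hb hB] at hcen ⊢
      rw [hA, D.mem_centralizer_iff_eq_zero hb] at hsA
      by_cases hw : B 1 0 = 0
      · rw [hw, mul_zero, mul_zero, zero_smul, E_zero, add_zero, D.l_zero]
      exfalso
      set γ := b ^ 2 * B 1 0 with hγ
      have hγ0 : γ ≠ 0 := mul_ne_zero (pow_ne_zero _ hsA) hw
      obtain ⟨k, hk, hkl⟩ := D.conj !![c, 0; 0, c⁻¹] !![c⁻¹, 0; 0, c] (by
        ext i j
        fin_cases i <;> fin_cases j <;> simp [hc0]) (by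
        rw [Matrix.det_fin_two]
        simp [hc0]) ((b * B 1 0) • 1 + E γ)
      have h3 : !![c, 0; 0, c⁻¹] * ((b * B 1 0) • 1 + E γ) * !![c⁻¹, 0; 0, c] =
          (b * B 1 0) • 1 + E (c ^ 2 * γ) := by
        rw [smul_add_E, smul_add_E]
        ext i j
        fin_cases i <;> fin_cases j <;> simp
        · field_simp
        · ring
        · field_simp
      rw [h3] at hkl
      have hLn : (centralizer (Cfsg.layer (H ⧸ Cfsg.oddCore H) : Set (H ⧸ Cfsg.oddCore H))).Normal := by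
        have := Cfsg.Agent.SignalizersComponents.Components.layer_normal (H ⧸ Cfsg.oddCore H)
        infer_instance
      have h4 := hLn.conj_mem _ hcen (QuotientGroup.mk' (Cfsg.oddCore H) k)
      rw [← map_inv, ← map_mul, ← map_mul, hkl] at h4
      have h5 := mul_mem hcen h4
      rw [← map_mul, ← D.l_add] at h5
      have h6 : (b * B 1 0) • 1 + E γ + ((b * B 1 0) • 1 + E (c ^ 2 * γ)) = E ((1 + c ^ 2) * γ) := by
        ext i j
        fin_cases i <;> fin_cases j <;> simp [E, two_zero]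
        ring
      rw [h6] at h5
      apply hLC _ (mul_ne_zero hcc' hγ0) K hK
      exact centralizer_le (Cfsg.Agent.SignalizersComponents.Components.component_le_layer hK) h5
    · rintro s hs t ht _ ⟨B, hB, rfl⟩
      obtain ⟨b, hb⟩ := hex s hs
      obtain ⟨d, hd⟩ := hex t ht
      rw [D.up_comp hb hd, D.up_comp hd hb, add_comm b d]
    · intro s hs
      obtain ⟨b, hb⟩ := hex s hs
      rw [hA, D.mem_centralizer_iff_eq_zero (D.up_comp hb hb)]
      exact two_zero b
    · obtain ⟨s, hs, hs1⟩ := D.up 1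
      obtain ⟨t, ht, ht1⟩ := D.up c
      refine ⟨s, hs, t, ht, ?_, ?_, ?_⟩
      · rw [hA, D.mem_centralizer_iff_eq_zero hs1]
        exact one_ne_zero
      · rw [hA, D.mem_centralizer_iff_eq_zero ht1]
        exact hc0
      · rw [hA, D.mem_centralizer_iff_eq_zero (D.up_comp hs1 ht1)]
        intro h
        apply hc1
        have := eq_neg_of_add_eq_zero_right h
        rwa [CharTwo.neg_eq] at this
    · obtain ⟨s, hs, hs1⟩ := D.up 1
      obtain ⟨t, ht, ht1⟩ := D.up c
      have hE : ∀ w : F, E' w ∈ V0 F := by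
        intro w
        change (E' w).trace = 0
        rw [Matrix.trace_fin_two]
        simp [E']
      have key : ∀ s ∈ (T : Subgroup H), ∀ B ∈ V0 F, s * l B * s⁻¹ * (l B)⁻¹ ∈ ⁅A, (T : Subgroup H)⁆ := by
        intro s hs B hB
        rw [commutator_comm]
        exact commutator_mem_commutator hs ⟨B, hB, rfl⟩
      have h3 := key s hs (E' c) (hE c)
      have h4 := key t ht (E' 1) (hE 1)
      rw [D.comm_eq hs1 (hE c)] at h3
      rw [D.comm_eq ht1 (hE 1)] at h4
      have h5 := mul_mem h3 h4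
      rw [← D.l_add] at h5
      have h6 : ((1 * E' c 1 0) • 1 + E (1 ^ 2 * E' c 1 0) + ((c * E' 1 1 0) • 1 + E (c ^ 2 * E' 1 1 0)) :
          Matrix (Fin 2) (Fin 2) F) = E (c + c ^ 2) := by
        ext i j
        fin_cases i <;> fin_cases j <;> simp [E, E', two_zero]
      rwa [h6] at h5
    · exact hLC _ hcc
  rw [eq_top_iff, ← hmain]
  refine sup_le ?_ ?_
  · intro g hg
    apply D.M1 1 one_ne_zero
    apply D.T_le
    apply D.img_le (V0 F)
    exact (mem_normalizer_iff.1 hg _).1 ⟨E 1, trace_E 1, rfl⟩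
  · let V : AddSubgroup (Matrix (Fin 2) (Fin 2) F) :=
      { carrier := {B | ∃ b : F, B = E b}
        add_mem' := by
          rintro _ _ ⟨b, rfl⟩ ⟨d, rfl⟩
          exact ⟨b + d, E_add b d⟩
        zero_mem' := ⟨0, E_zero.symm⟩
        neg_mem' := by
          rintro _ ⟨b, rfl⟩
          refine ⟨b, ?_⟩
          rw [neg_eq_iff_add_eq_zero, add_self] }
    apply OddAct.le_of_commute (D.img V) (Cfsg.oddCore H) M
    · intro a ha b hb
      exact elem_comm (D.elem V) ha hb
    · intro a ha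
      exact elem_sq (D.elem V) ha
    · refine ⟨l (E 1), ⟨_, ⟨1, rfl⟩, rfl⟩, l (E c), ⟨_, ⟨c, rfl⟩, rfl⟩, ?_, ?_, ?_⟩
      · rw [Ne, D.l_eq_one]
        exact E_ne_zero one_ne_zero
      · rw [Ne, D.l_eq_one]
        exact E_ne_zero hc0
      · rw [← D.l_add, Ne, D.l_eq_one, E_add]
        apply E_ne_zero
        intro h
        apply hc1
        have := eq_neg_of_add_eq_zero_right h
        rwa [CharTwo.neg_eq] at this
    · exact Nat.Coprime.odd_of_right (QuotCore.odd_oddCore (H := H))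
    · rw [Subgroup.normalizer_eq_top]
      exact le_top
    · rintro _ ⟨_, ⟨b, rfl⟩, rfl⟩ hb f _ hf
      have hb0 : b ≠ 0 := by
        rintro rfl
        apply hb
        rw [E_zero, D.l_zero]
      apply D.M1 b hb0
      rw [hf, mul_inv_cancel_right]
      exact D.T_le (D.l_mem _)

end Data

end Grp

end Cfsg.Agent.SylowL.CentT
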