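import Mathlib
import Cfsg.Prelude.Def_Local
import Cfsg.Prelude.Def_TwoFusion
import Cfsg.Agent.S1250
import Cfsg.Agent.SignalizersComponents.BalanceAux
import Cfsg.Agent.SignalizersComponents.Components
import Cfsg.Agent.SignalizersComponents.PCompCore
import Cfsg.Agent.SignalizersComponents.PConstrained

/-!
# Strongly closed elementary abelian 2-subgroups and components

`GoldHyp` collects what is used of Goldschmidt's theorem on strongly closed abelian 2-subgroups (elementary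
abelian case). From it we derive the facts on the action of an elementary abelian strongly closed 2-subgroup on
a component which are needed for groups with Sylow 2-subgroups of type `PSL(m, 2^r)`.
-/

set_option autoImplicit false
set_option linter.unusedSectionVars false

namespace Cfsg.Agent.SylowL.CompFacts

open Subgroup Cfsg
open Cfsg.Agent.SignalizersComponents
open Cfsg.Agent.SignalizersComponents.Components

universe u

/-- What is used of Goldschmidt's theorem. -/
structure GoldHyp : Prop where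
  inner : ∀ (X : Type u) [Group X] [Finite X], Cfsg.oddCore X = ⊥ → ∀ (S : Sylow 2 X) (A : Subgroup X),
    Cfsg.IsElementaryAbelian 2 A → Cfsg.IsStronglyClosed A (S : Subgroup X) → ∀ K : Subgroup X,
    Cfsg.IsComponent K → ¬ K ≤ centralizer (A : Set X) →
    ∀ a ∈ A, ∃ v ∈ A ⊓ K, ∃ c ∈ A ⊓ centralizer (K : Set X), a = v * c
  conj : ∀ (L : Type u) [Group L] [Finite L] [IsSimpleGroup L], ¬ IsMulCommutative L →
    ∀ (S : Sylow 2 L) (A : Subgroup L), Cfsg.IsElementaryAbelian 2 A →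
    Cfsg.IsStronglyClosed A (S : Subgroup L) → A ≠ ⊥ →
    (∀ x y : L, orderOf x = 2 → orderOf y = 2 → ∃ g : L, g * x * g⁻¹ = y) ∧
    ∀ x ∈ (S : Subgroup L), x * x = 1 → ∀ s ∈ (S : Subgroup L), s * x = x * s

theorem elem_comm {X : Type*} [Group X] {A : Subgroup X} (hA : Cfsg.IsElementaryAbelian 2 A) {a b : X}
    (ha : a ∈ A) (hb : b ∈ A) : a * b = b * a := by
  have := hA.1
  exact congrArg Subtype.val (this.is_comm.comm (⟨a, ha⟩ : A) ⟨b, hb⟩)

theorem elem_sq {X : Type*} [Group X] {A : Subgroup X} (hA : Cfsg.IsElementaryAbelian 2 A) {a : X}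
    (ha : a ∈ A) : a * a = 1 := by
  rw [← pow_two]
  exact hA.2 a ha

variable {X : Type u} [Group X] [Finite X] {S : Sylow 2 X} {A B K L : Subgroup X}

/-- `S ∩ K` is a Sylow 2-subgroup of the component `K`. -/
theorem exists_sylow (S : Sylow 2 X) (hK : K.IsSubnormal) :
    ∃ P : Sylow 2 K, (P : Subgroup K) = (S : Subgroup X).subgroupOf K := by
  have h1 : IsPGroup 2 ((S : Subgroup X).subgroupOf K) := S.2.comap_subtype
  have h2 : ¬ 2 ∣ ((S : Subgroup X).subgroupOf K).index := by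
    intro h
    have h3 : (S : Subgroup X).relIndex K ∣ (S : Subgroup X).index :=
      PCompCore.relIndex_dvd_index_of_subnormal (S : Subgroup X) hK
    exact S.not_dvd_index (h.trans h3)
  exact ⟨h1.toSylow h2, rfl⟩

theorem sc_subgroupOf (K : Subgroup X) (hA : Cfsg.IsStronglyClosed A (S : Subgroup X)) :
    Cfsg.IsStronglyClosed (A.subgroupOf K) ((S : Subgroup X).subgroupOf K) := by
  refine ⟨fun x hx => hA.1 hx, ?_⟩
  intro x hx g hg
  exact hA.2 x hx g hg

theorem mem_center_iff_mem_centralizer {x : K} :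
    x ∈ center K ↔ (x : X) ∈ centralizer (K : Set X) := by
  rw [mem_center_iff, mem_centralizer_iff]
  constructor
  · intro h k hk
    exact congrArg Subtype.val (h ⟨k, hk⟩)
  · intro h k
    exact Subtype.ext (h k k.2)

/-- The image of `S ∩ K` in `K/Z(K)` is a Sylow 2-subgroup, the image of a strongly closed subgroup is strongly
closed. -/
theorem exists_quot (S : Sylow 2 X) (hK : K.IsSubnormal) :
    ∃ P : Sylow 2 (K ⧸ center K),
      (P : Subgroup (K ⧸ center K)) = ((S : Subgroup X).subgroupOf K).map (QuotientGroup.mk' (center K)) ∧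
      ∀ A : Subgroup X, Cfsg.IsStronglyClosed A (S : Subgroup X) →
        Cfsg.IsStronglyClosed ((A.subgroupOf K).map (QuotientGroup.mk' (center K)))
          (P : Subgroup (K ⧸ center K)) := by
  obtain ⟨P0, hP0⟩ := exists_sylow S hK
  refine ⟨P0.mapSurjective (QuotientGroup.mk'_surjective (center K)), ?_, ?_⟩
  · rw [← hP0]
    rfl
  · intro A hA
    have h1 : Cfsg.IsStronglyClosed (A.subgroupOf K) (P0 : Subgroup K) := by
      rw [hP0]
      exact sc_subgroupOf K hA
    exact S1250.result P0 (A.subgroupOf K) h1 (center K)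

theorem elem_map {Y : Type*} [Group Y] (hA : Cfsg.IsElementaryAbelian 2 A) (K : Subgroup X) (f : K →* Y) :
    Cfsg.IsElementaryAbelian 2 ((A.subgroupOf K).map f) := by
  constructor
  · constructor
    constructor
    rintro ⟨_, a, ha, rfl⟩ ⟨_, b, hb, rfl⟩
    apply Subtype.ext
    change f a * f b = f b * f a
    rw [← map_mul, ← map_mul]
    congr 1
    exact Subtype.ext (elem_comm hA (mem_subgroupOf.1 ha) (mem_subgroupOf.1 hb))
  · rintro _ ⟨a, ha, rfl⟩
    rw [← map_pow]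
    have : a ^ 2 = 1 := Subtype.ext (hA.2 a (mem_subgroupOf.1 ha))
    rw [this, map_one]

/-- a component which is not centralised by `A` contains an element of `A` which is not central -/
theorem exists_not_central (hG : GoldHyp.{u}) (hO : Cfsg.oddCore X = ⊥) (hAe : Cfsg.IsElementaryAbelian 2 A)
    (hA : Cfsg.IsStronglyClosed A (S : Subgroup X)) (hK : Cfsg.IsComponent K)
    (hn : ¬ K ≤ centralizer (A : Set X)) : ∃ v ∈ A ⊓ K, v ∉ centralizer (K : Set X) := by
  by_contra hcon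
  push Not at hcon
  apply hn
  rw [le_centralizer_iff]
  intro a ha
  obtain ⟨v, hv, c, hc, rfl⟩ := hG.inner X hO S A hAe hA K hK hn a ha
  exact mul_mem (hcon v hv) hc.2

theorem mk_ne_one {v : X} (hv : v ∈ K) (h : v ∉ centralizer (K : Set X)) :
    QuotientGroup.mk' (center K) ⟨v, hv⟩ ≠ 1 := by
  intro h1
  rw [QuotientGroup.mk'_apply, QuotientGroup.eq_one_iff, mem_center_iff_mem_centralizer] at h1
  exact h h1

theorem orderOf_mk (hAe : Cfsg.IsElementaryAbelian 2 A) {v : X} (hv : v ∈ A ⊓ K)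
    (h : v ∉ centralizer (K : Set X)) : orderOf (QuotientGroup.mk' (center K) ⟨v, hv.2⟩) = 2 := by
  apply orderOf_eq_prime
  · rw [← map_pow]
    have : (⟨v, hv.2⟩ : K) ^ 2 = 1 := Subtype.ext (hAe.2 v hv.1)
    rw [this, map_one]
  · exact mk_ne_one hv.2 h

theorem simple_quot (hK : Cfsg.IsComponent K) :
    IsSimpleGroup (K ⧸ center K) ∧ ¬ IsMulCommutative (K ⧸ center K) := by
  refine ⟨hK.2.2, ?_⟩
  intro hc
  have hperf : Group.IsPerfect K := hK.2.1
  have h1 : _root_.commutator (K ⧸ center K) = ⊤ := by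
    have : Group.IsPerfect (K ⧸ center K) :=
      Group.IsPerfect.ofSurjective (f := QuotientGroup.mk' (center K)) (QuotientGroup.mk'_surjective _)
    exact this.commutator_eq_top
  have h2 : _root_.commutator (K ⧸ center K) = ⊥ := by
    rw [_root_.commutator_def, Subgroup.commutator_eq_bot_iff_le_centralizer]
    intro x _
    rw [mem_centralizer_iff]
    intro y _
    exact hc.is_comm.comm y x
  have h3 : Nontrivial (K ⧸ center K) := hK.2.2.toNontrivial
  rw [h1] at h2
  exact absurd h2 top_ne_bot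

/-- Two strongly closed elementary abelian subgroups have the same image in `K/Z(K)`. -/
theorem exists_same (hG : GoldHyp.{u}) (hO : Cfsg.oddCore X = ⊥) (hAe : Cfsg.IsElementaryAbelian 2 A)
    (hA : Cfsg.IsStronglyClosed A (S : Subgroup X)) (hBe : Cfsg.IsElementaryAbelian 2 B)
    (hB : Cfsg.IsStronglyClosed B (S : Subgroup X)) (hK : Cfsg.IsComponent K)
    (hnB : ¬ K ≤ centralizer (B : Set X)) {a : X} (ha : a ∈ A ⊓ K) :
    ∃ b ∈ B ⊓ K, b⁻¹ * a ∈ centralizer (K : Set X) := by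
  by_cases h : a ∈ centralizer (K : Set X)
  · exact ⟨1, one_mem _, by rwa [inv_one, one_mul]⟩
  obtain ⟨b0, hb0, hb0'⟩ := exists_not_central hG hO hBe hB hK hnB
  obtain ⟨hs, hna⟩ := simple_quot hK
  obtain ⟨P, hP, hsc⟩ := exists_quot S hK.1
  have hB' := hsc B hB
  have hne : (B.subgroupOf K).map (QuotientGroup.mk' (center K)) ≠ ⊥ := by
    intro hbot
    apply mk_ne_one hb0.2 hb0'
    rw [← mem_bot, ← hbot]
    exact ⟨⟨b0, hb0.2⟩, hb0.1, rfl⟩
  obtain ⟨hcj, -⟩ := hG.conj (K ⧸ center K) hna P _ (elem_map hBe K _) hB' hne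
  obtain ⟨g, hg⟩ := hcj _ _ (orderOf_mk hBe hb0 hb0') (orderOf_mk hAe ha h)
  have h1 : g * QuotientGroup.mk' (center K) ⟨b0, hb0.2⟩ * g⁻¹ ∈ (P : Subgroup (K ⧸ center K)) := by
    rw [hg, hP]
    exact ⟨⟨a, ha.2⟩, hA.1 ha.1, rfl⟩
  have h2 := hB'.2 _ ⟨⟨b0, hb0.2⟩, hb0.1, rfl⟩ g h1
  rw [hg] at h2
  obtain ⟨b, hb, hba⟩ := h2
  refine ⟨b, ⟨hb, b.2⟩, ?_⟩
  have h3 := QuotientGroup.eq.1 hba
  rw [mem_center_iff_mem_centralizer] at h3
  exact h3

/-- `A ∩ K` is central in `S ∩ K` modulo the centre of `K`. -/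
theorem commutator_mem (hG : GoldHyp.{u}) (hO : Cfsg.oddCore X = ⊥) (hAe : Cfsg.IsElementaryAbelian 2 A)
    (hA : Cfsg.IsStronglyClosed A (S : Subgroup X)) (hK : Cfsg.IsComponent K)
    (hnA : ¬ K ≤ centralizer (A : Set X)) {a s : X} (ha : a ∈ A ⊓ K)
    (hs : s ∈ (S : Subgroup X) ⊓ K) : s * a * s⁻¹ * a⁻¹ ∈ centralizer (K : Set X) := by
  obtain ⟨b0, hb0, hb0'⟩ := exists_not_central hG hO hAe hA hK hnA
  obtain ⟨hsim, hna⟩ := simple_quot hK
  obtain ⟨P, hP, hsc⟩ := exists_quot S hK.1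
  have hA' := hsc A hA
  have hne : (A.subgroupOf K).map (QuotientGroup.mk' (center K)) ≠ ⊥ := by
    intro hbot
    apply mk_ne_one hb0.2 hb0'
    rw [← mem_bot, ← hbot]
    exact ⟨⟨b0, hb0.2⟩, hb0.1, rfl⟩
  obtain ⟨-, hcen⟩ := hG.conj (K ⧸ center K) hna P _ (elem_map hAe K _) hA' hne
  have h1 := hcen (QuotientGroup.mk' (center K) ⟨a, ha.2⟩)
    (by rw [hP]; exact ⟨⟨a, ha.2⟩, hA.1 ha.1, rfl⟩)
    (by
      rw [← map_mul]
      have : (⟨a, ha.2⟩ : K) * ⟨a, ha.2⟩ = 1 := Subtype.ext (elem_sq hAe ha.1)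
      rw [this, map_one])
    (QuotientGroup.mk' (center K) ⟨s, hs.2⟩) (by rw [hP]; exact ⟨⟨s, hs.2⟩, hs.1, rfl⟩)
  rw [← map_mul, ← map_mul] at h1
  have h2 : (⟨s, hs.2⟩ * ⟨a, ha.2⟩ * (⟨s, hs.2⟩ : K)⁻¹ * (⟨a, ha.2⟩ : K)⁻¹ : K) ∈ center K := by
    rw [← QuotientGroup.eq_one_iff]
    change QuotientGroup.mk' (center K) _ = 1
    rw [mul_assoc, ← mul_inv_rev, map_mul, h1, map_inv, mul_inv_cancel]
  rw [mem_center_iff_mem_centralizer] at h2
  exact h2

end Cfsg.Agent.SylowL.CompFacts
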