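import Cfsg.Agent.SylowL.CoordAut
import Cfsg.Agent.S0001

/-!
Coordinates on a Sylow 2-subgroup isomorphic to `UT m F`: the isomorphism can be chosen so that the
normalizer of the Sylow subgroup normalizes all upper-right pattern subgroups.
-/

set_option autoImplicit false

open Cfsg.Agent.SylowL.UT Cfsg.Agent.SylowL.Pat Cfsg.Agent.SylowL.Lev
open scoped Pointwise

namespace Cfsg.Agent.SylowL

/-- Upper-right closed sets of positions. -/
structure IsUR {m : ℕ} (D : Fin m → Fin m → Prop) : Prop where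
  lt : ∀ i j, D i j → i < j
  up : ∀ i j k, i < j → D j k → D i k
  right : ∀ i j k, D i j → j < k → D i k

/-- The pattern subgroup of an upper-right closed set of positions. -/
def X {m : ℕ} {F : Type*} [Field F] (D : Fin m → Fin m → Prop) (h : IsUR D) :
    Subgroup (UT m F) := ofAlg (pat F D) (isIdeal_pat h.lt h.up h.right).isAlg

theorem mem_X {m : ℕ} {F : Type*} [Field F] {D : Fin m → Fin m → Prop} {h : IsUR D}
    {g : UT m F} : g ∈ X (F := F) D h ↔ N g ∈ pat F D := Iff.rfl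

theorem X_normal {m : ℕ} {F : Type*} [Field F] {D : Fin m → Fin m → Prop} (h : IsUR D) :
    (X (F := F) D h).Normal := (isIdeal_pat h.lt h.up h.right).normal

namespace Coord

open Cfsg.Agent.SylowL.CoordBase Cfsg.Agent.SylowL.CoordAut

/-- Schur-Zassenhaus: if every element of the odd order group `K` is congruent modulo the normal
2-group `P` to an element of `H`, and `H ∩ P = 1`, then a conjugate of `K` lies in `H`. -/
theorem exists_conj_le {A : Type*} [Group A] [Finite A] (P H K : Subgroup A) [hP : P.Normal]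
    (hP2 : IsPGroup 2 P) (hK : Odd (Nat.card K)) (hHP : H ⊓ P = ⊥)
    (h : ∀ k ∈ K, ∃ h ∈ H, h⁻¹ * k ∈ P) : ∃ x : A, ∀ k ∈ K, x * k * x⁻¹ ∈ H := by
  set Y := K ⊔ P with hY
  have hKY : K ≤ Y := le_sup_left
  have hPY : P ≤ Y := le_sup_right
  have : (P.subgroupOf Y).Normal := hP.subgroupOf Y
  have hcP : Nat.card (P.subgroupOf Y) = Nat.card P :=
    Nat.card_congr (Subgroup.subgroupOfEquivOfLe hPY).toEquiv
  have hcK : Nat.card (K.subgroupOf Y) = Nat.card K :=
    Nat.card_congr (Subgroup.subgroupOfEquivOfLe hKY).toEquiv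
  obtain ⟨n, hn⟩ := IsPGroup.iff_card.1 hP2
  have hcop : (Nat.card P).Coprime (Nat.card K) := by
    rw [hn]
    exact Nat.Coprime.pow_left n (Nat.coprime_two_left.2 hK)
  have hKP : K ⊓ P = ⊥ := (Subgroup.disjoint_of_coprime_natCard hcop.symm).eq_bot
  have hcK' : Subgroup.IsComplement' (P.subgroupOf Y) (K.subgroupOf Y) := by
    refine Subgroup.isComplement'_of_disjoint_and_mul_eq_univ ?_ ?_
    · rw [disjoint_iff, eq_bot_iff]
      rintro ⟨y, hy⟩ ⟨hy1, hy2⟩
      have : y ∈ K ⊓ P := ⟨hy2, hy1⟩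
      rw [hKP, Subgroup.mem_bot] at this
      rw [Subgroup.mem_bot]
      exact Subtype.ext this
    · rw [Set.eq_univ_iff_forall]
      rintro ⟨y, hy⟩
      obtain ⟨k, hk, p, hp, rfl⟩ := Subgroup.mem_sup_of_normal_right.1 hy
      refine Set.mem_mul.2 ⟨⟨k * p * k⁻¹, hPY (hP.conj_mem p hp k)⟩, hP.conj_mem p hp k,
        ⟨k, hKY hk⟩, hk, ?_⟩
      apply Subtype.ext
      change k * p * k⁻¹ * k = k * p
      group
  have hcH' : Subgroup.IsComplement' (P.subgroupOf Y) (H.subgroupOf Y) := by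
    refine Subgroup.isComplement'_of_disjoint_and_mul_eq_univ ?_ ?_
    · rw [disjoint_iff, eq_bot_iff]
      rintro ⟨y, hy⟩ ⟨hy1, hy2⟩
      have : y ∈ H ⊓ P := ⟨hy2, hy1⟩
      rw [hHP, Subgroup.mem_bot] at this
      rw [Subgroup.mem_bot]
      exact Subtype.ext this
    · rw [Set.eq_univ_iff_forall]
      rintro ⟨y, hy⟩
      obtain ⟨k, hk, p, hp, rfl⟩ := Subgroup.mem_sup_of_normal_right.1 hy
      obtain ⟨t, ht, htk⟩ := h k hk
      have htY : t ∈ Y := by
        have e : t = k * (t⁻¹ * k)⁻¹ := by group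
        rw [e]
        exact mul_mem (hKY hk) (inv_mem (hPY htk))
      have hq : k * p * t⁻¹ ∈ P := by
        have e : k * p * t⁻¹ = t * ((t⁻¹ * k) * p) * t⁻¹ := by group
        rw [e]
        exact hP.conj_mem _ (mul_mem htk hp) t
      refine Set.mem_mul.2 ⟨⟨k * p * t⁻¹, hPY hq⟩, hq, ⟨t, htY⟩, ht, ?_⟩
      apply Subtype.ext
      change k * p * t⁻¹ * t = k * p
      group
  have hN : (Nat.card (P.subgroupOf Y)).Coprime (P.subgroupOf Y).index := by
    rw [hcK'.symm.index_eq_card, hcP, hcK]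
    exact hcop
  have hsolv : Group.IsSolvable (P.subgroupOf Y) := by
    have hp : IsPGroup 2 (P.subgroupOf Y) := hP2.of_injective
      (Subgroup.subgroupOfEquivOfLe hPY).toMonoidHom (Subgroup.subgroupOfEquivOfLe hPY).injective
    have := hp.isNilpotent
    infer_instance
  obtain ⟨g, hg⟩ := Cfsg.Agent.S0001.result (P.subgroupOf Y) hN (Or.inl hsolv) _ _ hcK' hcH'
  refine ⟨g, fun k hk => ?_⟩
  have h1 : MulAut.conj g • (⟨k, hKY hk⟩ : Y) ∈ MulAut.conj g • (K.subgroupOf Y) :=
    Subgroup.smul_mem_pointwise_smul _ _ _ hk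
  rw [hg] at h1
  exact h1

/-- Elements of `K` with odd order in the automorphism group. -/
theorem exists_conj_DF {m : ℕ} {F : Type*} [Field F] [Finite F] [CharP F 2] (hm : 4 ≤ m)
    (hF : ∃ t : F, t ≠ 0 ∧ t ≠ 1) (K : Subgroup (MulAut (UT m F))) (hK : Odd (Nat.card K)) :
    ∃ x : MulAut (UT m F), ∀ k ∈ K, x * k * x⁻¹ ∈ DF m F := by
  have : Finite (MulAut (UT m F)) := Finite.of_injective
    (fun f : MulAut (UT m F) => (f : UT m F → UT m F)) DFunLike.coe_injective
  refine exists_conj_le (SG m F) (DF m F) K (SG_pGroup (by omega)) hK (DF_inf_SG (by omega)) ?_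
  intro k hk
  refine exists_df hm hF hK ?_
  have h1 : (⟨k, hk⟩ : K) ^ Nat.card K = 1 := pow_card_eq_one'
  have h2 : k ^ Nat.card K = 1 := congrArg Subtype.val h1
  rw [h2]
  exact one_mem _

end Coord

open Coord CoordAut in
/-- **Coordinates.** -/
theorem exists_coord {m r : ℕ} {F : Type*} [Field F] [Fintype F] (hF : Fintype.card F = 2 ^ r)
    (hr : 2 ≤ r) (hm : 4 ≤ m) {G : Type*} [Group G] [Finite G] (S : Sylow 2 G)
    (e : UT m F ≃* (S : Subgroup G)) :
    ∃ φ : UT m F ≃* (S : Subgroup G), ∀ (D : Fin m → Fin m → Prop) (h : IsUR D),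
      Subgroup.normalizer ((S : Subgroup G) : Set G) ≤ Subgroup.normalizer
        (((X (F := F) D h).map ((S : Subgroup G).subtype.comp φ.toMonoidHom) : Subgroup G) :
          Set G) := by
  have : Fact (Nat.Prime 2) := ⟨Nat.prime_two⟩
  have : CharP F 2 := charP_of_card_eq_prime_pow hF
  have hF' : ∃ t : F, t ≠ 0 ∧ t ≠ 1 := by
    classical
    by_contra hcon
    push Not at hcon
    have h1 : (Finset.univ : Finset F) ⊆ {0, 1} := by
      intro t _
      rw [Finset.mem_insert, Finset.mem_singleton]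
      by_cases ht : t = 0
      · exact Or.inl ht
      · exact Or.inr (hcon t ht)
    have h2 := Finset.card_le_card h1
    rw [Finset.card_univ, hF] at h2
    have h3 : ({0, 1} : Finset F).card ≤ 2 := Finset.card_le_two
    have h4 : 2 ^ 2 ≤ 2 ^ r := Nat.pow_le_pow_right (by norm_num) hr
    omega
  set Nn := Subgroup.normalizer ((S : Subgroup G) : Set G) with hNn
  have hSN : (S : Subgroup G) ≤ Nn := Subgroup.le_normalizer
  set S' := (S : Subgroup G).subgroupOf Nn with hS'
  have : S'.Normal := Subgroup.normal_in_normalizer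
  have hcS : Nat.card S' = Nat.card (S : Subgroup G) :=
    Nat.card_congr (Subgroup.subgroupOfEquivOfLe hSN).toEquiv
  have hidx : Odd S'.index := by
    have h1 : S'.index ∣ (S : Subgroup G).index := Subgroup.relIndex_dvd_index_of_le hSN
    have h2 : ¬ 2 ∣ (S : Subgroup G).index := S.not_dvd_index
    rw [← Nat.not_even_iff_odd]
    intro h3
    exact h2 ((even_iff_two_dvd.1 h3).trans h1)
  have hcop : (Nat.card S').Coprime S'.index := by
    obtain ⟨n, hn⟩ := IsPGroup.iff_card.1 S.2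
    rw [hcS]
    change (Nat.card (S : Subgroup G)).Coprime _
    have hn' : Nat.card (S : Subgroup G) = 2 ^ n := hn
    rw [hn']
    exact Nat.Coprime.pow_left n (Nat.coprime_two_left.2 hidx)
  obtain ⟨K, hK⟩ := Subgroup.exists_right_complement'_of_coprime hcop
  have hKodd : Odd (Nat.card K) := by
    rw [← hK.symm.index_eq_card]
    exact hidx
  let ρ : Nn →* MulAut (UT m F) :=
    (MulAut.congr e.symm).toMonoidHom.comp (Subgroup.normalizerMonoidHom (S : Subgroup G))
  have hρ : ∀ (n : Nn) (g : UT m F), ((e (ρ n g) : (S : Subgroup G)) : G)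
      = n * (e g : (S : Subgroup G)) * (n : G)⁻¹ := by
    intro n g
    change ((e (e.symm ((Subgroup.normalizerMonoidHom (S : Subgroup G) n) (e.symm.symm g))) :
      (S : Subgroup G)) : G) = _
    rw [e.apply_symm_apply]
    rfl
  have hKρ : Odd (Nat.card (K.map ρ)) := by
    rw [← Nat.not_even_iff_odd] at hKodd ⊢
    intro h3
    exact hKodd (even_iff_two_dvd.2 ((even_iff_two_dvd.1 h3).trans (Subgroup.card_map_dvd K ρ)))
  obtain ⟨x, hx⟩ := exists_conj_DF hm hF' (K.map ρ) hKρ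
  refine ⟨(x⁻¹ : MulAut (UT m F)).trans e, fun D h => ?_⟩
  set φ : UT m F ≃* (S : Subgroup G) := (x⁻¹ : MulAut (UT m F)).trans e with hφ
  have hφa : ∀ g, φ g = e (x⁻¹ g) := fun g => rfl
  set Y := (X (F := F) D h).map ((S : Subgroup G).subtype.comp φ.toMonoidHom) with hY
  have hYmem : ∀ y, y ∈ Y ↔ ∃ g : UT m F, N g ∈ pat F D ∧ ((φ g : (S : Subgroup G)) : G) = y := by
    intro y
    rw [hY, Subgroup.mem_map]
    rfl
  have key : ∀ n ∈ Nn, ∀ y ∈ Y, n * y * n⁻¹ ∈ Y := by
    intro n hn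
    -- write n = s k
    have h1 : (⟨n, hn⟩ : Nn) ∈ S' ⊔ K := by rw [hK.sup_eq_top]; exact Subgroup.mem_top _
    obtain ⟨s, hs, k, hk, hsk⟩ := Subgroup.mem_sup_of_normal_left.1 h1
    have hsk' : (s : G) * (k : G) = n := congrArg Subtype.val hsk
    have hkY : ∀ y ∈ Y, (k : G) * y * (k : G)⁻¹ ∈ Y := by
      intro y hy
      obtain ⟨g, hg, rfl⟩ := (hYmem y).1 hy
      rw [hYmem]
      have h2 := hx (ρ k) (Subgroup.mem_map_of_mem ρ hk)
      refine ⟨(x * ρ k * x⁻¹) g, DF_pat h2 D hg, ?_⟩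
      rw [hφa, hφa, ← hρ]
      congr 2
      rw [MulAut.mul_apply, MulAut.mul_apply, MulAut.inv_apply_self]
    have hsY : ∀ y ∈ Y, (s : G) * y * (s : G)⁻¹ ∈ Y := by
      intro y hy
      obtain ⟨g, hg, rfl⟩ := (hYmem y).1 hy
      rw [hYmem]
      obtain ⟨t, ht⟩ := φ.surjective ⟨(s : G), hs⟩
      refine ⟨t * g * t⁻¹, (X_normal h).conj_mem g hg t, ?_⟩
      rw [map_mul, map_mul, map_inv, ht]
      rfl
    intro y hy
    rw [← hsk']
    have e1 : (s : G) * k * y * ((s : G) * k)⁻¹ = s * (k * y * (k : G)⁻¹) * (s : G)⁻¹ := by group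
    rw [e1]
    exact hsY _ (hkY y hy)
  intro n hn
  rw [Subgroup.mem_normalizer_iff]
  intro y
  constructor
  · exact key n hn y
  · intro hy
    have h2 := key n⁻¹ (inv_mem hn) _ hy
    have e1 : n⁻¹ * (n * y * n⁻¹) * n⁻¹⁻¹ = y := by group
    rwa [e1] at h2

end Cfsg.Agent.SylowL
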