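import Cfsg.Agent.SylowL.CoordField

/-!
Diagonal and field automorphisms of `UT m F`; every automorphism with an odd power in the stability
group is congruent to one of them.
-/

set_option autoImplicit false

namespace Cfsg.Agent.SylowL.CoordAut

open Matrix
open scoped commutatorElement
open Cfsg.Agent.SylowL.Lev Cfsg.Agent.SylowL.UT Cfsg.Agent.SylowL.Pat
open Cfsg.Agent.SylowL.Series Cfsg.Agent.SylowL.Lower Cfsg.Agent.SylowL.CoordBase
open Cfsg.Agent.SylowL.CoordCf Cfsg.Agent.SylowL.CoordEnds Cfsg.Agent.SylowL.CoordField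

variable {m : ℕ} {F : Type*} [Field F]

local notation "Mat" => Matrix (Fin m) (Fin m) F

/-- Entrywise action of a diagonal matrix and a field automorphism. -/
def dm (d : Fin m → Fˣ) (σ : F ≃+* F) (a : Mat) : Mat :=
  fun i j => (d i : F) * σ (a i j) * ((d j)⁻¹ : Fˣ)

theorem dm_apply (d : Fin m → Fˣ) (σ : F ≃+* F) (a : Mat) (i j : Fin m) :
    dm d σ a i j = (d i : F) * σ (a i j) * ((d j)⁻¹ : Fˣ) := rfl

theorem dm_add (d : Fin m → Fˣ) (σ : F ≃+* F) (a b : Mat) :
    dm d σ (a + b) = dm d σ a + dm d σ b := by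
  ext i j
  rw [Matrix.add_apply, dm_apply, dm_apply, dm_apply, Matrix.add_apply, map_add]
  ring

theorem dm_mul (d : Fin m → Fˣ) (σ : F ≃+* F) (a b : Mat) :
    dm d σ (a * b) = dm d σ a * dm d σ b := by
  ext i j
  rw [dm_apply, Matrix.mul_apply, Matrix.mul_apply, map_sum, Finset.mul_sum, Finset.sum_mul]
  refine Finset.sum_congr rfl ?_
  intro t _
  rw [dm_apply, dm_apply, map_mul]
  have h : (((d t)⁻¹ : Fˣ) : F) * (d t : F) = 1 := by rw [← Units.val_mul, inv_mul_cancel]; rfl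
  linear_combination (-(d i : F) * σ (a i t) * σ (b t j) * ((d j)⁻¹ : Fˣ)) * h

theorem dm_mem {k : ℕ} (d : Fin m → Fˣ) (σ : F ≃+* F) {a : Mat} (ha : a ∈ lev m F k) :
    dm d σ a ∈ lev m F k := by
  rw [mem_lev'] at ha ⊢
  intro i j hij
  rw [dm_apply, ha i j hij, map_zero, mul_zero, zero_mul]

theorem dm_dm (d d' : Fin m → Fˣ) (σ σ' : F ≃+* F) (a : Mat) :
    dm d σ (dm d' σ' a) = dm (fun i => d i * Units.map (σ : F →* F) (d' i)) (σ'.trans σ) a := by
  ext i j
  rw [dm_apply, dm_apply, dm_apply, map_mul, map_mul, mul_inv, ← map_inv]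
  simp only [Units.val_mul, Units.coe_map, RingEquiv.coe_trans, Function.comp_apply]
  have h : ((σ : F →* F) (((d' j)⁻¹ : Fˣ) : F)) = σ (((d' j)⁻¹ : Fˣ) : F) := rfl
  have h' : ((σ : F →* F) ((d' i : Fˣ) : F)) = σ ((d' i : Fˣ) : F) := rfl
  rw [h, h']
  ring

theorem dm_id (a : Mat) : dm (fun _ => 1) (RingEquiv.refl F) a = a := by
  ext i j
  rw [dm_apply, RingEquiv.refl_apply, inv_one, Units.val_one, one_mul, mul_one]

/-- The diagonal-field automorphisms. -/
def df (d : Fin m → Fˣ) (σ : F ≃+* F) : MulAut (UT m F) where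
  toFun g := mk (dm d σ (N g)) (dm_mem d σ (N_mem g))
  invFun g := mk (dm (fun i => (Units.map (σ.symm : F →* F) (d i))⁻¹) σ.symm (N g))
    (dm_mem _ _ (N_mem g))
  left_inv g := by
    apply N_injective
    rw [N_mk, N_mk, dm_dm]
    have h : (fun i => (Units.map (σ.symm : F →* F) (d i))⁻¹ * Units.map (σ.symm : F →* F) (d i))
        = fun _ => (1 : Fˣ) := by
      funext i
      rw [inv_mul_cancel]
    rw [h, RingEquiv.self_trans_symm, dm_id]
  right_inv g := by
    apply N_injective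
    rw [N_mk, N_mk, dm_dm]
    have h : (fun i => d i * Units.map (σ : F →* F) (Units.map (σ.symm : F →* F) (d i))⁻¹)
        = fun _ => (1 : Fˣ) := by
      funext i
      rw [map_inv]
      have h1 : Units.map (σ : F →* F) (Units.map (σ.symm : F →* F) (d i)) = d i := by
        apply Units.ext
        rw [Units.coe_map, Units.coe_map]
        exact σ.apply_symm_apply _
      rw [h1, mul_inv_cancel]
    rw [h, RingEquiv.symm_trans_self, dm_id]
  map_mul' g h := by
    apply N_injective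
    rw [N_mk, N_mul, N_mul, N_mk, N_mk, dm_add, dm_add, dm_mul]

theorem N_df (d : Fin m → Fˣ) (σ : F ≃+* F) (g : UT m F) : N (df d σ g) = dm d σ (N g) :=
  N_mk _ (dm_mem d σ (N_mem g))

/-- The group of diagonal-field automorphisms. -/
def DF (m : ℕ) (F : Type*) [Field F] : Subgroup (MulAut (UT m F)) where
  carrier := {f | ∃ d σ, f = df d σ}
  mul_mem' := by
    rintro _ _ ⟨d, σ, rfl⟩ ⟨d', σ', rfl⟩
    refine ⟨fun i => d i * Units.map (σ : F →* F) (d' i), σ'.trans σ, ?_⟩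
    ext1 g
    apply N_injective
    rw [MulAut.mul_apply, N_df, N_df, dm_dm, N_df]
  one_mem' := by
    refine ⟨fun _ => 1, RingEquiv.refl F, ?_⟩
    ext1 g
    apply N_injective
    rw [N_df, dm_id]
    rfl
  inv_mem' := by
    rintro _ ⟨d, σ, rfl⟩
    refine ⟨fun i => (Units.map (σ.symm : F →* F) (d i))⁻¹, σ.symm, ?_⟩
    ext1 g
    apply N_injective
    rw [N_df]
    exact N_mk _ (dm_mem _ _ (N_mem g))

theorem DF_pat {f : MulAut (UT m F)} (hf : f ∈ DF m F) (D : Fin m → Fin m → Prop) {g : UT m F}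
    (hg : N g ∈ pat F D) : N (f g) ∈ pat F D := by
  obtain ⟨d, σ, rfl⟩ := hf
  rw [N_df]
  intro i j hij
  refine hg i j ?_
  intro h
  apply hij
  rw [dm_apply, h, map_zero, mul_zero, zero_mul]

theorem cf_df (d : ℕ → Fˣ) (σ : F ≃+* F) (g : UT m F) {k : ℕ} (hk : k + 1 < m) :
    cf (df (fun i : Fin m => d (i : ℕ)) σ g) k = (d k : F) * σ (cf g k) * ((d (k + 1))⁻¹ : Fˣ) := by
  rw [cf_of_lt _ hk, N_df, dm_apply, cf_of_lt _ hk]

/-- The stability group. -/
def SG (m : ℕ) (F : Type*) [Field F] : Subgroup (MulAut (UT m F)) where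
  carrier := {f | ∀ (g : UT m F) (i : ℕ), cf (f g) i = cf g i}
  mul_mem' := by
    intro f f' hf hf' g i
    rw [MulAut.mul_apply, hf, hf']
  one_mem' := fun g i => rfl
  inv_mem' := by
    intro f hf g i
    have := hf (f⁻¹ g) i
    rw [MulAut.apply_inv_self] at this
    exact this.symm

theorem mem_SG {f : MulAut (UT m F)} : f ∈ SG m F ↔ ∀ (g : UT m F) (i : ℕ), cf (f g) i = cf g i :=
  Iff.rfl

theorem mem_SG_iff {f : MulAut (UT m F)} :
    f ∈ SG m F ↔ ∀ g : UT m F, N (g⁻¹ * f g) ∈ lev m F 2 := by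
  rw [mem_SG]
  refine forall_congr' fun g => ?_
  rw [inv_mul_mem_iff, sub_mem_two_iff]
  exact forall_congr' fun i => ⟨fun h => h.symm, fun h => h.symm⟩

instance SG_normal : (SG m F).Normal := by
  refine ⟨fun f hf e g i => ?_⟩
  rw [MulAut.mul_apply, MulAut.mul_apply]
  have h1 := cf_congr e (hf (e⁻¹ g)) i
  rw [MulAut.apply_inv_self] at h1
  exact h1

theorem SG_pow [CharP F 2] (hm : 1 ≤ m) {f : MulAut (UT m F)} (hf : f ∈ SG m F) :
    f ^ 2 ^ (m - 1) = 1 := (stab_of_one (mem_SG_iff.1 hf)).two_pow hm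

theorem SG_pGroup [CharP F 2] (hm : 1 ≤ m) : IsPGroup 2 (SG m F) := by
  intro f
  refine ⟨m - 1, ?_⟩
  apply Subtype.ext
  rw [Subgroup.coe_pow, SG_pow hm f.2]
  rfl

theorem DF_inf_SG (hm : 2 ≤ m) : DF m F ⊓ SG m F = ⊥ := by
  rw [eq_bot_iff]
  rintro f ⟨⟨d, σ, rfl⟩, hf⟩
  rw [Subgroup.mem_bot]
  -- λ_i σ(a) = a
  have h1 : ∀ (k : ℕ) (hk : k + 1 < m) (a : F),
      (d ⟨k, by omega⟩ : F) * σ a * ((d ⟨k + 1, hk⟩)⁻¹ : Fˣ) = a := by
    intro k hk a
    have h2 := hf (rt k hk a) k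
    rw [cf_rt_self, cf_of_lt _ hk, N_df, dm_apply] at h2
    have h3 : N (rt k hk a : UT m F) ⟨k, by omega⟩ ⟨k + 1, hk⟩ = a := by
      rw [← cf_of_lt _ hk, cf_rt_self]
    rw [h3] at h2
    exact h2
  have h2 : ∀ (k : ℕ) (hk : k + 1 < m), d ⟨k, by omega⟩ = d ⟨k + 1, hk⟩ := by
    intro k hk
    have h3 := h1 k hk 1
    rw [map_one, mul_one, ← Units.val_mul, Units.val_eq_one, mul_inv_eq_one] at h3
    exact h3
  have h3 : ∀ a : F, σ a = a := by
    intro a
    have h4 := h1 0 (by omega) a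
    rw [h2 0 (by omega)] at h4
    have h5 : ((d ⟨0 + 1, by omega⟩ : Fˣ) : F) * ((d ⟨0 + 1, by omega⟩)⁻¹ : Fˣ) = 1 := by
      rw [← Units.val_mul, mul_inv_cancel]; rfl
    have h6 : (d ⟨0 + 1, by omega⟩ : F) * σ a * ((d ⟨0 + 1, by omega⟩)⁻¹ : Fˣ)
        = σ a * ((d ⟨0 + 1, by omega⟩ : F) * ((d ⟨0 + 1, by omega⟩)⁻¹ : Fˣ)) := by ring
    rw [h6, h5, mul_one] at h4
    exact h4
  have h4 : ∀ (k : ℕ) (hk : k < m), d ⟨k, hk⟩ = d ⟨0, by omega⟩ := by
    intro k
    induction k with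
    | zero => intro _; rfl
    | succ k ih => intro hk; rw [← h2 k hk, ih (by omega)]
  ext1 g
  apply N_injective
  rw [N_df]
  ext i j
  rw [dm_apply, h3]
  have h5 : d i = d j := by rw [h4 i i.2, h4 j j.2]
  rw [h5]
  have h6 : ((d j : Fˣ) : F) * ((d j)⁻¹ : Fˣ) = 1 := by rw [← Units.val_mul, mul_inv_cancel]; rfl
  have h7 : (MulEquiv.refl (UT m F)) g = g := rfl
  change (d j : F) * N g i j * ((d j)⁻¹ : Fˣ) = N g i j
  linear_combination N g i j * h6

/-- **Main congruence.** -/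
theorem exists_df [Finite F] (hm : 4 ≤ m) (hF : ∃ t : F, t ≠ 0 ∧ t ≠ 1) {f : MulAut (UT m F)}
    {n : ℕ} (hn : Odd n) (hf : f ^ n ∈ SG m F) : ∃ h ∈ DF m F, h⁻¹ * f ∈ SG m F := by
  obtain ⟨h0, hl⟩ := ends_fixed hm hF f hn (mem_SG_iff.1 hf)
  have hh : ∀ (k : ℕ) (g : UT m F), cf g k = 0 → cf (f g) k = 0 :=
    fun k g hg => hyper hm f h0 hl hg
  have hne : ∀ k, k + 1 < m → phi f k 1 ≠ 0 := fun k hk => phi_ne f hh hk one_ne_zero
  -- the field automorphism
  have hmul : ∀ a b : F, phi f 0 (a * b) * phi f 0 1 = phi f 0 a * phi f 0 b := by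
    intro a b
    have e1 := phi_mul f hh (k := 0) (by omega) a b
    have e2 := phi_mul f hh (k := 0) (by omega) 1 b
    rw [one_mul] at e2
    have e3 := hne 1 (by omega)
    rw [zero_add] at e1 e2
    have e4 : phi f 0 (a * b) * phi f 1 1 * phi f 0 1 = phi f 0 a * phi f 0 b * phi f 1 1 := by
      rw [← e1]
      linear_combination (phi f 0 a) * e2
    exact mul_right_cancel₀ e3 (by linear_combination e4)
  have hn0 := hne 0 (by omega)
  let σ₀ : F →+* F :=
    { toFun := fun a => phi f 0 a / phi f 0 1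
      map_one' := div_self hn0
      map_zero' := by
        have h1 := phi_add f 0 0 0
        rw [add_zero] at h1
        have h2 : phi f 0 0 = 0 := by
          have := add_left_cancel (a := phi f 0 0) (b := phi f 0 0) (c := 0) (by
            rw [add_zero]; exact h1.symm)
          exact this
        rw [h2, zero_div]
      map_add' := fun a b => by rw [phi_add, add_div]
      map_mul' := fun a b => by
        have := hmul a b
        field_simp
        exact this }
  have hσb : Function.Bijective σ₀ := Finite.injective_iff_bijective.1 σ₀.injective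
  let σ : F ≃+* F := RingEquiv.ofBijective σ₀ hσb
  have hσ : ∀ a, σ a * phi f 0 1 = phi f 0 a := by
    intro a
    change phi f 0 a / phi f 0 1 * phi f 0 1 = phi f 0 a
    exact div_mul_cancel₀ _ hn0
  have hphi : ∀ k, k + 1 < m → ∀ a, phi f k a = phi f k 1 * σ a := by
    intro k
    induction k with
    | zero => intro _ a; rw [← hσ a]; ring
    | succ k ih =>
      intro hk a
      have e1 := phi_mul f hh (k := k) (by omega) 1 a
      have e2 := ih (by omega) a
      rw [one_mul, e2] at e1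
      have e3 := hne k (by omega)
      exact mul_left_cancel₀ e3 (by linear_combination e1)
  -- the diagonal part
  let lam : ℕ → Fˣ := fun k => if h : k + 1 < m then Units.mk0 (phi f k 1) (hne k h) else 1
  obtain ⟨d, hd⟩ : ∃ d : ℕ → Fˣ, ∀ k, d (k + 1) = d k * (lam k)⁻¹ :=
    ⟨fun k => Nat.rec 1 (fun k x => x * (lam k)⁻¹) k, fun k => rfl⟩
  refine ⟨df (fun i : Fin m => d (i : ℕ)) σ, ⟨_, _, rfl⟩, ?_⟩
  rw [mem_SG]
  intro g i
  rw [MulAut.mul_apply]
  have h1 : ∀ i, cf (f g) i = cf (df (fun i : Fin m => d (i : ℕ)) σ g) i := by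
    intro i
    by_cases hi : i + 1 < m
    · rw [cf_df d σ g hi, cf_apply f hh hi, hphi i hi, hd, mul_inv, inv_inv, Units.val_mul]
      have e1 : lam i = Units.mk0 (phi f i 1) (hne i hi) := dif_pos hi
      rw [e1, Units.val_mk0]
      have h6 : ((d i : Fˣ) : F) * (((d i)⁻¹ : Fˣ) : F) = 1 := by
        rw [← Units.val_mul, mul_inv_cancel]; rfl
      linear_combination (-(σ (cf g i)) * phi f i 1) * h6
    · rw [cf_of_not _ hi, cf_of_not _ hi]
  have h2 := cf_congr (df (fun i : Fin m => d (i : ℕ)) σ)⁻¹ h1 i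
  rw [MulAut.inv_apply_self] at h2
  exact h2

end Cfsg.Agent.SylowL.CoordAut
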