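import Cfsg.Agent.SylowL.Lower

/-!
Automorphisms of `UT m F`: they preserve the levels; commutators modulo the next level; the
stability group of the level filtration is a 2-group in characteristic 2.
-/

set_option autoImplicit false

namespace Cfsg.Agent.SylowL.CoordBase

open Matrix
open scoped commutatorElement
open Cfsg.Agent.SylowL.Lev Cfsg.Agent.SylowL.UT Cfsg.Agent.SylowL.Pat
open Cfsg.Agent.SylowL.Series Cfsg.Agent.SylowL.Lower

variable {m : ℕ} {F : Type*} [Field F]

local notation "Mat" => Matrix (Fin m) (Fin m) F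

/-- Automorphisms preserve the levels. -/
theorem lev_iff (f : UT m F ≃* UT m F) {k : ℕ} (g : UT m F) :
    N (f g) ∈ lev m F k ↔ N g ∈ lev m F k := by
  rcases k with _ | k
  · exact ⟨fun _ => lev_anti (Nat.zero_le _) (N_mem g),
      fun _ => lev_anti (Nat.zero_le _) (N_mem _)⟩
  · rw [← mem_lowerCentralSeries_iff, ← mem_lowerCentralSeries_iff]
    have h2 := Subgroup.map_lowerCentralSeries (⊤ : Subgroup (UT m F)) (f : UT m F →* UT m F) k
    have h3 : (⊤ : Subgroup (UT m F)).map (f : UT m F →* UT m F) = ⊤ :=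
      Subgroup.map_top_of_surjective _ f.surjective
    rw [h3] at h2
    constructor
    · intro h
      rw [← h2] at h
      obtain ⟨x, hx, hxg⟩ := h
      have : x = g := f.injective hxg
      rw [← this]; exact hx
    · intro h
      rw [← h2]
      exact ⟨g, h, rfl⟩

theorem lev_of (f : UT m F ≃* UT m F) {k : ℕ} {g : UT m F} (h : N g ∈ lev m F k) :
    N (f g) ∈ lev m F k := (lev_iff f g).2 h

/-- The exact formula for the nilpotent part of a commutator. -/
theorem N_comm (x y : UT m F) :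
    N ⁅x, y⁆ = (N x * N y - N y * N x) * (1 + N (y * x)⁻¹) := by
  set c := ⁅x, y⁆ with hc
  have h1 : c * (y * x) = x * y := by rw [hc, commutatorElement_def]; group
  have h2 : N x * N y - N y * N x = N c * (1 + N (y * x)) := by
    have h3 := congrArg N h1
    rw [N_mul c, N_mul x y, N_mul y x] at h3
    rw [N_mul y x]
    have h4 : N c * (1 + (N y + N x + N y * N x))
        = (N c + (N y + N x + N y * N x) + N c * (N y + N x + N y * N x))
          - (N y + N x + N y * N x) := by noncomm_ring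
    rw [h4, h3]
    noncomm_ring
  rw [h2, mul_assoc]
  have h6 : (1 + N (y * x)) * (1 + N (y * x)⁻¹) = 1 := by
    have h7 := N_mul (y * x) (y * x)⁻¹
    rw [mul_inv_cancel, N_one] at h7
    have h8 : (1 + N (y * x)) * (1 + N (y * x)⁻¹)
        = 1 + (N (y * x) + N (y * x)⁻¹ + N (y * x) * N (y * x)⁻¹) := by noncomm_ring
    rw [h8, ← h7, add_zero]
  rw [h6, mul_one]

theorem N_comm' (x y : UT m F) :
    N ⁅x, y⁆ + N ⁅x, y⁆ * N (y * x) = N x * N y - N y * N x := by
  rw [N_comm]
  have h6 : (1 + N (y * x)⁻¹) * (1 + N (y * x)) = 1 := by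
    have h7 := N_mul (y * x)⁻¹ (y * x)
    rw [inv_mul_cancel, N_one] at h7
    have h8 : (1 + N (y * x)⁻¹) * (1 + N (y * x))
        = 1 + (N (y * x)⁻¹ + N (y * x) + N (y * x)⁻¹ * N (y * x)) := by noncomm_ring
    rw [h8, ← h7, add_zero]
  have h9 : ∀ a b : Mat, a * (1 + N (y * x)⁻¹) + a * (1 + N (y * x)⁻¹) * b
      = a * ((1 + N (y * x)⁻¹) * (1 + b)) := by intro a b; noncomm_ring
  rw [h9, h6, mul_one]

theorem bracket_mem {a b : ℕ} {x y : Mat} (hx : x ∈ lev m F a) (hy : y ∈ lev m F b) :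
    x * y - y * x ∈ lev m F (a + b) :=
  sub_mem (mul_mem_lev hx hy) (lev_anti (by omega) (mul_mem_lev hy hx))

theorem comm_lev {a b : ℕ} {x y : UT m F} (hx : N x ∈ lev m F a) (hy : N y ∈ lev m F b) :
    N ⁅x, y⁆ - (N x * N y - N y * N x) ∈ lev m F (a + b + 1) := by
  rw [N_comm]
  have h : (N x * N y - N y * N x) * (1 + N (y * x)⁻¹) - (N x * N y - N y * N x)
      = (N x * N y - N y * N x) * N (y * x)⁻¹ := by noncomm_ring
  rw [h]
  exact mul_mem_lev (bracket_mem hx hy) (N_mem _)

theorem comm_mem {a b : ℕ} {x y : UT m F} (hx : N x ∈ lev m F a) (hy : N y ∈ lev m F b) :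
    N ⁅x, y⁆ ∈ lev m F (a + b) := by
  have h := add_mem (lev_anti (Nat.le_succ _) (comm_lev hx hy)) (bracket_mem hx hy)
  rwa [sub_add_cancel] at h

theorem mul_lev {a b : ℕ} {x y : UT m F} (hx : N x ∈ lev m F a) (hy : N y ∈ lev m F b) :
    N (x * y) - (N x + N y) ∈ lev m F (a + b) := by
  rw [N_mul, add_sub_cancel_left]
  exact mul_mem_lev hx hy

theorem mul_mem_of {a : ℕ} (ha : 1 ≤ a) {x y : UT m F} (hx : N x ∈ lev m F a)
    (hy : N y ∈ lev m F a) : N (x * y) ∈ lev m F a :=
  (ofAlg (lev m F a) (isAlg_lev ha)).mul_mem hx hy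

theorem inv_mem_of {a : ℕ} (ha : 1 ≤ a) {x : UT m F} (hx : N x ∈ lev m F a) :
    N x⁻¹ ∈ lev m F a :=
  (ofAlg (lev m F a) (isAlg_lev ha)).inv_mem hx

/-- `x ≡ y` modulo level `k`. -/
theorem inv_mul_mem_iff {k : ℕ} (x y : UT m F) :
    N (x⁻¹ * y) ∈ lev m F k ↔ N y - N x ∈ lev m F k := by
  have h1 : x * (x⁻¹ * y) = y := by group
  have h2 := N_mul x (x⁻¹ * y)
  rw [h1] at h2
  have h3 : N y - N x = N (x⁻¹ * y) + N x * N (x⁻¹ * y) := by rw [h2]; abel
  constructor
  · intro h
    rw [h3]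
    exact add_mem h (lev_anti (by omega) (mul_mem_lev (N_mem x) h))
  · intro h
    have h4 : x⁻¹ * (x * (x⁻¹ * y)) = x⁻¹ * y := by group
    have h5 : N (x⁻¹ * y) = (N y - N x) + N x⁻¹ * (N y - N x) := by
      have h6 := N_mul x⁻¹ y
      have h7 := N_mul x⁻¹ x
      rw [inv_mul_cancel, N_one] at h7
      rw [h6, mul_sub]
      have h8 : N x⁻¹ = -(N x) - N x⁻¹ * N x := by
        have h9 : (0 : Mat) = N x⁻¹ + N x + N x⁻¹ * N x := h7
        have h10 : N x⁻¹ = (N x⁻¹ + N x + N x⁻¹ * N x) - N x - N x⁻¹ * N x := by abel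
        rw [← h9, zero_sub] at h10
        exact h10
      have h11 : N x⁻¹ + N y + N x⁻¹ * N y - (N y - N x + (N x⁻¹ * N y - N x⁻¹ * N x))
          = N x⁻¹ + N x + N x⁻¹ * N x := by abel
      rw [← h7] at h11
      exact sub_eq_zero.1 h11
    rw [h5]
    exact add_mem h (lev_anti (by omega) (mul_mem_lev (N_mem _) h))

/-- `f` is trivial from level `k` to level `k + s`, for all `k ≥ 1`. -/
def Stab (s : ℕ) (f : UT m F ≃* UT m F) : Prop :=
  ∀ k, 1 ≤ k → ∀ g : UT m F, N g ∈ lev m F k → N (g⁻¹ * f g) ∈ lev m F (k + s)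

theorem Stab.sq [CharP F 2] {s : ℕ} (hs : 1 ≤ s) {f : UT m F ≃* UT m F} (h : Stab s f) :
    Stab (s + 1) (f * f : MulAut (UT m F)) := by
  intro k hk g hg
  set c := g⁻¹ * f g with hc
  have h1 : N c ∈ lev m F (k + s) := h k hk g hg
  have h2 : f g = g * c := by rw [hc]; group
  have h3 : N (c⁻¹ * f c) ∈ lev m F (k + s + s) := h (k + s) (by omega) c h1
  have h4 : g⁻¹ * (f * f : MulAut (UT m F)) g = c * c * (c⁻¹ * f c) := by
    rw [MulAut.mul_apply, h2, map_mul, h2]; group
  rw [h4]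
  have h5 : N (c * c) ∈ lev m F (k + s + 1) := by
    rw [N_mul]
    have h6 : N c + N c = 0 := by
      ext i j
      rw [Matrix.add_apply, CharTwo.add_self_eq_zero, Matrix.zero_apply]
    rw [h6, zero_add]
    exact lev_anti (by omega) (mul_mem_lev h1 h1)
  have h7 : N (c * c * (c⁻¹ * f c)) ∈ lev m F (k + s + 1) :=
    mul_mem_of (by omega) h5 (lev_anti (by omega) h3)
  exact lev_anti (by omega) h7

theorem Stab.pow [CharP F 2] {f : UT m F ≃* UT m F} (h : Stab 1 f) (s : ℕ) :
    Stab (s + 1) ((f : MulAut (UT m F)) ^ 2 ^ s) := by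
  induction s with
  | zero => rw [pow_zero, pow_one]; exact h
  | succ s ih =>
    have h1 := ih.sq (by omega)
    have h2 : (f : MulAut (UT m F)) ^ 2 ^ (s + 1)
        = (f : MulAut (UT m F)) ^ 2 ^ s * (f : MulAut (UT m F)) ^ 2 ^ s := by
      rw [← pow_add]; congr 1; ring
    rw [h2]
    exact h1

theorem Stab.eq_one {f : UT m F ≃* UT m F} (h : Stab m f) : (f : MulAut (UT m F)) = 1 := by
  ext1 g
  have h1 := h 1 le_rfl g (N_mem g)
  have h2 := eq_zero_of_mem (by omega) h1
  rw [N_eq_zero_iff] at h2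
  rw [MulAut.one_apply]
  have h3 := inv_mul_eq_one.1 h2
  exact h3.symm

theorem Stab.two_pow [CharP F 2] (hm : 1 ≤ m) {f : UT m F ≃* UT m F} (h : Stab 1 f) :
    (f : MulAut (UT m F)) ^ 2 ^ (m - 1) = 1 := by
  have h1 := h.pow (m - 1)
  rw [Nat.sub_add_cancel hm] at h1
  exact h1.eq_one

/-- Triviality on `U / U_2` gives triviality on all the factors. -/
theorem stab_of_one {f : UT m F ≃* UT m F} (h : ∀ g : UT m F, N (g⁻¹ * f g) ∈ lev m F 2) :
    Stab 1 f := by
  intro k hk
  -- the subgroup of all g in level k with g⁻¹ f g in level k + 1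
  obtain ⟨k, rfl⟩ : ∃ l, k = l + 1 := ⟨k - 1, by omega⟩
  induction k with
  | zero => intro g _; exact h g
  | succ k ih =>
    intro g hg
    have ih' := ih (by omega)
    set L := ofAlg (lev m F (k + 1 + 1)) (isAlg_lev (by omega)) with hL
    set L' := ofAlg (lev m F (k + 1 + 1 + 1)) (isAlg_lev (by omega)) with hL'
    have hnL' : L'.Normal := (isIdeal_lev (by omega)).normal
    let H : Subgroup (UT m F) :=
      { carrier := {x | x ∈ L ∧ x⁻¹ * f x ∈ L'}
        mul_mem' := by
          rintro x y ⟨hx, hx'⟩ ⟨hy, hy'⟩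
          refine ⟨mul_mem hx hy, ?_⟩
          have h1 : (x * y)⁻¹ * f (x * y) = (y⁻¹ * (x⁻¹ * f x) * y) * (y⁻¹ * f y) := by
            rw [map_mul]; group
          rw [h1]
          refine mul_mem ?_ hy'
          have := hnL'.conj_mem _ hx' y⁻¹
          rwa [inv_inv] at this
        one_mem' := ⟨one_mem _, by rw [map_one, mul_one, inv_one]; exact one_mem _⟩
        inv_mem' := by
          rintro x ⟨hx, hx'⟩
          refine ⟨inv_mem hx, ?_⟩
          have h1 : (x⁻¹)⁻¹ * f x⁻¹ = x * (x⁻¹ * f x)⁻¹ * x⁻¹ := by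
            rw [map_inv]; group
          rw [h1]
          exact hnL'.conj_mem _ (inv_mem hx') x }
    suffices hgH : g ∈ H from hgH.2
    refine mem_of_roots (D := fun i j : Fin m => (i : ℕ) + (k + 1 + 1) ≤ j) ?_ ?_ H ?_
      (by rw [← lev_eq_pat]; exact hg)
    · intro i j h; rw [Fin.lt_def]; omega
    · intro i j l h h'; omega
    · intro i j hij c
      have hj := j.2
      set j' : Fin m := ⟨j - 1, by omega⟩ with hj'
      have h2 : (i : ℕ) + (k + 1) ≤ j' := by rw [hj']; simp only; omega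
      have h4 : j' < j := by rw [Fin.lt_def, hj']; simp only; omega
      have h5 : i < j' := by rw [Fin.lt_def]; omega
      refine ⟨?_, ?_⟩
      · rw [hL, mem_ofAlg, N_root]
        exact single_mem_lev hij c
      rw [hL', mem_ofAlg, inv_mul_mem_iff, ← lev_one_comm_root h5 h4 c]
      set x := root i j' h5 c with hx
      set y := root j' j h4 (1 : F) with hy
      have hxl : N x ∈ lev m F (k + 1) := by rw [hx, N_root]; exact single_mem_lev h2 c
      have hyl : N y ∈ lev m F 1 := N_mem y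
      have hfx := lev_of f hxl
      have hfy := lev_of f hyl
      have hdx := (inv_mul_mem_iff _ _).1 (ih' x hxl)
      have hdy := (inv_mul_mem_iff _ _).1 (h y)
      have h6 := comm_lev hxl hyl
      have h7 := comm_lev hfx hfy
      have h8 : N (f ⁅x, y⁆) = N ⁅f x, f y⁆ := by rw [map_commutatorElement]
      rw [h8]
      have h9 : (N (f x) * N (f y) - N (f y) * N (f x)) - (N x * N y - N y * N x)
          ∈ lev m F (k + 1 + 1 + 1) := by
        have h10 : (N (f x) * N (f y) - N (f y) * N (f x)) - (N x * N y - N y * N x)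
            = ((N (f x) - N x) * N (f y) - N (f y) * (N (f x) - N x))
              + (N x * (N (f y) - N y) - (N (f y) - N y) * N x) := by noncomm_ring
        rw [h10]
        refine add_mem ?_ ?_
        · exact bracket_mem hdx hfy
        · exact lev_anti (by omega) (bracket_mem hxl hdy)
      have h11 : N ⁅f x, f y⁆ - N ⁅x, y⁆ = (N ⁅f x, f y⁆ - (N (f x) * N (f y) - N (f y) * N (f x)))
          + ((N (f x) * N (f y) - N (f y) * N (f x)) - (N x * N y - N y * N x))
          - (N ⁅x, y⁆ - (N x * N y - N y * N x)) := by abel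
      rw [h11]
      exact sub_mem (add_mem (lev_anti (by omega) h7) h9) (lev_anti (by omega) h6)

end Cfsg.Agent.SylowL.CoordBase
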