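import Cfsg.Agent.SylowL.CoordBase

/-!
The coordinates `cf g i` (entry `(i, i + 1)`) on `UT m F`, the subgroups `Cg g` of all elements
commuting with `g` modulo level 3, and their indices.
-/

set_option autoImplicit false

namespace Cfsg.Agent.SylowL.CoordCf

open Matrix
open scoped commutatorElement
open Cfsg.Agent.SylowL.Lev Cfsg.Agent.SylowL.UT Cfsg.Agent.SylowL.Pat
open Cfsg.Agent.SylowL.Series Cfsg.Agent.SylowL.Lower Cfsg.Agent.SylowL.CoordBase

variable {m : ℕ} {F : Type*} [Field F]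

local notation "Mat" => Matrix (Fin m) (Fin m) F

theorem mul_apply_one {a b : Mat} (i t j : Fin m) (h : ∀ s, s ≠ t → a i s = 0 ∨ b s j = 0) :
    (a * b) i j = a i t * b t j := by
  rw [Matrix.mul_apply]
  refine Finset.sum_eq_single t ?_ ?_
  · intro s _ hs
    rcases h s hs with h1 | h1
    · rw [h1, zero_mul]
    · rw [h1, mul_zero]
  · intro h1
    exact absurd (Finset.mem_univ t) h1

theorem mul_apply_zero {a b : Mat} (i j : Fin m) (h : ∀ s, a i s = 0 ∨ b s j = 0) :
    (a * b) i j = 0 := by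
  rw [Matrix.mul_apply]
  refine Finset.sum_eq_zero ?_
  intro s _
  rcases h s with h1 | h1
  · rw [h1, zero_mul]
  · rw [h1, mul_zero]

/-- The entry `(i, i+1)`. -/
def cf (g : UT m F) (i : ℕ) : F :=
  if h : i + 1 < m then N g ⟨i, by omega⟩ ⟨i + 1, h⟩ else 0

theorem cf_of_lt (g : UT m F) {i : ℕ} (h : i + 1 < m) :
    cf g i = N g ⟨i, by omega⟩ ⟨i + 1, h⟩ := dif_pos h

theorem cf_of_not (g : UT m F) {i : ℕ} (h : ¬ i + 1 < m) : cf g i = 0 := dif_neg h

theorem cf_eq (g : UT m F) (i j : Fin m) (h : (j : ℕ) = i + 1) : N g i j = cf g i := by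
  have h1 : (i : ℕ) + 1 < m := by rw [← h]; exact j.2
  rw [cf_of_lt g h1]
  congr 1
  exact Fin.ext h

theorem cf_mul (g h : UT m F) (i : ℕ) : cf (g * h) i = cf g i + cf h i := by
  by_cases hi : i + 1 < m
  · rw [cf_of_lt _ hi, cf_of_lt _ hi, cf_of_lt _ hi, N_mul, Matrix.add_apply, Matrix.add_apply]
    have h1 : (N g * N h) ⟨i, by omega⟩ ⟨i + 1, hi⟩ = 0 :=
      Lev.apply_eq_zero (mul_mem_lev (N_mem g) (N_mem h)) (by simp only; omega)
    rw [h1, add_zero]
  · rw [cf_of_not _ hi, cf_of_not _ hi, cf_of_not _ hi, add_zero]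

@[simp] theorem cf_one (i : ℕ) : cf (1 : UT m F) i = 0 := by
  by_cases hi : i + 1 < m
  · rw [cf_of_lt _ hi, N_one, Matrix.zero_apply]
  · rw [cf_of_not _ hi]

theorem cf_inv (g : UT m F) (i : ℕ) : cf g⁻¹ i = -cf g i := by
  have h := cf_mul g g⁻¹ i
  rw [mul_inv_cancel, cf_one] at h
  exact (neg_eq_of_add_eq_zero_right h.symm).symm

theorem mem_two_iff (g : UT m F) : N g ∈ lev m F 2 ↔ ∀ i, cf g i = 0 := by
  constructor
  · intro h i
    by_cases hi : i + 1 < m
    · rw [cf_of_lt _ hi]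
      exact Lev.apply_eq_zero h (by simp only; omega)
    · exact cf_of_not _ hi
  · intro h
    rw [mem_lev']
    intro i j hij
    by_cases h1 : (j : ℕ) = i + 1
    · rw [cf_eq g i j h1, h]
    · exact Lev.apply_eq_zero (N_mem g) (by omega)

theorem sub_mem_two_iff (g h : UT m F) : N h - N g ∈ lev m F 2 ↔ ∀ i, cf g i = cf h i := by
  rw [← inv_mul_mem_iff, mem_two_iff]
  refine forall_congr' fun i => ?_
  rw [cf_mul, cf_inv]
  constructor
  · intro h1
    exact (neg_add_eq_zero.1 h1)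
  · intro h1
    rw [h1, neg_add_cancel]

/-- The root element at `(i, i+1)`. -/
def rt (i : ℕ) (h : i + 1 < m) (c : F) : UT m F :=
  root ⟨i, by omega⟩ ⟨i + 1, h⟩ (by rw [Fin.lt_def]; simp) c

theorem cf_rt_self {i : ℕ} (h : i + 1 < m) (c : F) : cf (rt i h c : UT m F) i = c := by
  rw [cf_of_lt _ h, rt, N_root, Matrix.single_apply_same]

theorem cf_rt_ne {i j : ℕ} (h : i + 1 < m) (hij : i ≠ j) (c : F) :
    cf (rt i h c : UT m F) j = 0 := by
  by_cases hj : j + 1 < m
  · rw [cf_of_lt _ hj, rt, N_root, Matrix.single_apply_of_row_ne]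
    intro h1
    exact hij (congrArg Fin.val h1)
  · exact cf_of_not _ hj

theorem rt_mul {i : ℕ} (h : i + 1 < m) (c d : F) :
    (rt i h c : UT m F) * rt i h d = rt i h (c + d) := root_mul_root _ _ _ _ _

/-- The coordinate as a homomorphism. -/
def cfHom (i : ℕ) : UT m F →* Multiplicative F where
  toFun g := Multiplicative.ofAdd (cf g i)
  map_one' := by rw [cf_one]; rfl
  map_mul' g h := by rw [cf_mul]; rfl

/-- The entry `(i, i + 2)` of the bracket. -/
def br (g h : UT m F) (i : ℕ) : F := cf g i * cf h (i + 1) - cf h i * cf g (i + 1)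

theorem mul_entry (g h : UT m F) (i j : Fin m) (hij : (j : ℕ) = i + 2) :
    (N g * N h) i j = cf g i * cf h (i + 1) := by
  have hj := j.2
  have ht : (i : ℕ) + 1 < m := by omega
  rw [mul_apply_one i ⟨i + 1, ht⟩ j]
  · rw [cf_eq g i ⟨i + 1, ht⟩ rfl, cf_eq h ⟨i + 1, ht⟩ j (by simp only; omega)]
  · intro s hs
    by_cases h1 : (s : ℕ) < i + 1
    · exact Or.inl (Lev.apply_eq_zero (N_mem g) h1)
    · right
      refine Lev.apply_eq_zero (N_mem h) ?_
      have h2 : (s : ℕ) ≠ i + 1 := fun h3 => hs (Fin.ext h3)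
      omega

theorem bracket_entry (g h : UT m F) (i j : Fin m) (hij : (j : ℕ) = i + 2) :
    (N g * N h - N h * N g) i j = br g h i := by
  rw [Matrix.sub_apply, mul_entry g h i j hij, mul_entry h g i j hij, br]

theorem bracket_mem_three_iff (g h : UT m F) :
    N g * N h - N h * N g ∈ lev m F 3 ↔ ∀ i, i + 2 < m → br g h i = 0 := by
  constructor
  · intro h1 i hi
    rw [← bracket_entry g h ⟨i, by omega⟩ ⟨i + 2, hi⟩ rfl]
    exact Lev.apply_eq_zero h1 (by simp only; omega)
  · intro h1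
    rw [mem_lev']
    intro i j hij
    by_cases h2 : (j : ℕ) = i + 2
    · rw [bracket_entry g h i j h2]
      exact h1 i (by rw [← h2]; exact j.2)
    · exact Lev.apply_eq_zero (bracket_mem (N_mem g) (N_mem h)) (by omega)

/-- All elements commuting with `g` modulo level 3. -/
def Cg (g : UT m F) : Subgroup (UT m F) where
  carrier := {h | N (g * h * g⁻¹ * h⁻¹) ∈ lev m F 3}
  mul_mem' {h k} hh hk := by
    change N (g * (h * k) * g⁻¹ * (h * k)⁻¹) ∈ lev m F 3
    have h1 : g * (h * k) * g⁻¹ * (h * k)⁻¹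
        = (g * h * g⁻¹ * h⁻¹) * (h * (g * k * g⁻¹ * k⁻¹) * h⁻¹) := by group
    rw [h1]
    refine mul_mem_of (by omega) hh ?_
    rw [N_conj]
    exact (isIdeal_lev (by omega)).conj_mem hk
  one_mem' := by
    change N (g * 1 * g⁻¹ * 1⁻¹) ∈ lev m F 3
    rw [mul_one, mul_inv_cancel, inv_one, mul_one, N_one]
    exact zero_mem _
  inv_mem' {h} hh := by
    change N (g * h⁻¹ * g⁻¹ * h⁻¹⁻¹) ∈ lev m F 3
    have h1 : g * h⁻¹ * g⁻¹ * h⁻¹⁻¹ = h⁻¹ * (g * h * g⁻¹ * h⁻¹)⁻¹ * h⁻¹⁻¹ := by group
    rw [h1, N_conj]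
    exact (isIdeal_lev (by omega)).conj_mem (inv_mem_of (by omega) hh)

theorem mem_Cg {g h : UT m F} : h ∈ Cg g ↔ ∀ i, i + 2 < m → br g h i = 0 := by
  rw [← bracket_mem_three_iff, ← (isIdeal_lev (by omega)).commutator_mem_iff]
  rfl

theorem comap_Cg (f : UT m F ≃* UT m F) (g : UT m F) :
    (Cg (f g)).comap (f : UT m F →* UT m F) = Cg g := by
  ext h
  change N (f g * f h * (f g)⁻¹ * (f h)⁻¹) ∈ lev m F 3 ↔ N (g * h * g⁻¹ * h⁻¹) ∈ lev m F 3
  rw [← map_mul, ← map_inv, ← map_inv, ← map_mul, ← map_mul, lev_iff]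

theorem index_Cg (f : UT m F ≃* UT m F) (g : UT m F) : (Cg (f g)).index = (Cg g).index := by
  rw [← comap_Cg f g]
  exact (Subgroup.index_comap_of_surjective _ f.surjective).symm

theorem index_le_of_ker [Finite F] (g : UT m F) (i : ℕ)
    (h : ∀ x : UT m F, cf x i = 0 → x ∈ Cg g) : (Cg g).index ≤ Nat.card F := by
  have h1 : (cfHom i : UT m F →* Multiplicative F).ker ≤ Cg g := by
    intro x hx
    exact h x (Multiplicative.ofAdd.injective hx)
  have h2 := Subgroup.index_antitone h1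
  rw [Subgroup.index_ker] at h2
  refine h2.trans ?_
  exact Nat.card_le_card_of_injective (Subtype.val : _ → Multiplicative F) Subtype.val_injective

theorem index_ge_of_pair [Finite F] (g : UT m F) (i j : ℕ) (hi : i + 2 < m) (hj : j + 2 < m)
    (h : ∀ a b : F, ∃ x : UT m F, br g x i = a ∧ br g x j = b) :
    Nat.card F * Nat.card F ≤ (Cg g).index := by
  have hbr : ∀ (x y : UT m F) (i : ℕ), br g (x * y) i = br g x i + br g y i := by
    intro x y i
    rw [br, br, br, cf_mul, cf_mul]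
    ring
  let ψ : UT m F →* Multiplicative (F × F) :=
    { toFun := fun x => Multiplicative.ofAdd (br g x i, br g x j)
      map_one' := by
        have h1 : ∀ i, br g 1 i = 0 := by
          intro i
          rw [br, cf_one, cf_one]
          ring
        rw [h1, h1]; rfl
      map_mul' := fun x y => by rw [hbr, hbr]; rfl }
  have h1 : Cg g ≤ ψ.ker := by
    intro x hx
    rw [mem_Cg] at hx
    rw [MonoidHom.mem_ker]
    change Multiplicative.ofAdd (br g x i, br g x j) = 1
    rw [hx i hi, hx j hj]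
    rfl
  have h2 : Function.Surjective ψ := by
    intro y
    obtain ⟨x, hx1, hx2⟩ := h (Multiplicative.toAdd y).1 (Multiplicative.toAdd y).2
    refine ⟨x, ?_⟩
    change Multiplicative.ofAdd (br g x i, br g x j) = y
    rw [hx1, hx2]
    rfl
  have h3 := Subgroup.index_antitone h1
  rw [Subgroup.index_ker, MonoidHom.range_eq_top.2 h2, Subgroup.card_top] at h3
  refine le_trans (le_of_eq ?_) h3
  rw [← Nat.card_prod]
  rfl

/-- If `g` has a nonzero middle coordinate then `Cg g` has large index. -/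
theorem index_mid [Finite F] {g : UT m F} {i : ℕ} (h1 : 1 ≤ i) (h2 : i + 2 < m)
    (hg : cf g i ≠ 0) : Nat.card F * Nat.card F ≤ (Cg g).index := by
  obtain ⟨k, rfl⟩ : ∃ k, i = k + 1 := ⟨i - 1, by omega⟩
  refine index_ge_of_pair g k (k + 1) (by omega) h2 ?_
  intro a b
  refine ⟨rt k (by omega) (-(a / cf g (k + 1))) * rt (k + 1 + 1) (by omega) (b / cf g (k + 1)),
    ?_, ?_⟩
  · rw [br, cf_mul, cf_mul, cf_rt_self, cf_rt_ne _ (by omega), cf_rt_ne _ (by omega),
      cf_rt_ne _ (by omega)]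
    field_simp
    ring
  · rw [br, cf_mul, cf_mul, cf_rt_self, cf_rt_ne _ (by omega), cf_rt_ne _ (by omega),
      cf_rt_ne _ (by omega)]
    field_simp
    ring

/-- If both end coordinates are nonzero then `Cg g` has large index, for `m ≥ 5`. -/
theorem index_ends [Finite F] {g : UT m F} (hm : 5 ≤ m) (h0 : cf g 0 ≠ 0)
    (h1 : cf g (m - 2) ≠ 0) : Nat.card F * Nat.card F ≤ (Cg g).index := by
  refine index_ge_of_pair g 0 (m - 3) (by omega) (by omega) ?_
  intro a b
  have hm3 : m - 2 = m - 3 + 1 := by omega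
  rw [hm3] at h1
  refine ⟨rt 1 (by omega) (a / cf g 0) * rt (m - 3) (by omega) (-(b / cf g (m - 3 + 1))), ?_, ?_⟩
  · rw [br, cf_mul, cf_mul, cf_rt_self, cf_rt_ne _ (by omega), cf_rt_ne _ (by omega),
      cf_rt_ne _ (by omega)]
    field_simp
    ring
  · rw [br, cf_mul, cf_mul, cf_rt_self, cf_rt_ne _ (by omega), cf_rt_ne _ (by omega),
      cf_rt_ne _ (by omega)]
    field_simp
    ring

/-- `g` lies in the root subgroup `i` modulo level 2. -/
def V (i : ℕ) (g : UT m F) : Prop := ∀ j, j ≠ i → cf g j = 0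

theorem index_first [Finite F] {g : UT m F} (h : V 0 g) :
    (Cg g).index ≤ Nat.card F := by
  refine index_le_of_ker g 1 ?_
  intro x hx
  rw [mem_Cg]
  intro i _
  by_cases hi0 : i = 0
  · subst hi0
    rw [br, hx, h (0 + 1) (by omega)]
    ring
  · rw [br, h i hi0, h (i + 1) (by omega)]
    ring

theorem index_last [Finite F] (hm : 3 ≤ m) {g : UT m F} (h : V (m - 2) g) :
    (Cg g).index ≤ Nat.card F := by
  refine index_le_of_ker g (m - 3) ?_
  intro x hx
  rw [mem_Cg]
  intro i hi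
  by_cases hi0 : i = m - 3
  · subst hi0
    rw [br, hx, h (m - 3) (by omega)]
    ring
  · rw [br, h i (by omega), h (i + 1) (by omega)]
    ring

theorem not_both [Finite F] {g : UT m F} (h1 : Nat.card F * Nat.card F ≤ (Cg g).index)
    (h2 : (Cg g).index ≤ Nat.card F) : False := by
  have h3 : 1 < Nat.card F := Finite.one_lt_card
  nlinarith

/-- The images of the ends have no middle coordinates. -/
theorem mid_zero [Finite F] (hm : 3 ≤ m) (f : UT m F ≃* UT m F) {g : UT m F}
    (h : V 0 g ∨ V (m - 2) g) {i : ℕ} (h1 : 1 ≤ i) (h2 : i + 2 < m) : cf (f g) i = 0 := by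
  by_contra h3
  refine not_both (index_mid h1 h2 h3) ?_
  rw [index_Cg]
  rcases h with h | h
  · exact index_first h
  · exact index_last hm h

/-- For `m ≥ 5` the images of the ends are in the ends. -/
theorem ends_five [Finite F] (hm : 5 ≤ m) (f : UT m F ≃* UT m F) {g : UT m F}
    (h : V 0 g ∨ V (m - 2) g) : V 0 (f g) ∨ V (m - 2) (f g) := by
  have hmid := fun {i : ℕ} => mid_zero (i := i) (by omega) f h
  by_cases h0 : cf (f g) 0 = 0
  · right
    intro j hj
    by_cases hj0 : j = 0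
    · rw [hj0, h0]
    · by_cases hj2 : j + 2 < m
      · exact hmid (by omega) hj2
      · exact cf_of_not _ (by omega)
  · left
    intro j hj
    by_cases hj2 : j + 2 < m
    · exact hmid (by omega) hj2
    · by_cases hj1 : j = m - 2
      · by_contra h3
        rw [hj1] at h3
        refine not_both (index_ends hm h0 h3) ?_
        rw [index_Cg]
        rcases h with h | h
        · exact index_first h
        · exact index_last (by omega) h
      · exact cf_of_not _ (by omega)

end Cfsg.Agent.SylowL.CoordCf
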