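import Cfsg.Agent.SylowL.CoordCf

/-!
Automorphisms of `UT m F` (`m ≥ 4`, `|F| ≥ 4`): each end root subgroup (modulo level 2) is mapped
into one of the two ends; an automorphism with an odd power trivial on `U/U_2` fixes both ends.
-/

set_option autoImplicit false
set_option linter.unusedSimpArgs false

namespace Cfsg.Agent.SylowL.CoordEnds

open Matrix
open scoped commutatorElement
open Cfsg.Agent.SylowL.Lev Cfsg.Agent.SylowL.UT Cfsg.Agent.SylowL.Pat
open Cfsg.Agent.SylowL.Series Cfsg.Agent.SylowL.Lower Cfsg.Agent.SylowL.CoordBase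
open Cfsg.Agent.SylowL.CoordCf

variable {m : ℕ} {F : Type*} [Field F]

local notation "Mat" => Matrix (Fin m) (Fin m) F

theorem comm_root_root {i j k : Fin m} (hij : i < j) (hjk : j < k) (c d : F) :
    ⁅root i j hij c, root j k hjk d⁆ = root i k (hij.trans hjk) (c * d) := by
  rw [commutatorElement_def]
  have h1 : root i k (hij.trans hjk) (c * d) * (root j k hjk d * root i j hij c)
      = root i j hij c * root j k hjk d := by
    apply N_injective
    rw [N_mul, N_mul (root j k hjk d), N_mul (root i j hij c), N_root, N_root, N_root]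
    rw [Matrix.single_mul_single_same, mul_add, mul_add,
      Matrix.single_mul_single_of_ne (h := (hij.trans hjk).ne'),
      Matrix.single_mul_single_of_ne (h := hjk.ne'), Matrix.mul_zero,
      Matrix.single_mul_single_of_ne (h := (hij.trans hjk).ne')]
    abel
  rw [← h1]
  group

theorem V_mul {i : ℕ} {g h : UT m F} (hg : V i g) (hh : V i h) : V i (g * h) := by
  intro j hj
  rw [cf_mul, hg j hj, hh j hj, add_zero]

theorem V_inv {i : ℕ} {g : UT m F} (hg : V i g) : V i g⁻¹ := by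
  intro j hj
  rw [cf_inv, hg j hj, neg_zero]

theorem V_rt {i : ℕ} (hi : i + 1 < m) (c : F) : V i (rt i hi c : UT m F) := by
  intro j hj
  exact cf_rt_ne hi (Ne.symm hj) c

/-- Elements congruent modulo level 2 have congruent images. -/
theorem cf_congr (f : UT m F ≃* UT m F) {g h : UT m F} (hgh : ∀ i, cf g i = cf h i) (i : ℕ) :
    cf (f g) i = cf (f h) i := by
  have h1 := (inv_mul_mem_iff g h).2 ((sub_mem_two_iff g h).2 hgh)
  have h2 := lev_of f h1
  rw [map_mul, map_inv] at h2
  exact (sub_mem_two_iff _ _).1 ((inv_mul_mem_iff _ _).1 h2) i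

theorem V_cf {i : ℕ} (hi : i + 1 < m) {g : UT m F} (hg : V i g) (j : ℕ) :
    cf g j = cf (rt i hi (cf g i) : UT m F) j := by
  by_cases h : j = i
  · rw [h, cf_rt_self]
  · rw [hg j h, cf_rt_ne hi (Ne.symm h)]

theorem V_of_rt (f : UT m F ≃* UT m F) {i k : ℕ} (hi : i + 1 < m)
    (h : ∀ c : F, V k (f (rt i hi c))) {g : UT m F} (hg : V i g) : V k (f g) := by
  intro j hj
  rw [cf_congr f (V_cf hi hg)]
  exact h _ j hj

theorem not_two_rt {i : ℕ} (hi : i + 1 < m) {c : F} (hc : c ≠ 0) :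
    N (rt i hi c : UT m F) ∉ lev m F 2 := by
  intro h
  rw [mem_two_iff] at h
  have := h i
  rw [cf_rt_self] at this
  exact hc this

/-- The field identity behind the case `m = 4`. -/
theorem field_lemma {A B C u v zA zB zC : F → F} (t : F)
    (hA : ∀ a b, zA (a * b) = A a * B b) (hB : ∀ a b, zB (a * b) = C a * B b)
    (hC : ∀ a b, zC (a * b) = A a * v b - C a * u b - A a * C a * B b)
    (h1 : B 1 ≠ 0) (h2 : B t ≠ 0) (h3 : B t ≠ B 1) :
    ((∀ a, A a = 0) ∨ (∀ a, C a = 0)) := by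
  have hA1 : ∀ a, A a * B 1 = A 1 * B a := by
    intro a
    rw [← hA, ← hA, mul_one, one_mul]
  have hC1 : ∀ a, C a * B 1 = C 1 * B a := by
    intro a
    rw [← hB, ← hB, mul_one, one_mul]
  have key : A 1 = 0 ∨ C 1 = 0 := by
    by_contra hcon
    rw [not_or] at hcon
    obtain ⟨hA0, hC0⟩ := hcon
    obtain ⟨s, hs⟩ : ∃ s, B t = s * B 1 := ⟨B t / B 1, by field_simp⟩
    have hAt : A t = A 1 * s := by
      have := hA1 t
      rw [hs] at this
      exact mul_right_cancel₀ h1 (by rw [this]; ring)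
    have hCt : C t = C 1 * s := by
      have := hC1 t
      rw [hs] at this
      exact mul_right_cancel₀ h1 (by rw [this]; ring)
    have hBtt : B (t * t) = s * s * B 1 := by
      have e1 := hA t t
      have e2 := hA 1 (t * t)
      rw [one_mul] at e2
      rw [e2, hAt, hs] at e1
      exact mul_left_cancel₀ hA0 (by rw [e1]; ring)
    have hAtt : A (t * t) = A 1 * (s * s) := by
      have := hA1 (t * t)
      rw [hBtt] at this
      exact mul_right_cancel₀ h1 (by rw [this]; ring)
    have hCtt : C (t * t) = C 1 * (s * s) := by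
      have := hC1 (t * t)
      rw [hBtt] at this
      exact mul_right_cancel₀ h1 (by rw [this]; ring)
    have e1 := hC 1 t
    have e2 := hC t 1
    have e3 := hC t t
    have e4 := hC (t * t) 1
    rw [one_mul] at e1
    rw [mul_one] at e2 e4
    rw [e2] at e1
    rw [e4] at e3
    rw [hAt, hCt, hs] at e1
    rw [hAtt, hCtt, hAt, hCt, hs] at e3
    have e5 : A 1 * C 1 * B 1 * s ^ 2 * (1 - s) ^ 2 = 0 := by
      linear_combination s * e1 - e3
    have hs0 : s ≠ 0 := by
      rintro rfl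
      exact h2 (by rw [hs, zero_mul])
    have hs1 : (1 - s) ≠ 0 := by
      intro h
      have : s = 1 := (sub_eq_zero.1 h).symm
      exact h3 (by rw [hs, this, one_mul])
    exact absurd e5 (mul_ne_zero (mul_ne_zero (mul_ne_zero (mul_ne_zero hA0 hC0) h1)
      (pow_ne_zero 2 hs0)) (pow_ne_zero 2 hs1))
  rcases key with h | h
  · left
    intro a
    have := hA1 a
    rw [h, zero_mul] at this
    exact (mul_eq_zero.1 this).resolve_right h1
  · right
    intro a
    have := hC1 a
    rw [h, zero_mul] at this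
    exact (mul_eq_zero.1 this).resolve_right h1

section four

theorem comm_two_four {g n : UT 4 F} (hg : V 1 g) (hn : N n ∈ lev 4 F 2) : g * n = n * g := by
  rw [commute_iff]
  have h1 : ∀ a ∈ lev 4 F 3, a 0 3 = 0 → a = 0 := by
    intro a ha h0
    refine eq_zero_of_mem le_rfl ?_
    rw [mem_lev']
    intro i j hij
    by_cases h1 : (j : ℕ) < i + 3
    · exact Lev.apply_eq_zero ha h1
    · have hi : i = 0 := Fin.ext (by rw [Fin.val_zero]; have := j.2; omega)
      have hj : j = 3 := Fin.ext (by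
        change (j : ℕ) = 3
        have := j.2; omega)
      rw [hi, hj, h0]
  rw [h1 _ (mul_mem_lev (N_mem g) hn), h1 _ (mul_mem_lev hn (N_mem g))]
  · rw [Matrix.mul_apply, Fin.sum_univ_four]
    have e1 : N n 0 0 = 0 := Lev.apply_eq_zero hn (by simp)
    have e2 : N n 0 1 = 0 := Lev.apply_eq_zero hn (by simp)
    have e3 : N g 2 3 = 0 := by
      rw [cf_eq g 2 3 rfl]; exact hg 2 (by omega)
    have e4 : N g 3 3 = 0 := Lev.apply_eq_zero (N_mem g) (by simp)
    rw [e1, e2, e3, e4]; ring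
  · rw [Matrix.mul_apply, Fin.sum_univ_four]
    have e1 : N g 0 0 = 0 := Lev.apply_eq_zero (N_mem g) (by simp)
    have e2 : N g 0 1 = 0 := by
      rw [cf_eq g 0 1 rfl]; exact hg 0 (by omega)
    have e3 : N n 2 3 = 0 := Lev.apply_eq_zero hn (by simp)
    have e4 : N n 3 3 = 0 := Lev.apply_eq_zero hn (by simp)
    rw [e1, e2, e3, e4]; ring

theorem V_one_four (f : UT 4 F ≃* UT 4 F) {g : UT 4 F} (hg : V 1 g) : V 1 (f g) := by
  have h1 : ∀ n : UT 4 F, N n ∈ lev 4 F 2 → f g * n = n * f g := by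
    intro n hn
    have h2 : N (f.symm n) ∈ lev 4 F 2 := lev_of f.symm hn
    have h3 := congrArg f (comm_two_four hg h2)
    rwa [map_mul, map_mul, MulEquiv.apply_symm_apply] at h3
  have h13 := h1 (root 1 3 (by decide) 1) (by
    rw [N_root]; exact single_mem_lev (by simp) _)
  have h02 := h1 (root 0 2 (by decide) 1) (by
    rw [N_root]; exact single_mem_lev (by simp) _)
  rw [commute_root_iff _ one_ne_zero] at h13 h02
  intro j hj
  by_cases h0 : j = 0
  · rw [h0]
    have := h13.1 0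
    rwa [cf_eq (f g) 0 1 rfl] at this
  · by_cases h2 : j = 2
    · rw [h2]
      have := h02.2 3
      rwa [cf_eq (f g) 2 3 rfl] at this
    · exact cf_of_not _ (by omega)

theorem entries_four (x y : UT 4 F) :
    N ⁅x, y⁆ 0 2 = cf x 0 * cf y 1 - cf y 0 * cf x 1 ∧
    N ⁅x, y⁆ 1 3 = cf x 1 * cf y 2 - cf y 1 * cf x 2 ∧
    N ⁅x, y⁆ 0 3 = cf x 0 * N y 1 3 + N x 0 2 * cf y 2 - (cf y 0 * N x 1 3 + N y 0 2 * cf x 2)
      - (cf x 0 * cf y 1 - cf y 0 * cf x 1) * (cf y 2 + cf x 2) := by
  have hc : N ⁅x, y⁆ ∈ lev 4 F 2 := comm_mem (a := 1) (b := 1) (N_mem x) (N_mem y)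
  have h := N_comm' x y
  have z : ∀ (g : UT 4 F), N g 0 0 = 0 ∧ N g 1 0 = 0 ∧ N g 1 1 = 0 ∧ N g 2 0 = 0 ∧ N g 2 1 = 0 ∧
      N g 2 2 = 0 ∧ N g 3 0 = 0 ∧ N g 3 1 = 0 ∧ N g 3 2 = 0 ∧ N g 3 3 = 0 := by
    intro g
    refine ⟨?_, ?_, ?_, ?_, ?_, ?_, ?_, ?_, ?_, ?_⟩ <;>
      exact Lev.apply_eq_zero (N_mem g) (by simp)
  have hc01 : N ⁅x, y⁆ 0 1 = 0 := Lev.apply_eq_zero hc (by simp)
  have hc12 : N ⁅x, y⁆ 1 2 = 0 := Lev.apply_eq_zero hc (by simp)
  have hc23 : N ⁅x, y⁆ 2 3 = 0 := Lev.apply_eq_zero hc (by simp)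
  have e0 : ∀ g : UT 4 F, N g 0 1 = cf g 0 := fun g => cf_eq g 0 1 rfl
  have e1 : ∀ g : UT 4 F, N g 1 2 = cf g 1 := fun g => cf_eq g 1 2 rfl
  have e2 : ∀ g : UT 4 F, N g 2 3 = cf g 2 := fun g => cf_eq g 2 3 rfl
  obtain ⟨x1, x2, x3, x4, x5, x6, x7, x8, x9, x10⟩ := z x
  obtain ⟨y1, y2, y3, y4, y5, y6, y7, y8, y9, y10⟩ := z y
  obtain ⟨c1, c2, c3, c4, c5, c6, c7, c8, c9, c10⟩ := z ⁅x, y⁆
  obtain ⟨w1, w2, w3, w4, w5, w6, w7, w8, w9, w10⟩ := z (y * x)
  have h02 : N ⁅x, y⁆ 0 2 = cf x 0 * cf y 1 - cf y 0 * cf x 1 := by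
    have h' := congrFun (congrFun h 0) 2
    rw [Matrix.add_apply, Matrix.sub_apply, Matrix.mul_apply, Matrix.mul_apply, Matrix.mul_apply,
      Fin.sum_univ_four, Fin.sum_univ_four, Fin.sum_univ_four] at h'
    simp only [e0, e1, e2, x1, x2, x3, x4, x5, x6, x7, x8, x9, x10, y1, y2, y3, y4, y5, y6, y7, y8,
      y9, y10, c1, c2, c3, c4, c5, c6, c7, c8, c9, c10, w1, w2, w3, w4, w5, w6, w7, w8, w9, w10,
      zero_mul, mul_zero, add_zero, zero_add] at h' hc01
    rw [hc01] at h'
    linear_combination h'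
  refine ⟨h02, ?_, ?_⟩
  · have h' := congrFun (congrFun h 1) 3
    rw [Matrix.add_apply, Matrix.sub_apply, Matrix.mul_apply, Matrix.mul_apply, Matrix.mul_apply,
      Fin.sum_univ_four, Fin.sum_univ_four, Fin.sum_univ_four] at h'
    simp only [e0, e1, e2, x1, x2, x3, x4, x5, x6, x7, x8, x9, x10, y1, y2, y3, y4, y5, y6, y7, y8,
      y9, y10, c1, c2, c3, c4, c5, c6, c7, c8, c9, c10, w1, w2, w3, w4, w5, w6, w7, w8, w9, w10,
      zero_mul, mul_zero, add_zero, zero_add] at h' hc12
    rw [hc12] at h'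
    linear_combination h'
  · have h' := congrFun (congrFun h 0) 3
    rw [Matrix.add_apply, Matrix.sub_apply, Matrix.mul_apply, Matrix.mul_apply, Matrix.mul_apply,
      Fin.sum_univ_four, Fin.sum_univ_four, Fin.sum_univ_four] at h'
    simp only [e0, e1, e2, x1, x2, x3, x4, x5, x6, x7, x8, x9, x10, y1, y2, y3, y4, y5, y6, y7, y8,
      y9, y10, c1, c2, c3, c4, c5, c6, c7, c8, c9, c10, w1, w2, w3, w4, w5, w6, w7, w8, w9, w10,
      zero_mul, mul_zero, add_zero, zero_add] at h' hc01
    rw [hc01, cf_mul, h02] at h'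
    linear_combination h'

theorem B_ne (f : UT 4 F ≃* UT 4 F) {t : F} (ht : t ≠ 0) :
    cf (f (rt 1 (by omega) t)) 1 ≠ 0 := by
  intro h
  have h1 : N (f (rt 1 (by omega) t)) ∈ lev 4 F 2 := by
    rw [mem_two_iff]
    intro i
    by_cases hi : i = 1
    · rw [hi, h]
    · exact V_one_four f (V_rt (by omega) t) i hi
  rw [lev_iff] at h1
  exact not_two_rt _ ht h1

theorem B_inj (f : UT 4 F ≃* UT 4 F) {t : F} (ht : t ≠ 1) :
    cf (f (rt 1 (by omega) t)) 1 ≠ cf (f (rt 1 (by omega) 1)) 1 := by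
  intro h
  have h1 : ∀ i, cf (f (rt 1 (by omega) t)) i = cf (f (rt 1 (by omega) 1)) i := by
    intro i
    by_cases hi : i = 1
    · rw [hi, h]
    · rw [V_one_four f (V_rt (by omega) t) i hi, V_one_four f (V_rt (by omega) 1) i hi]
  have h2 := cf_congr f.symm h1 1
  rw [MulEquiv.symm_apply_apply, MulEquiv.symm_apply_apply, cf_rt_self, cf_rt_self] at h2
  exact ht h2

theorem ends_first_four [Finite F] (hF : ∃ t : F, t ≠ 0 ∧ t ≠ 1) (f : UT 4 F ≃* UT 4 F) :
    (∀ g, V 0 g → V 0 (f g)) ∨ (∀ g, V 0 g → V (4 - 2) (f g)) := by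
  obtain ⟨t, ht0, ht1⟩ := hF
  have hmid : ∀ a : F, cf (f (rt 0 (by omega) a)) 1 = 0 := fun a =>
    mid_zero (by omega) f (Or.inl (V_rt (by omega) a)) le_rfl (by omega)
  have key : ∀ a b : F, f (root 0 2 (by decide) (a * b))
      = ⁅f (rt 0 (by omega) a), f (rt 1 (by omega) b)⁆ := by
    intro a b
    rw [← map_commutatorElement]
    congr 1
    exact (comm_root_root (i := 0) (j := 1) (k := 2) (by decide) (by decide) a b).symm
  have hy : ∀ b : F, cf (f (rt 1 (by omega) b)) 0 = 0 ∧ cf (f (rt 1 (by omega) b)) 2 = 0 :=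
    fun b => ⟨V_one_four f (V_rt (by omega) b) 0 (by omega),
      V_one_four f (V_rt (by omega) b) 2 (by omega)⟩
  have h := field_lemma (A := fun a => cf (f (rt 0 (by omega) a)) 0)
    (B := fun b => cf (f (rt 1 (by omega) b)) 1)
    (C := fun a => cf (f (rt 0 (by omega) a)) 2)
    (u := fun b => N (f (rt 1 (by omega) b)) 0 2)
    (v := fun b => N (f (rt 1 (by omega) b)) 1 3)
    (zA := fun c => N (f (root 0 2 (by decide) c)) 0 2)
    (zB := fun c => -N (f (root 0 2 (by decide) c)) 1 3)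
    (zC := fun c => N (f (root 0 2 (by decide) c)) 0 3) t
    (by
      intro a b
      rw [key, (entries_four _ _).1, (hy b).1]
      ring)
    (by
      intro a b
      rw [key, (entries_four _ _).2.1, hmid]
      ring)
    (by
      intro a b
      rw [key, (entries_four _ _).2.2, hmid, (hy b).1, (hy b).2]
      ring)
    (B_ne f one_ne_zero) (B_ne f ht0) (B_inj f ht1)
  rcases h with h | h
  · right
    intro g hg
    refine V_of_rt f (by omega) ?_ hg
    intro c j hj
    by_cases hj0 : j = 0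
    · rw [hj0, h]
    · by_cases hj1 : j = 1
      · rw [hj1, hmid]
      · exact cf_of_not _ (by omega)
  · left
    intro g hg
    refine V_of_rt f (by omega) ?_ hg
    intro c j hj
    by_cases hj0 : j = 2
    · rw [hj0, h]
    · by_cases hj1 : j = 1
      · rw [hj1, hmid]
      · exact cf_of_not _ (by omega)

theorem ends_last_four [Finite F] (hF : ∃ t : F, t ≠ 0 ∧ t ≠ 1) (f : UT 4 F ≃* UT 4 F) :
    (∀ g, V (4 - 2) g → V 0 (f g)) ∨ (∀ g, V (4 - 2) g → V (4 - 2) (f g)) := by
  obtain ⟨t, ht0, ht1⟩ := hF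
  have hmid : ∀ a : F, cf (f (rt 2 (by omega) a)) 1 = 0 := fun a =>
    mid_zero (by omega) f (Or.inr (V_rt (by omega) a)) le_rfl (by omega)
  have key : ∀ a b : F, f (root 1 3 (by decide) (a * b))
      = ⁅f (rt 1 (by omega) b), f (rt 2 (by omega) a)⁆ := by
    intro a b
    rw [← map_commutatorElement]
    congr 1
    rw [mul_comm]
    exact (comm_root_root (i := 1) (j := 2) (k := 3) (by decide) (by decide) b a).symm
  have hy : ∀ b : F, cf (f (rt 1 (by omega) b)) 0 = 0 ∧ cf (f (rt 1 (by omega) b)) 2 = 0 :=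
    fun b => ⟨V_one_four f (V_rt (by omega) b) 0 (by omega),
      V_one_four f (V_rt (by omega) b) 2 (by omega)⟩
  have h := field_lemma (A := fun a => cf (f (rt 2 (by omega) a)) 0)
    (B := fun b => cf (f (rt 1 (by omega) b)) 1)
    (C := fun a => cf (f (rt 2 (by omega) a)) 2)
    (u := fun b => N (f (rt 1 (by omega) b)) 0 2)
    (v := fun b => N (f (rt 1 (by omega) b)) 1 3)
    (zA := fun c => -N (f (root 1 3 (by decide) c)) 0 2)
    (zB := fun c => N (f (root 1 3 (by decide) c)) 1 3)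
    (zC := fun c => -N (f (root 1 3 (by decide) c)) 0 3) t
    (by
      intro a b
      rw [key, (entries_four _ _).1, (hy b).1]
      ring)
    (by
      intro a b
      rw [key, (entries_four _ _).2.1, hmid]
      ring)
    (by
      intro a b
      rw [key, (entries_four _ _).2.2, hmid, (hy b).1, (hy b).2]
      ring)
    (B_ne f one_ne_zero) (B_ne f ht0) (B_inj f ht1)
  rcases h with h | h
  · right
    intro g hg
    refine V_of_rt f (i := 2) (by omega) ?_ hg
    intro c j hj
    by_cases hj0 : j = 0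
    · rw [hj0, h]
    · by_cases hj1 : j = 1
      · rw [hj1, hmid]
      · exact cf_of_not _ (by omega)
  · left
    intro g hg
    refine V_of_rt f (i := 2) (by omega) ?_ hg
    intro c j hj
    by_cases hj0 : j = 2
    · rw [hj0, h]
    · by_cases hj1 : j = 1
      · rw [hj1, hmid]
      · exact cf_of_not _ (by omega)

end four

/-- A subgroup-like set mapping into the union of two subgroups maps into one of them. -/
theorem union_lemma (f : UT m F ≃* UT m F) {i k l : ℕ}
    (h : ∀ g : UT m F, V i g → V k (f g) ∨ V l (f g)) :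
    (∀ g, V i g → V k (f g)) ∨ (∀ g, V i g → V l (f g)) := by
  by_contra hcon
  rw [not_or] at hcon
  obtain ⟨h1, h2⟩ := hcon
  push Not at h1 h2
  obtain ⟨x, hx, hxk⟩ := h1
  obtain ⟨y, hy, hyl⟩ := h2
  have hxl := (h x hx).resolve_left hxk
  have hyk := (h y hy).resolve_right hyl
  rcases h (x * y) (V_mul hx hy) with h3 | h3
  · apply hxk
    have h4 : f x = f (x * y) * (f y)⁻¹ := by rw [map_mul]; group
    rw [h4]
    exact V_mul h3 (V_inv hyk)
  · apply hyl
    have h4 : f y = (f x)⁻¹ * f (x * y) := by rw [map_mul]; group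
    rw [h4]
    exact V_mul (V_inv hxl) h3

theorem ends_first [Finite F] (hm : 4 ≤ m) (hF : ∃ t : F, t ≠ 0 ∧ t ≠ 1)
    (f : UT m F ≃* UT m F) :
    (∀ g, V 0 g → V 0 (f g)) ∨ (∀ g, V 0 g → V (m - 2) (f g)) := by
  rcases Nat.eq_or_lt_of_le hm with h | h
  · subst h
    exact ends_first_four hF f
  · exact union_lemma f fun g hg => ends_five (by omega) f (Or.inl hg)

theorem ends_last [Finite F] (hm : 4 ≤ m) (hF : ∃ t : F, t ≠ 0 ∧ t ≠ 1)
    (f : UT m F ≃* UT m F) :
    (∀ g, V (m - 2) g → V 0 (f g)) ∨ (∀ g, V (m - 2) g → V (m - 2) (f g)) := by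
  rcases Nat.eq_or_lt_of_le hm with h | h
  · subst h
    exact ends_last_four hF f
  · exact union_lemma f fun g hg => ends_five (by omega) f (Or.inr hg)

theorem odd_lemma {α : Type*} (f : α → α) (A B : α → Prop)
    (hA : (∀ x, A x → A (f x)) ∨ (∀ x, A x → B (f x)))
    (hB : (∀ x, B x → A (f x)) ∨ (∀ x, B x → B (f x))) {n : ℕ} (hn : Odd n) {a b : α}
    (ha : A a) (hb : B b) (ha' : ¬ B (f^[n] a)) (hb' : ¬ A (f^[n] b)) :
    (∀ x, A x → A (f x)) ∧ (∀ x, B x → B (f x)) := by
  obtain ⟨k, rfl⟩ := hn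
  rw [← Nat.succ_eq_add_one] at ha' hb'
  rcases hA with hA | hA
  · rcases hB with hB | hB
    · exfalso
      apply hb'
      rw [Function.iterate_succ_apply]
      have : ∀ n x, A x → A (f^[n] x) := by
        intro n
        induction n with
        | zero => intro x hx; exact hx
        | succ n ih => intro x hx; rw [Function.iterate_succ_apply]; exact ih _ (hA _ hx)
      exact this _ _ (hB _ hb)
    · exact ⟨hA, hB⟩
  · exfalso
    apply ha'
    rcases hB with hB | hB
    · have : ∀ n x, A x → A (f^[2 * n] x) := by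
        intro n
        induction n with
        | zero => intro x hx; exact hx
        | succ n ih =>
          intro x hx
          rw [Nat.mul_succ, Function.iterate_add_apply]
          exact ih _ (hB _ (hA _ hx))
      rw [Function.iterate_succ_apply']
      exact hA _ (this _ _ ha)
    · rw [Function.iterate_succ_apply]
      have : ∀ n x, B x → B (f^[n] x) := by
        intro n
        induction n with
        | zero => intro x hx; exact hx
        | succ n ih => intro x hx; rw [Function.iterate_succ_apply]; exact ih _ (hB _ hx)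
      exact this _ _ (hA _ ha)

theorem pow_apply_iterate (f : MulAut (UT m F)) (n : ℕ) (g : UT m F) :
    (f ^ n) g = (f : UT m F → UT m F)^[n] g := by
  induction n generalizing g with
  | zero => rfl
  | succ n ih => rw [pow_succ, MulAut.mul_apply, ih, Function.iterate_succ_apply]

/-- An automorphism with an odd power trivial on `U/U_2` fixes both ends. -/
theorem ends_fixed [Finite F] (hm : 4 ≤ m) (hF : ∃ t : F, t ≠ 0 ∧ t ≠ 1)
    (f : MulAut (UT m F)) {n : ℕ} (hn : Odd n)
    (hf : ∀ g : UT m F, N (g⁻¹ * (f ^ n) g) ∈ lev m F 2) :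
    (∀ g, V 0 g → V 0 (f g)) ∧ (∀ g, V (m - 2) g → V (m - 2) (f g)) := by
  have h1 : ∀ (g : UT m F) (i : ℕ), cf ((f : UT m F → UT m F)^[n] g) i = cf g i := by
    intro g i
    rw [← pow_apply_iterate]
    exact ((sub_mem_two_iff _ _).1 ((inv_mul_mem_iff _ _).1 (hf g)) i).symm
  refine odd_lemma (f : UT m F → UT m F) (V 0) (V (m - 2)) (ends_first hm hF f)
    (ends_last hm hF f) hn (a := rt 0 (by omega) 1) (b := rt (m - 2) (by omega) 1)
    (V_rt _ _) (V_rt _ _) ?_ ?_
  · intro h
    have := h 0 (by omega)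
    rw [h1, cf_rt_self] at this
    exact one_ne_zero this
  · intro h
    have := h (m - 2) (by omega)
    rw [h1, cf_rt_self] at this
    exact one_ne_zero this

end Cfsg.Agent.SylowL.CoordEnds
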