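import Cfsg.Agent.SylowL.CoordEnds

/-!
An automorphism of `UT m F` (`m ≥ 4`) fixing both end root subgroups modulo level 2 fixes all of
them; it is congruent, modulo the stability group, to a product of a diagonal and a field
automorphism.
-/

set_option autoImplicit false

namespace Cfsg.Agent.SylowL.CoordField

open Matrix
open scoped commutatorElement
open Cfsg.Agent.SylowL.Lev Cfsg.Agent.SylowL.UT Cfsg.Agent.SylowL.Pat
open Cfsg.Agent.SylowL.Series Cfsg.Agent.SylowL.Lower Cfsg.Agent.SylowL.CoordBase
open Cfsg.Agent.SylowL.CoordCf Cfsg.Agent.SylowL.CoordEnds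

variable {m : ℕ} {F : Type*} [Field F]

local notation "Mat" => Matrix (Fin m) (Fin m) F

theorem entry_congr {k : ℕ} {a b : Mat} (h : a - b ∈ lev m F (k + 1)) {i j : Fin m}
    (hij : (j : ℕ) = i + k) : a i j = b i j := by
  have := Lev.apply_eq_zero h (i := i) (j := j) (by omega)
  rw [Matrix.sub_apply] at this
  exact sub_eq_zero.1 this

/-- The images of the elements of the first row. -/
theorem first_row (f : UT m F ≃* UT m F) (h0 : ∀ g, V 0 g → V 0 (f g)) {k : Fin m}
    (z : Fin m) (hz : (z : ℕ) = 0) (hk : z < k) (c : F) {i j : Fin m}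
    (hij : (j : ℕ) = i + k) (hi : (i : ℕ) ≠ 0) : N (f (root z k hk c)) i j = 0 := by
  have hj := j.2
  by_cases hk1 : (k : ℕ) = 1
  · have hm : 0 + 1 < m := by omega
    have e1 : root z k hk c = rt 0 hm c := by
      unfold rt
      congr 1 <;> apply Fin.ext <;> simp [hz, hk1]
    rw [e1, cf_eq _ i j (by omega)]
    exact h0 _ (V_rt hm c) _ hi
  · have hk2 : 2 ≤ (k : ℕ) := by
      rw [Fin.lt_def] at hk
      omega
    have hkm := k.2
    set o : Fin m := ⟨1, by omega⟩ with ho
    have hzo : z < o := by rw [Fin.lt_def, ho]; simp only; omega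
    have hok : o < k := by rw [Fin.lt_def, ho]; simp only; omega
    have e1 : root z k hk c = ⁅root z o hzo c, root o k hok 1⁆ := by
      rw [comm_root_root, mul_one]
    have e2 : root z o hzo c = rt 0 (by omega) c := by
      unfold rt
      congr 1
      apply Fin.ext; simp [hz]
    rw [e1, map_commutatorElement]
    set x := f (root z o hzo c) with hx
    set y := f (root o k hok (1 : F)) with hy
    have hxV : V 0 x := by
      rw [hx, e2]
      exact h0 _ (V_rt (by omega) c)
    have hyl : N y ∈ lev m F (k - 1) := by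
      rw [hy]
      refine lev_of f ?_
      rw [N_root]
      exact single_mem_lev (by rw [ho]; simp only; omega) _
    have h1 := comm_lev (N_mem x) hyl
    have h2 : 1 + ((k : ℕ) - 1) + 1 = k + 1 := by omega
    rw [h2] at h1
    rw [entry_congr h1 hij, Matrix.sub_apply]
    have e3 : (N x * N y) i j = 0 := by
      refine mul_apply_zero i j ?_
      intro s
      by_cases hs : (s : ℕ) ≤ i
      · exact Or.inl (Lev.apply_eq_zero (N_mem x) (by omega))
      · by_cases hs1 : (s : ℕ) = i + 1
        · left
          rw [cf_eq x i s hs1]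
          exact hxV _ hi
        · exact Or.inr (Lev.apply_eq_zero hyl (by omega))
    have e4 : (N y * N x) i j = 0 := by
      refine mul_apply_zero i j ?_
      intro s
      by_cases hs : (s : ℕ) < i + (k - 1)
      · exact Or.inl (Lev.apply_eq_zero hyl (by omega))
      · by_cases hs1 : (j : ℕ) = s + 1
        · right
          rw [cf_eq x s j hs1]
          exact hxV _ (by omega)
        · exact Or.inr (Lev.apply_eq_zero (N_mem x) (by omega))
    rw [e3, e4, sub_zero]

/-- The hyperplane `cf · k = 0` is preserved, `k ≥ 1`. -/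
theorem hyper_pos (f : UT m F ≃* UT m F) (h0 : ∀ g, V 0 g → V 0 (f g)) {k : ℕ} (hk : 1 ≤ k)
    (hkm : k + 1 < m) {g : UT m F} (hg : cf g k = 0) : cf (f g) k = 0 := by
  set z : Fin m := ⟨0, by omega⟩ with hz
  set kk : Fin m := ⟨k, by omega⟩ with hkk
  set k1 : Fin m := ⟨k + 1, hkm⟩ with hk1
  have hzk : z < kk := by rw [Fin.lt_def, hz, hkk]; simp only; omega
  set y := root z kk hzk (1 : F) with hy
  have hyl : N y ∈ lev m F k := by
    rw [hy, N_root]; exact single_mem_lev (by rw [hz, hkk]; simp) _
  have hfy := lev_of f hyl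
  -- bracket in level k + 2
  have h1 : N (g * y * g⁻¹ * y⁻¹) ∈ lev m F (k + 2) := by
    rw [(isIdeal_lev (by omega)).commutator_mem_iff, hy, N_root, mem_lev']
    intro i j hij
    rw [Matrix.sub_apply]
    have e1 : (N g * Matrix.single z kk (1 : F)) i j = 0 := by
      by_cases hb : j = kk
      · rw [hb, Matrix.mul_single_apply_same, mul_one]
        exact Lev.apply_eq_zero (N_mem g) (by rw [hz]; simp only; omega)
      · rw [Matrix.mul_single_apply_of_ne (hbj := hb)]
    have e2 : (Matrix.single z kk (1 : F) * N g) i j = 0 := by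
      by_cases ha : i = z
      · rw [ha, Matrix.single_mul_apply_same, one_mul]
        rw [ha, hz] at hij
        simp only at hij
        by_cases hj : (j : ℕ) = k + 1
        · rw [cf_eq g kk j (by rw [hkk, hj])]
          exact hg
        · exact Lev.apply_eq_zero (N_mem g) (by rw [hkk]; simp only; omega)
      · rw [Matrix.single_mul_apply_of_ne (h := ha)]
    rw [e1, e2, sub_zero]
  have h2 : N (f g * f y * (f g)⁻¹ * (f y)⁻¹) ∈ lev m F (k + 2) := by
    rw [← map_mul, ← map_inv, ← map_inv, ← map_mul, ← map_mul]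
    exact lev_of f h1
  rw [(isIdeal_lev (by omega)).commutator_mem_iff] at h2
  have h3 := Lev.apply_eq_zero h2 (i := z) (j := k1) (by rw [hz, hk1]; simp only; omega)
  rw [Matrix.sub_apply] at h3
  have e1 : (N (f g) * N (f y)) z k1 = 0 := by
    refine mul_apply_zero z k1 ?_
    intro s
    by_cases hs : (s : ℕ) = 0
    · exact Or.inl (Lev.apply_eq_zero (N_mem _) (by rw [hz]; simp only; omega))
    · right
      by_cases hs1 : (s : ℕ) = 1
      · rw [hy]
        exact first_row f h0 z (by rw [hz]) hzk 1 (by rw [hk1, hkk, hs1]; simp only; omega) hs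
      · exact Lev.apply_eq_zero hfy (by rw [hk1]; simp only; omega)
  have e2 : (N (f y) * N (f g)) z k1 = N (f y) z kk * cf (f g) k := by
    rw [mul_apply_one z kk k1, cf_eq (f g) kk k1 (by rw [hk1, hkk])]
    intro s hs
    have hs' : (s : ℕ) ≠ k := fun h => hs (Fin.ext h)
    by_cases hs1 : (s : ℕ) < k
    · exact Or.inl (Lev.apply_eq_zero hfy (by rw [hz]; simp only; omega))
    · exact Or.inr (Lev.apply_eq_zero (N_mem _) (by rw [hk1]; simp only; omega))
  rw [e1, e2, zero_sub, neg_eq_zero] at h3
  refine (mul_eq_zero.1 h3).resolve_left ?_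
  intro h4
  have h5 : N (f y) ∈ lev m F (k + 1) := by
    rw [mem_lev']
    intro i j hij
    by_cases h6 : (j : ℕ) = i + k
    · by_cases hi : (i : ℕ) = 0
      · have hi' : i = z := Fin.ext hi
        have hj' : j = kk := Fin.ext (by rw [h6, hi, hkk]; simp)
        rw [hi', hj', h4]
      · rw [hy]
        exact first_row f h0 z (by rw [hz]) hzk 1 (by rw [hkk]; exact h6) hi
    · exact Lev.apply_eq_zero hfy (by omega)
  rw [lev_iff, hy, N_root] at h5
  have h6 := Lev.apply_eq_zero h5 (i := z) (j := kk) (by rw [hz, hkk]; simp)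
  rw [Matrix.single_apply_same] at h6
  exact one_ne_zero h6

/-- The hyperplane `cf · 0 = 0` is preserved. -/
theorem hyper_zero (hm : 4 ≤ m) (f : UT m F ≃* UT m F)
    (hl : ∀ g, V (m - 2) g → V (m - 2) (f g)) {g : UT m F} (hg : cf g 0 = 0) :
    cf (f g) 0 = 0 := by
  set z : Fin m := ⟨0, by omega⟩ with hz
  set o : Fin m := ⟨1, by omega⟩ with ho
  set p : Fin m := ⟨m - 2, by omega⟩ with hp
  set l : Fin m := ⟨m - 1, by omega⟩ with hll
  have hop : o < p := by rw [Fin.lt_def, ho, hp]; simp only; omega
  have hpl : p < l := by rw [Fin.lt_def, hll, hp]; simp only; omega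
  have hol : o < l := hop.trans hpl
  set y := root o l hol (1 : F) with hy
  have hyl : N y ∈ lev m F (m - 2) := by
    rw [hy, N_root]; exact single_mem_lev (by rw [ho, hll]; simp only; omega) _
  have hfy := lev_of f hyl
  have h0 : N (f y) z p = 0 := by
    have e1 : y = ⁅root o p hop (1 : F), root p l hpl (1 : F)⁆ := by
      rw [comm_root_root, mul_one]
    have e2 : root p l hpl (1 : F) = rt (m - 2) (by omega) 1 := by
      unfold rt
      congr 1
      apply Fin.ext
      rw [hll]; simp only; omega
    rw [e1, map_commutatorElement]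
    set x := f (root o p hop (1 : F)) with hx
    set w := f (root p l hpl (1 : F)) with hw
    have hwV : V (m - 2) w := by
      rw [hw, e2]
      exact hl _ (V_rt (by omega) 1)
    have hxl : N x ∈ lev m F (m - 3) := by
      rw [hx]
      refine lev_of f ?_
      rw [N_root]
      exact single_mem_lev (by rw [ho, hp]; simp only; omega) _
    have h1 := comm_lev hxl (N_mem w)
    rw [entry_congr h1 (by rw [hz, hp]; simp only; omega), Matrix.sub_apply]
    have e3 : (N x * N w) z p = 0 := by
      refine mul_apply_zero z p ?_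
      intro s
      by_cases hs : (s : ℕ) < m - 3
      · exact Or.inl (Lev.apply_eq_zero hxl (by rw [hz]; simp only; omega))
      · right
        by_cases hs1 : (s : ℕ) = m - 3
        · rw [cf_eq w s p (by rw [hp, hs1]; simp only; omega)]
          exact hwV _ (by omega)
        · exact Lev.apply_eq_zero (N_mem w) (by rw [hp]; simp only; omega)
    have e4 : (N w * N x) z p = 0 := by
      refine mul_apply_zero z p ?_
      intro s
      by_cases hs : (s : ℕ) = 0
      · exact Or.inl (Lev.apply_eq_zero (N_mem w) (by rw [hz]; simp only; omega))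
      · by_cases hs1 : (s : ℕ) = 1
        · left
          rw [cf_eq w z s (by rw [hz, hs1])]
          exact hwV _ (by rw [hz]; simp only; omega)
        · exact Or.inr (Lev.apply_eq_zero hxl (by rw [hp]; simp only; omega))
    rw [e3, e4, sub_zero]
  have hne : N (f y) o l ≠ 0 := by
    intro h4
    have h5 : N (f y) ∈ lev m F (m - 1) := by
      rw [mem_lev']
      intro i j hij
      have hj := j.2
      by_cases h6 : (j : ℕ) = i + (m - 2)
      · by_cases hi : (i : ℕ) = 0
        · have hi' : i = z := Fin.ext hi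
          have hj' : j = p := Fin.ext (by rw [h6, hi, hp]; simp)
          rw [hi', hj', h0]
        · have hi' : i = o := Fin.ext (by rw [ho]; simp only; omega)
          have hj' : j = l := Fin.ext (by rw [hll]; simp only; omega)
          rw [hi', hj', h4]
      · exact Lev.apply_eq_zero hfy (by omega)
    rw [lev_iff, hy, N_root] at h5
    have h6 := Lev.apply_eq_zero h5 (i := o) (j := l) (by rw [ho, hll]; simp only; omega)
    rw [Matrix.single_apply_same] at h6
    exact one_ne_zero h6
  have hcomm : g * y = y * g := by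
    rw [hy, commute_root_iff _ one_ne_zero]
    constructor
    · intro a
      by_cases ha : (a : ℕ) = 0
      · rw [cf_eq g a o (by rw [ho, ha]), ha]
        exact hg
      · exact Lev.apply_eq_zero (N_mem g) (by rw [ho]; simp only; omega)
    · intro b
      have hb := b.2
      exact Lev.apply_eq_zero (N_mem g) (by rw [hll]; simp only; omega)
  have h1 := congrArg f hcomm
  rw [map_mul, map_mul, commute_iff] at h1
  have h2 := congrFun (congrFun h1 z) l
  have e1 : (N (f g) * N (f y)) z l = cf (f g) 0 * N (f y) o l := by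
    rw [mul_apply_one z o l, cf_eq (f g) z o (by rw [hz, ho])]
    intro s hs
    have hs' : (s : ℕ) ≠ 1 := fun h => hs (Fin.ext h)
    by_cases hs1 : (s : ℕ) < 1
    · exact Or.inl (Lev.apply_eq_zero (N_mem _) (by rw [hz]; simp only; omega))
    · exact Or.inr (Lev.apply_eq_zero hfy (by rw [hll]; simp only; omega))
  have e2 : (N (f y) * N (f g)) z l = 0 := by
    refine mul_apply_zero z l ?_
    intro s
    by_cases hs : (s : ℕ) < m - 2
    · exact Or.inl (Lev.apply_eq_zero hfy (by rw [hz]; simp only; omega))
    · by_cases hs1 : (s : ℕ) = m - 2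
      · have : s = p := Fin.ext hs1
        rw [this]
        exact Or.inl h0
      · exact Or.inr (Lev.apply_eq_zero (N_mem _) (by rw [hll]; simp only; omega))
  rw [e1, e2] at h2
  exact (mul_eq_zero.1 h2).resolve_right hne

/-- All the coordinates are separated. -/
theorem hyper (hm : 4 ≤ m) (f : UT m F ≃* UT m F) (h0 : ∀ g, V 0 g → V 0 (f g))
    (hl : ∀ g, V (m - 2) g → V (m - 2) (f g)) {k : ℕ} {g : UT m F} (hg : cf g k = 0) :
    cf (f g) k = 0 := by
  by_cases hk : k + 1 < m
  · by_cases hk0 : k = 0
    · subst hk0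
      exact hyper_zero hm f hl hg
    · exact hyper_pos f h0 (by omega) hk hg
  · exact cf_of_not _ hk

/-- The coordinate functions of `f`. -/
def phi (f : UT m F ≃* UT m F) (k : ℕ) (a : F) : F :=
  if h : k + 1 < m then cf (f (rt k h a)) k else 0

theorem phi_of (f : UT m F ≃* UT m F) {k : ℕ} (h : k + 1 < m) (a : F) :
    phi f k a = cf (f (rt k h a)) k := dif_pos h

theorem phi_add (f : UT m F ≃* UT m F) (k : ℕ) (a b : F) :
    phi f k (a + b) = phi f k a + phi f k b := by
  by_cases h : k + 1 < m
  · rw [phi_of f h, phi_of f h, phi_of f h, ← rt_mul, map_mul, cf_mul]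
  · rw [phi, phi, phi, dif_neg h, dif_neg h, dif_neg h, add_zero]

theorem cf_apply (f : UT m F ≃* UT m F) (hh : ∀ (k : ℕ) (g : UT m F), cf g k = 0 → cf (f g) k = 0)
    {k : ℕ} (hk : k + 1 < m) (g : UT m F) : cf (f g) k = phi f k (cf g k) := by
  have h1 : cf (g * (rt k hk (cf g k))⁻¹) k = 0 := by
    rw [cf_mul, cf_inv, cf_rt_self, add_neg_cancel]
  have h2 := hh k _ h1
  rw [map_mul, map_inv, cf_mul, cf_inv, ← phi_of f hk, add_neg_eq_zero] at h2
  exact h2

theorem phi_ne (f : UT m F ≃* UT m F) (hh : ∀ (k : ℕ) (g : UT m F), cf g k = 0 → cf (f g) k = 0)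
    {k : ℕ} (hk : k + 1 < m) {a : F} (ha : a ≠ 0) : phi f k a ≠ 0 := by
  intro h
  rw [phi_of f hk] at h
  have h1 : N (f (rt k hk a)) ∈ lev m F 2 := by
    rw [mem_two_iff]
    intro i
    by_cases hi : i = k
    · rw [hi, h]
    · exact hh i _ (cf_rt_ne hk (Ne.symm hi) a)
  rw [lev_iff] at h1
  exact not_two_rt _ ha h1

theorem phi_mul (f : UT m F ≃* UT m F) (hh : ∀ (k : ℕ) (g : UT m F), cf g k = 0 → cf (f g) k = 0)
    {k : ℕ} (hk : k + 2 < m) (a b : F) :
    phi f k a * phi f (k + 1) b = phi f k (a * b) * phi f (k + 1) 1 := by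
  set i : Fin m := ⟨k, by omega⟩ with hi
  set j : Fin m := ⟨k + 1, by omega⟩ with hj
  set l : Fin m := ⟨k + 1 + 1, by omega⟩ with hl
  have hij : i < j := by rw [Fin.lt_def, hi, hj]; simp
  have hjl : j < l := by rw [Fin.lt_def, hl, hj]; simp
  have key : ∀ a b : F, N (f (root i l (hij.trans hjl) (a * b))) i l
      = phi f k a * phi f (k + 1) b := by
    intro a b
    rw [← comm_root_root hij hjl, map_commutatorElement]
    have h1 := comm_lev (N_mem (f (root i j hij a))) (N_mem (f (root j l hjl b)))
    rw [entry_congr h1 (by rw [hi, hl]), bracket_entry _ _ i l (by rw [hi, hl])]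
    have e1 : root i j hij a = rt k (by omega) a := rfl
    have e2 : root j l hjl b = rt (k + 1) (by omega) b := rfl
    rw [e1, e2, br, hi]
    simp only
    have e3 : cf (f (rt (k + 1) (by omega) b)) k = 0 := hh k _ (cf_rt_ne _ (by omega) b)
    rw [e3, zero_mul, sub_zero, phi_of f (by omega), phi_of f (by omega)]
  rw [← key, ← key, mul_one]

end Cfsg.Agent.SylowL.CoordField
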