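import Cfsg.Agent.SylowL.NoComp
import Cfsg.Agent.Lib.SylowNormalInf
import Cfsg.Agent.PLocal.PConstrained

/-!
# Passing to the quotient by the odd core
-/

set_option autoImplicit false
set_option linter.unusedSectionVars false

namespace Cfsg.Agent.SylowL.QuotCore

open Subgroup Cfsg
open scoped commutatorElement
open Cfsg.Agent.SylowL.CompFacts
open Cfsg.Agent.SylowL.NoComp

universe u

section General

variable {H : Type*} [Group H] [Finite H]

theorem odd_oddCore : (Nat.card (Cfsg.oddCore H)).Coprime 2 := Lib.Cores.pPrimeCore_coprime 2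

theorem inf_eq_bot_of_coprime {P O : Subgroup H} (hP : IsPGroup 2 P) (hO : (Nat.card O).Coprime 2) :
    P ⊓ O = ⊥ := by
  obtain ⟨n, hn⟩ := IsPGroup.iff_card.1 hP
  rw [eq_bot_iff]
  intro x hx
  have h1 : orderOf x ∣ Nat.card P := Lib.CoprimeStab.orderOf_dvd_natCard_of_mem hx.1
  have h2 : orderOf x ∣ Nat.card O := Lib.CoprimeStab.orderOf_dvd_natCard_of_mem hx.2
  rw [hn] at h1
  rw [mem_bot, ← orderOf_eq_one_iff]
  exact Nat.eq_one_of_dvd_coprimes (Nat.Coprime.pow_left n hO.symm) h1 h2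

theorem inf_oddCore (S : Sylow 2 H) : (S : Subgroup H) ⊓ Cfsg.oddCore H = ⊥ :=
  inf_eq_bot_of_coprime S.2 odd_oddCore

/-- the quotient map by the odd core is injective on a Sylow 2-subgroup -/
theorem eq_of_mk_eq (S : Sylow 2 H) {x y : H} (hx : x ∈ (S : Subgroup H)) (hy : y ∈ (S : Subgroup H))
    (h : QuotientGroup.mk' (Cfsg.oddCore H) x = QuotientGroup.mk' (Cfsg.oddCore H) y) : x = y := by
  have h1 : x⁻¹ * y ∈ (S : Subgroup H) ⊓ Cfsg.oddCore H :=
    ⟨(S : Subgroup H).mul_mem ((S : Subgroup H).inv_mem hx) hy, QuotientGroup.eq.1 h⟩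
  rw [inf_oddCore, mem_bot] at h1
  exact (inv_mul_eq_one.1 h1)

theorem elem_map' {Y : Type*} [Group Y] {A : Subgroup H} (hA : Cfsg.IsElementaryAbelian 2 A) (f : H →* Y) :
    Cfsg.IsElementaryAbelian 2 (A.map f) := by
  constructor
  · constructor
    constructor
    rintro ⟨_, a, ha, rfl⟩ ⟨_, b, hb, rfl⟩
    apply Subtype.ext
    change f a * f b = f b * f a
    rw [← map_mul, ← map_mul, elem_comm hA ha hb]
  · rintro _ ⟨a, ha, rfl⟩
    rw [← map_pow, hA.2 a ha, map_one]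

/-- If the image of `A ≤ S` modulo the odd core is normal then `H = N_H(A) O(H)`. -/
theorem normalizer_sup_of_map_normal (S : Sylow 2 H) {A : Subgroup H} (hA : A ≤ (S : Subgroup H))
    (h : (A.map (QuotientGroup.mk' (Cfsg.oddCore H))).Normal) :
    normalizer (A : Set H) ⊔ Cfsg.oddCore H = ⊤ := by
  have hN : (A ⊔ Cfsg.oddCore H).Normal := by
    have h1 : A ⊔ Cfsg.oddCore H =
        (A.map (QuotientGroup.mk' (Cfsg.oddCore H))).comap (QuotientGroup.mk' (Cfsg.oddCore H)) := by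
      rw [Subgroup.comap_map_eq, QuotientGroup.ker_mk']
    rw [h1]
    exact h.comap _
  have h2 := Lib.SylowNormalInf.normalizer_inf_sup_eq_top S (A ⊔ Cfsg.oddCore H)
  have h3 : (S : Subgroup H) ⊓ (A ⊔ Cfsg.oddCore H) = A := by
    apply le_antisymm
    · rintro x ⟨hx1, hx2⟩
      obtain ⟨a, ha, o, ho, hao⟩ := (mem_sup_of_normal_right (ht := inferInstance)).1 hx2
      have h4 : o ∈ (S : Subgroup H) ⊓ Cfsg.oddCore H := by
        refine ⟨?_, ho⟩
        have : o = a⁻¹ * x := by rw [← hao]; group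
        rw [this]
        exact (S : Subgroup H).mul_mem ((S : Subgroup H).inv_mem (hA ha)) hx1
      rw [inf_oddCore, mem_bot] at h4
      rw [← hao, h4, mul_one]
      exact ha
    · exact le_inf hA le_sup_left
  rw [h3] at h2
  rw [← h2]
  apply le_antisymm
  · exact sup_le le_sup_left (le_trans le_sup_right le_sup_right)
  · refine sup_le le_sup_left (sup_le ?_ le_sup_right)
    exact Subgroup.le_normalizer.trans le_sup_left

end General

variable {H : Type u} [Group H] [Finite H]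

/-- (C1) in a group with an odd core. -/
theorem main (hG : GoldHyp.{u}) (S : Sylow 2 H) {A B : Subgroup H}
    (hAe : Cfsg.IsElementaryAbelian 2 A) (hA : Cfsg.IsStronglyClosed A (S : Subgroup H))
    (hBe : Cfsg.IsElementaryAbelian 2 B) (hB : Cfsg.IsStronglyClosed B (S : Subgroup H))
    (hCA : ∀ s ∈ (S : Subgroup H), (∀ a ∈ A, s * a = a * s) → s ∈ A)
    (hCB : ∀ s ∈ (S : Subgroup H), (∀ a ∈ B, s * a = a * s) → s ∈ B)
    (hcen : ∀ x ∈ A ⊓ B, ∀ s ∈ (S : Subgroup H), s * x = x * s)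
    (hcom : A ⊓ B ≤ ⁅A, (S : Subgroup H)⁆) :
    Cfsg.IsPConstrained 2 H ∧ normalizer (A : Set H) ⊔ Cfsg.oddCore H = ⊤ ∧
      normalizer (B : Set H) ⊔ Cfsg.oddCore H = ⊤ := by
  set π := QuotientGroup.mk' (Cfsg.oddCore H) with hπ
  have hs : Function.Surjective π := QuotientGroup.mk'_surjective _
  have hOq : Cfsg.oddCore (H ⧸ Cfsg.oddCore H) = ⊥ := Lib.Cores.pPrimeCore_quotient_pPrimeCore 2
  let P : Sylow 2 (H ⧸ Cfsg.oddCore H) := S.mapSurjective hs
  have hP : (P : Subgroup (H ⧸ Cfsg.oddCore H)) = (S : Subgroup H).map π := rfl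
  have hA' : Cfsg.IsStronglyClosed (A.map π) (P : Subgroup (H ⧸ Cfsg.oddCore H)) :=
    S1250.result S A hA (Cfsg.oddCore H)
  have hB' : Cfsg.IsStronglyClosed (B.map π) (P : Subgroup (H ⧸ Cfsg.oddCore H)) :=
    S1250.result S B hB (Cfsg.oddCore H)
  have hC : ∀ C : Subgroup H, C ≤ (S : Subgroup H) →
      (∀ s ∈ (S : Subgroup H), (∀ a ∈ C, s * a = a * s) → s ∈ C) →
      ∀ s ∈ (P : Subgroup (H ⧸ Cfsg.oddCore H)), (∀ a ∈ C.map π, s * a = a * s) → s ∈ C.map π := by
    intro C hCS hCC s hs h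
    rw [hP] at hs
    obtain ⟨s, hs, rfl⟩ := hs
    refine ⟨s, hCC s hs ?_, rfl⟩
    intro a ha
    apply eq_of_mk_eq S (mul_mem hs (hCS ha)) (mul_mem (hCS ha) hs)
    rw [map_mul, map_mul]
    exact h (π a) ⟨a, ha, rfl⟩
  have hinf : A.map π ⊓ B.map π ≤ (A ⊓ B).map π := by
    rintro _ ⟨⟨a, ha, rfl⟩, ⟨b, hb, hab⟩⟩
    have h1 : b = a := eq_of_mk_eq S (hB.1 hb) (hA.1 ha) hab
    subst h1
    exact ⟨b, ⟨ha, hb⟩, rfl⟩
  have hl : Cfsg.layer (H ⧸ Cfsg.oddCore H) = ⊥ := by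
    apply NoComp.layer_eq_bot hG hOq P (elem_map' hAe π) hA' (elem_map' hBe π) hB'
      (hC A hA.1 hCA) (hC B hB.1 hCB)
    · intro x hx s hs
      obtain ⟨x, hx', rfl⟩ := hinf hx
      rw [hP] at hs
      obtain ⟨s, hs, rfl⟩ := hs
      rw [← map_mul, ← map_mul, hcen x hx' s hs]
    · refine hinf.trans ((Subgroup.map_mono hcom).trans ?_)
      rw [hP, Subgroup.map_commutator]
  have hcA : ∀ C : Subgroup H, Cfsg.IsElementaryAbelian 2 C →
      ∀ a ∈ C.map π, ∀ b ∈ C.map π, a * b = b * a := fun C hC a ha b hb => elem_comm (elem_map' hC π) ha hb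
  refine ⟨?_, ?_, ?_⟩
  · rw [Cfsg.Agent.SignalizersComponents.PConstrained.isPConstrained_iff_quotient,
      Cfsg.Agent.SignalizersComponents.PConstrained.centralizer_pCore_le_iff_layer_eq_bot 2 hOq]
    exact hl
  · exact normalizer_sup_of_map_normal S hA.1 (normal_of_layer hOq hl P (hcA A hAe) hA')
  · exact normalizer_sup_of_map_normal S hB.1 (normal_of_layer hOq hl P (hcA B hBe) hB')

end Cfsg.Agent.SylowL.QuotCore
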