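import Cfsg.Agent.SylowL.KeyClosed
import Cfsg.Agent.SylowL.QuotCore

/-!
# Conjugacy of 2-elements in a coset of a subgroup of odd order
-/

set_option autoImplicit false
set_option linter.unusedSectionVars false

namespace Cfsg.Agent.SylowL.CosetConj

open Subgroup Cfsg
open scoped Pointwise

theorem conj_of_coset {Y : Type*} [Group Y] [Finite Y] {O : Subgroup Y} (hO : (Nat.card O).Coprime 2)
    {x y : Y} (hx : IsPGroup 2 (zpowers x)) (hy : IsPGroup 2 (zpowers y))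
    (hyO : y ∈ normalizer (O : Set Y)) (h : y⁻¹ * x ∈ O) : ∃ o ∈ O, o * x * o⁻¹ = y := by
  haveI : Fact (Nat.Prime 2) := ⟨Nat.prime_two⟩
  have hle : zpowers y ≤ normalizer (O : Set Y) := by rwa [zpowers_le]
  have hcoe := Subgroup.coe_mul_of_left_le_normalizer_right (zpowers y) O hle
  have hyM : zpowers y ≤ zpowers y ⊔ O := le_sup_left
  have hxM : zpowers x ≤ zpowers y ⊔ O := by
    rw [zpowers_le]
    have h1 : x = y * (y⁻¹ * x) := by group
    rw [h1]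
    exact mul_mem (Subgroup.mem_sup_left (mem_zpowers y)) (Subgroup.mem_sup_right h)
  obtain ⟨m, hm, R, hR, hyR, hmx⟩ := KeyClosed.exists_common (p := 2) hx hxM hy hyM
  have hm' : m ∈ (zpowers y : Set Y) * (O : Set Y) := by
    rw [← hcoe]
    exact hm
  obtain ⟨_, ⟨k, rfl⟩, o, ho, rfl⟩ := hm'
  refine ⟨o, ho, ?_⟩
  have hyR' : y ∈ R := hyR (mem_zpowers y)
  have h1 : o * x * o⁻¹ ∈ R := by
    have h2 := hmx x (mem_zpowers x)
    have h3 : o * x * o⁻¹ = (y ^ k)⁻¹ * ((y ^ k * o) * x * (y ^ k * o)⁻¹) * y ^ k := by group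
    rw [h3]
    exact mul_mem (mul_mem (inv_mem (zpow_mem hyR' k)) h2) (zpow_mem hyR' k)
  have h2 : y⁻¹ * (o * x * o⁻¹) ∈ O := by
    have h3 : y⁻¹ * (o * x * o⁻¹) = (y⁻¹ * o * y⁻¹⁻¹) * (y⁻¹ * x) * o⁻¹ := by group
    rw [h3]
    exact O.mul_mem (O.mul_mem ((mem_normalizer_iff.1 (Subgroup.inv_mem _ hyO) o).1 ho) h) (O.inv_mem ho)
  have h3 : y⁻¹ * (o * x * o⁻¹) ∈ R ⊓ O := ⟨R.mul_mem (R.inv_mem hyR') h1, h2⟩
  rw [QuotCore.inf_eq_bot_of_coprime hR hO, mem_bot, inv_mul_eq_one] at h3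
  exact h3.symm

end Cfsg.Agent.SylowL.CosetConj
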