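import Cfsg.Agent.SylowL.QuotCore

/-!
# The abstract setting for the recognition of `PSL(m, 2^r)` by a Sylow 2-subgroup

`LinData S A B Z` lists the properties (to be proved by fusion analysis) of the Sylow 2-subgroup `S` of type
`UT(m, q)`, its subgroups `A = A_1`, `B = A_(m-1)` and its centre `Z`.
-/

set_option autoImplicit false
set_option linter.unusedSectionVars false

namespace Cfsg.Agent.SylowL

open Subgroup Cfsg
open scoped commutatorElement
open Cfsg.Agent.SylowL.CompFacts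

universe u

/-- The output of the fusion analysis. -/
structure LinData {G : Type*} [Group G] (S A B Z : Subgroup G) : Prop where
  elA : Cfsg.IsElementaryAbelian 2 A
  elB : Cfsg.IsElementaryAbelian 2 B
  leA : A ≤ S
  leB : B ≤ S
  cardA : 8 ≤ Nat.card A
  cardB : 8 ≤ Nat.card B
  cardZ : 4 ≤ Nat.card Z
  CA : ∀ s ∈ S, (∀ a ∈ A, s * a = a * s) → s ∈ A
  CB : ∀ s ∈ S, (∀ a ∈ B, s * a = a * s) → s ∈ B
  inf : A ⊓ B = Z
  mem_Z_iff : ∀ z, z ∈ Z ↔ z ∈ S ∧ ∀ s ∈ S, s * z = z * s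
  Zcom : Z ≤ ⁅A, S⁆
  scA : ∀ z ∈ Z, z ≠ 1 → ∀ a ∈ A, ∀ g : G, g * z = z * g → g * a * g⁻¹ ∈ S → g * a * g⁻¹ ∈ A
  scB : ∀ z ∈ Z, z ≠ 1 → ∀ a ∈ B, ∀ g : G, g * z = z * g → g * a * g⁻¹ ∈ S → g * a * g⁻¹ ∈ B
  fusA : ∀ a ∈ A, a ≠ 1 → ∃ g ∈ normalizer (A : Set G), g * a * g⁻¹ ∈ Z
  fusB : ∀ a ∈ B, a ≠ 1 → ∃ g ∈ normalizer (B : Set G), g * a * g⁻¹ ∈ Z
  ctl : ∀ M : Subgroup G, normalizer (A : Set G) ≤ M → normalizer (B : Set G) ≤ M →
    ∀ x ∈ S, ∀ g : G, g * x * g⁻¹ ∈ S → ∃ m ∈ M, m * x * m⁻¹ = g * x * g⁻¹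
  wcA : ∀ g : G, (∀ a ∈ A, g * a * g⁻¹ ∈ S) → g ∈ normalizer (A : Set G)
  sc : ∀ R : Subgroup G, Cfsg.IsStronglyClosed R S → R ≠ ⊥ → R = S

variable {G : Type u} [Group G] [Finite G] {S : Sylow 2 G} {A B Z : Subgroup G}

namespace LinData

variable (h : LinData (S : Subgroup G) A B Z)

include h

theorem leZA : Z ≤ A := h.inf ▸ inf_le_left
theorem leZB : Z ≤ B := h.inf ▸ inf_le_right
theorem leZ : Z ≤ (S : Subgroup G) := h.leZA.trans h.leA

theorem cen {z : G} (hz : z ∈ Z) {s : G} (hs : s ∈ (S : Subgroup G)) : s * z = z * s :=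
  ((h.mem_Z_iff z).1 hz).2 s hs

theorem S_le_centralizer {z : G} (hz : z ∈ Z) : (S : Subgroup G) ≤ centralizer ({z} : Set G) := by
  intro s hs
  rw [mem_centralizer_singleton_iff]
  exact h.cen hz hs

theorem sq {z : G} (hz : z ∈ Z) : z * z = 1 := elem_sq h.elA (h.leZA hz)

/-- (C1): the centralizer of `1 ≠ z ∈ Z` is 2-constrained and equals `O(C(z)) (N(A) ∩ C(z))`. -/
theorem centralizer_struct (hG : GoldHyp.{u}) {z : G} (hz : z ∈ Z) (hz1 : z ≠ 1) :
    Cfsg.IsPConstrained 2 (centralizer ({z} : Set G)) ∧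
      normalizer ((A.subgroupOf (centralizer ({z} : Set G)) : Subgroup _) : Set _) ⊔
        Cfsg.oddCore (centralizer ({z} : Set G)) = ⊤ ∧
      normalizer ((B.subgroupOf (centralizer ({z} : Set G)) : Subgroup _) : Set _) ⊔
        Cfsg.oddCore (centralizer ({z} : Set G)) = ⊤ := by
  set C : Subgroup G := centralizer ({z} : Set G) with hC
  have hSC : (S : Subgroup G) ≤ C := h.S_le_centralizer hz
  let P : Sylow 2 C := S.subtype hSC
  have hP : (P : Subgroup C) = (S : Subgroup G).subgroupOf C := rfl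
  have hel : ∀ D : Subgroup G, Cfsg.IsElementaryAbelian 2 D →
      Cfsg.IsElementaryAbelian 2 (D.subgroupOf C) := by
    intro D hD
    constructor
    · constructor
      constructor
      rintro ⟨a, ha⟩ ⟨b, hb⟩
      exact Subtype.ext (Subtype.ext (elem_comm hD ha hb))
    · intro a ha
      exact Subtype.ext (hD.2 a ha)
  refine QuotCore.main hG P (hel A h.elA) ?_ (hel B h.elB) ?_ ?_ ?_ ?_ ?_
  · refine ⟨fun x hx => h.leA hx, ?_⟩
    intro x hx g hg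
    exact h.scA z hz hz1 x hx g (mem_centralizer_singleton_iff.1 g.2) hg
  · refine ⟨fun x hx => h.leB hx, ?_⟩
    intro x hx g hg
    exact h.scB z hz hz1 x hx g (mem_centralizer_singleton_iff.1 g.2) hg
  · intro s hs hsa
    exact h.CA s hs (fun a ha => congrArg Subtype.val (hsa ⟨a, hSC (h.leA ha)⟩ ha))
  · intro s hs hsa
    exact h.CB s hs (fun a ha => congrArg Subtype.val (hsa ⟨a, hSC (h.leB ha)⟩ ha))
  · rintro x ⟨hxA, hxB⟩ s hs
    have hxZ : (x : G) ∈ Z := h.inf ▸ (⟨hxA, hxB⟩ : (x : G) ∈ A ⊓ B)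
    exact Subtype.ext (h.cen hxZ hs)
  · rintro x ⟨hxA, hxB⟩
    have hxZ : (x : G) ∈ Z := h.inf ▸ (⟨hxA, hxB⟩ : (x : G) ∈ A ⊓ B)
    have h1 : (⁅A, (S : Subgroup G)⁆ : Subgroup G) =
        (⁅A.subgroupOf C, (S : Subgroup G).subgroupOf C⁆ : Subgroup C).map C.subtype := by
      rw [Subgroup.map_commutator, Subgroup.map_subgroupOf_eq_of_le (h.leA.trans hSC),
        Subgroup.map_subgroupOf_eq_of_le hSC]
    have h2 := h.Zcom hxZ
    rw [h1] at h2
    obtain ⟨y, hy, hyx⟩ := h2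
    have : y = x := Subtype.ext hyx
    exact this ▸ hy

end LinData

end Cfsg.Agent.SylowL
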