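import Cfsg.Agent.SylowL.Fus2
import Cfsg.Agent.SylowL.LinData

/-!
# The fusion data of a simple group with Sylow `2`-subgroup `UT m F`
-/

set_option autoImplicit false
set_option linter.unusedSectionVars false
set_option linter.unusedVariables false
set_option linter.unusedSimpArgs false

namespace Cfsg.Agent.SylowL.Lin

open Matrix
open Cfsg.Agent.SylowL.Lev Cfsg.Agent.SylowL.UT Cfsg.Agent.SylowL.Pat Cfsg.Agent.SylowL.Series
open Cfsg.Agent.SylowL.Rect Cfsg.Agent.SylowL.NatSec Cfsg.Agent.SylowL.PSec Cfsg.Agent.SylowL.Inv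
open Cfsg.Agent.SylowL.Dual Cfsg.Agent.SylowL.RectInv Cfsg.Agent.SylowL.Fus Cfsg.Agent.SylowL.Fus2
open Cfsg.Agent.Lib.EssentialFusion Cfsg.Agent.Lib.GoldschmidtFusion
open Subgroup
open scoped commutatorElement

universe u w

variable {m : ℕ} {F : Type w} [Field F] [Finite F] [CharP F 2] {G : Type u} [Group G] [Finite G]
  {S : Sylow 2 G} {ι : UT m F →* G}

local macro "po" : tactic => `(tactic| ((try simp only [Qd, Rd, flipD, true_and, and_true, true_or,
  or_true, false_and, and_false, false_or, or_false, not_true_eq_false, not_false_eq_true] at *)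
  <;> omega))

theorem elementary (c : Ctx S ι) {a b : ℕ} (hab : a ≤ b) :
    Cfsg.IsElementaryAbelian 2 ((R m F hab).map ι) := by
  apply EssAct.isElementaryAbelian_of_sq
  rintro _ ⟨x, hx, rfl⟩
  rw [← map_mul, R_sq hab hx, map_one]

theorem card_map (c : Ctx S ι) (W : Subgroup (UT m F)) : Nat.card (W.map ι) = Nat.card W :=
  (Nat.card_congr (W.equivMapOfInjective ι c.emb.inj).toEquiv).symm

theorem card_Z (c : Ctx S ι) :
    Nat.card (R m F (show 1 ≤ m - 1 by have := c.m4; omega)) = Nat.card F := by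
  have hm := c.m4
  have h1 := relIndex_insert (F := F) (isUR_bot m) (isUR_R m (show 1 ≤ m - 1 by omega))
    (a := 0) (b := m - 1) (by omega) (by omega) (fun h => h) (fun i j hj => by
      constructor
      · intro h; right; po
      · rintro (h | h)
        · exact h.elim
        · po)
  have h2 := relIndex_mul_card (show X F (isUR_bot m) ≤ R m F (show 1 ≤ m - 1 by omega) by
    rw [X_bot]; exact bot_le)
  rw [h1, X_bot, Subgroup.card_bot, one_mul] at h2
  exact h2.symm

theorem card_le {D D' : ℕ → ℕ → Prop} (h : IsUR m D) (h' : IsUR m D') {a b : ℕ}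
    (hab : a < b) (hb : b < m) (hD : ¬ D a b)
    (hD' : ∀ i j, j < m → (D' i j ↔ D i j ∨ (i = a ∧ j = b))) :
    Nat.card (X F h') = Nat.card (X F h) * Nat.card F := by
  have h1 := relIndex_insert (F := F) h h' hab hb hD hD'
  have h2 := relIndex_mul_card (show X F h ≤ X F h' from
    (X_le _ _).2 fun i j hj hij => (hD' i j hj).2 (Or.inl hij))
  rw [h1] at h2
  exact h2.symm

theorem card_A1 (c : Ctx S ι) : 8 ≤ Nat.card (R m F (le_refl 1)) := by
  have hm := c.m4
  have h1 := card_le (F := F) (isUR_R m (show 1 ≤ m - 1 by omega))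
    (isUR_R m (show 1 ≤ m - 2 by omega)) (a := 0) (b := m - 2) (by omega) (by omega) (by po)
    (fun i j hj => by po)
  have h2 : Nat.card (R m F (show 1 ≤ m - 2 by omega)) ≤ Nat.card (R m F (le_refl 1)) := by
    refine Subgroup.card_le_of_le ?_
    rw [X_le]
    intro i j hj h
    po
  have h3 := card_Z c
  have h4 := c.q4
  rw [h3] at h1
  nlinarith

theorem card_Am (c : Ctx S ι) : 8 ≤ Nat.card (R m F (le_refl (m - 1))) := by
  have hm := c.m4
  have h1 := card_le (F := F) (isUR_R m (show 1 ≤ m - 1 by omega))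
    (isUR_R m (show 2 ≤ m - 1 by omega)) (a := 1) (b := m - 1) (by omega) (by omega) (by po)
    (fun i j hj => by po)
  have h2 : Nat.card (R m F (show 2 ≤ m - 1 by omega)) ≤ Nat.card (R m F (le_refl (m - 1))) := by
    refine Subgroup.card_le_of_le ?_
    rw [X_le]
    intro i j hj h
    po
  have h3 := card_Z c
  have h4 := c.q4
  rw [h3] at h1
  nlinarith

/-- A subgroup conjugating transitively a set of `n` elements has order divisible by `n`. -/
theorem ncard_dvd {N : Subgroup G} {A : Set G} {a : G} (ha : a ∈ A)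
    (h1 : ∀ n ∈ N, ∀ x ∈ A, n * x * n⁻¹ ∈ A) (h2 : ∀ x ∈ A, ∃ n ∈ N, n * a * n⁻¹ = x) :
    A.ncard ∣ Nat.card G := by
  let _ : MulAction ↥N G := MulAction.compHom G (MulAut.conj.comp N.subtype)
  have hact : ∀ (n : ↥N) (x : G), n • x = (n : G) * x * (n : G)⁻¹ := fun n x => rfl
  have horb : MulAction.orbit ↥N a = A := by
    ext x
    rw [MulAction.mem_orbit_iff]
    constructor
    · rintro ⟨n, rfl⟩
      rw [hact]
      exact h1 n n.2 a ha
    · intro hx
      obtain ⟨n, hn, h⟩ := h2 x hx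
      exact ⟨⟨n, hn⟩, h⟩
  have h3 : A.ncard = (MulAction.stabilizer ↥N a).index := by
    rw [← horb]
    exact Nat.card_congr (MulAction.orbitEquivQuotientStabilizer ↥N a)
  rw [h3]
  exact (Subgroup.index_dvd_card _).trans (Subgroup.card_subgroup_dvd_card N)

/-- `3` divides `|G|`. -/
theorem three_dvd (c : Ctx S ι) (hP : P2 m F S) (hI : Ess S ((Q m F (m - 1)).map ι)) :
    3 ∣ Nat.card G := by
  have hm := c.m4
  have h1 := card_le (F := F) (isUR_R m (show 1 ≤ m - 1 by omega))
    (isUR_R m (show 1 ≤ m - 2 by omega)) (a := 0) (b := m - 2) (by omega) (by omega) (by po)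
    (fun i j hj => by po)
  rw [card_Z c] at h1
  set W : Subgroup (UT m F) := R m F (show 1 ≤ m - 2 by omega) with hW
  have hinv : normalizer (((Q m F (m - 1)).map ι : Subgroup G) : Set G) ≤
      normalizer ((W.map ι : Subgroup G) : Set G) :=
    rect hP c (by omega) (by omega) hI le_rfl (by omega) (by omega) (by omega) (by omega) _
  have hij : (⟨0, by omega⟩ : Fin m) < ⟨m - 1, by omega⟩ := by
    rw [Fin.lt_def]; simp only; omega
  have hz : root _ _ hij (1 : F) ∈ W := root_mem_R _ _ (by simp only; omega) (by simp only; omega)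
  have hz1 := root_ne_one hij (one_ne_zero (α := F))
  have h2 : (((W.map ι : Subgroup G) : Set G) \ {1}).ncard ∣ Nat.card G := by
    refine ncard_dvd (N := normalizer (((Q m F (m - 1)).map ι : Subgroup G) : Set G))
      (a := ι (root _ _ hij 1)) ⟨⟨_, hz, rfl⟩, ?_⟩ ?_ ?_
    · intro h
      exact hz1 (c.emb.inj (by rw [map_one]; exact h))
    · rintro n hn x ⟨hx, hx1⟩
      refine ⟨(mem_normalizer_iff.1 (hinv hn) x).1 hx, ?_⟩
      intro h
      apply hx1
      rw [Set.mem_singleton_iff, mul_inv_eq_one, mul_eq_left] at h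
      exact h
    · rintro _ ⟨⟨y, hy, rfl⟩, hy1⟩
      refine conj_Z hP c hI hz hz1 hy ?_
      rintro rfl
      exact hy1 (map_one ι)
  have h3 : (((W.map ι : Subgroup G) : Set G) \ {1}).ncard = Nat.card F * Nat.card F - 1 := by
    rw [Set.ncard_sdiff_singleton_of_mem (one_mem (W.map ι)), ← h1, ← card_map c]
    rfl
  rw [h3] at h2
  refine dvd_trans ?_ h2
  have : Fintype F := Fintype.ofFinite F
  obtain ⟨n, -, hn⟩ := FiniteField.card F 2
  rw [Nat.card_eq_fintype_card, hn, ← mul_pow]
  have := Nat.sub_dvd_pow_sub_pow 4 1 n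
  rwa [one_pow] at this

/-- **(F)**: the output of the fusion analysis. -/
theorem linData (c : Ctx S ι) (hP : PHyp.{u} m F) (hE : EHyp.{u} m F)
    (h1169 : TypeL3.H1169.{u}) [IsSimpleGroup G] :
    LinData (S : Subgroup G) ((R m F (le_refl 1)).map ι) ((R m F (le_refl (m - 1))).map ι)
      ((R m F (show 1 ≤ m - 1 by have := c.m4; omega)).map ι) := by
  have hm := c.m4
  have hP' := hP G S
  have hQ := hE G S ι c.emb
  have hI : ∀ k, 0 < k → k < m → Ess S ((Q m F k).map ι) := fun k hk hkm =>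
    ess_of_simple hP' c hQ h1169 hk hkm
  have hne : ∀ {x : UT m F}, ι x ≠ 1 → x ≠ 1 := fun h h1 => h (by rw [h1, map_one])
  constructor
  · exact elementary c _
  · exact elementary c _
  · exact c.emb.map_le _
  · exact c.emb.map_le _
  · rw [card_map c]; exact card_A1 c
  · rw [card_map c]; exact card_Am c
  · rw [card_map c, card_Z c]; exact c.q4
  · intro s hs h
    obtain ⟨t, rfl⟩ := c.emb.exists_eq hs
    refine c.emb.map_mem.2 (mem_A1 hm fun x hx => c.emb.inj ?_)
    rw [map_mul, map_mul]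
    exact h _ ⟨x, hx, rfl⟩
  · intro s hs h
    obtain ⟨t, rfl⟩ := c.emb.exists_eq hs
    refine c.emb.map_mem.2 (mem_Am hm fun x hx => c.emb.inj ?_)
    rw [map_mul, map_mul]
    exact h _ ⟨x, hx, rfl⟩
  · rw [← Subgroup.map_inf _ _ _ c.emb.inj, X_inf]
    congr 1
    exact X_congr _ _ fun i j hj => by po
  · intro z
    constructor
    · rintro ⟨x, hx, rfl⟩
      refine ⟨c.emb.mem x, fun s hs => ?_⟩
      obtain ⟨t, rfl⟩ := c.emb.exists_eq hs
      rw [← map_mul, ← map_mul, (mem_Z_iff (by omega)).1 hx]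
    · rintro ⟨hz, h⟩
      obtain ⟨t, rfl⟩ := c.emb.exists_eq hz
      refine ⟨t, (mem_Z_iff (by omega)).2 fun x => c.emb.inj ?_, rfl⟩
      rw [map_mul, map_mul]
      exact h _ (c.emb.mem x)
  · -- `Z ≤ [A, S]`
    have h1 : R m F (show 1 ≤ m - 1 by omega) ≤
        (⁅(R m F (le_refl 1)).map ι, (S : Subgroup G)⁆ : Subgroup G).comap ι := by
      refine X_le_of_roots _ fun i j hij hD r => ?_
      rw [mem_comap]
      have h01 : i < (⟨1, by omega⟩ : Fin m) := by
        rw [Fin.lt_def]; simp only; po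
      have h1m : (⟨1, by omega⟩ : Fin m) < j := by
        rw [Fin.lt_def]; simp only; po
      rw [← lev_one_comm_root h01 h1m r, map_commutatorElement]
      exact commutator_mem_commutator ⟨_, root_mem_R _ _ (by po) (by simp only; omega), rfl⟩
        (c.emb.mem _)
    rw [map_le_iff_le_comap]
    exact h1
  · rintro _ ⟨z, hz, rfl⟩ hz1 _ ⟨x, hx, rfl⟩ g hg hgS
    exact closed_in_centralizer c hP hE hz (hne hz1) (Or.inl rfl) hx hg hgS
  · rintro _ ⟨z, hz, rfl⟩ hz1 _ ⟨x, hx, rfl⟩ g hg hgS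
    exact closed_in_centralizer c hP hE hz (hne hz1) (Or.inr rfl) hx hg hgS
  · rintro _ ⟨x, hx, rfl⟩ hx1
    exact exists_conj_Z hP' c hQ hI hx (hne hx1)
  · rintro _ ⟨x, hx, rfl⟩ hx1
    exact exists_conj_Z' hP' c hQ hI hx (hne hx1)
  · intro M hAM hBM x hx g hg
    obtain ⟨n, hn, h1⟩ := exists_conj_of_le (M := M) ((c.hK _ (isUR_R m (le_refl 1))).trans hAM) (by
      intro X hX
      obtain ⟨k, hk, hkm, rfl⟩ := hQ X hX
      by_cases hk1 : k = 1
      · subst hk1
        exact (le_A hP' c hQ hI (a := m - 1) (k := 1) (by omega) (by omega) (by omega) (by omega)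
          (by omega)).trans hBM
      · exact (le_A hP' c hQ hI (a := 1) (k := k) (by omega) (by omega) hk hkm
          (fun h => hk1 h.symm)).trans hAM) hx hg
    exact ⟨n, hn, h1⟩
  · intro g hg
    refine mem_normalizer_of_weak (c.emb.map_le _) (c.hK _ (isUR_R m (le_refl 1))) ?_ hg
    intro X hX hAX
    obtain ⟨k, hk, hkm, rfl⟩ := hQ X hX
    refine le_A hP' c hQ hI (a := 1) (k := k) (by omega) (by omega) hk hkm ?_
    rintro rfl
    rw [Subgroup.map_le_map_iff_of_injective c.emb.inj, X_le] at hAX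
    exact (hAX 0 1 (by omega) ⟨by omega, by omega⟩).2 ⟨rfl, rfl⟩
  · intro D hD hD1
    exact eq_of_stronglyClosed hP' c hQ hI hD hD1

end Cfsg.Agent.SylowL.Lin
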