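import Cfsg.Agent.SylowL.Coord
import Cfsg.Agent.SylowL.Lin
import Cfsg.Agent.SylowL.PTwoApp

/-!
# The context of the fusion analysis exists

From an isomorphism of `UT m F` with a Sylow 2-subgroup to `Inv.Ctx`; the endpoints of the fusion
part without the hypothesis `PHyp`.
-/

set_option autoImplicit false
set_option linter.ambiguousOpen false

open Cfsg.Agent.SylowL.UT Cfsg.Agent.SylowL.Pat Cfsg.Agent.SylowL.Lev

namespace Cfsg.Agent.SylowL.CtxOf

theorem isUR_fin {m : ℕ} {D : ℕ → ℕ → Prop} (h : Rect.IsUR m D) :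
    SylowL.IsUR (fun i j : Fin m => D i j) where
  lt _ _ hd := Fin.lt_def.2 (h.lt _ _ hd)
  up _ _ _ hij hd := h.up _ _ _ (Fin.lt_def.1 hij) hd
  right _ _ k hd hjk := h.right _ _ _ hd (Fin.lt_def.1 hjk) k.2

/-- **The context exists.** -/
theorem exists_ctx {m r : ℕ} {F : Type*} [Field F] [Fintype F] (hF : Fintype.card F = 2 ^ r)
    (hr : 2 ≤ r) (hm : 4 ≤ m) {G : Type*} [Group G] [Finite G] (S : Sylow 2 G)
    (e : UT m F ≃* (S : Subgroup G)) : ∃ ι : UT m F →* G, Inv.Ctx S ι := by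
  obtain ⟨φ, hφ⟩ := exists_coord hF hr hm S e
  refine ⟨(S : Subgroup G).subtype.comp φ.toMonoidHom, ⟨?_, ?_⟩, ?_, hm, ?_⟩
  · exact (Subtype.val_injective).comp φ.injective
  · ext x
    constructor
    · rintro ⟨t, rfl⟩
      exact (φ t).2
    · intro hx
      obtain ⟨t, ht⟩ := φ.surjective ⟨x, hx⟩
      exact ⟨t, congrArg Subtype.val ht⟩
  · intro D h
    exact hφ _ (isUR_fin h)
  · rw [Nat.card_eq_fintype_card, hF]
    calc 4 = 2 ^ 2 := by norm_num
      _ ≤ 2 ^ r := Nat.pow_le_pow_right (by norm_num) hr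

section

open Cfsg.Agent.SylowL.Rect Cfsg.Agent.SylowL.NatSec Cfsg.Agent.SylowL.PSec Cfsg.Agent.SylowL.Inv
open Cfsg.Agent.SylowL.Dual Cfsg.Agent.SylowL.RectInv Cfsg.Agent.SylowL.Fus Cfsg.Agent.SylowL.Fus2
open Cfsg.Agent.Lib.EssentialFusion Cfsg.Agent.Lib.GoldschmidtFusion

universe u w

variable {m : ℕ} {F : Type w} [Field F] [Finite F] [CharP F 2] {G : Type u} [Group G] [Finite G]
  {S : Sylow 2 G} {ι : UT m F →* G}

theorem pHyp : PHyp.{u} m F := fun _ _ _ S => PTwoApp.p2 S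

/-- The local data of a simple group, from the determination of the essential subgroups. -/
theorem linData (c : Ctx S ι) (hE : EHyp.{u} m F) (h1169 : TypeL3.H1169.{u}) [IsSimpleGroup G] :
    LinData (S : Subgroup G) ((R m F (le_refl 1)).map ι) ((R m F (le_refl (m - 1))).map ι)
      ((R m F (show 1 ≤ m - 1 by have := c.m4; omega)).map ι) :=
  Lin.linData c pHyp hE h1169

theorem three_dvd (c : Ctx S ι) (hI : Ess S ((Q m F (m - 1)).map ι)) : 3 ∣ Nat.card G :=
  Lin.three_dvd c (PTwoApp.p2 S) hI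

/-- In a simple group all the `Q_k` are essential. -/
theorem ess_of_simple (c : Ctx S ι) (hE : EHyp.{u} m F) (h1169 : TypeL3.H1169.{u})
    [IsSimpleGroup G] {k : ℕ} (hk : 0 < k) (hkm : k < m) : Ess S ((Q m F k).map ι) :=
  Fus.ess_of_simple (PTwoApp.p2 S) c (hE G S ι c.emb) h1169 hk hkm

end

end Cfsg.Agent.SylowL.CtxOf
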