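import Cfsg.Agent.SylowL.SecAct
import Cfsg.Agent.Lib.CoprimeHyperplane

/-!
# Essential subgroups acting on sections

If `X` is essential with `S / X` elementary abelian of order at least `4`, then `N_G(X)` does not
normalise the subgroup of fixed points of `S` on a section on which `S` acts like a group of
transvections.
-/

set_option autoImplicit false
set_option linter.unusedSectionVars false

open scoped Pointwise

namespace Cfsg.Agent.SylowL.EssAct

open Subgroup Cfsg.Agent.Lib.EssentialFusion Cfsg.Agent.Lib.GoldschmidtFusion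

section Strong

variable {Y : Type*} [Group Y] [Finite Y]

theorem mem_of_even {H : Subgroup Y} (hH : StronglyEmb 2 H) {g : Y} {D : Subgroup Y}
    (hD : D ≤ H) (hDg : D.map (MulAut.conj g).toMonoidHom ≤ H) (h2 : 2 ∣ Nat.card D) : g ∈ H := by
  by_contra hg
  have hg' : g⁻¹ ∉ H := fun h => hg (by simpa using inv_mem h)
  apply hH.not_dvd g⁻¹ hg'
  refine h2.trans (Subgroup.card_dvd_of_le (le_inf hD ?_))
  intro d hd
  refine ⟨g * d * g⁻¹, hDg ⟨d, hd, rfl⟩, ?_⟩
  simp [mul_assoc]

/-- An odd normal subgroup times an elementary abelian `2`-group of order at least `4` is not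
normal in a group with a strongly embedded subgroup. -/
theorem not_normal_sup {H : Subgroup Y} (hH : StronglyEmb 2 H) {T K : Subgroup Y}
    (hT : Cfsg.IsElementaryAbelian 2 T) (hT4 : 4 ≤ Nat.card T) (hTH : T ≤ H)
    (hK : ¬ 2 ∣ Nat.card K) (hKn : K.Normal) : ¬ (K ⊔ T).Normal := by
  intro hn
  have hT1 : T ≠ ⊥ := by
    rintro rfl
    rw [Subgroup.card_bot] at hT4
    omega
  have hKH : K ≤ H := by
    rw [← Cfsg.Agent.Lib.CoprimeHyperplane.iSup_centralizer_hyperplane (p := 2) hT hT1 hK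
      (by rw [normalizer_eq_top_iff.2 hKn]; exact le_top)]
    refine iSup_le fun B => ?_
    obtain ⟨B, hBT, hB2⟩ := B
    intro x hx
    have h1 : Nat.card B * 2 = Nat.card T := by
      have h2 := relIndex_mul_relIndex ⊥ B T bot_le hBT
      rw [relIndex_bot_left, relIndex_bot_left, hB2] at h2
      exact h2
    have h2 : B ≠ ⊥ := by
      rintro rfl
      rw [Subgroup.card_bot] at h1
      omega
    obtain ⟨⟨b, hb⟩, hb0⟩ := Subgroup.ne_bot_iff_exists_ne_one.1 h2
    have hb1 : b ≠ 1 := fun h => hb0 (Subtype.ext h)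
    refine mem_of_even hH (D := zpowers b) ?_ ?_ ?_
    · rw [zpowers_le]
      exact hTH (hBT hb)
    · rintro _ ⟨c, hc, rfl⟩
      obtain ⟨n, rfl⟩ := mem_zpowers_iff.1 hc
      have h3 : b * x = x * b := mem_centralizer_iff.1 hx.2 b hb
      have h4 : (MulAut.conj x).toMonoidHom (b ^ n) = b ^ n := by
        have h5 : Commute x (b ^ n) := Commute.zpow_right h3.symm n
        change x * b ^ n * x⁻¹ = b ^ n
        rw [h5.eq, mul_inv_cancel_right]
      rw [h4]
      exact zpow_mem (hTH (hBT hb)) n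
    · rw [Nat.card_zpowers]
      have h3 : orderOf b = 2 := orderOf_eq_prime (hT.2 b (hBT hb)) hb1
      rw [h3]
  have hle : K ⊔ T ≤ H := sup_le hKH hTH
  apply hH.ne_top
  rw [eq_top_iff]
  intro g _
  refine mem_of_even hH (D := K ⊔ T) hle ?_ ?_
  · rw [mem_normalizer_iff_map_conj.1 (by rw [normalizer_eq_top_iff.2 hn]; exact mem_top _)]
    exact hle
  · have h1 : Nat.card T ∣ Nat.card ↥(K ⊔ T) := Subgroup.card_dvd_of_le le_sup_right
    refine dvd_trans ?_ h1
    obtain ⟨n, hn⟩ := IsPGroup.iff_card.1 (show IsPGroup 2 T from fun t => ⟨1, by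
      rw [pow_one]
      apply Subtype.ext
      simpa using hT.2 t t.2⟩)
    rw [hn]
    refine dvd_pow_self 2 ?_
    rintro rfl
    rw [pow_zero] at hn
    omega

end Strong

section Move

variable {G : Type*} [Group G] [Finite G] {S : Sylow 2 G} {X : Subgroup G} {q : ℕ}

/-- The projection onto `N_G(X) / X C_G(X)`. -/
def pi (X : Subgroup G) : ↥(normalizer (X : Set G)) →* Out X :=
  QuotientGroup.mk' _

theorem pi_surjective (X : Subgroup G) : Function.Surjective (pi X) :=
  QuotientGroup.mk'_surjective _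

theorem pi_eq_one {g : ↥(normalizer (X : Set G))} : pi X g = 1 ↔ (g : G) ∈ XC X := by
  rw [pi, QuotientGroup.mk'_apply, QuotientGroup.eq_one_iff, mem_subgroupOf]

theorem inf_XC (hE : Ess S X) : XC X ⊓ S ≤ X := by
  rintro x ⟨hx, hxS⟩
  have hn : X ≤ normalizer ((centralizer (X : Set G) : Subgroup G) : Set G) := by
    intro a ha
    rw [mem_normalizer_iff_map_conj]
    ext x
    rw [mem_map_conj, ← mem_centralizer_map_conj, mem_normalizer_iff_map_conj.1 (le_normalizer ha)]
  have h1 : x ∈ ((X ⊔ centralizer (X : Set G) : Subgroup G) : Set G) := hx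
  rw [coe_mul_of_left_le_normalizer_right _ _ hn] at h1
  obtain ⟨a, ha, c, hc, rfl⟩ := Set.mem_mul.1 h1
  refine mul_mem ha (hE.centric ⟨hc, ?_⟩)
  have := mul_mem (inv_mem (hE.lt.le ha)) hxS
  rwa [inv_mul_cancel_left] at this

theorem relIndex_sup_of_normal {Y : Type*} [Group Y] [Finite Y] {K T : Subgroup Y} (hK : K.Normal) :
    T.relIndex (K ⊔ T) = T.relIndex K := by
  have h1 : K.relIndex (T ⊔ K) = K.relIndex T := relIndex_sup_right _ _
  have h2 := relIndex_mul_relIndex ⊥ K (T ⊔ K) bot_le le_sup_right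
  have h3 := relIndex_mul_relIndex ⊥ T (K ⊔ T) bot_le le_sup_right
  have h4 := relIndex_mul_relIndex ⊥ (T ⊓ K) K bot_le inf_le_right
  have h5 := relIndex_mul_relIndex ⊥ (T ⊓ K) T bot_le inf_le_left
  rw [relIndex_bot_left, relIndex_bot_left] at h2 h3 h4 h5
  rw [inf_relIndex_right] at h4
  rw [inf_relIndex_left] at h5
  rw [h1, sup_comm, ← h3, ← h4] at h2
  have h6 : 0 < Nat.card T := Nat.card_pos
  have h7 : 0 < Nat.card ↥(T ⊓ K) := Nat.card_pos
  rw [← h5] at h2 h6
  have h8 : (Nat.card ↥(T ⊓ K) * K.relIndex T) * T.relIndex K =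
      (Nat.card ↥(T ⊓ K) * K.relIndex T) * T.relIndex (K ⊔ T) := by
    rw [← h2]; ring
  exact (Nat.eq_of_mul_eq_mul_left h6 h8).symm

theorem isElementaryAbelian_of_sq {Y : Type*} [Group Y] {T : Subgroup Y}
    (h : ∀ t ∈ T, t * t = 1) : Cfsg.IsElementaryAbelian 2 T := by
  refine ⟨⟨⟨fun a b => ?_⟩⟩, fun a ha => by rw [pow_two]; exact h a ha⟩
  have h1 : ∀ a : ↥T, a * a = 1 := fun a => Subtype.ext (h a a.2)
  have h2 : ∀ a : ↥T, a⁻¹ = a := fun a => inv_eq_of_mul_eq_one_left (h1 a)
  have h3 := h2 (a * b)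
  rw [mul_inv_rev, h2, h2] at h3
  exact h3.symm

theorem move (hE : Ess S X) (hn : (S : Subgroup G) ≤ normalizer (X : Set G))
    (hq : X.relIndex S = q) (h4 : 4 ≤ q) (hel : ∀ s ∈ (S : Subgroup G), s * s ∈ X)
    {U : Type*} [CommGroup U] [Finite U] [MulDistribMulAction ↥(normalizer (X : Set G)) U]
    (two : IsPGroup 2 U) (triv : ∀ x : ↥(normalizer (X : Set G)), (x : G) ∈ XC X → ∀ u : U,
      x • u = u) {U1 : Subgroup U}
    (fix : ∀ s : ↥(normalizer (X : Set G)), (s : G) ∈ S → (∀ u : U, s • u = u) → (s : G) ∈ X)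
    (hstab : ∀ s : ↥(normalizer (X : Set G)), (s : G) ∈ S → s ∈ Spread.stab (P :=
      ↥(normalizer (X : Set G))) U1) :
    ∃ g : ↥(normalizer (X : Set G)), g • U1 ≠ U1 := by
  by_contra hcon
  push Not at hcon
  obtain ⟨H, hH, hSH⟩ := hE.exists_stronglyEmb
  set S' : Sylow 2 ↥(normalizer (X : Set G)) := S.subtype hn with hS'
  have hmemS : ∀ {s : ↥(normalizer (X : Set G))}, s ∈ (S' : Subgroup ↥(normalizer (X : Set G))) ↔
      (s : G) ∈ (S : Subgroup G) := by
    intro s
    rw [hS', Sylow.coe_subtype, mem_subgroupOf]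
  set K : Subgroup ↥(normalizer (X : Set G)) := Spread.ker ↥(normalizer (X : Set G)) U with hK
  have hKmem : ∀ {k : ↥(normalizer (X : Set G))}, k ∈ K ↔ ∀ u : U, k • u = u := fun {k} =>
    Spread.mem_ker
  set T : Subgroup (Out X) := (S' : Subgroup ↥(normalizer (X : Set G))).map (pi X) with hT
  have hnorm : (K ⊔ (S' : Subgroup ↥(normalizer (X : Set G)))).Normal := by
    have h1 : K ⊔ (S' : Subgroup ↥(normalizer (X : Set G))) =
        Spread.stab (P := ↥(normalizer (X : Set G))) U1 := by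
      apply le_antisymm
      · refine sup_le ?_ fun s hs => hstab s (hmemS.1 hs)
        intro k hk
        rw [hKmem] at hk
        exact ⟨fun u _ => hk u, fun u => by rw [hk u, mul_inv_cancel]; exact one_mem _⟩
      · intro h hh
        obtain ⟨s, hs, h1⟩ := Spread.exists_mul_of_mem_stab two S'
          (fun s hs => hstab s (hmemS.1 hs)) hh
        have h2 : h * s⁻¹ ∈ K := by
          rw [hKmem]
          intro u
          rw [mul_smul, h1, smul_inv_smul]
        have h3 := mul_mem (mem_sup_left h2 : h * s⁻¹ ∈ K ⊔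
          (S' : Subgroup ↥(normalizer (X : Set G)))) (mem_sup_right hs)
        rwa [inv_mul_cancel_right] at h3
    rw [h1]
    refine ⟨fun h hh g => ?_⟩
    have key : ∀ {u : U} {g : ↥(normalizer (X : Set G))}, u ∈ U1 → g • u ∈ U1 := by
      intro u g hu
      rw [← hcon g]
      exact Subgroup.smul_mem_pointwise_smul _ _ _ hu
    refine ⟨fun u hu => ?_, fun u => ?_⟩
    · rw [mul_smul, mul_smul, hh.1 _ (key hu), smul_inv_smul]
    · have h2 := key (g := g) (hh.2 (g⁻¹ • u))
      rw [smul_mul', smul_inv', smul_inv_smul] at h2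
      rwa [mul_smul, mul_smul]
  have hKn : K.Normal := by rw [hK, Spread.ker]; infer_instance
  have hker : ∀ {g : ↥(normalizer (X : Set G))}, pi X g = 1 → g ∈ K := by
    intro g hg
    rw [hKmem]
    exact triv g (pi_eq_one.1 hg)
  refine not_normal_sup hH (T := T) (K := K.map (pi X)) ?_ ?_ ?_ ?_
    (hKn.map _ (pi_surjective X)) ?_
  · apply isElementaryAbelian_of_sq
    rintro _ ⟨t, ht, rfl⟩
    rw [← map_mul, pi_eq_one]
    exact le_XC X (hel t (hmemS.1 ht))
  · have h1 : Nat.card T = q := by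
      rw [hT, ← Subgroup.relIndex_ker, ← hq]
      have h2 : (pi X).ker ⊓ (S' : Subgroup ↥(normalizer (X : Set G))) =
          (X.subgroupOf (normalizer (X : Set G))) := by
        ext s
        rw [mem_inf, MonoidHom.mem_ker, pi_eq_one, hmemS, mem_subgroupOf]
        exact ⟨fun h => inf_XC hE h, fun h => ⟨le_XC X h, hE.lt.le h⟩⟩
      rw [← inf_relIndex_right, h2, hS', Sylow.coe_subtype, relIndex_subgroupOf hn]
    rw [h1]
    exact h4
  · rintro _ ⟨t, ht, rfl⟩
    exact hSH t t.2 (hmemS.1 ht)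
  · -- `X` is a Sylow `2`-subgroup of `K`
    have h1 : Nat.card (K.map (pi X)) = ((XC X).subgroupOf (normalizer (X : Set G))).relIndex K := by
      rw [← Subgroup.relIndex_ker]
      congr 1
      ext g
      rw [MonoidHom.mem_ker, pi_eq_one, mem_subgroupOf]
    rw [h1]
    intro h2
    have h3 : (X.subgroupOf (normalizer (X : Set G))) ≤
        (XC X).subgroupOf (normalizer (X : Set G)) := fun x hx => le_XC X hx
    have h4 : (XC X).subgroupOf (normalizer (X : Set G)) ≤ K := fun x hx =>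
      hker (pi_eq_one.2 hx)
    have h5 := relIndex_mul_relIndex _ _ _ h3 h4
    have h6 : (S' : Subgroup ↥(normalizer (X : Set G))) ⊓ K =
        X.subgroupOf (normalizer (X : Set G)) := by
      ext s
      rw [mem_inf, hmemS, hKmem, mem_subgroupOf]
      exact ⟨fun h => fix s h.1 h.2, fun h => ⟨hE.lt.le h, triv s (le_XC X h)⟩⟩
    rw [← h6, inf_relIndex_right] at h5
    have h7 := relIndex_mul_index (le_sup_right :
      (S' : Subgroup ↥(normalizer (X : Set G))) ≤ K ⊔ (S' : Subgroup ↥(normalizer (X : Set G))))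
    apply S'.not_dvd_index
    rw [← h7, relIndex_sup_of_normal hKn, ← h5]
    exact (h2.mul_left _).mul_right _
  · rw [hT, ← Subgroup.map_sup]
    exact hnorm.map _ (pi_surjective X)

end Move

end Cfsg.Agent.SylowL.EssAct
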