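import Cfsg.Agent.SylowL.EssBridgeDatum

/-!
# The module bound for essential subgroups

Conditional on Bender's theorem `BAll`.
-/

set_option autoImplicit false

namespace Cfsg.Agent.SylowL.EssBridgeBound

open Subgroup Cfsg Cfsg.Agent.BenderMod Cfsg.Agent.Lib.EssentialFusion
open Cfsg.Agent.Lib.GoldschmidtFusion Cfsg.Agent.SylowL.EssOut Cfsg.Agent.SylowL.EssDatum
open Cfsg.Agent.SylowL.EssBridgeDatum Cfsg.Agent.SylowL.SecAct
open Cfsg.Agent.TwoFusion.StronglyEmbeddedBasic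
open Cfsg.Agent.SuzukiRankOne.Reduction (invClosure mem_invClosure invClosure_normal
  closure_involutions_invClosure)

universe u

variable {G : Type u} [Group G] [Finite G] {P : Sylow 2 G} {X : Subgroup G}

/-- The group acting. -/
def A2 (P : Sylow 2 G) (X : Subgroup G) : Subgroup G :=
  (yy X ⊔ (P : Subgroup G) ⊓ normalizer (X : Set G)) ⊓ lt X

omit [Finite G] in
theorem A2_le_lt : A2 P X ≤ lt X := inf_le_right

omit [Finite G] in
theorem A2_le : A2 P X ≤ yy X ⊔ (P : Subgroup G) ⊓ normalizer (X : Set G) := inf_le_left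

omit [Finite G] in
theorem A2_le_normalizer : A2 P X ≤ normalizer (X : Set G) := A2_le_lt.trans (lt_le X)

/-- The projection to the outer automizer. -/
def toInv (P : Sylow 2 G) (X : Subgroup G) : A2 P X →* invClosure (Out X) :=
  ((QuotientGroup.mk' ((XC X).subgroupOf (normalizer (X : Set G)))).comp
    (Subgroup.inclusion A2_le_normalizer)).codRestrict (invClosure (Out X)) fun a =>
      (mem_lt (A2_le_normalizer a.2)).1 (A2_le_lt a.2)

omit [Finite G] in
theorem toInv_coe (a : A2 P X) : (toInv P X a : Out X) = toOut a.1 (A2_le_normalizer a.2) := rfl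

theorem toInv_surjective (hE : Ess P X) {s : G} (hsP : s ∈ (P : Subgroup G))
    (hsN : s ∈ normalizer (X : Set G)) (hs2 : s * s ∈ X) (hsX : s ∉ X) :
    Function.Surjective (toInv P X) := by
  rintro ⟨z, hz⟩
  obtain ⟨g, hg, hgN, hgz⟩ := exists_of_invClosure hE hsP hsN hs2 hsX hz
  refine ⟨⟨g, hg, (mem_lt hgN).2 (by rw [hgz]; exact hz)⟩, Subtype.ext ?_⟩
  rw [toInv_coe]
  exact hgz

/-- The image of a subgroup in the outer automizer. -/
def outHom {D : Subgroup G} (hD : D ≤ normalizer (X : Set G)) : D →* Out X :=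
  (QuotientGroup.mk' ((XC X).subgroupOf (normalizer (X : Set G)))).comp (Subgroup.inclusion hD)

omit [Finite G] in
theorem outHom_apply {D : Subgroup G} (hD : D ≤ normalizer (X : Set G)) (d : D) :
    outHom hD d = toOut d.1 (hD d.2) := rfl

omit [Finite G] in
theorem card_outHom (hE : Ess P X) {D : Subgroup G} (hD : D ≤ normalizer (X : Set G)) (hXD : X ≤ D)
    (hDP : D ≤ (P : Subgroup G)) : Nat.card (outHom hD).range * Nat.card X = Nat.card D := by
  have h1 : (outHom hD).ker = X.subgroupOf D := by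
    ext d
    rw [MonoidHom.mem_ker, outHom_apply, toOut_eq_one, mem_subgroupOf]
    exact ⟨fun h => inf_XC hE h (hDP d.2), fun h => le_XC X h⟩
  rw [← Subgroup.index_ker, h1, ← Nat.card_congr (subgroupOfEquivOfLe hXD).toEquiv, mul_comm]
  exact Subgroup.card_mul_index _

theorem bound (hB : BAll.{u}) (hE : Ess P X) {B C : Subgroup G} (hCB : C ≤ B) (hBX : B ≤ X)
    (hnB : yy X ⊔ (P : Subgroup G) ⊓ normalizer (X : Set G) ≤ normalizer (B : Set G))
    (hnC : yy X ⊔ (P : Subgroup G) ⊓ normalizer (X : Set G) ≤ normalizer (C : Set G))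
    (hsq : ∀ b ∈ B, b * b ∈ C) (hcen : ∀ b ∈ B, ∀ e ∈ X, e * b * e⁻¹ * b⁻¹ ∈ C)
    (hnt : ¬ ∀ y ∈ yy X, ∀ b ∈ B, y * b * y⁻¹ * b⁻¹ ∈ C)
    {t : G} (htP : t ∈ (P : Subgroup G)) (htN : t ∈ normalizer (X : Set G)) (ht2 : t * t ∈ X)
    (htX : t ∉ X) {D : Subgroup G} (hXD : X ≤ D) (hDP : D ≤ (P : Subgroup G))
    (hD : D ≤ normalizer (X : Set G)) (hD2 : ∀ d ∈ D, d * d ∈ X) {V : Subgroup B}
    (hV : ∀ b : B, b ∈ V ↔ t * b * t⁻¹ * (b : G)⁻¹ ∈ C) :
    Nat.card D * Nat.card V ≤ Nat.card B * Nat.card X := by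
  obtain ⟨H, hH, -⟩ := hE.exists_stronglyEmb
  have hH' := hH.isStronglyEmbedded
  have hXA : X ≤ yy X ⊔ (P : Subgroup G) ⊓ normalizer (X : Set G) := fun x hx =>
    mem_sup_right ⟨hE.lt.le hx, le_normalizer hx⟩
  have hsec : Sec (A2 P X) B C :=
    ⟨hCB, A2_le.trans hnB, A2_le.trans hnC, (hBX.trans hXA).trans hnC, fun a ha b hb => hcen b hb a (hBX ha)⟩
  have hCn : ∀ b ∈ B, ∀ c ∈ C, b * c * b⁻¹ ∈ C := fun b hb c hc =>
    (mem_normalizer_iff.1 (hsec.normAB hb) c).1 hc
  -- translation between the two forms of triviality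
  have htriv : ∀ (a : A2 P X) (b : B), a • pr hsec b = pr hsec b ↔
      (a : G) * b * (a : G)⁻¹ * (b : G)⁻¹ ∈ C := by
    intro a b
    rw [smul_pr, pr_eq_iff]
    have hw : (a : G) * b * (a : G)⁻¹ ∈ B := (mem_normalizer_iff.1 (hsec.normA a.2) _).1 b.2
    change ((a : G) * b * (a : G)⁻¹)⁻¹ * b ∈ C ↔ _
    constructor
    · intro h
      have h1 := inv_mem (hCn _ hw _ h)
      have e : ((a : G) * b * (a : G)⁻¹ * (((a : G) * b * (a : G)⁻¹)⁻¹ * b) *
        ((a : G) * b * (a : G)⁻¹)⁻¹)⁻¹ = (a : G) * b * (a : G)⁻¹ * (b : G)⁻¹ := by group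
      rwa [e] at h1
    · intro h
      have h1 := hCn _ (inv_mem b.2) _ (inv_mem h)
      have e : (b : G)⁻¹ * ((a : G) * b * (a : G)⁻¹ * (b : G)⁻¹)⁻¹ * (b : G)⁻¹⁻¹ =
        ((a : G) * b * (a : G)⁻¹)⁻¹ * b := by group
      rwa [e] at h1
  have hsur := toInv_surjective hE htP htN ht2 htX
  set φ : A2 P X →* MulAut (SQ hsec) := MulDistribMulAction.toMulAut (A2 P X) (SQ hsec) with hφ
  have hφa : ∀ (a : A2 P X) (m : SQ hsec), φ a m = a • m := fun _ _ => rfl
  have hker : (toInv P X).ker ≤ φ.ker := by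
    intro a ha
    rw [MonoidHom.mem_ker] at ha ⊢
    have h1 : toOut a.1 (A2_le_normalizer a.2) = 1 := congrArg Subtype.val ha
    have h2 : a.1 ∈ ((XC X : Subgroup G) : Set G) := toOut_eq_one.1 h1
    rw [XC, coe_mul_of_right_le_normalizer_left _ _ (centralizer_le_normalizer _)] at h2
    obtain ⟨x, hx, c, hc, hxc⟩ := Set.mem_mul.1 h2
    ext m
    obtain ⟨b, rfl⟩ := pr_surjective hsec m
    rw [hφa, MulAut.one_apply, htriv, ← hxc]
    have h3 : c * (b : G) * c⁻¹ = b := by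
      rw [mul_inv_eq_iff_eq_mul]
      exact (mem_centralizer_iff.1 hc _ (hBX b.2)).symm
    have e : x * c * (b : G) * (x * c)⁻¹ * (b : G)⁻¹ = x * (c * (b : G) * c⁻¹) * x⁻¹ * (b : G)⁻¹ := by
      group
    rw [e, h3]
    exact hcen _ b.2 x hx
  set f : invClosure (Out X) →* MulAut (SQ hsec) :=
    (toInv P X).liftOfSurjective hsur ⟨φ, hker⟩ with hf
  have hfa : ∀ a : A2 P X, f (toInv P X a) = φ a := fun a => by
    rw [hf]
    exact MonoidHom.liftOfRightInverse_comp_apply _ _ _ ⟨φ, hker⟩ a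
  have hf1 : f ≠ 1 := by
    intro h
    apply hnt
    intro y hy b hb
    have hyA : y ∈ A2 P X := ⟨mem_sup_left hy, yy_le X hy⟩
    have h1 := hfa ⟨y, hyA⟩
    rw [h, MonoidHom.one_apply] at h1
    refine (htriv ⟨y, hyA⟩ ⟨b, hb⟩).1 ?_
    rw [← hφa, ← h1, MulAut.one_apply]
  have hto := orderOf_toOut hE htP htN ht2 htX
  have htA : t ∈ A2 P X := ⟨mem_sup_right ⟨htP, htN⟩, (mem_lt htN).2 (mem_invClosure (by
    have := pow_orderOf_eq_one (toOut t htN)
    rwa [hto, pow_two] at this))⟩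
  have ht : orderOf (toInv P X ⟨t, htA⟩) = 2 := by
    rw [← orderOf_coe]
    exact hto
  have hM : ∀ m : SQ hsec, m * m = 1 := by
    intro m
    obtain ⟨b, rfl⟩ := pr_surjective hsec m
    rw [← map_mul, pr_eq_one_iff]
    exact hsq b b.2
  have hD' : ∀ d ∈ (outHom hD).range, d * d = 1 := by
    rintro _ ⟨d, rfl⟩
    rw [← map_mul, outHom_apply, toOut_eq_one]
    exact le_XC X (hD2 d d.2)
  have h1 := module_bound hB hH' hM f hf1 ht hD'
  have h2 : V = (fix (f (toInv P X ⟨t, htA⟩))).comap (pr hsec) := by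
    ext b
    rw [hV, mem_comap, mem_fix, hfa, hφa]
    exact (htriv ⟨t, htA⟩ b).symm
  have h3 : V.index = (fix (f (toInv P X ⟨t, htA⟩))).index := by
    rw [h2]
    exact index_comap_of_surjective _ (pr_surjective hsec)
  have h4 : Nat.card (outHom hD).range ≤ V.index := by
    rw [h3]
    rw [← Subgroup.card_mul_index (fix (f (toInv P X ⟨t, htA⟩))), mul_comm] at h1
    exact Nat.le_of_mul_le_mul_left h1 Nat.card_pos
  rw [← card_outHom hE hD hXD hDP, ← Subgroup.card_mul_index V]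
  calc Nat.card (outHom hD).range * Nat.card X * Nat.card V
      ≤ V.index * Nat.card X * Nat.card V := by gcongr
    _ = Nat.card V * V.index * Nat.card X := by ring

/-- **The local datum of an essential subgroup.** -/
theorem datum (hB : BAll.{u}) (hE : Ess P X) :
    Nonempty (Datum (P : Subgroup G).subtype (X.subgroupOf (P : Subgroup G))) := by
  have hXP : X ≤ (P : Subgroup G) := hE.lt.le
  have hmap := map_subgroupOf hXP
  have hN := map_normalizer hXP
  refine ⟨{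
    Y := yy X
    inj := (P : Subgroup G).subtype_injective
    le := ?_
    norm := ?_
    odd := ?_
    centric := ?_
    nontriv := ?_
    gen := ?_
    conj := ?_
    comm := ?_
    bound := ?_ }⟩
  · rw [hmap]
    exact (yy_le X).trans (lt_le X)
  · rw [hN]
    exact inf_le_right.trans (le_normalizer_yy X)
  · conv_lhs => rw [yy]
    exact closure_mono fun y hy => ⟨mem_yy hy.1 hy.2, hy.2⟩
  · intro s hs
    have h1 : (s : G) ∈ centralizer (X : Set G) := by
      rw [mem_centralizer_iff]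
      intro x hx
      exact congrArg Subtype.val (mem_centralizer_iff.1 hs ⟨x, hXP hx⟩ hx)
    exact hE.centric ⟨h1, s.2⟩
  · rw [hmap]
    exact nontriv hE
  · intro t ht D htD hCD hn
    rw [hmap] at hCD
    rw [hN] at hn
    obtain ⟨h1, h2, h3⟩ := (isInv_iff hXP t).1 ht
    exact gen hE t.2 h1 h2 h3 htD hCD hn
  · intro t t' ht ht'
    obtain ⟨h1, h2, h3⟩ := (isInv_iff hXP t).1 ht
    obtain ⟨h1', h2', h3'⟩ := (isInv_iff hXP t').1 ht'
    obtain ⟨g, hg, ⟨e, he, c, hc, hgt⟩, hu⟩ := conj hB hE t.2 h1 h2 h3 t'.2 h1' h2' h3'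
    rw [hmap]
    refine ⟨g, mem_sup_left hg, ⟨⟨e, hXP he⟩, he, c, hc, hgt⟩, fun u hu' => ?_⟩
    obtain ⟨k1, k2, k3⟩ := (isInv_iff hXP u).1 hu'
    obtain ⟨u', m1, m2, m3, m4, e', he', c', hc', hh⟩ := hu u u.2 k1 k2 k3
    exact ⟨⟨u', m1⟩, (isInv_iff hXP ⟨u', m1⟩).2 ⟨m2, m3, m4⟩, ⟨e', hXP he'⟩, he', c', hc', hh⟩
  · intro t t' ht ht'
    obtain ⟨h1, h2, h3⟩ := (isInv_iff hXP t).1 ht
    obtain ⟨h1', h2', h3'⟩ := (isInv_iff hXP t').1 ht'
    exact comm hB hE t.2 h1 h2 h3 t'.2 h1' h2' h3'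
  · intro B C hCB hBE hIB hIC hsq hcen hnt t ht D hED hDn
    obtain ⟨h1, h2, h3⟩ := (isInv_iff hXP t).1 ht
    set ι := (P : Subgroup G).subtype with hι
    have hιi : Function.Injective ι := (P : Subgroup G).subtype_injective
    rw [EssDatum.Inv, hN] at hIB hIC
    have hBX : B.map ι ≤ X := by rw [← hmap]; exact map_mono hBE
    have hXD : X ≤ D.map ι := by rw [← hmap]; exact map_mono hED
    have hDP : D.map ι ≤ (P : Subgroup G) := by
      rintro _ ⟨d, -, rfl⟩
      exact d.2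
    -- the fixed points
    let V : Subgroup (B.map ι) :=
      { carrier := {b | (t : G) * b * (t : G)⁻¹ * (b : G)⁻¹ ∈ C.map ι}
        one_mem' := by
          change (t : G) * 1 * (t : G)⁻¹ * (1 : G)⁻¹ ∈ C.map ι
          rw [mul_one, mul_inv_cancel, inv_one, mul_one]
          exact one_mem _
        mul_mem' := by
          intro a b ha hb
          change (t : G) * (a * b) * (t : G)⁻¹ * (a * b : G)⁻¹ ∈ C.map ι
          have e : (t : G) * (a * b) * (t : G)⁻¹ * (a * b : G)⁻¹ = ((t : G) * a * (t : G)⁻¹ * (a : G)⁻¹) *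
            (a * ((t : G) * b * (t : G)⁻¹ * (b : G)⁻¹) * (a : G)⁻¹) := by group
          rw [e]
          refine mul_mem ha ((mem_normalizer_iff.1 (hIC (mem_sup_right ⟨hXP (hBX a.2), ?_⟩)) _).1 hb)
          exact le_normalizer (hBX a.2)
        inv_mem' := by
          intro a ha
          change (t : G) * (a : G)⁻¹ * (t : G)⁻¹ * ((a : G)⁻¹)⁻¹ ∈ C.map ι
          have e : (t : G) * (a : G)⁻¹ * (t : G)⁻¹ * ((a : G)⁻¹)⁻¹ =
            (a : G)⁻¹ * ((t : G) * a * (t : G)⁻¹ * (a : G)⁻¹)⁻¹ * ((a : G)⁻¹)⁻¹ := by group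
          rw [e]
          refine ((mem_normalizer_iff.1 (hIC (mem_sup_right ⟨hXP (hBX (inv_mem a.2)), ?_⟩)) _).1
            (inv_mem ha))
          exact le_normalizer (hBX (inv_mem a.2)) }
    have h5 := bound hB hE (map_mono hCB) hBX hIB hIC
      (by
        rintro _ ⟨b, hb, rfl⟩
        exact ⟨b * b, hsq b hb, map_mul _ _ _⟩)
      (by
        rintro _ ⟨b, hb, rfl⟩ e he
        exact ⟨⟨e, hXP he⟩ * b * ⟨e, hXP he⟩⁻¹ * b⁻¹, hcen b hb ⟨e, hXP he⟩ he, rfl⟩)
      (by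
        intro h
        apply hnt
        intro y hy b hb
        exact h y hy _ (mem_map_of_mem ι hb))
      t.2 h1 h2 h3 hXD hDP
      (by
        rintro _ ⟨d, hd, rfl⟩
        exact (mem_normalizer_iff' hXP d).1 (hDn d hd).1)
      (by
        rintro _ ⟨d, hd, rfl⟩
        exact (hDn d hd).2)
      (V := V) (fun b => Iff.rfl)
    have hcard : ∀ Z : Subgroup (P : Subgroup G), Nat.card (Z.map ι) = Nat.card Z := fun Z =>
      Nat.card_congr (Z.equivMapOfInjective ι hιi).symm.toEquiv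
    have hX : Nat.card X = Nat.card (X.subgroupOf (P : Subgroup G)) := by
      rw [← hcard, hmap]
    rw [hcard, hcard, hX] at h5
    refine le_trans (Nat.mul_le_mul_left _ ?_) h5
    refine Nat.card_le_card_of_injective
      (fun b : Cent C B t => (⟨⟨ι b.1, mem_map_of_mem ι b.2.1⟩, ⟨_, b.2.2, rfl⟩⟩ : V)) ?_
    intro a b hab
    have h6 := congrArg (fun v : V => (v.1.1 : G)) hab
    exact Subtype.ext (hιi h6)

end Cfsg.Agent.SylowL.EssBridgeBound
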