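import Mathlib
import Cfsg.Agent.Lib.CoprimeCommutator
import Cfsg.Agent.Lib.FrattiniPGroup

/-!
# The local datum of an essential subgroup (axiomatic interface)

`S` a finite 2-group, `ι : S →* G` injective, `E ≤ S`.  A `Datum ι E` consists of a subgroup `Y ≤ N_G(ι E)`
generated by elements of odd order, normalised by `N_S(E)`, together with the properties of the outer
automizer of `E` which hold when it has a strongly embedded subgroup.  Here: the consequences which are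
used in the determination of the essential subgroups of `UT m F`.
-/

set_option autoImplicit false

namespace Cfsg.Agent.SylowL.EssDatum

open Subgroup

variable {S G : Type*} [Group S] [Group G]

/-- `t` normalises `E` and is an involution modulo `E`. -/
structure IsInv (E : Subgroup S) (t : S) : Prop where
  mem : t ∈ normalizer (E : Set S)
  sq : t * t ∈ E
  nmem : t ∉ E

/-- The elements `b` of `B` with `[t, b] ∈ C`. -/
def Cent (C B : Subgroup S) (t : S) : Set S := {b | b ∈ B ∧ t * b * t⁻¹ * b⁻¹ ∈ C}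

/-- `Y` and `N_S(E)` normalise `B`. -/
def Inv (ι : S →* G) (E : Subgroup S) (Y : Subgroup G) (B : Subgroup S) : Prop :=
  Y ⊔ (normalizer (E : Set S)).map ι ≤ normalizer ((B.map ι : Subgroup G) : Set G)

/-- `Y` acts trivially on `B / C`. -/
def Triv (ι : S →* G) (Y : Subgroup G) (B C : Subgroup S) : Prop :=
  ∀ y ∈ Y, ∀ b ∈ B, y * ι b * y⁻¹ * (ι b)⁻¹ ∈ C.map ι

/-- The interface. -/
structure Datum (ι : S →* G) (E : Subgroup S) where
  /-- the group generated by the elements of odd order of the "involution part" of the automizer -/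
  Y : Subgroup G
  inj : Function.Injective ι
  le : Y ≤ normalizer ((E.map ι : Subgroup G) : Set G)
  norm : (normalizer (E : Set S)).map ι ≤ normalizer (Y : Set G)
  odd : Y ≤ closure {y | y ∈ Y ∧ Odd (orderOf y)}
  centric : centralizer (E : Set S) ≤ E
  nontriv : ¬ Y ≤ centralizer ((E.map ι : Subgroup G) : Set G)
  gen : ∀ t, IsInv E t → ∀ D : Subgroup G, ι t ∈ D → centralizer ((E.map ι : Subgroup G) : Set G) ≤ D →
    Y ⊔ (normalizer (E : Set S)).map ι ≤ normalizer (D : Set G) → Y ≤ D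
  conj : ∀ t t', IsInv E t → IsInv E t' → ∃ g ∈ Y ⊔ (normalizer (E : Set S)).map ι,
    (∃ e ∈ E, ∃ c ∈ centralizer ((E.map ι : Subgroup G) : Set G), g * ι t * g⁻¹ = ι t' * ι e * c) ∧
    ∀ u, IsInv E u → ∃ u', IsInv E u' ∧
      ∃ e ∈ E, ∃ c ∈ centralizer ((E.map ι : Subgroup G) : Set G), g * ι u * g⁻¹ = ι u' * ι e * c
  comm : ∀ t t', IsInv E t → IsInv E t' → t * t' * t⁻¹ * t'⁻¹ ∈ E
  bound : ∀ B C : Subgroup S, C ≤ B → B ≤ E → Inv ι E Y B → Inv ι E Y C → (∀ b ∈ B, b * b ∈ C) →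
    (∀ b ∈ B, ∀ e ∈ E, e * b * e⁻¹ * b⁻¹ ∈ C) → ¬ Triv ι Y B C →
    ∀ t, IsInv E t → ∀ D : Subgroup S, E ≤ D → (∀ d ∈ D, d ∈ normalizer (E : Set S) ∧ d * d ∈ E) →
      Nat.card D * Nat.card (Cent C B t) ≤ Nat.card B * Nat.card E

/-! ### Generalities -/

theorem mem_normalizer_of {H : Subgroup G} {g : G} (h1 : ∀ h ∈ H, g * h * g⁻¹ ∈ H)
    (h2 : ∀ h ∈ H, g⁻¹ * h * g ∈ H) : g ∈ normalizer (H : Set G) := by
  rw [mem_normalizer_iff]
  intro h
  refine ⟨h1 h, fun h' => ?_⟩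
  have := h2 _ h'
  simpa [mul_assoc] using this

theorem conj_mem_of {H : Subgroup G} {g : G} (hg : g ∈ normalizer (H : Set G)) {h : G} (hh : h ∈ H) :
    g * h * g⁻¹ ∈ H := (mem_normalizer_iff.1 hg h).1 hh

theorem conj_mem_of' {H : Subgroup G} {g : G} (hg : g ∈ normalizer (H : Set G)) {h : G} (hh : h ∈ H) :
    g⁻¹ * h * g ∈ H := by
  have := conj_mem_of (inv_mem hg) hh
  simpa using this

/-- The elements normalising `B` and `C` and acting trivially on `B / C`. -/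
def actTriv (B C : Subgroup G) : Subgroup G where
  carrier := {g | g ∈ normalizer (B : Set G) ∧ g ∈ normalizer (C : Set G) ∧ ∀ b ∈ B, g * b * g⁻¹ * b⁻¹ ∈ C}
  one_mem' := ⟨one_mem _, one_mem _, fun b _ => by simp⟩
  mul_mem' := by
    rintro g h ⟨hg1, hg2, hg3⟩ ⟨hh1, hh2, hh3⟩
    refine ⟨mul_mem hg1 hh1, mul_mem hg2 hh2, fun b hb => ?_⟩
    have e : g * h * b * (g * h)⁻¹ * b⁻¹ = (g * (h * b * h⁻¹ * b⁻¹) * g⁻¹) * (g * b * g⁻¹ * b⁻¹) := by group
    rw [e]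
    exact mul_mem (conj_mem_of hg2 (hh3 b hb)) (hg3 b hb)
  inv_mem' := by
    rintro g ⟨hg1, hg2, hg3⟩
    refine ⟨inv_mem hg1, inv_mem hg2, fun b hb => ?_⟩
    have h1 := hg3 _ (conj_mem_of' hg1 hb)
    have e : g⁻¹ * b * g⁻¹⁻¹ * b⁻¹ = (g * (g⁻¹ * b * g) * g⁻¹ * (g⁻¹ * b * g)⁻¹)⁻¹ := by group
    rw [e]
    exact inv_mem h1

theorem le_normalizer_actTriv {B C : Subgroup G} {g : G} (hB : g ∈ normalizer (B : Set G))
    (hC : g ∈ normalizer (C : Set G)) : g ∈ normalizer ((actTriv B C : Subgroup G) : Set G) := by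
  have key : ∀ g : G, g ∈ normalizer (B : Set G) → g ∈ normalizer (C : Set G) →
      ∀ h ∈ actTriv B C, g * h * g⁻¹ ∈ actTriv B C := by
    rintro g hB hC h ⟨h1, h2, h3⟩
    refine ⟨mul_mem (mul_mem hB h1) (inv_mem hB), mul_mem (mul_mem hC h2) (inv_mem hC), fun b hb => ?_⟩
    have h4 := conj_mem_of hC (h3 _ (conj_mem_of' hB hb))
    have e : g * h * g⁻¹ * b * (g * h * g⁻¹)⁻¹ * b⁻¹
        = g * (h * (g⁻¹ * b * g) * h⁻¹ * (g⁻¹ * b * g)⁻¹) * g⁻¹ := by group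
    rw [e]
    exact h4
  refine mem_normalizer_of (key g hB hC) fun h hh => ?_
  have := key g⁻¹ (inv_mem hB) (inv_mem hC) h hh
  simpa using this

namespace Inv

variable {ι : S →* G} {E : Subgroup S} {Y : Subgroup G} {B C : Subgroup S}

theorem y_mem (h : Inv ι E Y B) {y : G} (hy : y ∈ Y) : y ∈ normalizer ((B.map ι : Subgroup G) : Set G) :=
  h (mem_sup_left hy)

theorem s_mem (h : Inv ι E Y B) {s : S} (hs : s ∈ normalizer (E : Set S)) :
    ι s ∈ normalizer ((B.map ι : Subgroup G) : Set G) := h (mem_sup_right (mem_map_of_mem ι hs))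

theorem exists_conj (h : Inv ι E Y B) {g : G} (hg : g ∈ Y ⊔ (normalizer (E : Set S)).map ι) {b : S}
    (hb : b ∈ B) : ∃ b' ∈ B, ι b' = g * ι b * g⁻¹ := by
  obtain ⟨b', hb', hb''⟩ := conj_mem_of (h hg) (mem_map_of_mem ι hb)
  exact ⟨b', hb', hb''⟩

theorem exists_conj' (h : Inv ι E Y B) {g : G} (hg : g ∈ Y ⊔ (normalizer (E : Set S)).map ι) {b : S}
    (hb : b ∈ B) : ∃ b' ∈ B, ι b = g * ι b' * g⁻¹ := by
  obtain ⟨b', hb', hb''⟩ := conj_mem_of' (h hg) (mem_map_of_mem ι hb)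
  exact ⟨b', hb', by rw [hb'']; group⟩

/-- conjugation inside `S` -/
theorem conj_mem (h : Inv ι E Y B) (hι : Function.Injective ι) {s : S} (hs : s ∈ normalizer (E : Set S))
    {b : S} (hb : b ∈ B) : s * b * s⁻¹ ∈ B := by
  obtain ⟨b', hb', e⟩ := h.exists_conj (mem_sup_right (mem_map_of_mem ι hs)) hb
  rw [← map_inv, ← map_mul, ← map_mul] at e
  rw [← hι e]
  exact hb'

theorem comm_mem (h : Inv ι E Y B) (hι : Function.Injective ι) {s : S} (hs : s ∈ normalizer (E : Set S))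
    {b : S} (hb : b ∈ B) : s * b * s⁻¹ * b⁻¹ ∈ B := mul_mem (h.conj_mem hι hs hb) (inv_mem hb)

/-- A criterion for invariance. -/
theorem of_forall (h : ∀ g ∈ Y ⊔ (normalizer (E : Set S)).map ι, ∀ b ∈ B, ∃ b' ∈ B, ι b' = g * ι b * g⁻¹) :
    Inv ι E Y B := by
  intro g hg
  refine mem_normalizer_of ?_ ?_
  · rintro _ ⟨b, hb, rfl⟩
    obtain ⟨b', hb', e⟩ := h g hg b hb
    exact ⟨b', hb', e⟩
  · rintro _ ⟨b, hb, rfl⟩
    obtain ⟨b', hb', e⟩ := h g⁻¹ (inv_mem hg) b hb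
    rw [inv_inv] at e
    exact ⟨b', hb', e⟩

theorem inf (hι : Function.Injective ι) (hB : Inv ι E Y B) (hC : Inv ι E Y C) : Inv ι E Y (B ⊓ C) := by
  refine of_forall fun g hg b hb => ?_
  obtain ⟨b1, h1, e1⟩ := hB.exists_conj hg hb.1
  obtain ⟨b2, h2, e2⟩ := hC.exists_conj hg hb.2
  have : b1 = b2 := hι (e1.trans e2.symm)
  subst this
  exact ⟨b1, ⟨h1, h2⟩, e1⟩

theorem bot : Inv ι E Y (⊥ : Subgroup S) := by
  refine of_forall fun g _ b hb => ⟨1, one_mem _, ?_⟩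
  rw [mem_bot] at hb
  rw [hb]; simp

end Inv

namespace Triv

variable {ι : S →* G} {E : Subgroup S} {Y : Subgroup G} {B C : Subgroup S}

theorem mono_right {C' : Subgroup S} (h : Triv ι Y B C) (hC : C ≤ C') : Triv ι Y B C' :=
  fun y hy b hb => map_mono hC (h y hy b hb)

theorem mono_left {B' : Subgroup S} (h : Triv ι Y B C) (hB : B' ≤ B) : Triv ι Y B' C :=
  fun y hy b hb => h y hy b (hB hb)

end Triv

namespace Datum

variable {ι : S →* G} {E : Subgroup S} (D : Datum ι E)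

theorem inv_E : Inv ι E D.Y E := by
  refine sup_le D.le ?_
  rintro _ ⟨s, hs, rfl⟩
  refine mem_normalizer_of ?_ ?_
  · rintro _ ⟨e, he, rfl⟩
    exact ⟨s * e * s⁻¹, conj_mem_of hs he, by simp⟩
  · rintro _ ⟨e, he, rfl⟩
    exact ⟨s⁻¹ * e * s, conj_mem_of' hs he, by simp⟩

/-- `C_E(Y)`. -/
def CY : Subgroup S := E ⊓ (centralizer (D.Y : Set G)).comap ι

theorem mem_CY {s : S} : s ∈ D.CY ↔ s ∈ E ∧ ∀ y ∈ D.Y, y * ι s * y⁻¹ = ι s := by
  rw [CY, mem_inf, mem_comap, mem_centralizer_iff]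
  refine and_congr_right fun _ => forall₂_congr fun y _ => ?_
  rw [mul_inv_eq_iff_eq_mul]

theorem CY_le : D.CY ≤ E := inf_le_left

theorem inv_CY : Inv ι E D.Y D.CY := by
  have hY : D.Y ⊔ (normalizer (E : Set S)).map ι ≤ normalizer (D.Y : Set G) :=
    sup_le le_normalizer D.norm
  refine Inv.of_forall fun g hg b hb => ?_
  rw [mem_CY] at hb
  obtain ⟨b', hb', e⟩ := D.inv_E.exists_conj hg hb.1
  refine ⟨b', D.mem_CY.2 ⟨hb', fun y hy => ?_⟩, e⟩
  have h1 := hb.2 _ (conj_mem_of' (hY hg) hy)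
  rw [e]
  have h2 : y * (g * ι b * g⁻¹) * y⁻¹ = g * ((g⁻¹ * y * g) * ι b * (g⁻¹ * y * g)⁻¹) * g⁻¹ := by group
  rw [h2, h1]

theorem triv_CY (C : Subgroup S) : Triv ι D.Y D.CY C := by
  intro y hy b hb
  rw [(D.mem_CY.1 hb).2 y hy, mul_inv_cancel]
  exact one_mem _

theorem triv_of_le_CY {B : Subgroup S} (h : B ≤ D.CY) (C : Subgroup S) : Triv ι D.Y B C :=
  (D.triv_CY C).mono_left h

/-- (P5): a subgroup of `C_E(Y)` normalised by `N_S(E)` is invariant. -/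
theorem inv_of_le_CY {K : Subgroup S} (hK : K ≤ D.CY)
    (hn : normalizer (E : Set S) ≤ normalizer (K : Set S)) : Inv ι E D.Y K := by
  refine sup_le ?_ ?_
  · intro y hy
    refine mem_normalizer_of ?_ ?_
    · rintro _ ⟨e, he, rfl⟩
      exact ⟨e, he, ((D.mem_CY.1 (hK he)).2 y hy).symm⟩
    · rintro _ ⟨e, he, rfl⟩
      refine ⟨e, he, ?_⟩
      have := (D.mem_CY.1 (hK he)).2 y⁻¹ (inv_mem hy)
      rw [inv_inv] at this
      exact this.symm
  · rintro _ ⟨s, hs, rfl⟩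
    refine mem_normalizer_of ?_ ?_
    · rintro _ ⟨e, he, rfl⟩
      exact ⟨s * e * s⁻¹, conj_mem_of (hn hs) he, by simp⟩
    · rintro _ ⟨e, he, rfl⟩
      exact ⟨s⁻¹ * e * s, conj_mem_of' (hn hs) he, by simp⟩

theorem inv_of_normal {K : Subgroup S} (hK : K ≤ D.CY) (hn : K.Normal) : Inv ι E D.Y K :=
  D.inv_of_le_CY hK fun s _ => by
    rw [normalizer_eq_top_iff.2 hn]
    exact mem_top s

/-- (P1) -/
theorem triv_of_isInv {B C : Subgroup S} (hBE : B ≤ E) (hB : Inv ι E D.Y B) (hC : Inv ι E D.Y C)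
    {t : S} (ht : IsInv E t) (h : ∀ b ∈ B, t * b * t⁻¹ * b⁻¹ ∈ C) (hCE : C ≤ E) : Triv ι D.Y B C := by
  have hcen : ∀ {X : Subgroup S}, X ≤ E →
      centralizer ((E.map ι : Subgroup G) : Set G) ≤ normalizer ((X.map ι : Subgroup G) : Set G) := by
    intro X hX
    exact (centralizer_le (map_mono hX)).trans (centralizer_le_normalizer _)
  have h1 : D.Y ≤ actTriv (B.map ι) (C.map ι) := by
    refine D.gen t ht _ ⟨hB.s_mem ht.mem, hC.s_mem ht.mem, ?_⟩ ?_ ?_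
    · rintro _ ⟨b, hb, rfl⟩
      exact ⟨t * b * t⁻¹ * b⁻¹, h b hb, by simp⟩
    · intro c hc
      refine ⟨hcen hBE hc, hcen hCE hc, ?_⟩
      rintro _ ⟨b, hb, rfl⟩
      have h2 := mem_centralizer_iff.1 hc (ι b) (mem_map_of_mem ι (hBE hb))
      have h3 : c * ι b * c⁻¹ * (ι b)⁻¹ = 1 := by
        rw [← h2]; group
      rw [h3]
      exact one_mem _
    · intro g hg
      exact le_normalizer_actTriv (hB hg) (hC hg)
  intro y hy b hb
  exact (h1 hy).2.2 _ (mem_map_of_mem ι hb)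

section Finite

variable [Finite G] (hS : IsPGroup 2 S)

omit [Finite G] in
theorem isPGroup_map (hS : IsPGroup 2 S) (B : Subgroup S) : IsPGroup 2 (B.map ι : Subgroup G) :=
  IsPGroup.map (hS.to_subgroup B) ι

include hS in
theorem coprime_zpowers {y : G} (hy : Odd (orderOf y)) (B : Subgroup S) :
    (Nat.card (zpowers y)).Coprime (Nat.card (B.map ι : Subgroup G)) := by
  obtain ⟨n, hn⟩ := IsPGroup.iff_card.1 (isPGroup_map (ι := ι) hS B)
  rw [Nat.card_zpowers, hn]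
  exact Nat.Coprime.pow_right n (Nat.coprime_two_right.2 hy)

include hS in
/-- (P2) -/
theorem Triv_trans {B C C' : Subgroup S} (hB : Inv ι E D.Y B) (hC' : Inv ι E D.Y C') (h1 : Triv ι D.Y B C) (h2 : Triv ι D.Y C C') : Triv ι D.Y B C' := by
  have key : D.Y ≤ actTriv (B.map ι) (C'.map ι) := by
    refine D.odd.trans ?_
    rw [closure_le]
    rintro y ⟨hy, hodd⟩
    refine ⟨hB.y_mem hy, hC'.y_mem hy, ?_⟩
    have hyB : zpowers y ≤ normalizer ((B.map ι : Subgroup G) : Set G) :=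
      zpowers_le.2 (hB.y_mem hy)
    have hcop := coprime_zpowers (ι := ι) hS hodd B
    have e := Cfsg.Agent.Lib.CoprimeCommutator.commutator_commutator_eq (zpowers y) (B.map ι) hyB hcop
    have hmem : ∀ z ∈ zpowers y, z ∈ D.Y := fun z hz => (zpowers_le.2 hy) hz
    have l1 : ⁅(B.map ι : Subgroup G), zpowers y⁆ ≤ C.map ι := by
      rw [commutator_le]
      rintro _ ⟨b, hb, rfl⟩ z hz
      have := inv_mem (h1 z (hmem z hz) b hb)
      rw [commutatorElement_def]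
      have e1 : ι b * z * (ι b)⁻¹ * z⁻¹ = (z * ι b * z⁻¹ * (ι b)⁻¹)⁻¹ := by group
      rw [e1]; exact this
    have l2 : ⁅(C.map ι : Subgroup G), zpowers y⁆ ≤ C'.map ι := by
      rw [commutator_le]
      rintro _ ⟨b, hb, rfl⟩ z hz
      have := inv_mem (h2 z (hmem z hz) b hb)
      rw [commutatorElement_def]
      have e1 : ι b * z * (ι b)⁻¹ * z⁻¹ = (z * ι b * z⁻¹ * (ι b)⁻¹)⁻¹ := by group
      rw [e1]; exact this
    have l3 : ⁅(B.map ι : Subgroup G), zpowers y⁆ ≤ C'.map ι := by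
      rw [← e]
      exact (commutator_mono l1 le_rfl).trans l2
    intro b hb
    have h5 := inv_mem (l3 (commutator_mem_commutator hb (mem_zpowers y)))
    rw [commutatorElement_def] at h5
    have e1 : (b * y * b⁻¹ * y⁻¹)⁻¹ = y * b * y⁻¹ * b⁻¹ := by group
    rwa [e1] at h5
  intro y hy b hb
  exact (key hy).2.2 _ (mem_map_of_mem ι hb)

omit [Finite G] in
theorem not_triv_E : ¬ Triv ι D.Y E ⊥ := by
  intro h
  apply D.nontriv
  intro y hy
  rw [mem_centralizer_iff]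
  rintro _ ⟨e, he, rfl⟩
  have h1 := h y hy e he
  rw [Subgroup.map_bot, mem_bot, mul_inv_eq_one, mul_inv_eq_iff_eq_mul] at h1
  exact h1.symm

include hS in
/-- If `Y` acts trivially on `E / C` and `C ≤ C_E(Y)`: contradiction. -/
theorem not_triv_E_of_le {C : Subgroup S} (hCY : C ≤ D.CY) : ¬ Triv ι D.Y E C := by
  intro h
  exact D.not_triv_E (D.Triv_trans hS D.inv_E Inv.bot h (D.triv_of_le_CY hCY _))

include hS in
/-- `Y` does not act trivially on `E / E'`. -/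
theorem not_triv_commutator [Finite S] : ¬ Triv ι D.Y E ⁅E, E⁆ := by
  intro h
  apply D.nontriv
  have hfin : Finite (E.map ι : Subgroup G) := inferInstance
  have key : D.Y ≤ centralizer ((E.map ι : Subgroup G) : Set G) := by
    refine D.odd.trans ?_
    rw [closure_le]
    rintro y ⟨hy, hodd⟩
    have hyE : zpowers y ≤ normalizer ((E.map ι : Subgroup G) : Set G) := zpowers_le.2 (D.le hy)
    have hmem : ∀ z ∈ zpowers y, z ∈ D.Y := fun z hz => (zpowers_le.2 hy) hz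
    refine Cfsg.Agent.Lib.CoprimeCommutator.induction_prime_power (zpowers y)
      (fun z => z ∈ centralizer ((E.map ι : Subgroup G) : Set G)) (one_mem _)
      (fun a _ b _ ha hb => mul_mem ha hb) ?_ y (mem_zpowers y)
    intro p n hp a ha han
    by_cases ha1 : a = 1
    · rw [ha1]; exact one_mem _
    have : Fact p.Prime := ⟨hp⟩
    have hdiv : orderOf a ∣ orderOf y := by
      obtain ⟨k, rfl⟩ := mem_zpowers_iff.1 ha
      exact orderOf_dvd_of_mem_zpowers ha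
    have hpa : p ∣ orderOf a := by
      obtain ⟨j, -, hj⟩ := (Nat.dvd_prime_pow hp).1 (orderOf_dvd_of_pow_eq_one han)
      rcases Nat.eq_zero_or_pos j with h0 | h0
      · rw [h0, pow_zero, orderOf_eq_one_iff] at hj
        exact absurd hj ha1
      · rw [hj]; exact dvd_pow_self p h0.ne'
    have hp2 : ¬ p ∣ Nat.card (E.map ι : Subgroup G) := by
      intro h1
      have h2 := coprime_zpowers (ι := ι) hS hodd E
      rw [Nat.card_zpowers] at h2
      exact hp.one_lt.ne' (Nat.dvd_one.1 (h2 ▸ Nat.dvd_gcd (hpa.trans hdiv) h1))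
    have hPa : IsPGroup p (zpowers a) := by
      obtain ⟨j, -, hj⟩ := (Nat.dvd_prime_pow hp).1 (orderOf_dvd_of_pow_eq_one han)
      exact IsPGroup.of_card (n := j) (by rw [Nat.card_zpowers, hj])
    have hza : zpowers a ≤ normalizer ((E.map ι : Subgroup G) : Set G) :=
      (zpowers_le.2 ha).trans hyE
    -- `E ι = [E ι, a] C(a)`, and `[E ι, a] ≤ (E ι)'`
    have hle : ⁅(E.map ι : Subgroup G), zpowers a⁆ ≤ ⁅(E.map ι : Subgroup G), E.map ι⁆ := by
      rw [commutator_le]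
      rintro _ ⟨b, hb, rfl⟩ z hz
      have h3 := inv_mem (h z (hmem z ((zpowers_le.2 ha) hz)) b hb)
      rw [map_commutator] at h3
      rw [commutatorElement_def]
      have e1 : ι b * z * (ι b)⁻¹ * z⁻¹ = (z * ι b * z⁻¹ * (ι b)⁻¹)⁻¹ := by group
      rw [e1]; exact h3
    set X : Subgroup G := E.map ι with hX
    have hXp : IsPGroup 2 X := isPGroup_map (ι := ι) hS E
    have hfact := Cfsg.Agent.Lib.CoprimeCommutator.exists_commutator_mul_fixed_of_isPGroup p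
      (zpowers a) X hPa hza hp2
    -- Frattini argument
    have htop : (frattini X : Subgroup X) ⊔ (centralizer (zpowers a : Set G)).subgroupOf X = ⊤ := by
      rw [eq_top_iff]
      rintro ⟨k, hk⟩ -
      obtain ⟨m, hm, c, hc, e⟩ := hfact k hk
      have hm' : m ∈ ⁅X, X⁆ := hle hm
      have hmX : m ∈ X := (commutator_le_self X) hm'
      have h4 : (⟨m, hmX⟩ : X) ∈ commutator X := by
        have h5 : (commutator X).map X.subtype = ⁅X, X⁆ := map_subtype_commutator X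
        rw [← h5] at hm'
        obtain ⟨m', hm', hm''⟩ := hm'
        have : m' = ⟨m, hmX⟩ := Subtype.ext hm''
        rwa [this] at hm'
      have e' : (⟨k, hk⟩ : X) = ⟨m, hmX⟩ * ⟨c, hc.1⟩ := Subtype.ext e
      rw [e']
      exact mul_mem_sup (Cfsg.Agent.Lib.FrattiniPGroup.commutator_le_frattini hXp h4) hc.2
    have htop' : (centralizer (zpowers a : Set G)).subgroupOf X = ⊤ :=
      frattini_nongenerating (by rw [sup_comm]; exact htop)
    rw [subgroupOf_eq_top] at htop'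
    rw [mem_centralizer_iff]
    intro x hx
    exact (mem_centralizer_iff.1 (htop' hx) a (mem_zpowers a)).symm
  exact key

include hS in
/-- (P2), second form: if `Y` acts nontrivially on `V / K` then some element `w` of `V` commuting with `C_E(Y)`
satisfies `[t, w] ∉ C_E(Y)`. -/
theorem exists_moved {V K : Subgroup S} (hVE : V ≤ E) (hV : Inv ι E D.Y V)
    (hKY : K ≤ D.CY) (hVK : ∀ v ∈ V, ∀ e ∈ E, v * e * v⁻¹ * e⁻¹ ∈ K) (hn : ¬ Triv ι D.Y V K)
    {t : S} (ht : IsInv E t) :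
    ∃ w ∈ V, (∀ c ∈ D.CY, w * c = c * w) ∧ t * w * t⁻¹ * w⁻¹ ∉ D.CY := by
  by_contra hcon
  push Not at hcon
  set W : Subgroup S := V ⊓ centralizer (D.CY : Set S) with hW
  have hWV : W ≤ V := inf_le_left
  have hWinv : Inv ι E D.Y W := by
    refine Inv.of_forall fun g hg b hb => ?_
    obtain ⟨b', hb', e⟩ := hV.exists_conj hg hb.1
    refine ⟨b', mem_inf.2 ⟨hb', ?_⟩, e⟩
    rw [mem_centralizer_iff]
    intro c hc
    obtain ⟨c', hc', ec⟩ := D.inv_CY.exists_conj' hg hc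
    have h1 := mem_centralizer_iff.1 hb.2 c' hc'
    apply D.inj
    rw [map_mul, map_mul, e, ec]
    have h2 : g * ι c' * g⁻¹ * (g * ι b * g⁻¹) = g * (ι (c' * b)) * g⁻¹ := by rw [map_mul]; group
    have h3 : g * ι b * g⁻¹ * (g * ι c' * g⁻¹) = g * (ι (b * c')) * g⁻¹ := by rw [map_mul]; group
    rw [h2, h3, h1]
  -- `Y` is trivial on `V / W`
  have h1 : Triv ι D.Y V W := by
    intro y hy v hv
    obtain ⟨v', hv', e⟩ := hV.exists_conj (mem_sup_left hy) hv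
    have h2 : v⁻¹ * v' ∈ W := by
      refine mem_inf.2 ⟨V.mul_mem (V.inv_mem hv) hv', ?_⟩
      rw [mem_centralizer_iff]
      intro c hc
      have hk : v * c * v⁻¹ * c⁻¹ ∈ D.CY := hKY (hVK v hv c (D.CY_le hc))
      have h3 := (D.mem_CY.1 hk).2 y hy
      have h4 := (D.mem_CY.1 hc).2 y hy
      have h5 : ι (v' * c * v'⁻¹ * c⁻¹) = ι (v * c * v⁻¹ * c⁻¹) := by
        rw [← h3]
        simp only [map_mul, map_inv, e]
        nth_rewrite 1 [← h4]
        nth_rewrite 2 [← h4]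
        group
      have h6 := D.inj h5
      have h7 : v' * c * v'⁻¹ = v * c * v⁻¹ := mul_right_cancel h6
      calc c * (v⁻¹ * v') = v⁻¹ * (v * c * v⁻¹) * v' := by group
        _ = v⁻¹ * (v' * c * v'⁻¹) * v' := by rw [h7]
        _ = v⁻¹ * v' * c := by group
    have h3 : v * (v⁻¹ * v') * v⁻¹ ∈ W := hWinv.conj_mem D.inj (le_normalizer (hVE hv)) h2
    refine ⟨v * (v⁻¹ * v') * v⁻¹, h3, ?_⟩
    have e2 : v * (v⁻¹ * v') * v⁻¹ = v' * v⁻¹ := by group
    rw [e2, map_mul, map_inv, e]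
  have hWC : Inv ι E D.Y (W ⊓ D.CY) := hWinv.inf D.inj D.inv_CY
  have h2 : Triv ι D.Y W (W ⊓ D.CY) := by
    refine D.triv_of_isInv (hWV.trans hVE) hWinv hWC ht (fun b hb => ?_) (inf_le_right.trans D.CY_le)
    exact ⟨hWinv.comm_mem D.inj ht.mem hb, hcon b hb.1 fun c hc => (mem_centralizer_iff.1 hb.2 c hc).symm⟩
  have h3 : Triv ι D.Y W ⊥ :=
    D.Triv_trans hS hWinv Inv.bot h2 (D.triv_of_le_CY inf_le_right _)
  exact hn ((D.Triv_trans hS hV Inv.bot h1 h3).mono_right bot_le)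

/-- An involution modulo `E` in a subgroup of `N_S(E)` not contained in `E`. -/
theorem exists_isInv (hS : IsPGroup 2 S) {U : Subgroup S} (hU : U ≤ normalizer (E : Set S)) (h : ¬ U ≤ E) :
    ∃ t ∈ U, IsInv E t := by
  obtain ⟨u, hu, huE⟩ := SetLike.not_le_iff_exists.1 h
  obtain ⟨k, hk⟩ := hS u
  have hex : ∃ n, u ^ 2 ^ n ∈ E := ⟨k, by rw [hk]; exact one_mem _⟩
  classical
  set n := Nat.find hex with hn
  have hn0 : n ≠ 0 := by
    intro h0
    have := Nat.find_spec hex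
    rw [← hn, h0, pow_zero, pow_one] at this
    exact huE this
  obtain ⟨j, hj⟩ := Nat.exists_eq_succ_of_ne_zero hn0
  have h1 : u ^ 2 ^ j ∉ E := Nat.find_min hex (by rw [← hn, hj]; exact Nat.lt_succ_self j)
  have h2 : u ^ 2 ^ j * u ^ 2 ^ j ∈ E := by
    have := Nat.find_spec hex
    rw [← hn, hj, Nat.succ_eq_add_one, pow_succ, pow_mul, sq] at this
    exact this
  exact ⟨u ^ 2 ^ j, pow_mem hu _, pow_mem (hU hu) _, h2, h1⟩

include hS in
/-- (G1) -/
theorem le_of_comm_mem {U K : Subgroup S} (hU : U ≤ normalizer (E : Set S)) (hKY : K ≤ D.CY)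
    (hK : Inv ι E D.Y K) (h : ∀ u ∈ U, ∀ e ∈ E, u * e * u⁻¹ * e⁻¹ ∈ K) : U ≤ E := by
  by_contra hcon
  obtain ⟨t, htU, ht⟩ := exists_isInv hS hU hcon
  exact D.not_triv_E_of_le hS hKY
    (D.triv_of_isInv le_rfl D.inv_E hK ht (fun e he => h t htU e he) (hKY.trans D.CY_le))

end Finite

/-- `Ω₁ Z(E/K)`. -/
def OmZ (E K : Subgroup S) (hK : K.Normal) : Subgroup S where
  carrier := {v | v ∈ E ∧ (∀ e ∈ E, v * e * v⁻¹ * e⁻¹ ∈ K) ∧ v * v ∈ K}
  one_mem' := ⟨one_mem _, fun e _ => by simp, by simp⟩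
  mul_mem' := by
    rintro a b ⟨ha1, ha2, ha3⟩ ⟨hb1, hb2, hb3⟩
    refine ⟨mul_mem ha1 hb1, fun e he => ?_, ?_⟩
    · have e1 : a * b * e * (a * b)⁻¹ * e⁻¹ = (a * (b * e * b⁻¹ * e⁻¹) * a⁻¹) * (a * e * a⁻¹ * e⁻¹) := by group
      rw [e1]
      exact mul_mem (hK.conj_mem _ (hb2 e he) a) (ha2 e he)
    · have e1 : a * b * (a * b) = (a * a) * (a⁻¹ * (b * a * b⁻¹ * a⁻¹) * a) * (a⁻¹ * (a * (b * b) * a⁻¹) * a) := by
        group
      rw [e1]
      refine mul_mem (mul_mem ha3 ?_) ?_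
      · have := hK.conj_mem _ (hb2 a ha1) a⁻¹
        simpa using this
      · have := hK.conj_mem _ hb3 1
        simpa [mul_assoc] using this
  inv_mem' := by
    rintro a ⟨ha1, ha2, ha3⟩
    refine ⟨inv_mem ha1, fun e he => ?_, ?_⟩
    · have e1 : a⁻¹ * e * a⁻¹⁻¹ * e⁻¹ = a⁻¹ * (a * e * a⁻¹ * e⁻¹)⁻¹ * a⁻¹⁻¹ := by group
      rw [e1]
      exact hK.conj_mem _ (inv_mem (ha2 e he)) a⁻¹
    · have e1 : a⁻¹ * a⁻¹ = (a * a)⁻¹ := by group
      rw [e1]
      exact inv_mem ha3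

theorem mem_OmZ {K : Subgroup S} {hK : K.Normal} {v : S} :
    v ∈ OmZ E K hK ↔ v ∈ E ∧ (∀ e ∈ E, v * e * v⁻¹ * e⁻¹ ∈ K) ∧ v * v ∈ K := Iff.rfl

theorem OmZ_le (K : Subgroup S) (hK : K.Normal) : OmZ E K hK ≤ E := fun _ h => h.1

theorem le_OmZ {K : Subgroup S} (hK : K.Normal) (h : K ≤ E) : K ≤ OmZ E K hK := by
  intro k hk
  refine ⟨h hk, fun e _ => ?_, mul_mem hk hk⟩
  have e1 : k * e * k⁻¹ * e⁻¹ = k * (e * k⁻¹ * e⁻¹) := by group
  rw [e1]
  exact mul_mem hk (hK.conj_mem _ (inv_mem hk) e)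

theorem inv_OmZ {K : Subgroup S} (hKn : K.Normal) (hK : Inv ι E D.Y K) : Inv ι E D.Y (OmZ E K hKn) := by
  refine Inv.of_forall fun g hg v hv => ?_
  obtain ⟨v', hv', e⟩ := D.inv_E.exists_conj hg hv.1
  refine ⟨v', ⟨hv', fun x hx => ?_, ?_⟩, e⟩
  · obtain ⟨x', hx', ex⟩ := D.inv_E.exists_conj' hg hx
    obtain ⟨k, hk, ek⟩ := hK.exists_conj hg (hv.2.1 x' hx')
    have : v' * x * v'⁻¹ * x⁻¹ = k := by
      apply D.inj
      rw [ek]
      simp only [map_mul, map_inv, e, ex]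
      group
    rw [this]; exact hk
  · obtain ⟨k, hk, ek⟩ := hK.exists_conj hg hv.2.2
    have : v' * v' = k := by
      apply D.inj
      rw [ek]
      simp only [map_mul, e]
      group
    rw [this]; exact hk

/-- (G2): `E = C_S(V/K)`. -/
theorem mem_of_forall_comm (hS : IsPGroup 2 S) [Finite S] {K V : Subgroup S} (hKn : K.Normal)
    (hKE : K ≤ E) (hK : Inv ι E D.Y K) (hVE : V ≤ E) (hV : Inv ι E D.Y V)
    (hVK : ∀ v ∈ V, ∀ e ∈ E, v * e * v⁻¹ * e⁻¹ ∈ K)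
    (hn : ¬ Triv ι D.Y V K) {s : S} (hs : ∀ v ∈ V, s * v * s⁻¹ * v⁻¹ ∈ K) : s ∈ E := by
  -- `C = C_S(V/K)`
  let C : Subgroup S :=
    { carrier := {s | ∀ v ∈ V, s * v * s⁻¹ * v⁻¹ ∈ K}
      one_mem' := fun v _ => by simp
      mul_mem' := by
        intro a b ha hb v hv
        have e1 : a * b * v * (a * b)⁻¹ * v⁻¹ = (a * (b * v * b⁻¹ * v⁻¹) * a⁻¹) * (a * v * a⁻¹ * v⁻¹) := by group
        rw [e1]
        exact mul_mem (hKn.conj_mem _ (hb v hv) a) (ha v hv)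
      inv_mem' := by
        intro a ha v hv
        have e1 : a⁻¹ * v * a⁻¹⁻¹ * v⁻¹ = a⁻¹ * (a * v * a⁻¹ * v⁻¹)⁻¹ * a⁻¹⁻¹ := by group
        rw [e1]
        exact hKn.conj_mem _ (inv_mem (ha v hv)) a⁻¹ }
  have hEC : E ≤ C := by
    intro e he v hv
    have e1 : e * v * e⁻¹ * v⁻¹ = (v * e * v⁻¹ * e⁻¹)⁻¹ := by group
    rw [e1]
    exact inv_mem (hVK v hv e he)
  by_contra hsE
  have hlt : E < C := lt_of_le_of_ne hEC (fun h => hsE (h ▸ (show s ∈ C from hs)))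
  have hNC : E < C ⊓ normalizer (E : Set S) := by
    refine lt_of_le_of_ne (le_inf hlt.le le_normalizer) ?_
    intro h
    have hnil : Group.IsNilpotent C := (hS.to_subgroup C).isNilpotent
    have hlt' : E.subgroupOf C < ⊤ := by
      rw [lt_top_iff_ne_top]
      intro h'
      rw [subgroupOf_eq_top] at h'
      exact absurd h' (not_le_of_gt hlt)
    have h1 := Group.normalizerCondition_of_isNilpotent (G := C) _ hlt'
    apply h1.ne
    rw [← subgroupOf_normalizer_eq hlt.le]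
    ext x
    rw [mem_subgroupOf, mem_subgroupOf]
    constructor
    · intro hx
      exact le_normalizer hx
    · intro hx
      rw [h]
      exact ⟨x.2, hx⟩
  obtain ⟨t, htC, ht⟩ := exists_isInv (E := E) hS (U := C ⊓ normalizer (E : Set S)) inf_le_right
    (not_le_of_gt hNC)
  exact hn (D.triv_of_isInv hVE hV hK ht (fun v hv => htC.1 v hv) hKE)

/-- (P3): all involutions modulo `E` have the same number of fixed points. -/
theorem card_Cent_le [Finite S] {B C : Subgroup S} (hBE : B ≤ E) (hB : Inv ι E D.Y B)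
    (hC : Inv ι E D.Y C) (hBC : ∀ b ∈ B, ∀ e ∈ E, e * b * e⁻¹ * b⁻¹ ∈ C)
    {t t' : S} (ht : IsInv E t) (ht' : IsInv E t') :
    Nat.card (Cent C B t) ≤ Nat.card (Cent C B t') := by
  obtain ⟨g, hg, ⟨e, he, c, hc, hgt⟩, -⟩ := D.conj t t' ht ht'
  have key : ∀ b : Cent C B t, ∃ b' : Cent C B t', ι b' = g * ι b * g⁻¹ := by
    rintro ⟨b, hb, hbt⟩
    obtain ⟨b', hb', eb⟩ := hB.exists_conj hg hb
    refine ⟨⟨b', hb', ?_⟩, eb⟩
    obtain ⟨k, hk, ek⟩ := hC.exists_conj hg hbt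
    have hcb : c * ι b' * c⁻¹ = ι b' := by
      rw [mul_inv_eq_iff_eq_mul]
      exact (mem_centralizer_iff.1 hc _ (mem_map_of_mem ι (hBE hb'))).symm
    have h1 : k = t' * (e * b' * e⁻¹ * b'⁻¹) * t'⁻¹ * (t' * b' * t'⁻¹ * b'⁻¹) := by
      apply D.inj
      rw [ek]
      have h2 : g * ι (t * b * t⁻¹ * b⁻¹) * g⁻¹
          = (g * ι t * g⁻¹) * (g * ι b * g⁻¹) * (g * ι t * g⁻¹)⁻¹ * (g * ι b * g⁻¹)⁻¹ := by
        simp only [map_mul, map_inv]; group
      rw [h2, hgt, ← eb]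
      have h3 : ι t' * ι e * c * ι b' * (ι t' * ι e * c)⁻¹ * (ι b')⁻¹
          = ι t' * ι e * (c * ι b' * c⁻¹) * (ι e)⁻¹ * (ι t')⁻¹ * (ι b')⁻¹ := by group
      rw [h3, hcb]
      simp only [map_mul, map_inv]
      group
    have h4 : t' * (e * b' * e⁻¹ * b'⁻¹) * t'⁻¹ ∈ C := hC.conj_mem D.inj ht'.mem (hBC b' hb' e he)
    have h5 : t' * b' * t'⁻¹ * b'⁻¹ = (t' * (e * b' * e⁻¹ * b'⁻¹) * t'⁻¹)⁻¹ * k := by
      rw [h1]; group
    rw [h5]
    exact mul_mem (inv_mem h4) hk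
  choose f hf using key
  refine Nat.card_le_card_of_injective f ?_
  intro a b hab
  have h1 := hf a
  rw [hab, hf b] at h1
  apply Subtype.ext
  apply D.inj
  have h2 : g * ι (b : S) = g * ι (a : S) := mul_right_cancel h1
  exact (mul_left_cancel h2).symm

theorem card_Cent_eq [Finite S] {B C : Subgroup S} (hBE : B ≤ E) (hB : Inv ι E D.Y B)
    (hC : Inv ι E D.Y C) (hBC : ∀ b ∈ B, ∀ e ∈ E, e * b * e⁻¹ * b⁻¹ ∈ C)
    {t t' : S} (ht : IsInv E t) (ht' : IsInv E t') :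
    Nat.card (Cent C B t) = Nat.card (Cent C B t') :=
  le_antisymm (D.card_Cent_le hBE hB hC hBC ht ht') (D.card_Cent_le hBE hB hC hBC ht' ht)

/-! ### Characteristic subgroups -/

/-- Lower central series of a subgroup, as subgroups of `S`: `gam E 0 = E`, `gam E (n+1) = [gam E n, E]`. -/
def gam (E : Subgroup S) : ℕ → Subgroup S
  | 0 => E
  | n + 1 => ⁅gam E n, E⁆

@[simp] theorem gam_zero : gam E 0 = E := rfl

theorem gam_succ (n : ℕ) : gam E (n + 1) = ⁅gam E n, E⁆ := rfl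

theorem inv_comm {B C : Subgroup S} (hB : Inv ι E D.Y B) (hC : Inv ι E D.Y C) : Inv ι E D.Y ⁅B, C⁆ := by
  have key : ∀ g ∈ D.Y ⊔ (normalizer (E : Set S)).map ι, ∀ b ∈ ⁅B, C⁆, g * ι b * g⁻¹ ∈ (⁅B, C⁆).map ι := by
    intro g hg b hb
    have h1 : ∀ X : Subgroup S, Inv ι E D.Y X → (X.map ι).map (MulAut.conj g).toMonoidHom = X.map ι := by
      intro X hX
      ext z
      constructor
      · rintro ⟨w, hw, rfl⟩
        exact conj_mem_of (hX hg) hw
      · intro hz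
        exact ⟨g⁻¹ * z * g, conj_mem_of' (hX hg) hz, by simp [mul_assoc]⟩
    have h2 : ((⁅B, C⁆).map ι).map (MulAut.conj g).toMonoidHom = (⁅B, C⁆).map ι := by
      rw [map_commutator, map_commutator, h1 B hB, h1 C hC]
    rw [← h2]
    exact ⟨ι b, mem_map_of_mem ι hb, rfl⟩
  refine Inv.of_forall fun g hg b hb => ?_
  obtain ⟨b', hb', e⟩ := key g hg b hb
  exact ⟨b', hb', e⟩

theorem inv_gam (n : ℕ) : Inv ι E D.Y (gam E n) := by
  induction n with
  | zero => exact D.inv_E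
  | succ n ih => exact D.inv_comm ih D.inv_E

theorem gam_le (n : ℕ) : gam E n ≤ E := by
  induction n with
  | zero => exact le_rfl
  | succ n ih => exact (commutator_mono ih le_rfl).trans (commutator_le_self E)

include D in
/-- No involution modulo `E` acts trivially on `E / E'`. -/
theorem exists_not_mem_commutator [Finite G] [Finite S] (hS : IsPGroup 2 S) {t : S} (ht : IsInv E t) :
    ∃ e ∈ E, t * e * t⁻¹ * e⁻¹ ∉ ⁅E, E⁆ := by
  by_contra hcon
  push Not at hcon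
  exact D.not_triv_commutator hS
    (D.triv_of_isInv le_rfl D.inv_E (D.inv_comm D.inv_E D.inv_E) ht hcon (commutator_le_self E))

/-- `Y` is trivial on `V / K` when `[V, t] ≤ C_E(Y)`; contrapositive. -/
theorem exists_comm_not_mem_CY [Finite G] (hS : IsPGroup 2 S) {V K : Subgroup S} (hVE : V ≤ E)
    (hV : Inv ι E D.Y V) (hKY : K ≤ D.CY) (hVK : ∀ v ∈ V, ∀ e ∈ E, v * e * v⁻¹ * e⁻¹ ∈ K)
    (hn : ¬ Triv ι D.Y V K) {t : S} (ht : IsInv E t) : ∃ w ∈ V, t * w * t⁻¹ * w⁻¹ ∉ D.CY := by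
  obtain ⟨w, hw, -, h⟩ := D.exists_moved hS hVE hV hKY hVK hn ht
  exact ⟨w, hw, h⟩

/-- Depth argument: if `W ≤ V` is invariant, `[V, t] ≤ W K` and `[W, t] ≤ K` then `Y` is trivial on `V / K`. -/
theorem triv_of_two_steps [Finite G] (hS : IsPGroup 2 S) {V W K : Subgroup S} (hVE : V ≤ E) (hWV : W ≤ V)
    (hKW : K ≤ W) (hV : Inv ι E D.Y V) (hW : Inv ι E D.Y W) (hK : Inv ι E D.Y K) {t : S} (ht : IsInv E t)
    (h1 : ∀ v ∈ V, t * v * t⁻¹ * v⁻¹ ∈ W) (h2 : ∀ v ∈ W, t * v * t⁻¹ * v⁻¹ ∈ K) : Triv ι D.Y V K :=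
  D.Triv_trans hS hV hK (D.triv_of_isInv hVE hV hW ht h1 (hWV.trans hVE))
    (D.triv_of_isInv (hWV.trans hVE) hW hK ht h2 ((hKW.trans hWV).trans hVE))

end Datum

end Cfsg.Agent.SylowL.EssDatum
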