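import Cfsg.Agent.SylowL.Spread
import Cfsg.Agent.Lib.EssentialFusion

/-!
# The action of a subgroup by conjugation on an abelian section
-/

set_option autoImplicit false
set_option linter.unusedSectionVars false

open scoped Pointwise

namespace Cfsg.Agent.SylowL.SecAct

open Subgroup

variable {G : Type*} [Group G]

/-- `A / B` is an abelian section normalised by `N`. -/
structure Sec (N A B : Subgroup G) : Prop where
  le : B ≤ A
  normA : N ≤ normalizer (A : Set G)
  normB : N ≤ normalizer (B : Set G)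
  normAB : A ≤ normalizer (B : Set G)
  comm : ∀ a ∈ A, ∀ a' ∈ A, a * a' * a⁻¹ * a'⁻¹ ∈ B

variable {N A B : Subgroup G}

/-- The section as a type. -/
def SQ (_h : Sec N A B) : Type _ := ↥A ⧸ B.subgroupOf A

theorem Sec.normal (h : Sec N A B) : (B.subgroupOf A).Normal :=
  (normal_subgroupOf_iff_le_normalizer h.le).2 h.normAB

instance instCommGroup (h : Sec N A B) : CommGroup (SQ h) :=
  letI := h.normal
  { (inferInstance : Group (↥A ⧸ B.subgroupOf A)) with
    mul_comm := by
      intro x y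
      induction x using QuotientGroup.induction_on with
      | H x =>
        induction y using QuotientGroup.induction_on with
        | H y =>
          change ((x * y : ↥A) : ↥A ⧸ B.subgroupOf A) = ((y * x : ↥A) : ↥A ⧸ B.subgroupOf A)
          rw [QuotientGroup.eq, mem_subgroupOf]
          have h1 := h.comm (y : G)⁻¹ (inv_mem y.2) (x : G)⁻¹ (inv_mem x.2)
          rw [inv_inv, inv_inv] at h1
          simpa [mul_assoc] using h1 }

instance instFinite [Finite G] (h : Sec N A B) : Finite (SQ h) :=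
  inferInstanceAs (Finite (↥A ⧸ B.subgroupOf A))

/-- The projection. -/
def pr (h : Sec N A B) : ↥A →* SQ h :=
  letI := h.normal
  QuotientGroup.mk' (B.subgroupOf A)

theorem pr_surjective (h : Sec N A B) : Function.Surjective (pr h) :=
  letI := h.normal
  QuotientGroup.mk'_surjective _

theorem pr_eq_iff (h : Sec N A B) {a b : ↥A} : pr h a = pr h b ↔ (a : G)⁻¹ * b ∈ B := by
  letI := h.normal
  change (QuotientGroup.mk' (B.subgroupOf A)) a = (QuotientGroup.mk' (B.subgroupOf A)) b ↔ _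
  rw [QuotientGroup.mk'_apply, QuotientGroup.mk'_apply, QuotientGroup.eq, mem_subgroupOf]
  rfl

theorem pr_eq_one_iff (h : Sec N A B) {a : ↥A} : pr h a = 1 ↔ (a : G) ∈ B := by
  rw [← map_one (pr h), eq_comm, pr_eq_iff]
  simp

/-- Conjugation on `A`. -/
def cj (h : Sec N A B) (n : ↥N) (a : ↥A) : ↥A :=
  ⟨n * a * (n : G)⁻¹, (mem_normalizer_iff.1 (h.normA n.2) a).1 a.2⟩

theorem cj_rel (h : Sec N A B) (n : ↥N) {a b : ↥A} (hab : (a : G)⁻¹ * b ∈ B) :
    ((cj h n a : ↥A) : G)⁻¹ * (cj h n b : ↥A) ∈ B := by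
  have h1 := (mem_normalizer_iff.1 (h.normB n.2) _).1 hab
  have h2 : ((cj h n a : ↥A) : G)⁻¹ * (cj h n b : ↥A) = n * ((a : G)⁻¹ * b) * (n : G)⁻¹ := by
    change (n * a * (n : G)⁻¹ : G)⁻¹ * (n * b * (n : G)⁻¹) = _
    group
  rw [h2]
  exact h1

instance instAct (h : Sec N A B) : MulDistribMulAction ↥N (SQ h) where
  smul n x := Quotient.liftOn' (s₁ := QuotientGroup.leftRel (B.subgroupOf A)) x
    (fun a => pr h (cj h n a)) (by
      intro a b hab
      rw [QuotientGroup.leftRel_apply, mem_subgroupOf] at hab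
      exact (pr_eq_iff h).2 (cj_rel h n hab))
  one_smul x := by
    obtain ⟨a, rfl⟩ := pr_surjective h x
    change pr h (cj h 1 a) = pr h a
    congr 1
    apply Subtype.ext
    simp [cj]
  mul_smul m n x := by
    obtain ⟨a, rfl⟩ := pr_surjective h x
    change pr h (cj h (m * n) a) = pr h (cj h m (cj h n a))
    congr 1
    apply Subtype.ext
    simp [cj, mul_assoc]
  smul_mul n x y := by
    obtain ⟨a, rfl⟩ := pr_surjective h x
    obtain ⟨b, rfl⟩ := pr_surjective h y
    change pr h (cj h n (a * b)) = pr h (cj h n a) * pr h (cj h n b)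
    rw [← map_mul]
    congr 1
    apply Subtype.ext
    simp [cj]
  smul_one n := by
    change pr h (cj h n 1) = pr h 1
    congr 1
    apply Subtype.ext
    simp [cj]

theorem smul_pr (h : Sec N A B) (n : ↥N) (a : ↥A) : n • pr h a = pr h (cj h n a) := rfl

/-- The image of a subgroup of `A` in the section. -/
def sub (h : Sec N A B) (W : Subgroup G) : Subgroup (SQ h) := (W.subgroupOf A).map (pr h)

theorem mem_sub (h : Sec N A B) {W : Subgroup G} (hBW : B ≤ W) {a : ↥A} :
    pr h a ∈ sub h W ↔ (a : G) ∈ W := by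
  constructor
  · rintro ⟨b, hb, hab⟩
    rw [pr_eq_iff] at hab
    have h1 : (b : G) ∈ W := hb
    have h2 := mul_mem h1 (hBW hab)
    rwa [mul_inv_cancel_left] at h2
  · intro ha
    exact ⟨a, ha, rfl⟩

theorem sub_le_sub (h : Sec N A B) {W W' : Subgroup G} (hW : B ≤ W) (hWA : W ≤ A) (hW' : B ≤ W') :
    sub h W ≤ sub h W' ↔ W ≤ W' := by
  constructor
  · intro h1 w hw
    have h2 : pr h ⟨w, hWA hw⟩ ∈ sub h W := (mem_sub h hW).2 hw
    exact (mem_sub h hW').1 (h1 h2)
  · rintro h1 _ ⟨a, ha, rfl⟩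
    exact ⟨a, h1 ha, rfl⟩

theorem sub_inj (h : Sec N A B) {W W' : Subgroup G} (hW : B ≤ W) (hWA : W ≤ A) (hW' : B ≤ W')
    (hWA' : W' ≤ A) : sub h W = sub h W' ↔ W = W' := by
  rw [le_antisymm_iff, sub_le_sub h hW hWA hW', sub_le_sub h hW' hWA' hW, ← le_antisymm_iff]

theorem card_sub (h : Sec N A B) {W : Subgroup G} (hBW : B ≤ W) (hWA : W ≤ A) :
    Nat.card (sub h W) = B.relIndex W := by
  letI := h.normal
  have h1 : (pr h).ker = B.subgroupOf A := by
    ext a
    rw [MonoidHom.mem_ker, pr_eq_one_iff, mem_subgroupOf]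
  rw [sub, ← Subgroup.relIndex_ker, h1, relIndex_subgroupOf hWA]

theorem sub_inf (h : Sec N A B) {W W' : Subgroup G} (hW : B ≤ W) (hWA : W ≤ A) (hW' : B ≤ W')
    (hWA' : W' ≤ A) : sub h W ⊓ sub h W' = sub h (W ⊓ W') := by
  ext x
  obtain ⟨a, rfl⟩ := pr_surjective h x
  rw [mem_inf, mem_sub h hW, mem_sub h hW', mem_sub h (le_inf hW hW'), mem_inf]

theorem sub_self (h : Sec N A B) : sub h B = ⊥ := by
  rw [eq_bot_iff]
  rintro _ ⟨a, ha, rfl⟩
  rw [mem_bot, pr_eq_one_iff]
  exact ha

theorem sub_top (h : Sec N A B) : sub h A = ⊤ := by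
  rw [eq_top_iff]
  intro x _
  obtain ⟨a, rfl⟩ := pr_surjective h x
  exact (mem_sub h h.le).2 a.2

/-- Every subgroup of the section comes from a subgroup of `G`. -/
theorem exists_sub (h : Sec N A B) (V : Subgroup (SQ h)) :
    ∃ W : Subgroup G, B ≤ W ∧ W ≤ A ∧ sub h W = V := by
  refine ⟨(V.comap (pr h)).map A.subtype, ?_, ?_, ?_⟩
  · intro b hb
    refine ⟨⟨b, h.le hb⟩, ?_, rfl⟩
    change pr h ⟨b, h.le hb⟩ ∈ V
    rw [(pr_eq_one_iff h).2 hb]
    exact one_mem _
  · rintro _ ⟨a, _, rfl⟩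
    exact a.2
  · have h1 : ((V.comap (pr h)).map A.subtype).subgroupOf A = V.comap (pr h) := by
      rw [subgroupOf, comap_map_eq_self_of_injective A.subtype_injective]
    rw [sub, h1, map_comap_eq_self_of_surjective (pr_surjective h)]

theorem smul_sub_of_mem (h : Sec N A B) {W : Subgroup G} (hW : B ≤ W) (hWA : W ≤ A) (n : ↥N) :
    n • sub h W = sub h W ↔ (n : G) ∈ normalizer (W : Set G) := by
  constructor
  · intro h1
    have h2 : ∀ (m : ↥N), m • sub h W = sub h W → ∀ w ∈ W, (m : G) * w * (m : G)⁻¹ ∈ W := by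
      intro m hm w hw
      have h2 : pr h ⟨w, hWA hw⟩ ∈ sub h W := (mem_sub h hW).2 hw
      have h3 : m • pr h ⟨w, hWA hw⟩ ∈ m • sub h W :=
        Subgroup.smul_mem_pointwise_smul _ _ _ h2
      rw [hm, smul_pr, mem_sub h hW] at h3
      exact h3
    rw [mem_normalizer_iff]
    intro w
    constructor
    · exact h2 n h1 w
    · intro h3
      have h4 := h2 n⁻¹ (by rw [inv_smul_eq_iff, h1]) _ h3
      simpa [mul_assoc] using h4
  · intro h1
    ext x
    obtain ⟨a, rfl⟩ := pr_surjective h x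
    rw [Subgroup.mem_pointwise_smul_iff_inv_smul_mem, smul_pr, mem_sub h hW, mem_sub h hW]
    have h2 := mem_normalizer_iff.1 (inv_mem h1) a
    rw [h2]
    rfl

end Cfsg.Agent.SylowL.SecAct
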