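import Cfsg.Agent.SylowL.EssOut
import Cfsg.Agent.SylowL.EssDatum
import Cfsg.Agent.SylowL.SecAct

/-!
# Essential subgroups give the local datum

Conditional on Bender's theorem `BAll`.
-/

set_option autoImplicit false

namespace Cfsg.Agent.SylowL.EssBridgeDatum

open Subgroup Cfsg Cfsg.Agent.BenderMod Cfsg.Agent.Lib.EssentialFusion
open Cfsg.Agent.Lib.GoldschmidtFusion Cfsg.Agent.SylowL.EssOut Cfsg.Agent.SylowL.EssDatum
open Cfsg.Agent.TwoFusion.StronglyEmbeddedBasic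
open Cfsg.Agent.SuzukiRankOne.Reduction (invClosure mem_invClosure invClosure_normal
  closure_involutions_invClosure)

universe u

variable {G : Type u} [Group G] [Finite G] {P : Sylow 2 G} {X : Subgroup G}

omit [Finite G] in
theorem map_subgroupOf (hXP : X ≤ (P : Subgroup G)) :
    (X.subgroupOf (P : Subgroup G)).map (P : Subgroup G).subtype = X :=
  map_subgroupOf_eq_of_le hXP

omit [Finite G] in
theorem mem_normalizer_iff' (hXP : X ≤ (P : Subgroup G)) (s : (P : Subgroup G)) :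
    s ∈ normalizer ((X.subgroupOf (P : Subgroup G) : Subgroup (P : Subgroup G)) : Set (P : Subgroup G)) ↔
      (s : G) ∈ normalizer (X : Set G) := by
  constructor
  · intro h
    refine mem_normalizer_of_conj (fun x hx => ?_) fun x hx => ?_
    · exact (mem_normalizer_iff.1 h ⟨x, hXP hx⟩).1 hx
    · have := (mem_normalizer_iff.1 (inv_mem h) ⟨x, hXP hx⟩).1 hx
      have h2 : (s⁻¹ * ⟨x, hXP hx⟩ * s⁻¹⁻¹ : (P : Subgroup G)) ∈ X.subgroupOf (P : Subgroup G) := this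
      rw [inv_inv] at h2
      exact h2
  · intro h
    refine mem_normalizer_of_conj (fun x hx => ?_) fun x hx => ?_
    · exact (mem_normalizer_iff.1 h x).1 hx
    · have := (mem_normalizer_iff.1 (inv_mem h) x).1 hx
      rw [inv_inv] at this
      exact this

theorem map_normalizer (hXP : X ≤ (P : Subgroup G)) :
    (normalizer ((X.subgroupOf (P : Subgroup G) : Subgroup (P : Subgroup G)) : Set (P : Subgroup G))).map
      (P : Subgroup G).subtype = (P : Subgroup G) ⊓ normalizer (X : Set G) := by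
  ext g
  constructor
  · rintro ⟨s, hs, rfl⟩
    exact ⟨s.2, (mem_normalizer_iff' hXP s).1 hs⟩
  · rintro ⟨h1, h2⟩
    exact ⟨⟨g, h1⟩, (mem_normalizer_iff' hXP ⟨g, h1⟩).2 h2, rfl⟩

theorem isInv_iff (hXP : X ≤ (P : Subgroup G)) (t : (P : Subgroup G)) :
    IsInv (X.subgroupOf (P : Subgroup G)) t ↔
      (t : G) ∈ normalizer (X : Set G) ∧ (t : G) * t ∈ X ∧ (t : G) ∉ X :=
  ⟨fun h => ⟨(mem_normalizer_iff' hXP t).1 h.mem, h.sq, h.nmem⟩,
    fun h => ⟨(mem_normalizer_iff' hXP t).2 h.1, h.2.1, h.2.2⟩⟩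

/-- The generation property. -/
theorem gen (hE : Ess P X) {s : G} (hsP : s ∈ (P : Subgroup G)) (hsN : s ∈ normalizer (X : Set G))
    (hs2 : s * s ∈ X) (hsX : s ∉ X) {D : Subgroup G} (hsD : s ∈ D)
    (hC : centralizer (X : Set G) ≤ D)
    (hn : yy X ⊔ (P : Subgroup G) ⊓ normalizer (X : Set G) ≤ normalizer (D : Set G)) : yy X ≤ D := by
  obtain ⟨H, hH, -⟩ := hE.exists_stronglyEmb
  have hH' := hH.isStronglyEmbedded
  have hXn : X ≤ normalizer (D : Set G) := by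
    intro x hx
    exact hn (mem_sup_right ⟨hE.lt.le hx, le_normalizer hx⟩)
  -- all involutions of `Out X` come from `D`
  set R : Subgroup (Out X) := (D.subgroupOf (normalizer (X : Set G))).map
    (QuotientGroup.mk' ((XC X).subgroupOf (normalizer (X : Set G)))) with hR
  have hinv : invClosure (Out X) ≤ R := by
    rw [invClosure, closure_le]
    rintro z ⟨hz1, hz2⟩
    obtain ⟨w, hw, hwz⟩ := conj_odd hH' (orderOf_toOut hE hsP hsN hs2 hsX)
      (orderOf_eq_two_of_mul_self hz2 hz1)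
    obtain ⟨g, hg, hgN, rfl⟩ := exists_yy hw
    have h1 : g * s * g⁻¹ ∈ D := (mem_normalizer_iff.1 (hn (mem_sup_left hg)) s).1 hsD
    refine ⟨⟨g * s * g⁻¹, mul_mem (mul_mem hgN hsN) (inv_mem hgN)⟩, h1, ?_⟩
    rw [← hwz]
    rfl
  rw [yy, closure_le]
  rintro y ⟨hy, ho⟩
  have hyN := lt_le X hy
  obtain ⟨⟨d, hdN⟩, hdD, hd⟩ := hinv ((mem_lt hyN).1 hy)
  have hd' : toOut d hdN = toOut y hyN := hd
  obtain ⟨e, he, c, hc, hyd⟩ := exists_of_eq hyN hdN hd'.symm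
  apply mem_of_odd (P.isPGroup'.to_le hE.lt.le) hXn ho
  have h1 : e * c = c * e := mem_centralizer_iff.1 hc e he
  rw [hyd, mul_assoc, h1, ← mul_assoc]
  exact mul_mem (mul_mem (mem_sup_left hdD) (mem_sup_left (hC hc))) (mem_sup_right he)

/-- The group generated by the involutions of `Out X` is covered by `yy X` and `N_P(X)`. -/
theorem exists_of_invClosure (hE : Ess P X) {s : G} (hsP : s ∈ (P : Subgroup G))
    (hsN : s ∈ normalizer (X : Set G)) (hs2 : s * s ∈ X) (hsX : s ∉ X) {z : Out X}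
    (hz : z ∈ invClosure (Out X)) :
    ∃ g ∈ yy X ⊔ (P : Subgroup G) ⊓ normalizer (X : Set G), ∃ hg : g ∈ normalizer (X : Set G),
      toOut g hg = z := by
  obtain ⟨H, hH, -⟩ := hE.exists_stronglyEmb
  have hH' := hH.isStronglyEmbedded
  have hinv : invClosure (Out X) ≤
      ((yy X ⊔ (P : Subgroup G) ⊓ normalizer (X : Set G)).subgroupOf (normalizer (X : Set G))).map
    (QuotientGroup.mk' ((XC X).subgroupOf (normalizer (X : Set G)))) := by
    rw [invClosure, closure_le]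
    rintro z ⟨hz1, hz2⟩
    obtain ⟨w, hw, hwz⟩ := conj_odd hH' (orderOf_toOut hE hsP hsN hs2 hsX)
      (orderOf_eq_two_of_mul_self hz2 hz1)
    obtain ⟨g, hg, hgN, rfl⟩ := exists_yy hw
    refine ⟨⟨g * s * g⁻¹, mul_mem (mul_mem hgN hsN) (inv_mem hgN)⟩, ?_, ?_⟩
    · have hsA : s ∈ yy X ⊔ (P : Subgroup G) ⊓ normalizer (X : Set G) := mem_sup_right ⟨hsP, hsN⟩
      have hgA : g ∈ yy X ⊔ (P : Subgroup G) ⊓ normalizer (X : Set G) := mem_sup_left hg
      exact mul_mem (mul_mem hgA hsA) (inv_mem hgA)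
    · rw [← hwz]
      rfl
  obtain ⟨⟨g, hgN⟩, h1, h2⟩ := hinv hz
  exact ⟨g, h1, hgN, h2⟩

theorem nontriv (hE : Ess P X) : ¬ yy X ≤ centralizer (X : Set G) := by
  obtain ⟨H, hH, -⟩ := hE.exists_stronglyEmb
  have hH' := hH.isStronglyEmbedded
  intro h
  obtain ⟨t, ht, ht2⟩ := exists_involution hH'
  obtain ⟨v, hv, hv2⟩ := exists_involution_notMem hH'
  have ho := odd_orderOf_mul hH' ht ht2 hv hv2
  have h1 : t * v ∈ oddGen (Out X) := mem_oddGen
    (mul_mem (mem_invClosure (mul_self_of_orderOf ht2)) (mem_invClosure (mul_self_of_orderOf hv2))) ho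
  obtain ⟨g, hg, hgN, hgz⟩ := exists_yy h1
  have h2 : toOut g hgN = 1 := toOut_eq_one.2 (centralizer_le_XC X (h hg))
  rw [h2] at hgz
  have h3 : t = v := by
    have h4 : v * v = 1 := mul_self_of_orderOf hv2
    exact mul_right_cancel (hgz.symm.trans h4.symm)
  exact hv (h3 ▸ ht)

theorem conj (hB : BAll.{u}) (hE : Ess P X) {t t' : G} (htP : t ∈ (P : Subgroup G))
    (htN : t ∈ normalizer (X : Set G)) (ht2 : t * t ∈ X) (htX : t ∉ X)
    (htP' : t' ∈ (P : Subgroup G)) (htN' : t' ∈ normalizer (X : Set G)) (ht2' : t' * t' ∈ X)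
    (htX' : t' ∉ X) :
    ∃ g ∈ yy X, (∃ e ∈ X, ∃ c ∈ centralizer (X : Set G), g * t * g⁻¹ = t' * e * c) ∧
      ∀ u ∈ (P : Subgroup G), u ∈ normalizer (X : Set G) → u * u ∈ X → u ∉ X →
        ∃ u' ∈ (P : Subgroup G), u' ∈ normalizer (X : Set G) ∧ u' * u' ∈ X ∧ u' ∉ X ∧
          ∃ e ∈ X, ∃ c ∈ centralizer (X : Set G), g * u * g⁻¹ = u' * e * c := by
  obtain ⟨H, hH, hHP⟩ := hE.exists_stronglyEmb
  have hH' := hH.isStronglyEmbedded
  obtain ⟨T, hT⟩ := exists_sylow hE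
  have hTH : (T : Subgroup (Out X)) ≤ H := by
    intro z hz
    obtain ⟨s, hsP, hs, rfl⟩ := (hT z).1 hz
    exact hHP s hs hsP
  obtain ⟨z, hz, hz1, hz2⟩ := exists_conj_inv hB hH' hTH ((hT _).2 ⟨t, htP, htN, rfl⟩)
    ((hT _).2 ⟨t', htP', htN', rfl⟩) (orderOf_toOut hE htP htN ht2 htX)
    (orderOf_toOut hE htP' htN' ht2' htX')
  obtain ⟨g, hg, hgN, rfl⟩ := exists_yy hz
  refine ⟨g, hg, exists_of_eq (mul_mem (mul_mem hgN htN) (inv_mem hgN)) htN' hz1, ?_⟩
  intro u huP huN hu2 huX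
  have h1 := hz2 _ ((hT _).2 ⟨u, huP, huN, rfl⟩) (orderOf_toOut hE huP huN hu2 huX)
  obtain ⟨u', huP', huN', h2⟩ := (hT _).1 h1
  have h3 : orderOf (toOut u' huN') = 2 := by
    rw [h2, orderOf_conj]
    exact orderOf_toOut hE huP huN hu2 huX
  obtain ⟨h4, h5⟩ := of_orderOf hE huP' huN' h3
  exact ⟨u', huP', huN', h4, h5,
    exists_of_eq (mul_mem (mul_mem hgN huN) (inv_mem hgN)) huN' h2.symm⟩

theorem comm (hB : BAll.{u}) (hE : Ess P X) {t t' : G} (htP : t ∈ (P : Subgroup G))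
    (htN : t ∈ normalizer (X : Set G)) (ht2 : t * t ∈ X) (htX : t ∉ X)
    (htP' : t' ∈ (P : Subgroup G)) (htN' : t' ∈ normalizer (X : Set G)) (ht2' : t' * t' ∈ X)
    (htX' : t' ∉ X) : t * t' * t⁻¹ * t'⁻¹ ∈ X := by
  obtain ⟨H, hH, hHP⟩ := hE.exists_stronglyEmb
  have hH' := hH.isStronglyEmbedded
  obtain ⟨T, hT⟩ := exists_sylow hE
  have hTH : (T : Subgroup (Out X)) ≤ H := by
    intro z hz
    obtain ⟨s, hsP, hs, rfl⟩ := (hT z).1 hz
    exact hHP s hs hsP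
  have h1 := comm_inv hB hH' hTH ((hT _).2 ⟨t, htP, htN, rfl⟩)
    ((hT _).2 ⟨t', htP', htN', rfl⟩) (orderOf_toOut hE htP htN ht2 htX)
    (orderOf_toOut hE htP' htN' ht2' htX')
  have hmN : t * t' * t⁻¹ * t'⁻¹ ∈ normalizer (X : Set G) :=
    mul_mem (mul_mem (mul_mem htN htN') (inv_mem htN)) (inv_mem htN')
  apply inf_XC hE _ (mul_mem (mul_mem (mul_mem htP htP') (inv_mem htP)) (inv_mem htP'))
  rw [← toOut_eq_one (hg := hmN)]
  have h2 : toOut (t * t' * t⁻¹ * t'⁻¹) hmN =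
      toOut t htN * toOut t' htN' * (toOut t htN)⁻¹ * (toOut t' htN')⁻¹ := rfl
  rw [h2, h1]
  group

end Cfsg.Agent.SylowL.EssBridgeDatum
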