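import Cfsg.Agent.SylowL.Fus
import Cfsg.Agent.Lib.NormalAbelian

/-!
# Strongly closed subgroups; the centralizers of the central elements
-/

set_option autoImplicit false
set_option linter.unusedSectionVars false
set_option linter.unusedVariables false
set_option linter.unusedSimpArgs false

namespace Cfsg.Agent.SylowL.Fus2

open Matrix
open Cfsg.Agent.SylowL.Lev Cfsg.Agent.SylowL.UT Cfsg.Agent.SylowL.Pat Cfsg.Agent.SylowL.Series
open Cfsg.Agent.SylowL.Rect Cfsg.Agent.SylowL.NatSec Cfsg.Agent.SylowL.PSec Cfsg.Agent.SylowL.Inv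
open Cfsg.Agent.SylowL.Dual Cfsg.Agent.SylowL.RectInv Cfsg.Agent.SylowL.Fus
open Cfsg.Agent.Lib.EssentialFusion Cfsg.Agent.Lib.GoldschmidtFusion
open Subgroup

universe u w

variable {m : ℕ} {F : Type w} [Field F] [Finite F] [CharP F 2] {G : Type u} [Group G] [Finite G]
  {S : Sylow 2 G} {ι : UT m F →* G}

local macro "po" : tactic => `(tactic| ((try simp only [Qd, Rd, flipD, true_and, and_true, true_or,
  or_true, false_and, and_false, false_or, or_false, not_true_eq_false, not_false_eq_true] at *)
  <;> omega))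

theorem exists_central {D : Subgroup G} (hD : Cfsg.IsStronglyClosed D (S : Subgroup G))
    (hD1 : D ≠ ⊥) : ∃ z ∈ D, z ≠ 1 ∧ ∀ s ∈ (S : Subgroup G), s * z = z * s := by
  have hn : (D.subgroupOf (S : Subgroup G)).Normal := by
    refine ⟨fun x hx g => ?_⟩
    rw [mem_subgroupOf] at hx ⊢
    exact hD.2 x hx g (mul_mem (mul_mem g.2 x.2) (inv_mem g.2))
  have hne : D.subgroupOf (S : Subgroup G) ≠ ⊥ := by
    intro h
    apply hD1
    rw [subgroupOf_eq_bot] at h
    exact h.eq_bot_of_le hD.1
  have hp : Group.IsNilpotent (S : Subgroup G) := (S.isPGroup').isNilpotent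
  have h1 := Cfsg.Agent.Lib.NormalAbelian.normal_inf_center_ne_bot _ hne
  obtain ⟨⟨z, hz⟩, hz1⟩ := Subgroup.ne_bot_iff_exists_ne_one.1 h1
  obtain ⟨hzD, hzC⟩ := mem_inf.1 hz
  refine ⟨z, hzD, fun h => hz1 (Subtype.ext (Subtype.ext h)), fun s hs => ?_⟩
  exact congrArg Subtype.val (mem_center_iff.1 hzC ⟨s, hs⟩)

/-- The centre of `UT m F`. -/
theorem mem_Z_iff (hm : 1 < m) {g : UT m F} :
    g ∈ R m F (show 1 ≤ m - 1 by omega) ↔ ∀ x, x * g = g * x := by
  rw [← Subgroup.mem_center_iff, Series.mem_center_iff hm, mem_X, mem_lev]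
  constructor
  · intro h i j hij
    have h1 := h i j hij
    have := j.2
    po
  · intro h i j hij
    have h1 := h i j hij
    have := j.2
    po

theorem comm_mem {A B : Subgroup (UT m F)} {g x : UT m F} (h : g * x = x * g) :
    g * x * g⁻¹ * x⁻¹ ∈ A := by
  rw [h, mul_assoc x g, mul_inv_cancel, mul_one, mul_inv_cancel]
  exact one_mem _

/-- `A 1` is self-centralising. -/
theorem mem_A1 {g : UT m F} (hm : 4 ≤ m) (hg : ∀ x ∈ R m F (le_refl 1), g * x = x * g) :
    g ∈ R m F (le_refl 1) := by
  have h1 := (mem_cen (isUR_all m) (isUR_R m (le_refl 1)) (isUR_R m (Nat.zero_le m)) (g := g)).1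
    ⟨mem_all g, fun x hx => comm_mem (B := ⊤) (hg x hx)⟩
  intro i j hij
  obtain ⟨h2, h3, h4⟩ := h1 i j hij
  have h5 := h4 0
  po

/-- `A (m - 1)` is self-centralising. -/
theorem mem_Am {g : UT m F} (hm : 4 ≤ m) (hg : ∀ x ∈ R m F (le_refl (m - 1)), g * x = x * g) :
    g ∈ R m F (le_refl (m - 1)) := by
  have h1 := (mem_cen (isUR_all m) (isUR_R m (le_refl (m - 1))) (isUR_R m (Nat.zero_le m))
    (g := g)).1 ⟨mem_all g, fun x hx => comm_mem (B := ⊤) (hg x hx)⟩
  intro i j hij
  obtain ⟨h2, h3, h4⟩ := h1 i j hij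
  have h5 := h3 (m - 1)
  have := j.2
  po

section StronglyClosed

variable (hP : P2 m F S) (c : Ctx S ι) (hQ : EssQ m F S ι)
  (hI : ∀ k, 0 < k → k < m → Ess S ((Q m F k).map ι))

include hP c hQ hI

/-- A nontrivial strongly closed subgroup of `S` is `S`. -/
theorem eq_of_stronglyClosed {D : Subgroup G} (hD : Cfsg.IsStronglyClosed D (S : Subgroup G))
    (hD1 : D ≠ ⊥) : D = (S : Subgroup G) := by
  have hm := c.m4
  have key : ∀ {x y : UT m F} {g : G}, g * ι x * g⁻¹ = ι y → ι y ∈ D → ι x ∈ D := by
    intro x y g h hy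
    have h1 : g⁻¹ * ι y * g⁻¹⁻¹ = ι x := by rw [← h]; group
    have h2 := hD.2 _ hy g⁻¹ (by rw [h1]; exact c.emb.mem x)
    rwa [h1] at h2
  -- the centre
  obtain ⟨z, hzD, hz1, hz⟩ := exists_central hD hD1
  obtain ⟨z, rfl⟩ := c.emb.exists_eq (hD.1 hzD)
  have hzZ : z ∈ R m F (show 1 ≤ m - 1 by omega) := by
    rw [mem_Z_iff (by omega)]
    intro x
    apply c.emb.inj
    rw [map_mul, map_mul]
    exact hz _ (c.emb.mem x)
  have hle : R m F (show 1 ≤ m - 1 by omega) ≤ R m F (show 1 ≤ m - 2 by omega) := by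
    rw [X_le]
    intro i j hj h
    po
  have hZ : ∀ x ∈ R m F (show 1 ≤ m - 1 by omega), ι x ∈ D := by
    intro x hx
    by_cases hx1 : x = 1
    · rw [hx1, map_one]; exact one_mem _
    · obtain ⟨n, -, h1⟩ := conj_Z hP c (hI (m - 1) (by omega) (by omega)) (hle hx) hx1 (hle hzZ)
        (fun h => hz1 (by rw [h, map_one]))
      exact key h1 hzD
  -- the last column
  have hcol : ∀ x ∈ R m F (le_refl (m - 1)), ι x ∈ D := by
    intro x hx
    by_cases hx1 : x = 1
    · rw [hx1, map_one]; exact one_mem _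
    · obtain ⟨g, -, y, hy, h1⟩ := exists_conj_Z' hP c hQ hI hx hx1
      exact key h1.symm (hZ y hy)
  -- all roots
  have hroot : ∀ n b, b + n + 1 = m → 1 ≤ b → ∀ (i j : Fin m) (hij : i < j) (r : F), b ≤ (j : ℕ) →
      ι (root i j hij r) ∈ D := by
    intro n
    induction n with
    | zero =>
      intro b hb hb1 i j hij r hj
      exact hcol _ (root_mem_R _ _ (by have := j.2; rw [Fin.lt_def] at hij; omega) (by omega))
    | succ n ih =>
      intro b hb hb1
      have hC := ih (b + 1) (by omega) (by omega)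
      -- induction on the row
      have aux : ∀ a : ℕ, ∀ (i j : Fin m) (hij : i < j) (r : F), (i : ℕ) + 1 = a → b = (j : ℕ) →
          ι (root i j hij r) ∈ D := by
        intro a
        induction a using Nat.strong_induction_on with
        | _ a iha =>
          intro i j hij r hi hj
          by_cases hr : r = 0
          · rw [hr, root_zero, map_one]; exact one_mem _
          have hij' := Fin.lt_def.1 hij
          have hbm : b + 1 < m := by omega
          have hi' : i < (⟨b + 1, hbm⟩ : Fin m) := by rw [Fin.lt_def]; simp only; omega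
          obtain ⟨g, -, w, hw, h1⟩ := trans_gen hP c (a := a) (k := b + 1) (by omega) (by omega)
            hbm (hI (b + 1) (by omega) hbm) (x := root i j hij r)
            (y := root i ⟨b + 1, hbm⟩ hi' 1)
            (root_mem_R _ _ (by omega) (by omega))
            (by
              intro h
              have h2 := (root_mem_X _ hij hr).1 h
              simp only [Pd] at h2
              po)
            (root_mem_R _ _ (by omega) (by simp only; omega))
            (by
              intro h
              have h2 := (root_mem_X _ hi' one_ne_zero).1 h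
              simp only [Pd] at h2
              po)
          have hwD : ∀ w ∈ X F (isUR_P (m := m) (a := a) (k := b + 1) (l := b + 1 + 1) (by omega)
              (by omega)), ι w ∈ D := by
            have hle : X F (isUR_P (m := m) (a := a) (k := b + 1) (l := b + 1 + 1) (by omega)
                (by omega)) ≤ D.comap ι := by
              refine X_le_of_roots _ fun i' j' hij'' hD' r' => ?_
              rw [mem_comap]
              simp only [Pd] at hD'
              by_cases hj' : (j' : ℕ) = b
              · exact iha (i' + 1) (by po) i' j' hij'' r' rfl hj'.symm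
              · exact hC i' j' hij'' r' (by po)
            intro w hw
            exact hle hw
          have h2 : g * ι (root i j hij r) * g⁻¹ = ι (w * root i ⟨b + 1, hbm⟩ hi' 1) := by
            rw [map_mul, h1]
            group
          refine key h2 ?_
          rw [map_mul]
          exact mul_mem (hwD w hw) (hC _ _ _ _ (by simp only; omega))
      intro i j hij r hj
      by_cases hjb : b = (j : ℕ)
      · exact aux _ i j hij r rfl hjb
      · exact hC i j hij r (by omega)
  apply le_antisymm hD.1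
  intro s hs
  obtain ⟨t, rfl⟩ := c.emb.exists_eq hs
  have h1 : X F (isUR_all m) ≤ D.comap ι := by
    refine X_le_of_roots _ fun i j hij hD' r => ?_
    rw [mem_comap]
    have := Fin.lt_def.1 hij
    exact hroot (m - 2) 1 (by omega) le_rfl i j hij r (by omega)
  exact h1 (mem_all t)

end StronglyClosed

/-! ### Centralizers of central elements -/

section Centralizer

/-- The identification of `UT m F` with the Sylow subgroup of a subgroup `H ≥ S`. -/
def res (H : Subgroup G) (e : Emb S ι) (hS : (S : Subgroup G) ≤ H) : UT m F →* ↥H :=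
  ι.codRestrict H (fun t => hS (e.mem t))

theorem coe_res (H : Subgroup G) (e : Emb S ι) (hS : (S : Subgroup G) ≤ H) (t : UT m F) :
    ((res H e hS t : ↥H) : G) = ι t := rfl

theorem emb_res {H : Subgroup G} (e : Emb S ι) (hS : (S : Subgroup G) ≤ H) :
    Emb (S.subtype hS) (res H e hS) where
  inj x y h := e.inj (congrArg Subtype.val h)
  range := by
    ext x
    rw [Sylow.coe_subtype, mem_subgroupOf]
    constructor
    · rintro ⟨t, rfl⟩
      exact e.mem t
    · intro hx
      obtain ⟨t, ht⟩ := e.exists_eq hx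
      exact ⟨t, Subtype.ext ht⟩

theorem map_res {H : Subgroup G} (e : Emb S ι) (hS : (S : Subgroup G) ≤ H) (W : Subgroup (UT m F)) :
    W.map (res H e hS) = (W.map ι).subgroupOf H := by
  ext x
  rw [mem_subgroupOf]
  constructor
  · rintro ⟨w, hw, rfl⟩
    exact ⟨w, hw, rfl⟩
  · rintro ⟨w, hw, h⟩
    exact ⟨w, hw, Subtype.ext h⟩

theorem ctx_res {H : Subgroup G} (c : Ctx S ι) (hS : (S : Subgroup G) ≤ H) :
    Ctx (S.subtype hS) (res H c.emb hS) where
  emb := emb_res c.emb hS
  hK D h := by
    intro n hn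
    rw [mem_normalizer_iff] at hn ⊢
    have h1 : (n : G) ∈ normalizer ((S : Subgroup G) : Set G) := by
      rw [mem_normalizer_iff]
      intro x
      constructor
      · intro hx
        have h2 := (hn ⟨x, hS hx⟩).1 (by rw [Sylow.coe_subtype, mem_subgroupOf]; exact hx)
        rw [Sylow.coe_subtype, mem_subgroupOf] at h2
        exact h2
      · intro hx
        have hxH : x ∈ H := by
          have h3 := mul_mem (mul_mem (inv_mem n.2) (hS hx)) n.2
          simpa [mul_assoc] using h3
        have h2 := (hn ⟨x, hxH⟩).2 (by rw [Sylow.coe_subtype, mem_subgroupOf]; exact hx)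
        rw [Sylow.coe_subtype, mem_subgroupOf] at h2
        exact h2
    have h2 := mem_normalizer_iff.1 (c.hK D h h1)
    intro x
    rw [map_res, mem_subgroupOf, mem_subgroupOf]
    exact h2 x
  m4 := c.m4
  q4 := c.q4

theorem le_centralizer (c : Ctx S ι) {z : UT m F}
    (hz : z ∈ R m F (show 1 ≤ m - 1 by have := c.m4; omega)) :
    (S : Subgroup G) ≤ centralizer ({ι z} : Set G) := by
  intro s hs
  obtain ⟨t, rfl⟩ := c.emb.exists_eq hs
  rw [mem_centralizer_singleton_iff, ← map_mul, ← map_mul,
    (mem_Z_iff (by have := c.m4; omega)).1 hz]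

/-- `Q (m - 1)` is not essential in `C(z)`. -/
theorem not_ess (c : Ctx S ι) (hP : P2 m F S) {z : UT m F}
    (hz : z ∈ R m F (show 1 ≤ m - 1 by have := c.m4; omega)) (hz1 : z ≠ 1)
    (hcen : ∀ g : G, g * ι z = ι z * g) : ¬ Ess S ((Q m F (m - 1)).map ι) := by
  intro hE
  have hm := c.m4
  have hle : R m F (show 1 ≤ m - 1 by omega) ≤ R m F (show 1 ≤ m - 2 by omega) := by
    rw [X_le]
    intro i j hj h
    po
  have hij : (⟨0, by omega⟩ : Fin m) < ⟨m - 2, by omega⟩ := by
    rw [Fin.lt_def]; simp only; omega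
  obtain ⟨n, -, h1⟩ := conj_Z hP c hE (x := z) (y := root _ _ hij 1) (hle hz) hz1
    (root_mem_R _ _ (by simp only; omega) (by simp only; omega)) (root_ne_one _ one_ne_zero)
  rw [hcen n, mul_inv_cancel_right] at h1
  have h2 := c.emb.inj h1
  rw [h2] at hz
  have h3 := (root_mem_X _ hij one_ne_zero).1 hz
  have h4 := h3.2
  simp only at h4
  omega

/-- The statement of (E). -/
def EHyp (m : ℕ) (F : Type w) [Field F] : Prop :=
  ∀ (H : Type u) [Group H] [Finite H] (S : Sylow 2 H) (ι : UT m F →* H), Emb S ι → EssQ m F S ι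

/-- The statement of (P2). -/
def PHyp (m : ℕ) (F : Type w) [Field F] : Prop :=
  ∀ (H : Type u) [Group H] [Finite H] (S : Sylow 2 H), P2 m F S

/-- If `1 ≠ z ∈ Z(S)` is central in `G` then `A 1` and `A (m - 1)` are strongly closed. -/
theorem closed_of_central (c : Ctx S ι) (hP : P2 m F S) (hQ : EssQ m F S ι) {z : UT m F}
    (hz : z ∈ R m F (show 1 ≤ m - 1 by have := c.m4; omega)) (hz1 : z ≠ 1)
    (hcen : ∀ g : G, g * ι z = ι z * g) :
    Cfsg.IsStronglyClosed ((R m F (le_refl (m - 1))).map ι) (S : Subgroup G) :=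
  stronglyClosed_A hP c hQ (by have := c.m4; omega) (by have := c.m4; omega)
    (not_ess c hP hz hz1 hcen)

theorem closed_of_central' (c : Ctx S ι) (hP : P2 m F S) (hQ : EssQ m F S ι) {z : UT m F}
    (hz : z ∈ R m F (show 1 ≤ m - 1 by have := c.m4; omega)) (hz1 : z ≠ 1)
    (hcen : ∀ g : G, g * ι z = ι z * g) :
    Cfsg.IsStronglyClosed ((R m F (le_refl 1)).map ι) (S : Subgroup G) := by
  have hm := c.m4
  have h1 : ι z ∈ (R m F (show 1 ≤ m - 1 by omega)).map (ι.comp delta) := by
    rw [map_delta_R _ (by omega)]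
    refine ⟨z, ?_, rfl⟩
    have h4 : R m F (show m - (m - 1) ≤ m - 1 by omega) = R m F (show 1 ≤ m - 1 by omega) :=
      X_congr _ _ fun i j hj => by unfold Rd; omega
    rw [h4]
    exact hz
  obtain ⟨y, hy, hyz⟩ := h1
  have hy1 : y ≠ 1 := by
    rintro rfl
    rw [map_one] at hyz
    exact hz1 (c.emb.inj (by rw [map_one]; exact hyz.symm))
  have h2 := closed_of_central (ctx_delta c) hP (essQ_delta hQ) hy hy1 (by rw [hyz]; exact hcen)
  rw [map_delta_R _ (by omega)] at h2
  have h4 : R m F (show m - (m - 1) ≤ m - (m - 1) by omega) = R m F (le_refl 1) :=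
    X_congr _ _ fun i j hj => by unfold Rd; omega
  rwa [h4] at h2

/-- `A 1` and `A (m - 1)` are strongly closed in `S` with respect to `C(z)`. -/
theorem closed_in_centralizer (c : Ctx S ι) (hP : PHyp.{u} m F) (hE : EHyp.{u} m F) {z : UT m F}
    (hz : z ∈ R m F (show 1 ≤ m - 1 by have := c.m4; omega)) (hz1 : z ≠ 1) {a : ℕ}
    (ha : a = 1 ∨ a = m - 1) {x : UT m F} (hx : x ∈ R m F (le_refl a)) {g : G}
    (hg : g * ι z = ι z * g) (hgS : g * ι x * g⁻¹ ∈ (S : Subgroup G)) :
    g * ι x * g⁻¹ ∈ (R m F (le_refl a)).map ι := by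
  set H : Subgroup G := centralizer ({ι z} : Set G) with hH
  have hS : (S : Subgroup G) ≤ H := le_centralizer c hz
  have c' := ctx_res c hS
  have hcen : ∀ h : ↥H, h * (res H c.emb hS) z = (res H c.emb hS) z * h := by
    intro h
    apply Subtype.ext
    exact mem_centralizer_singleton_iff.1 h.2
  have h1 : Cfsg.IsStronglyClosed ((R m F (le_refl a)).map (res H c.emb hS))
      (S.subtype hS : Subgroup ↥H) := by
    rcases ha with rfl | rfl
    · exact closed_of_central' c' (hP _ _) (hE _ _ _ c'.emb) hz hz1 hcen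
    · exact closed_of_central c' (hP _ _) (hE _ _ _ c'.emb) hz hz1 hcen
  have h2 := h1.2 (res H c.emb hS x) ⟨x, hx, rfl⟩ ⟨g, mem_centralizer_singleton_iff.2 hg⟩ (by
    rw [Sylow.coe_subtype, mem_subgroupOf]
    exact hgS)
  rw [map_res, mem_subgroupOf] at h2
  exact h2

end Centralizer

end Cfsg.Agent.SylowL.Fus2
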