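import Cfsg.Agent.SylowL.EssMain
import Cfsg.Agent.SylowL.EssBridgeBound
import Cfsg.Agent.SylowL.Fus2

/-!
# The essential subgroups of `UT m F`
-/

set_option autoImplicit false

namespace Cfsg.Agent.SylowL.EssFinal

open Matrix Subgroup
open Cfsg.Agent.SylowL.Lev Cfsg.Agent.SylowL.UT Cfsg.Agent.SylowL.Pat
open Cfsg.Agent.SylowL.EssDatum Cfsg.Agent.SylowL.EssUT Cfsg.Agent.SylowL.EssTwo Cfsg.Agent.SylowL.StepOne
open Cfsg.Agent.Lib.EssentialFusion

universe u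

variable {m : ℕ} {F : Type*} [Field F]

local notation "Mat" => Matrix (Fin m) (Fin m) F

theorem exists_equiv {G : Type*} [Group G] [Finite G] {S : Sylow 2 G} {ι : UT m F →* G} (hS : NatSec.Emb S ι) :
    ∃ τ : UT m F ≃* (S : Subgroup G), (S : Subgroup G).subtype.comp τ.toMonoidHom = ι := by
  have h1 : ∀ g, ι g ∈ (S : Subgroup G) := fun g => by
    rw [← hS.range]
    exact ⟨g, rfl⟩
  refine ⟨MulEquiv.ofBijective (ι.codRestrict (S : Subgroup G) h1) ⟨fun a b hab => hS.inj (congrArg Subtype.val hab),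
    fun s => ?_⟩, rfl⟩
  obtain ⟨g, hg⟩ : (s : G) ∈ ι.range := by rw [hS.range]; exact s.2
  exact ⟨g, Subtype.ext hg⟩

theorem exists_datum (hB : Cfsg.Agent.BenderMod.BAll.{u}) {G : Type u} [Group G] [Finite G] {S : Sylow 2 G} {ι : UT m F →* G} (hS : NatSec.Emb S ι)
    {X : Subgroup G} (hX : Ess S X) : Nonempty (Datum ι (X.comap ι)) := by
  obtain ⟨τ, rfl⟩ := exists_equiv hS
  obtain ⟨D⟩ := EssBridgeBound.datum hB hX
  exact ⟨EssMap.map τ D⟩

theorem comap_ne_top {G : Type*} [Group G] [Finite G] {S : Sylow 2 G} {ι : UT m F →* G} (hS : NatSec.Emb S ι)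
    {X : Subgroup G} (hX : Ess S X) : X.comap ι ≠ ⊤ := by
  intro h
  refine absurd hX.lt (not_lt_of_ge ?_)
  rw [← hS.range]
  rintro _ ⟨g, rfl⟩
  have : g ∈ X.comap ι := by rw [h]; exact mem_top _
  exact this

theorem eq_map_Q {G : Type*} [Group G] [Finite G] {S : Sylow 2 G} {ι : UT m F →* G} (hS : NatSec.Emb S ι)
    {X : Subgroup G} (hX : X ≤ S) {i j : Fin m} (hij : (i : ℕ) + 1 = j)
    (h : ∀ g, g ∈ X.comap ι ↔ N g i j = 0) : ∃ k, 0 < k ∧ k < m ∧ X = (PSec.Q m F k).map ι := by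
  have hj := j.2
  have h0 : 0 < (j : ℕ) := by omega
  refine ⟨j, h0, hj, ?_⟩
  ext x
  rw [mem_map]
  have e1 : (⟨(j : ℕ) - 1, by omega⟩ : Fin m) = i := Fin.ext (by
    change (j : ℕ) - 1 = i
    omega)
  constructor
  · intro hx
    obtain ⟨g, rfl⟩ : x ∈ ι.range := by rw [hS.range]; exact hX hx
    refine ⟨g, ?_, rfl⟩
    rw [PSec.mem_Q h0 hj, e1]
    exact (h g).1 hx
  · rintro ⟨g, hg, rfl⟩
    rw [PSec.mem_Q h0 hj, e1] at hg
    exact (h g).2 hg

theorem eHyp_of [Finite F] [CharP F 2] (hB : Cfsg.Agent.BenderMod.BAll.{u}) (hm : 3 ≤ m)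
    (hcB : ∀ (G : Type u) [Group G] [Finite G] (ι : UT m F →* G) (e : Submodule F Mat) (he : IsAlg e)
      (D : Datum ι (ofAlg e he)) (o z i j : Fin m),
      ¬ Triv ι D.Y (Datum.OmZ (ofAlg e he) ⊥ inferInstance) ⊥ → CaseB e o z i j → False) :
    Fus2.EHyp.{u} m F := by
  intro H _ _ S ι hS X hX
  obtain ⟨D⟩ := exists_datum hB hS hX
  obtain ⟨i, j, hij, h⟩ := EssMain.ess_of D hm (fun e he D o z i j => hcB H ι e he D o z i j)
    (comap_ne_top hS hX)
  exact eq_map_Q hS hX.lt.le hij h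

end Cfsg.Agent.SylowL.EssFinal
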