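import Cfsg.Agent.SylowL.EssFinal
import Cfsg.Agent.SylowL.StepOne.B1Main
import Cfsg.Agent.SylowL.StepOne.B2Final

/-!
# The essential subgroups of `UT m F` are the `Q k` (from Bender's theorem)
-/

set_option autoImplicit false

namespace Cfsg.Agent.SylowL.EssHyp

open Matrix Subgroup
open Cfsg.Agent.SylowL.Lev Cfsg.Agent.SylowL.UT Cfsg.Agent.SylowL.Pat
open Cfsg.Agent.SylowL.EssDatum Cfsg.Agent.SylowL.EssUT Cfsg.Agent.SylowL.EssTwo Cfsg.Agent.SylowL.StepOne

universe u

variable {m : ℕ} {F : Type*} [Field F]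

local notation "Mat" => Matrix (Fin m) (Fin m) F

/-- Case (B) of Step 1 does not occur. -/
theorem caseB_false [Finite F] [CharP F 2] {G : Type*} [Group G] [Finite G] {ι : UT m F →* G}
    {e : Submodule F (Matrix (Fin m) (Fin m) F)} {he : IsAlg e} (D : Datum ι (ofAlg e he)) {o z i j : Fin m}
    (hq : 4 ≤ Nat.card F) (hn : ¬ Triv ι D.Y (Datum.OmZ (ofAlg e he) ⊥ inferInstance) ⊥)
    (hB : CaseB e o z i j) : False := by
  by_cases hx : ∀ s t : F, s • single o j (1 : F) + t • single i z (1 : F) ∈ e → s = 0 ∧ t = 0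
  · exact B2Final.caseB2 D hq hn hB hx
  · push Not at hx
    obtain ⟨s, t, hst, hne⟩ := hx
    have hs : s ≠ 0 := by
      intro h0
      have ht := hne h0
      rw [h0, zero_smul, zero_add] at hst
      refine hB.niz ?_
      have := e.smul_mem t⁻¹ hst
      rwa [smul_smul, inv_mul_cancel₀ ht, one_smul] at this
    have ht : t ≠ 0 := by
      intro h0
      rw [h0, zero_smul, add_zero] at hst
      refine hB.noj ?_
      have := e.smul_mem s⁻¹ hst
      rwa [smul_smul, inv_mul_cancel₀ hs, one_smul] at this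
    have h1 := e.smul_mem s⁻¹ hst
    rw [smul_add, smul_smul, smul_smul, inv_mul_cancel₀ hs, one_smul] at h1
    exact B1Main.caseB1 D hq hn hB (mul_ne_zero (inv_ne_zero hs) ht) h1

/-- **(E)**, from Bender's theorem. -/
theorem eHyp_of_bender [Finite F] [CharP F 2] (hB : Cfsg.Agent.BenderMod.BAll.{u}) (hm : 3 ≤ m)
    (hq : 4 ≤ Nat.card F) : Fus2.EHyp.{u} m F :=
  EssFinal.eHyp_of hB hm fun _ _ _ _ _ _ D _ _ _ _ hn hc => caseB_false D hq hn hc

end Cfsg.Agent.SylowL.EssHyp
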