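import Cfsg.Agent.SylowL.StepOne.Main
import Cfsg.Agent.SylowL.StepTwo.Main

/-!
# The essential subgroups of `UT m F` (local datum form)
-/

set_option autoImplicit false

namespace Cfsg.Agent.SylowL.EssMain

open Matrix Subgroup
open Cfsg.Agent.SylowL.Lev Cfsg.Agent.SylowL.UT Cfsg.Agent.SylowL.Pat
open Cfsg.Agent.SylowL.EssDatum Cfsg.Agent.SylowL.EssUT Cfsg.Agent.SylowL.EssTwo Cfsg.Agent.SylowL.StepOne

variable {m : ℕ} {F : Type*} [Field F]

local notation "Mat" => Matrix (Fin m) (Fin m) F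

theorem ess_of {G : Type*} [Group G] [Finite G] {ι : UT m F →* G} [Finite F] [CharP F 2]
    {E : Subgroup (UT m F)} (D : Datum ι E) (hm : 3 ≤ m)
    (hcB : ∀ (e : Submodule F Mat) (he : IsAlg e) (D : Datum ι (ofAlg e he)) (o z i j : Fin m),
      ¬ Triv ι D.Y (Datum.OmZ (ofAlg e he) ⊥ inferInstance) ⊥ → CaseB e o z i j → False) (hne : E ≠ ⊤) :
    ∃ i j : Fin m, (i : ℕ) + 1 = j ∧ ∀ g, g ∈ E ↔ N g i j = 0 := by
  by_cases hT : Triv ι D.Y (Datum.OmZ E ⊥ inferInstance) ⊥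
  · obtain ⟨e, he, rfl, T⟩ := two_of_datum D (by omega) hne hT
    obtain ⟨i, j, hij, h⟩ := T.concl hm
    refine ⟨i, j, hij, fun g => ?_⟩
    rw [mem_ofAlg, h]
    exact ⟨fun h => h.2, fun h => ⟨N_mem g, h⟩⟩
  · exact stepOne_of D hm hcB hT hne

end Cfsg.Agent.SylowL.EssMain
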