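import Cfsg.Agent.SylowL.EssDatum

/-!
# Transport of the local datum along an isomorphism of `S`
-/

set_option autoImplicit false

namespace Cfsg.Agent.SylowL.EssMap

open Subgroup
open Cfsg.Agent.SylowL.EssDatum

variable {S S' G : Type*} [Group S] [Group S'] [Group G] (τ : S' ≃* S) {ι : S →* G} {E : Subgroup S}

theorem mem_comap' {B : Subgroup S} {s : S'} : s ∈ B.comap τ.toMonoidHom ↔ τ s ∈ B := Iff.rfl

theorem map_comap' (B : Subgroup S) : (B.comap τ.toMonoidHom).map (ι.comp τ.toMonoidHom) = B.map ι := by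
  rw [← Subgroup.map_map, map_comap_eq_self_of_surjective τ.surjective]

theorem map_map' (B : Subgroup S') : (B.map τ.toMonoidHom).map ι = B.map (ι.comp τ.toMonoidHom) := by
  rw [Subgroup.map_map]

theorem mem_normalizer_comap {B : Subgroup S} {s : S'} :
    s ∈ normalizer ((B.comap τ.toMonoidHom : Subgroup S') : Set S') ↔ τ s ∈ normalizer (B : Set S) := by
  rw [mem_normalizer_iff, mem_normalizer_iff]
  constructor
  · intro h x
    obtain ⟨y, rfl⟩ := τ.surjective x
    have := h y
    rw [mem_comap', mem_comap', map_mul, map_mul, map_inv] at this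
    exact this
  · intro h y
    have := h (τ y)
    rw [mem_comap', mem_comap', map_mul, map_mul, map_inv]
    exact this

theorem normalizer_comap' (B : Subgroup S) :
    (normalizer ((B.comap τ.toMonoidHom : Subgroup S') : Set S')).map (ι.comp τ.toMonoidHom)
      = (normalizer (B : Set S)).map ι := by
  have : normalizer ((B.comap τ.toMonoidHom : Subgroup S') : Set S')
      = (normalizer (B : Set S)).comap τ.toMonoidHom := by
    ext s
    exact mem_normalizer_comap τ
  rw [this, map_comap']

theorem isInv_comap {t : S'} : IsInv (E.comap τ.toMonoidHom) t ↔ IsInv E (τ t) := by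
  constructor
  · rintro ⟨h1, h2, h3⟩
    refine ⟨(mem_normalizer_comap τ).1 h1, ?_, h3⟩
    rw [← map_mul]; exact h2
  · rintro ⟨h1, h2, h3⟩
    refine ⟨(mem_normalizer_comap τ).2 h1, ?_, h3⟩
    rw [mem_comap', map_mul]; exact h2

theorem inv_map {Y : Subgroup G} {B : Subgroup S'} (h : EssDatum.Inv (ι.comp τ.toMonoidHom) (E.comap τ.toMonoidHom) Y B) :
    EssDatum.Inv ι E Y (B.map τ.toMonoidHom) := by
  unfold EssDatum.Inv at h ⊢
  rwa [map_map', ← normalizer_comap' τ E]

theorem triv_map {Y : Subgroup G} {B C : Subgroup S'} :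
    Triv (ι.comp τ.toMonoidHom) Y B C ↔ Triv ι Y (B.map τ.toMonoidHom) (C.map τ.toMonoidHom) := by
  unfold Triv
  rw [map_map']
  constructor
  · rintro h y hy _ ⟨b, hb, rfl⟩
    exact h y hy b hb
  · intro h y hy b hb
    exact h y hy _ (mem_map_of_mem _ hb)

/-- Transport of the datum. -/
def map (D : Datum ι E) : Datum (ι.comp τ.toMonoidHom) (E.comap τ.toMonoidHom) where
  Y := D.Y
  inj := D.inj.comp τ.injective
  le := by rw [map_comap']; exact D.le
  norm := by rw [normalizer_comap']; exact D.norm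
  odd := D.odd
  centric := by
    intro s hs
    rw [mem_comap']
    apply D.centric
    rw [mem_centralizer_iff]
    intro x hx
    obtain ⟨y, rfl⟩ := τ.surjective x
    rw [← map_mul, mem_centralizer_iff.1 hs y hx, map_mul]
  nontriv := by rw [map_comap']; exact D.nontriv
  gen t ht H h1 h2 h3 := by
    rw [map_comap'] at h2
    rw [normalizer_comap'] at h3
    exact D.gen (τ t) ((isInv_comap τ).1 ht) H h1 h2 h3
  conj t t' ht ht' := by
    rw [map_comap', normalizer_comap']
    obtain ⟨g, hg, ⟨e, he, c, hc, h⟩, h'⟩ := D.conj _ _ ((isInv_comap τ).1 ht) ((isInv_comap τ).1 ht')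
    refine ⟨g, hg, ⟨τ.symm e, ?_, c, hc, ?_⟩, fun u hu => ?_⟩
    · rw [mem_comap', MulEquiv.apply_symm_apply]; exact he
    · change g * ι (τ t) * g⁻¹ = ι (τ t') * ι (τ (τ.symm e)) * c
      rw [MulEquiv.apply_symm_apply]; exact h
    · obtain ⟨u', hu', e, he, c, hc, h⟩ := h' _ ((isInv_comap τ).1 hu)
      refine ⟨τ.symm u', (isInv_comap τ).2 (by rwa [MulEquiv.apply_symm_apply]), τ.symm e, ?_, c, hc, ?_⟩
      · rw [mem_comap', MulEquiv.apply_symm_apply]; exact he
      · change g * ι (τ u) * g⁻¹ = ι (τ (τ.symm u')) * ι (τ (τ.symm e)) * c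
        rw [MulEquiv.apply_symm_apply, MulEquiv.apply_symm_apply]; exact h
  comm t t' ht ht' := by
    rw [mem_comap']
    simp only [map_mul, map_inv]
    exact D.comm _ _ ((isInv_comap τ).1 ht) ((isInv_comap τ).1 ht')
  bound B C h1 h2 h3 h4 h5 h6 h7 t ht H h8 h9 := by
    have hcard : ∀ B : Subgroup S', Nat.card (B.map τ.toMonoidHom) = Nat.card B := fun B =>
      (Nat.card_congr (B.equivMapOfInjective τ.toMonoidHom τ.injective).toEquiv).symm
    have hE : Nat.card (E.comap τ.toMonoidHom) = Nat.card E := by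
      rw [← hcard, map_comap_eq_self_of_surjective τ.surjective]
    have hC : Nat.card (Cent (C.map τ.toMonoidHom) (B.map τ.toMonoidHom) (τ t)) = Nat.card (Cent C B t) := by
      have h : Cent (C.map τ.toMonoidHom) (B.map τ.toMonoidHom) (τ t) = τ '' Cent C B t := by
        ext s
        constructor
        · rintro ⟨⟨x, hx, rfl⟩, y, hy, hxy⟩
          refine ⟨x, ⟨hx, ?_⟩, rfl⟩
          have : y = t * x * t⁻¹ * x⁻¹ := by
            apply τ.injective
            simp only [map_mul, map_inv]
            exact hxy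
          rw [← this]; exact hy
        · rintro ⟨x, ⟨hx, hx'⟩, rfl⟩
          refine ⟨mem_map_of_mem τ.toMonoidHom hx, ?_⟩
          have := mem_map_of_mem τ.toMonoidHom hx'
          simp only [map_mul, map_inv] at this
          exact this
      rw [h]
      exact Nat.card_image_of_injective τ.injective _
    rw [← hcard H, ← hC, ← hcard B, hE]
    refine D.bound _ _ (map_mono h1) ?_ (inv_map τ h3) (inv_map τ h4) ?_ ?_ ?_ _ ((isInv_comap τ).1 ht) _ ?_ ?_
    · rintro _ ⟨b, hb, rfl⟩
      exact h2 hb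
    · rintro _ ⟨b, hb, rfl⟩
      exact ⟨b * b, h5 b hb, by simp⟩
    · rintro _ ⟨b, hb, rfl⟩ e he
      obtain ⟨e, rfl⟩ := τ.surjective e
      exact ⟨e * b * e⁻¹ * b⁻¹, h6 b hb e he, by simp⟩
    · rwa [← triv_map]
    · intro e he
      obtain ⟨e, rfl⟩ := τ.surjective e
      exact mem_map_of_mem _ (h8 he)
    · rintro _ ⟨d, hd, rfl⟩
      have := h9 d hd
      refine ⟨(mem_normalizer_comap τ).1 this.1, ?_⟩
      have h10 := this.2
      rw [mem_comap', map_mul] at h10
      exact h10

theorem map_Y (D : Datum ι E) : (map τ D).Y = D.Y := rfl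

/-- `Ω₁ Z(E)` -/
theorem triv_OmZ (D : Datum ι E) : Triv (ι.comp τ.toMonoidHom) D.Y (Datum.OmZ (E.comap τ.toMonoidHom) ⊥ inferInstance) ⊥
    ↔ Triv ι D.Y (Datum.OmZ E ⊥ inferInstance) ⊥ := by
  rw [triv_map, Subgroup.map_bot]
  have : (Datum.OmZ (E.comap τ.toMonoidHom) ⊥ inferInstance).map τ.toMonoidHom = Datum.OmZ E ⊥ inferInstance := by
    ext s
    obtain ⟨s, rfl⟩ := τ.surjective s
    constructor
    · rintro ⟨s', ⟨h1, h2, h3⟩, hs'⟩
      have : s' = s := τ.injective hs'
      subst this
      refine ⟨h1, fun e he => ?_, ?_⟩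
      · obtain ⟨e, rfl⟩ := τ.surjective e
        have := h2 e he
        rw [mem_bot] at this ⊢
        have := congrArg τ this
        simpa using this
      · rw [mem_bot] at h3 ⊢
        rw [← map_mul, h3, map_one]
    · rintro ⟨h1, h2, h3⟩
      refine ⟨s, ⟨h1, fun e he => ?_, ?_⟩, rfl⟩
      · have := h2 (τ e) he
        rw [mem_bot] at this ⊢
        apply τ.injective
        simpa using this
      · rw [mem_bot] at h3 ⊢
        apply τ.injective
        rw [map_mul, h3, map_one]
  rw [this]

end Cfsg.Agent.SylowL.EssMap
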