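import Cfsg.Agent.BenderMod.Struct
import Cfsg.Agent.Lib.EssentialFusion

/-!
# The outer automizer of an essential 2-subgroup

`lt X`: the preimage in `N_G(X)` of the subgroup generated by the involutions of
`N_G(X) / X C_G(X)`; `yy X`: the subgroup generated by its elements of odd order.
-/

set_option autoImplicit false

namespace Cfsg.Agent.SylowL.EssOut

open Subgroup Cfsg Cfsg.Agent.BenderMod Cfsg.Agent.Lib.EssentialFusion
open Cfsg.Agent.Lib.GoldschmidtFusion
open Cfsg.Agent.SuzukiRankOne.Reduction (invClosure mem_invClosure invClosure_normal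
  closure_involutions_invClosure)

universe u

variable {G : Type u} [Group G]

/-- The preimage of `⟨involutions⟩`. -/
def lt (X : Subgroup G) : Subgroup G :=
  ((invClosure (Out X)).comap (QuotientGroup.mk' _)).map (normalizer (X : Set G)).subtype

theorem mem_lt {X : Subgroup G} {g : G} (hg : g ∈ normalizer (X : Set G)) :
    g ∈ lt X ↔ toOut g hg ∈ invClosure (Out X) := by
  constructor
  · rintro ⟨⟨k, hk⟩, h1, h2⟩
    have h3 : k = g := h2
    subst h3
    exact h1
  · intro h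
    exact ⟨⟨g, hg⟩, h, rfl⟩

theorem lt_le (X : Subgroup G) : lt X ≤ normalizer (X : Set G) := by
  rintro _ ⟨k, -, rfl⟩
  exact k.2

/-- The subgroup generated by the elements of odd order of `lt X`. -/
def yy (X : Subgroup G) : Subgroup G := closure {y | y ∈ lt X ∧ Odd (orderOf y)}

theorem yy_le (X : Subgroup G) : yy X ≤ lt X := by
  rw [yy, closure_le]
  exact fun y hy => hy.1

theorem mem_yy {X : Subgroup G} {y : G} (h : y ∈ lt X) (ho : Odd (orderOf y)) : y ∈ yy X :=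
  subset_closure ⟨h, ho⟩

theorem conj_mem_lt {X : Subgroup G} {g y : G} (hg : g ∈ normalizer (X : Set G)) (hy : y ∈ lt X) :
    g * y * g⁻¹ ∈ lt X := by
  have hy' := lt_le X hy
  rw [mem_lt (mul_mem (mul_mem hg hy') (inv_mem hg))]
  have h1 : toOut (g * y * g⁻¹) (mul_mem (mul_mem hg hy') (inv_mem hg)) =
      toOut g hg * toOut y hy' * (toOut g hg)⁻¹ := rfl
  rw [h1]
  exact (invClosure_normal (Out X)).conj_mem _ ((mem_lt hy').1 hy) _

theorem mem_normalizer_of_conj {H : Subgroup G} {g : G} (h1 : ∀ h ∈ H, g * h * g⁻¹ ∈ H)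
    (h2 : ∀ h ∈ H, g⁻¹ * h * g ∈ H) : g ∈ normalizer (H : Set G) := by
  rw [mem_normalizer_iff]
  intro h
  refine ⟨h1 h, fun h' => ?_⟩
  have := h2 _ h'
  simpa [mul_assoc] using this

theorem conj_mem_yy {X : Subgroup G} {g y : G} (hg : g ∈ normalizer (X : Set G)) (hy : y ∈ yy X) :
    g * y * g⁻¹ ∈ yy X := by
  have h1 : (yy X).map (MulAut.conj g).toMonoidHom ≤ yy X := by
    rw [yy, MonoidHom.map_closure, closure_le]
    rintro _ ⟨y, ⟨hy, ho⟩, rfl⟩
    refine mem_yy (conj_mem_lt hg hy) ?_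
    have : orderOf ((MulAut.conj g).toMonoidHom y) = orderOf y :=
      orderOf_injective (MulAut.conj g).toMonoidHom (MulAut.conj g).injective y
    rw [this]
    exact ho
  exact h1 ⟨y, hy, rfl⟩

theorem le_normalizer_yy (X : Subgroup G) : normalizer (X : Set G) ≤ normalizer (yy X : Set G) := by
  intro g hg
  refine mem_normalizer_of_conj (fun y hy => conj_mem_yy hg hy) fun y hy => ?_
  have := conj_mem_yy (inv_mem hg) hy
  simpa using this

section Finite

variable [Finite G]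

/-- An element of odd order of a quotient lifts to an element of odd order. -/
theorem exists_odd_lift {N : Type*} [Group N] [Finite N] {K : Type*} [Group K] (f : N →* K) (y : N)
    (ho : Odd (orderOf (f y))) : ∃ e : ℕ, Odd (orderOf (y ^ e)) ∧ f (y ^ e) = f y := by
  obtain ⟨k, m, hm, hkm⟩ := Nat.exists_eq_pow_mul_and_not_dvd (orderOf_pos y).ne' 2 (by norm_num)
  have hcop : Nat.Coprime (2 ^ k) m :=
    Nat.Coprime.pow_left k ((Nat.Prime.coprime_iff_not_dvd Nat.prime_two).2 hm)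
  have hm1 : 0 < m := Nat.pos_of_ne_zero (by rintro rfl; exact hm (dvd_zero 2))
  have hmodd : Odd m := by
    rw [← Nat.not_even_iff_odd, even_iff_two_dvd]
    exact hm
  refine ⟨(2 ^ k) ^ m.totient, ?_, ?_⟩
  · refine Odd.of_dvd_nat hmodd (orderOf_dvd_of_pow_eq_one ?_)
    have h1 : (2 ^ k) ^ m.totient * m = (2 ^ k * m) * (2 ^ k) ^ (m.totient - 1) := by
      have h2 : 0 < m.totient := Nat.totient_pos.2 hm1
      obtain ⟨j, hj⟩ : ∃ j, m.totient = j + 1 := ⟨m.totient - 1, by omega⟩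
      rw [hj, Nat.add_sub_cancel, pow_succ]
      ring
    rw [← pow_mul, h1, pow_mul, ← hkm, pow_orderOf_eq_one, one_pow]
  · have h1 : orderOf (f y) ∣ m := by
      have h2 : orderOf (f y) ∣ 2 ^ k * m := by rw [← hkm]; exact orderOf_map_dvd f y
      exact Nat.Coprime.dvd_of_dvd_mul_left
        (Nat.Coprime.pow_right k (Nat.coprime_two_right.2 ho)) h2
    have h2 : (2 ^ k) ^ m.totient ≡ 1 [MOD m] := Nat.ModEq.pow_totient hcop
    have h3 : (2 ^ k) ^ m.totient ≡ 1 [MOD orderOf (f y)] := h2.of_dvd h1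
    rw [map_pow]
    conv_rhs => rw [← pow_one (f y)]
    exact pow_eq_pow_iff_modEq.2 h3

theorem exists_yy {X : Subgroup G} {z : Out X} (hz : z ∈ oddGen (Out X)) :
    ∃ g ∈ yy X, ∃ hg : g ∈ normalizer (X : Set G), toOut g hg = z := by
  have h1 : oddGen (Out X) ≤ ((yy X).subgroupOf (normalizer (X : Set G))).map
      (QuotientGroup.mk' ((XC X).subgroupOf (normalizer (X : Set G)))) := by
    rw [oddGen, closure_le]
    rintro z ⟨hz, ho⟩
    obtain ⟨⟨y, hy⟩, rfl⟩ := QuotientGroup.mk'_surjective _ z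
    obtain ⟨e, he1, he2⟩ := exists_odd_lift (QuotientGroup.mk'
      ((XC X).subgroupOf (normalizer (X : Set G)))) (⟨y, hy⟩ : normalizer (X : Set G)) ho
    refine ⟨(⟨y, hy⟩ : normalizer (X : Set G)) ^ e, ?_, he2⟩
    have h2 : ((⟨y, hy⟩ : normalizer (X : Set G)) ^ e : normalizer (X : Set G)).1 = y ^ e := rfl
    have h3 : y ^ e ∈ normalizer (X : Set G) := pow_mem hy e
    refine mem_yy ((mem_lt h3).2 ?_) ?_
    · have h4 : toOut (y ^ e) h3 = QuotientGroup.mk' ((XC X).subgroupOf (normalizer (X : Set G)))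
          ((⟨y, hy⟩ : normalizer (X : Set G)) ^ e) := rfl
      rw [h4, he2]
      exact hz
    · rw [coe_subtype, orderOf_coe]
      exact he1
  obtain ⟨⟨g, hg⟩, h2, h3⟩ := h1 hz
  exact ⟨g, h2, hg, h3⟩

omit [Finite G] in
/-- An element of odd order of `D B`, `B` a 2-group normalising `D`, is in `D`. -/
theorem mem_of_odd {D B : Subgroup G} (hB : IsPGroup 2 B) (hBD : B ≤ normalizer (D : Set G)) {y : G}
    (ho : Odd (orderOf y)) (hy : y ∈ D ⊔ B) : y ∈ D := by
  have hn : (D.subgroupOf (D ⊔ B)).Normal := by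
    rw [normal_subgroupOf_iff_le_normalizer le_sup_left]
    exact sup_le le_normalizer hBD
  have h1 : y ∈ ((D ⊔ B : Subgroup G) : Set G) := hy
  rw [coe_mul_of_right_le_normalizer_left _ _ hBD] at h1
  obtain ⟨d, hd, b, hb, rfl⟩ := Set.mem_mul.1 h1
  set q := QuotientGroup.mk' (D.subgroupOf (D ⊔ B)) with hq
  have h2 : q ⟨d * b, hy⟩ = q ⟨b, mem_sup_right hb⟩ := by
    have h3 : (⟨d * b, hy⟩ : ↥(D ⊔ B)) = ⟨d, mem_sup_left hd⟩ * ⟨b, mem_sup_right hb⟩ := rfl
    have h4 : q ⟨d, mem_sup_left hd⟩ = 1 := by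
      rw [hq, QuotientGroup.mk'_apply, QuotientGroup.eq_one_iff]
      exact hd
    rw [h3, map_mul, h4, one_mul]
  obtain ⟨n, hn⟩ := hB ⟨b, hb⟩
  have h3 : (q ⟨d * b, hy⟩) ^ 2 ^ n = 1 := by
    rw [h2, ← map_pow]
    have h4 : (⟨b, mem_sup_right hb⟩ : ↥(D ⊔ B)) ^ 2 ^ n = 1 := by
      apply Subtype.ext
      have := congrArg Subtype.val hn
      exact this
    rw [h4, map_one]
  have h4 : orderOf (q ⟨d * b, hy⟩) ∣ 2 ^ n := orderOf_dvd_of_pow_eq_one h3
  have h5 : orderOf (q ⟨d * b, hy⟩) ∣ orderOf (d * b) := by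
    have h6 := orderOf_map_dvd q ⟨d * b, hy⟩
    rwa [Subgroup.orderOf_mk] at h6
  have h6 : orderOf (q ⟨d * b, hy⟩) = 1 :=
    Nat.eq_one_of_dvd_coprimes (Nat.Coprime.pow_left n (Nat.coprime_two_left.2 ho)) h4 h5
  have h7 := orderOf_eq_one_iff.1 h6
  rw [hq, QuotientGroup.mk'_apply, QuotientGroup.eq_one_iff] at h7
  exact h7

section Ess

variable {P : Sylow 2 G} {X : Subgroup G}

omit [Finite G] in
theorem inf_XC (hE : Ess P X) {x : G} (hx : x ∈ XC X) (hxP : x ∈ (P : Subgroup G)) : x ∈ X := by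
  have h1 : x ∈ ((XC X : Subgroup G) : Set G) := hx
  rw [XC, coe_mul_of_right_le_normalizer_left _ _ (centralizer_le_normalizer _)] at h1
  obtain ⟨a, ha, c, hc, rfl⟩ := Set.mem_mul.1 h1
  refine mul_mem ha (hE.centric ⟨hc, ?_⟩)
  have := mul_mem (inv_mem (hE.lt.le ha)) hxP
  rwa [inv_mul_cancel_left] at this

/-- The Sylow 2-subgroup of `Out X` given by `P`. -/
theorem exists_sylow (hE : Ess P X) : ∃ T : Sylow 2 (Out X), ∀ z : Out X,
    z ∈ (T : Subgroup (Out X)) ↔ ∃ s ∈ (P : Subgroup G), ∃ hs : s ∈ normalizer (X : Set G), toOut s hs = z := by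
  have : Fact (Nat.Prime 2) := ⟨Nat.prime_two⟩
  set N := normalizer (X : Set G) with hN
  have hP : IsPGroup 2 (((P : Subgroup G) ⊓ N).subgroupOf N) :=
    (P.isPGroup'.to_le inf_le_left).comap_of_injective N.subtype N.subtype_injective
  let T0 : Sylow 2 N := hP.toSylow (by exact hE.full)
  refine ⟨T0.mapSurjective (QuotientGroup.mk'_surjective ((XC X).subgroupOf N)), fun z => ?_⟩
  rw [Sylow.coe_mapSurjective]
  constructor
  · rintro ⟨⟨s, hs⟩, h1, rfl⟩
    have h2 : s ∈ (P : Subgroup G) ⊓ N := h1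
    exact ⟨s, h2.1, hs, rfl⟩
  · rintro ⟨s, hsP, hs, rfl⟩
    exact ⟨⟨s, hs⟩, ⟨hsP, hs⟩, rfl⟩

omit [Finite G] in
theorem orderOf_toOut (hE : Ess P X) {s : G} (hsP : s ∈ (P : Subgroup G))
    (hs : s ∈ normalizer (X : Set G)) (h2 : s * s ∈ X) (hsX : s ∉ X) : orderOf (toOut s hs) = 2 := by
  apply orderOf_eq_prime
  · rw [pow_two, ← toOut_mul, toOut_eq_one]
    exact le_XC X h2
  · intro h
    rw [toOut_eq_one] at h
    exact hsX (inf_XC hE h hsP)

omit [Finite G] in
theorem of_orderOf (hE : Ess P X) {s : G} (hsP : s ∈ (P : Subgroup G))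
    (hs : s ∈ normalizer (X : Set G)) (h : orderOf (toOut s hs) = 2) : s * s ∈ X ∧ s ∉ X := by
  constructor
  · apply inf_XC hE _ (mul_mem hsP hsP)
    rw [← toOut_eq_one (hg := mul_mem hs hs), toOut_mul hs hs, ← pow_two, ← h, pow_orderOf_eq_one]
  · intro hX
    have h1 : toOut s hs = 1 := toOut_eq_one.2 (le_XC X hX)
    rw [h1, orderOf_one] at h
    exact absurd h (by norm_num)

omit [Finite G] in
/-- Equal images in `Out X`. -/
theorem exists_of_eq {g k : G} (hg : g ∈ normalizer (X : Set G)) (hk : k ∈ normalizer (X : Set G))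
    (h : toOut g hg = toOut k hk) : ∃ e ∈ X, ∃ c ∈ centralizer (X : Set G), g = k * e * c := by
  have h1 : k⁻¹ * g ∈ ((XC X : Subgroup G) : Set G) := by
    have h2 : toOut (k⁻¹ * g) (mul_mem (inv_mem hk) hg) = 1 := by
      have h3 : toOut (k⁻¹ * g) (mul_mem (inv_mem hk) hg) = (toOut k hk)⁻¹ * toOut g hg := rfl
      rw [h3, h, inv_mul_cancel]
    exact toOut_eq_one.1 h2
  rw [XC, coe_mul_of_right_le_normalizer_left _ _ (centralizer_le_normalizer _)] at h1
  obtain ⟨e, he, c, hc, h2⟩ := Set.mem_mul.1 h1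
  refine ⟨e, he, c, hc, ?_⟩
  rw [mul_assoc, h2, mul_inv_cancel_left]

end Ess

end Finite

end Cfsg.Agent.SylowL.EssOut
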