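import Cfsg.Agent.SylowL.EssUT
import Cfsg.Agent.SylowL.StepTwo.Basic

/-!
# From the local datum on `UT m F` to the hypotheses of Step 2

`D : Datum ι E` with `E ≤ UT m F`.  If `K = 1 + k ≤ C_E(Y)` is given by an ideal `k` and `Y` is nontrivial on
`Ω₁ Z(E/K)` then `E = 1 + e` for a subalgebra `e` (`exists_alg`) and `Act e he C_E(Y) k v` (`act`).
If `Y` is trivial on `Ω₁ Z(E)` then `Two e he C_E(Y)` (`two_of_datum`).
-/

set_option autoImplicit false

namespace Cfsg.Agent.SylowL.EssTwo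

open Matrix Subgroup
open Cfsg.Agent.SylowL.Lev Cfsg.Agent.SylowL.UT Cfsg.Agent.SylowL.Pat
open Cfsg.Agent.SylowL.EssDatum Cfsg.Agent.SylowL.EssUT

variable {m : ℕ} {F : Type*} [Field F]

local notation "Mat" => Matrix (Fin m) (Fin m) F

theorem ofAlg_le_iff {e e' : Submodule F Mat} {he : IsAlg e} {he' : IsAlg e'} :
    ofAlg e he ≤ ofAlg e' he' ↔ e ≤ e' := by
  constructor
  · intro h x hx
    have h1 : mk x (he.le hx) ∈ ofAlg e he := by rw [mem_ofAlg, N_mk]; exact hx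
    have h2 := h h1
    rwa [mem_ofAlg, N_mk] at h2
  · intro h g hg
    exact h hg

theorem isIdeal_bot : IsIdeal (⊥ : Submodule F Mat) where
  le := bot_le
  left a _ b hb := by
    rw [Submodule.mem_bot] at hb
    rw [hb, mul_zero]; exact zero_mem _
  right a _ b hb := by
    rw [Submodule.mem_bot] at hb
    rw [hb, zero_mul]; exact zero_mem _

theorem ofAlg_bot : ofAlg (⊥ : Submodule F Mat) isIdeal_bot.isAlg = ⊥ := by
  ext g
  rw [mem_ofAlg, Submodule.mem_bot, Subgroup.mem_bot, N_eq_zero_iff]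

/-! ### Elements normalising `1 + e` strongly -/

/-- `n t⁻¹ ∈ e` for `n ∈ e` if `e (N t) ⊆ e` -/
theorem mul_inv_mem {e : Submodule F Mat} {t : UT m F} (h : ∀ y ∈ e, y * N t ∈ e) {n : Mat} (hn : n ∈ e) :
    n * (((t : Matˣ)⁻¹ : Matˣ) : Mat) ∈ e := by
  have h2 : (((t : Matˣ)⁻¹ : Matˣ) : Mat) = ∑ k ∈ Finset.range m, (-N t) ^ k := by
    apply Units.inv_eq_of_mul_eq_one_right
    rw [val_eq]
    exact geom_mul (N_mem t)
  rw [h2, Finset.mul_sum]
  have key : ∀ k : ℕ, n * (-N t) ^ k ∈ e := by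
    intro k
    induction k with
    | zero => rwa [pow_zero, mul_one]
    | succ k ih =>
      rw [pow_succ, ← mul_assoc, Matrix.mul_neg]
      exact neg_mem (h _ ih)
  exact Submodule.sum_mem _ fun k _ => key k

theorem cj_eq (t : UT m F) (n : Mat) :
    cj t n = n + (N t * n - n * N t) * (((t : Matˣ)⁻¹ : Matˣ) : Mat) := by
  rw [cj_apply]
  have h : ((t : Matˣ) : Mat) * (((t : Matˣ)⁻¹ : Matˣ) : Mat) = 1 := Units.mul_inv _
  have h1 : n = n * ((t : Matˣ) : Mat) * (((t : Matˣ)⁻¹ : Matˣ) : Mat) := by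
    rw [mul_assoc, h, mul_one]
  nth_rewrite 2 [h1]
  rw [val_eq]
  noncomm_ring

theorem cj_sub_mem_iff {k : Submodule F Mat} (hk : IsIdeal k) {t : UT m F} {n : Mat} :
    cj t n - n ∈ k ↔ N t * n - n * N t ∈ k := by
  rw [cj_eq, add_sub_cancel_left]
  constructor
  · intro h
    have h1 : (N t * n - n * N t) * (((t : Matˣ)⁻¹ : Matˣ) : Mat) * ((t : Matˣ) : Mat) ∈ k := by
      rw [val_eq, mul_add, mul_one]
      exact add_mem h (hk.right _ (N_mem t) _ h)
    rwa [mul_assoc, Units.inv_mul, mul_one] at h1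
  · intro h
    exact mul_inv_mem (fun y hy => hk.right _ (N_mem t) _ hy) h

theorem mem_normalizer_of_mul {e : Submodule F Mat} (he : IsAlg e) {t : UT m F} (h1 : ∀ y ∈ e, N t * y ∈ e)
    (h2 : ∀ y ∈ e, y * N t ∈ e) : t ∈ normalizer ((ofAlg e he : Subgroup (UT m F)) : Set (UT m F)) := by
  have key : ∀ n ∈ e, cj t n ∈ e := by
    intro n hn
    rw [cj_eq]
    exact add_mem hn (mul_inv_mem h2 (sub_mem (h1 _ hn) (h2 _ hn)))
  have hfin : ∀ g : UT m F, g ∈ ofAlg e he → t * g * t⁻¹ ∈ ofAlg e he := by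
    intro g hg
    rw [mem_ofAlg, N_conj']
    exact key _ hg
  -- the inverse: `cj t` maps `e` to `e` injectively
  have hinj : Function.Injective (cj t : Mat →ₗ[F] Mat) := by
    intro a b hab
    have := congrArg (cj t⁻¹) hab
    rwa [cj_inv_cj, cj_inv_cj] at this
  have hsurj : ∀ n ∈ e, ∃ n' ∈ e, cj t n' = n := by
    let f : e →ₗ[F] e := (cj t).restrict key
    have hf : Function.Injective f := by
      intro a b hab
      exact Subtype.ext (hinj (congrArg Subtype.val hab))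
    have hf' : Function.Surjective f := LinearMap.surjective_of_injective hf
    intro n hn
    obtain ⟨n', hn'⟩ := hf' ⟨n, hn⟩
    exact ⟨n'.1, n'.2, congrArg Subtype.val hn'⟩
  refine mem_normalizer_of hfin fun g hg => ?_
  obtain ⟨n', hn', e'⟩ := hsurj (N g) hg
  have h3 : N (t⁻¹ * g * t) = n' := by
    have h4 : t⁻¹ * g * t = t⁻¹ * g * t⁻¹⁻¹ := by rw [inv_inv]
    rw [h4, N_conj', ← e', cj_inv_cj]
  rw [mem_ofAlg, h3]
  exact hn'

theorem isInv_mk [CharP F 2] {e : Submodule F Mat} (he : IsAlg e) {x : Mat} (hx : StepTwo.Inv e x) :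
    IsInv (ofAlg e he) (mk x hx.lev) where
  mem := mem_normalizer_of_mul he (by rw [N_mk]; exact hx.left) (by rw [N_mk]; exact hx.right)
  sq := by
    rw [mem_ofAlg, N_mul_self, N_mk]
    exact hx.sq
  nmem := by
    rw [mem_ofAlg, N_mk]
    exact hx.notMem

/-! ### Helper lemmas -/

theorem vAlg_le [CharP F 2] {e k : Submodule F Mat} (hk : IsIdeal k) : vAlg k hk e ≤ e := fun _ h => h.1

theorem comm_OmZ {S : Type*} [Group S] (K : Subgroup S) (hK : K.Normal) (E : Subgroup S) :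
    ∀ v ∈ Datum.OmZ E K hK, ∀ e ∈ E, v * e * v⁻¹ * e⁻¹ ∈ K := fun _ hv e he => hv.2.1 e he

theorem comm_OmZ' {S : Type*} [Group S] (K : Subgroup S) (hK : K.Normal) (E : Subgroup S) :
    ∀ v ∈ Datum.OmZ E K hK, ∀ e ∈ E, e * v * e⁻¹ * v⁻¹ ∈ K := by
  intro v hv e he
  have h1 := inv_mem (hv.2.1 e he)
  have e1 : (v * e * v⁻¹ * e⁻¹)⁻¹ = e * v * e⁻¹ * v⁻¹ := by group
  rwa [e1] at h1

theorem card_OmZ [CharP F 2] {e k : Submodule F Mat} (hk : IsIdeal k) (he : IsAlg e) :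
    Nat.card (Datum.OmZ (ofAlg e he) (ofAlg k hk.isAlg) hk.normal) = Nat.card (vAlg k hk e) :=
  card_eq_card_of_iff ((vAlg_le hk).trans he.le) fun _ => mem_OmZ_iff hk he

theorem card_cen [CharP F 2] {e k : Submodule F Mat} (hk : IsIdeal k) (he : IsAlg e) {x : Mat} (hx : x ∈ lev m F 1) :
    Nat.card (Cent (ofAlg k hk.isAlg) (Datum.OmZ (ofAlg e he) (ofAlg k hk.isAlg) hk.normal) (mk x hx))
      = Nat.card (StepTwo.cen k (vAlg k hk e) x) := by
  rw [card_Cent hk ((vAlg_le hk).trans he.le) (fun _ => mem_OmZ_iff hk he)]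
  have : cent k (vAlg k hk e) (mk x hx) = StepTwo.cen k (vAlg k hk e) x := by
    ext n
    rw [mem_cent, StepTwo.mem_cen, cj_sub_mem_iff hk, N_mk]
  rw [this]

theorem card_eq_pow [Finite F] (v : Submodule F Mat) : Nat.card v = Nat.card F ^ Module.finrank F v :=
  Module.natCard_eq_pow_finrank

theorem one_lt_card [Finite F] : 1 < Nat.card F := Finite.one_lt_card

theorem inv_sup {S G : Type*} [Group S] [Group G] {ι : S →* G} {E : Subgroup S} {Y : Subgroup G}
    {B C : Subgroup S} (hB : EssDatum.Inv ι E Y B) (hC : EssDatum.Inv ι E Y C) :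
    EssDatum.Inv ι E Y (B ⊔ C) := by
  have key : ∀ g ∈ Y ⊔ (normalizer (E : Set S)).map ι, ∀ b ∈ B ⊔ C, g * ι b * g⁻¹ ∈ (B ⊔ C).map ι := by
    intro g hg b hb
    have h1 : ∀ X : Subgroup S, EssDatum.Inv ι E Y X → (X.map ι).map (MulAut.conj g).toMonoidHom = X.map ι := by
      intro X hX
      ext z
      constructor
      · rintro ⟨w, hw, rfl⟩
        exact conj_mem_of (hX hg) hw
      · intro hz
        exact ⟨g⁻¹ * z * g, conj_mem_of' (hX hg) hz, by simp [mul_assoc]⟩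
    have h2 : ((B ⊔ C).map ι).map (MulAut.conj g).toMonoidHom = (B ⊔ C).map ι := by
      rw [Subgroup.map_sup, Subgroup.map_sup, h1 B hB, h1 C hC]
    rw [← h2]
    exact ⟨ι b, mem_map_of_mem ι hb, rfl⟩
  refine Inv.of_forall fun g hg b hb => ?_
  obtain ⟨b', hb', e⟩ := key g hg b hb
  exact ⟨b', hb', e⟩

/-! ### Active ideals -/

section Active

variable {G : Type*} [Group G] {ι : UT m F →* G}

theorem inv_ofAlg {E : Subgroup (UT m F)} (D : Datum ι E) {k : Submodule F Mat} (hk : IsIdeal k)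
    (hkY : ofAlg k hk.isAlg ≤ D.CY) : EssDatum.Inv ι E D.Y (ofAlg k hk.isAlg) :=
  D.inv_of_normal hkY hk.normal

variable [Finite F] [CharP F 2]

theorem exists_alg {E : Subgroup (UT m F)} (D : Datum ι E) {k : Submodule F Mat} (hk : IsIdeal k)
    (hkY : ofAlg k hk.isAlg ≤ D.CY)
    (hn : ¬ Triv ι D.Y (Datum.OmZ E (ofAlg k hk.isAlg) hk.normal) (ofAlg k hk.isAlg)) :
    ∃ (e : Submodule F Mat) (he : IsAlg e), E = ofAlg e he := by
  refine ⟨cAlg k (Datum.OmZ E (ofAlg k hk.isAlg) hk.normal : Set (UT m F)), isAlg_cAlg hk _, ?_⟩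
  ext g
  rw [mem_ofAlg_cAlg hk]
  have hK := inv_ofAlg D hk hkY
  constructor
  · intro hg v hv
    have h1 := inv_mem (hv.2.1 g hg)
    have e1 : (v * g * v⁻¹ * g⁻¹)⁻¹ = g * v * g⁻¹ * v⁻¹ := by group
    rwa [e1] at h1
  · intro h
    exact D.mem_of_forall_comm isPGroup_UT hk.normal (hkY.trans D.CY_le) hK
      (Datum.OmZ_le _ _) (D.inv_OmZ hk.normal hK) (fun v hv e he => hv.2.1 e he) hn h

theorem mem_e_iff {e : Submodule F Mat} {he : IsAlg e} (D : Datum ι (ofAlg e he)) {k : Submodule F Mat}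
    (hk : IsIdeal k) (hkY : ofAlg k hk.isAlg ≤ D.CY)
    (hn : ¬ Triv ι D.Y (Datum.OmZ (ofAlg e he) (ofAlg k hk.isAlg) hk.normal) (ofAlg k hk.isAlg)) (x : Mat) : x ∈ e ↔ x ∈ lev m F 1 ∧ ∀ n ∈ vAlg k hk e, n * x - x * n ∈ k := by
  constructor
  · intro hx
    exact ⟨he.le hx, fun n hn => hn.2.2 x hx⟩
  · rintro ⟨hx, h⟩
    have hK := inv_ofAlg D hk hkY
    have h1 := D.mem_of_forall_comm isPGroup_UT hk.normal (hkY.trans D.CY_le) hK
      (Datum.OmZ_le _ _) (D.inv_OmZ hk.normal hK) (fun v hv e he => hv.2.1 e he) hn (s := mk x hx) ?_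
    · rwa [mem_ofAlg, N_mk] at h1
    · intro v hv
      rw [mem_OmZ_iff hk he] at hv
      rw [mem_ofAlg, hk.commutator_mem_iff, N_mk]
      have := neg_mem (h _ hv)
      rwa [neg_sub] at this

theorem mem_v_iff {e : Submodule F Mat} {he : IsAlg e} (D : Datum ι (ofAlg e he)) {k : Submodule F Mat}
    (hk : IsIdeal k) (hkY : ofAlg k hk.isAlg ≤ D.CY)
    (hn : ¬ Triv ι D.Y (Datum.OmZ (ofAlg e he) (ofAlg k hk.isAlg) hk.normal) (ofAlg k hk.isAlg)) (n : Mat) :
    n ∈ vAlg k hk e ↔ n ∈ lev m F 1 ∧ n * n ∈ k ∧ ∀ x ∈ e, n * x - x * n ∈ k := by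
  constructor
  · intro h
    exact ⟨he.le h.1, h.2.1, h.2.2⟩
  · rintro ⟨h1, h2, h3⟩
    exact ⟨mem_e_of_comm hk (mem_e_iff D hk hkY hn) h1 h3, h2, h3⟩

theorem act [Finite G] {e : Submodule F Mat} {he : IsAlg e} (D : Datum ι (ofAlg e he)) {k : Submodule F Mat}
    (hk : IsIdeal k) (hkY : ofAlg k hk.isAlg ≤ D.CY)
    (hn : ¬ Triv ι D.Y (Datum.OmZ (ofAlg e he) (ofAlg k hk.isAlg) hk.normal) (ofAlg k hk.isAlg)) :
    StepTwo.Act e he D.CY k (vAlg k hk e) where
  mem_e := mem_e_iff D hk hkY hn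
  mem_v := mem_v_iff D hk hkY hn
  wy x hx := by
    have hK := inv_ofAlg D hk hkY
    obtain ⟨w, hw, h1, h2⟩ := D.exists_moved isPGroup_UT (Datum.OmZ_le _ _) (D.inv_OmZ hk.normal hK)
      hkY (comm_OmZ _ _ _) hn (isInv_mk he hx)
    refine ⟨w, (mem_OmZ_iff hk he).1 hw, fun c hc => (h1 c hc).symm, h2⟩
  p3 x y hx hy := by
    have hK := inv_ofAlg D hk hkY
    have h := D.card_Cent_eq (Datum.OmZ_le _ _) (D.inv_OmZ hk.normal hK) hK (comm_OmZ' _ _ _)
      (isInv_mk he hx) (isInv_mk he hy)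
    rw [card_cen hk he hx.lev, card_cen hk he hy.lev, card_eq_pow, card_eq_pow] at h
    exact Nat.pow_right_injective one_lt_card h
  p4 r h1 h2 h3 x hx := by
    have hr : IsAlg r := ⟨h2, fun a ha b hb => h1 (h3 a ha b hb)⟩
    have hK := inv_ofAlg D hk hkY
    have h := D.bound _ _ (Datum.le_OmZ hk.normal (hkY.trans D.CY_le)) (Datum.OmZ_le _ _)
      (D.inv_OmZ hk.normal hK) hK (fun b hb => hb.2.2) (comm_OmZ' _ _ _) hn (mk x hx.lev) (isInv_mk he hx) (ofAlg r hr)
        (ofAlg_le_iff.2 h1) (fun d hd => ⟨mem_normalizer_of_mul he (fun y hy => h3 _ hd _ (h1 hy))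
          (fun y hy => h3 _ (h1 hy) _ hd), by rw [mem_ofAlg, N_mul_self]; exact h3 _ hd _ hd⟩)
    rw [card_cen hk he hx.lev, card_OmZ hk he, card_ofAlg, card_ofAlg, card_eq_pow, card_eq_pow, card_eq_pow,
      card_eq_pow, ← pow_add, ← pow_add] at h
    exact (Nat.pow_le_pow_iff_right one_lt_card).1 h
  a8 x hx l h1 h2 := by
    have hK := inv_ofAlg D hk hkY
    have hKn : (ofAlg k hk.isAlg).Normal := hk.normal
    have hV := D.inv_OmZ hk.normal hK
    have hgam : ∀ l, EssDatum.Inv ι (ofAlg e he) D.Y ((ofAlg e he).lowerCentralSeries l) := by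
      intro l
      induction l with
      | zero => exact D.inv_E
      | succ l ih => exact D.inv_comm ih D.inv_E
    have hW := inv_sup (hV.inf D.inj (hgam l)) hK
    apply hn
    refine D.triv_of_two_steps isPGroup_UT (Datum.OmZ_le _ _) (sup_le inf_le_left
      (Datum.le_OmZ hk.normal (hkY.trans D.CY_le))) le_sup_right hV hW hK (isInv_mk he hx) ?_ ?_
    · intro v hv
      obtain ⟨h, hh1, hh2, hh3⟩ := h2 v ((mem_OmZ_iff hk he).1 hv)
      rw [← mul_inv_mem_iff hk] at hh3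
      have h4 := mul_mem (mem_sup_right (S := Datum.OmZ (ofAlg e he) (ofAlg k hk.isAlg) hk.normal
        ⊓ (ofAlg e he).lowerCentralSeries l) (T := ofAlg k hk.isAlg) hh3)
        (mem_sup_left (T := ofAlg k hk.isAlg) (mem_inf.2 ⟨(mem_OmZ_iff hk he).2 hh2, hh1⟩))
      rwa [inv_mul_cancel_right] at h4
    · intro w hw
      obtain ⟨a, ha, b, hb, rfl⟩ := mem_sup_of_normal_right.1 hw
      have h3 : mk x hx.lev * a * (mk x hx.lev)⁻¹ * a⁻¹ ∈ ofAlg k hk.isAlg := by
        rw [mem_ofAlg, hk.commutator_mem_iff, N_mk]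
        exact h1 a ha.2 ((mem_OmZ_iff hk he).1 ha.1)
      have h4 : mk x hx.lev * b * (mk x hx.lev)⁻¹ * b⁻¹ ∈ ofAlg k hk.isAlg :=
        mul_mem (hKn.conj_mem b hb _) (inv_mem hb)
      have e1 : mk x hx.lev * (a * b) * (mk x hx.lev)⁻¹ * (a * b)⁻¹
          = (mk x hx.lev * a * (mk x hx.lev)⁻¹ * a⁻¹)
            * (a * (mk x hx.lev * b * (mk x hx.lev)⁻¹ * b⁻¹) * a⁻¹) := by group
      rw [e1]
      exact mul_mem h3 (hKn.conj_mem _ h4 a)

end Active

/-! ### Generalities on the datum -/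

section General

variable {S G : Type*} [Group S] [Group G] {ι : S →* G} {E : Subgroup S} (D : Datum ι E)

theorem le_CY_of_triv {B : Subgroup S} (hB : B ≤ E) (h : Triv ι D.Y B ⊥) : B ≤ D.CY := by
  intro b hb
  rw [D.mem_CY]
  refine ⟨hB hb, fun y hy => ?_⟩
  have h1 := h y hy b hb
  rw [Subgroup.map_bot, mem_bot, mul_inv_eq_one] at h1
  exact h1

/-- three subgroups -/
theorem triv_inf_centralizer {K : Subgroup S} (hK : K ≤ D.CY) (hn : ∀ e ∈ E, ∀ c ∈ K, e * c * e⁻¹ ∈ K) :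
    Triv ι D.Y E (E ⊓ centralizer (K : Set S)) := by
  intro y hy g hg
  obtain ⟨g', hg', e⟩ := D.inv_E.exists_conj (mem_sup_left hy) hg
  refine ⟨g' * g⁻¹, mem_inf.2 ⟨mul_mem hg' (inv_mem hg), ?_⟩, by rw [map_mul, map_inv, e]⟩
  rw [mem_centralizer_iff]
  intro c hc
  -- `g' c' g'⁻¹ = g c' g⁻¹` for `c' ∈ K`
  have key : ∀ c ∈ K, g' * c * g'⁻¹ = g * c * g⁻¹ := by
    intro c hc
    apply D.inj
    have h1 := (D.mem_CY.1 (hK hc)).2 y hy
    have h2 := (D.mem_CY.1 (hK (hn g hg c hc))).2 y hy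
    rw [← h2]
    simp only [map_mul, map_inv, e]
    nth_rewrite 1 [← h1]
    group
  have h3 := key (g⁻¹ * c * g) (by
    have := hn g⁻¹ (inv_mem hg) c hc
    rwa [inv_inv] at this)
  have h4 : g * (g⁻¹ * c * g) * g⁻¹ = c := by group
  rw [h4] at h3
  calc c * (g' * g⁻¹) = (g' * (g⁻¹ * c * g) * g'⁻¹) * (g' * g⁻¹) := by rw [h3]
    _ = g' * g⁻¹ * c := by group

theorem not_le_CY [Finite G] (hS : IsPGroup 2 S) {K : Subgroup S} (hn : K.Normal)
    (hc : centralizer (K : Set S) ≤ K) : ¬ K ≤ D.CY := by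
  intro hK
  have h1 := triv_inf_centralizer D hK fun e _ c hc => hn.conj_mem c hc e
  exact D.not_triv_E_of_le hS le_rfl (h1.mono_right (inf_le_right.trans (hc.trans hK)))

end General

/-! ### Patterns -/

theorem mem_of_root {P : Fin m → Fin m → Prop} (hP : ∀ i j, P i j → i < j) (h0 : ∀ i j k, P i j → ¬ P j k)
    {B : Subgroup (UT m F)} (hB : ∀ i j (h : P i j) c, root i j (hP i j h) c ∈ B) {g : UT m F}
    (hg : N g ∈ pat F P) : g ∈ B := by
  have hlev : pat F P ≤ lev m F 1 := pat_le_lev fun i j h => by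
    have := hP i j h
    rw [Fin.lt_def] at this
    omega
  have key : ∃ h : N g ∈ pat F P, mk (N g) (hlev h) ∈ B := by
    rw [matrix_eq_sum_single (N g)]
    have hadd : ∀ a b : Mat, (∃ h : a ∈ pat F P, mk a (hlev h) ∈ B) → (∃ h : b ∈ pat F P, mk b (hlev h) ∈ B) →
        ∃ h : a + b ∈ pat F P, mk (a + b) (hlev h) ∈ B := by
      rintro a b ⟨ha, ha'⟩ ⟨hb, hb'⟩
      refine ⟨add_mem ha hb, ?_⟩
      have : mk (a + b) (hlev (add_mem ha hb)) = mk a (hlev ha) * mk b (hlev hb) := by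
        apply N_injective
        rw [N_mul, N_mk, N_mk, N_mk, mul_eq_zero_of_pat (fun i j k h1 h2 => h0 i j k h1 h2) ha hb, add_zero]
      rw [this]
      exact mul_mem ha' hb'
    have hz : ∃ h : (0 : Mat) ∈ pat F P, mk (0 : Mat) (hlev h) ∈ B := by
      refine ⟨zero_mem _, ?_⟩
      have : mk (0 : Mat) (hlev (zero_mem _)) = 1 := by
        rw [← N_eq_zero_iff, N_mk]
      rw [this]
      exact one_mem _
    refine Finset.sum_induction _ (fun a => ∃ h : a ∈ pat F P, mk a (hlev h) ∈ B) hadd hz fun i _ => ?_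
    refine Finset.sum_induction _ (fun a => ∃ h : a ∈ pat F P, mk a (hlev h) ∈ B) hadd hz fun j _ => ?_
    by_cases h1 : P i j
    · exact ⟨single_mem_pat h1 _, hB i j h1 _⟩
    · have h2 : N g i j = 0 := Pat.apply_eq_zero hg h1
      rw [h2, single_zero]
      exact hz
  obtain ⟨h, h'⟩ := key
  rwa [mk_N] at h'

theorem isIdeal_of_isId {P : Fin m → Fin m → Prop} (hP : StepTwo.IsId P) : IsIdeal (pat F P) :=
  isIdeal_pat hP.lt hP.left hP.right

section Corner

variable {G : Type*} [Group G] {ι : UT m F →* G} [Finite G] [CharP F 2]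
variable {E : Subgroup (UT m F)} (D : Datum ι E)

omit [Finite G] [CharP F 2] in
theorem root_comm_mem {P : Fin m → Fin m → Prop} (hP : StepTwo.IsId P) {a b : Fin m}
    (hab : a < b) (h1 : ∀ a', a' < a → P a' b) (h2 : ∀ b', b < b' → P a b') {u : UT m F}
    (hu : N u ∈ pat F (fun i j => P i j ∨ (i = a ∧ j = b))) (g : UT m F) :
    u * g * u⁻¹ * g⁻¹ ∈ ofAlg (pat F P) (isIdeal_of_isId hP).isAlg := by
  rw [mem_ofAlg, (isIdeal_of_isId hP).commutator_mem_iff]
  have hg := N_mem g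
  rw [lev_eq_pat] at hg
  refine sub_mem ?_ ?_
  · refine mul_mem_pat ?_ hu hg
    rintro i j k (h | ⟨rfl, rfl⟩) h4
    · exact hP.right i j k h (by rw [Fin.lt_def]; omega)
    · exact h2 k (by rw [Fin.lt_def]; omega)
  · refine mul_mem_pat ?_ hg hu
    rintro i j k h4 (h | ⟨rfl, rfl⟩)
    · exact hP.left i j k (by rw [Fin.lt_def]; omega) h
    · exact h1 i (by rw [Fin.lt_def]; omega)

theorem corner_mem {P : Fin m → Fin m → Prop} (hP : StepTwo.IsId P)
    (hPY : ofAlg (pat F P) (isIdeal_of_isId hP).isAlg ≤ D.CY) {a b : Fin m}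
    (hab : a < b) (h1 : ∀ a', a' < a → P a' b) (h2 : ∀ b', b < b' → P a b') (c : F) :
    root a b hab c ∈ E := by
  have hI := isIdeal_of_isId (F := F) hP
  have hI' : IsIdeal (pat F (fun i j => P i j ∨ (i = a ∧ j = b))) := by
    refine isIdeal_pat ?_ ?_ ?_
    · rintro i j (h | ⟨rfl, rfl⟩)
      · exact hP.lt i j h
      · exact hab
    · rintro i j k hij (h | ⟨rfl, rfl⟩)
      · exact Or.inl (hP.left i j k hij h)
      · exact Or.inl (h1 i hij)
    · rintro i j k (h | ⟨rfl, rfl⟩) hjk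
      · exact Or.inl (hP.right i j k h hjk)
      · exact Or.inl (h2 k hjk)
  have hcomm : ∀ u ∈ ofAlg _ hI'.isAlg, ∀ g : UT m F, u * g * u⁻¹ * g⁻¹ ∈ ofAlg (pat F P) hI.isAlg :=
    fun u hu g => root_comm_mem hP hab h1 h2 hu g
  have key : ∀ u ∈ ofAlg _ hI'.isAlg, ∀ g ∈ E, u * g * u⁻¹ ∈ E := by
    intro u hu g hg
    have h3 := mul_mem (D.CY_le (hPY (hcomm u hu g))) hg
    rwa [inv_mul_cancel_right] at h3
  have hU : ofAlg _ hI'.isAlg ≤ normalizer (E : Set (UT m F)) := by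
    intro u hu
    refine mem_normalizer_of (key u hu) fun g hg => ?_
    have := key u⁻¹ (inv_mem hu) g hg
    rwa [inv_inv] at this
  have h3 := D.le_of_comm_mem isPGroup_UT hU hPY (inv_ofAlg D hI hPY) fun u hu g _ => hcomm u hu g
  apply h3
  rw [mem_ofAlg, N_root]
  exact single_mem_pat (Or.inr ⟨rfl, rfl⟩) c

theorem corner_active {P : Fin m → Fin m → Prop} (hP : StepTwo.IsId P)
    (hPY : ofAlg (pat F P) (isIdeal_of_isId hP).isAlg ≤ D.CY) {a b : Fin m}
    (hab : a < b) (h1 : ∀ a', a' < a → P a' b) (h2 : ∀ b', b < b' → P a b')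
    (hc : ∃ c : F, root a b hab c ∉ D.CY) :
    ¬ Triv ι D.Y (Datum.OmZ E (ofAlg (pat F P) (isIdeal_of_isId hP).isAlg) (isIdeal_of_isId hP).normal)
      (ofAlg (pat F P) (isIdeal_of_isId hP).isAlg) := by
  intro hT
  obtain ⟨c, hc⟩ := hc
  have hI := isIdeal_of_isId (F := F) hP
  have hK := inv_ofAlg D hI hPY
  have h3 := D.Triv_trans isPGroup_UT (D.inv_OmZ hI.normal hK) Inv.bot hT (D.triv_of_le_CY hPY _)
  apply hc
  refine le_CY_of_triv D (Datum.OmZ_le _ _) h3 ⟨corner_mem D hP hPY hab h1 h2 c, fun g _ => ?_, ?_⟩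
  · exact root_comm_mem hP hab h1 h2 (by rw [N_root]; exact single_mem_pat (Or.inr ⟨rfl, rfl⟩) c) g
  · rw [mem_ofAlg, N_mul_self, N_root, Matrix.single_mul_single_of_ne (h := hab.ne')]
    exact zero_mem _

/-- Row `i`, as a set of positions. -/
def rowP (i : Fin m) : Fin m → Fin m → Prop := fun a b => a = i ∧ a < b

/-- Column `j`, as a set of positions. -/
def colP (j : Fin m) : Fin m → Fin m → Prop := fun a b => b = j ∧ a < b

omit [Finite G] [CharP F 2] in
theorem isId_rowP {i : Fin m} (hi : (i : ℕ) = 0) : StepTwo.IsId (rowP i) where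
  lt _ _ h := h.2
  left a b c hab h := by
    rw [h.1, Fin.lt_def, hi] at hab
    omega
  right a b c h hbc := ⟨h.1, h.2.trans hbc⟩

omit [Finite G] [CharP F 2] in
theorem isId_colP {j : Fin m} (hj : (j : ℕ) + 1 = m) : StepTwo.IsId (colP j) where
  lt _ _ h := h.2
  left a b c hab h := ⟨h.1, hab.trans h.2⟩
  right a b c h hbc := by
    rw [h.1, Fin.lt_def] at hbc
    have := c.2
    omega

theorem exists_row {i : Fin m} (hi : (i : ℕ) = 0) :
    ∃ j, ∃ h : i < j, ∃ c : F, root i j h c ∉ D.CY := by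
  by_contra hcon
  push Not at hcon
  have hI := isIdeal_of_isId (F := F) (isId_rowP hi)
  refine not_le_CY D isPGroup_UT hI.normal ?_ (?_ : ofAlg (pat F (rowP i)) hI.isAlg ≤ D.CY)
  · intro g hg
    rw [mem_ofAlg]
    intro a b hab
    have h1 := (N_mem g) a b hab
    refine ⟨?_, by rw [Fin.lt_def]; omega⟩
    by_contra ha
    have hia : i < a := by
      rw [Fin.lt_def, hi]
      have : (a : ℕ) ≠ 0 := fun h => ha (Fin.ext (by rw [h, hi]))
      omega
    have h2 := mem_centralizer_iff.1 hg (root i a hia 1) (by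
      change root i a hia (1 : F) ∈ ofAlg (pat F (rowP i)) hI.isAlg
      rw [mem_ofAlg, N_root]
      exact single_mem_pat ⟨rfl, hia⟩ 1)
    exact hab (((commute_root_iff hia one_ne_zero).1 h2.symm).2 b)
  · intro g hg
    refine mem_of_root (P := rowP i) (fun _ _ h => h.2) ?_ ?_ hg
    · rintro a b c ⟨rfl, h1⟩ ⟨h2, -⟩
      exact h1.ne' h2
    · rintro a b ⟨rfl, h⟩ c
      exact hcon b h c

theorem exists_col {j : Fin m} (hj : (j : ℕ) + 1 = m) :
    ∃ i, ∃ h : i < j, ∃ c : F, root i j h c ∉ D.CY := by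
  by_contra hcon
  push Not at hcon
  have hI := isIdeal_of_isId (F := F) (isId_colP hj)
  refine not_le_CY D isPGroup_UT hI.normal ?_ (?_ : ofAlg (pat F (colP j)) hI.isAlg ≤ D.CY)
  · intro g hg
    rw [mem_ofAlg]
    intro a b hab
    have h1 := (N_mem g) a b hab
    refine ⟨?_, by rw [Fin.lt_def]; omega⟩
    by_contra hb
    have hbj : b < j := by
      rw [Fin.lt_def]
      have : (b : ℕ) ≠ j := fun h => hb (Fin.ext h)
      have := b.2
      omega
    have h2 := mem_centralizer_iff.1 hg (root b j hbj 1) (by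
      change root b j hbj (1 : F) ∈ ofAlg (pat F (colP j)) hI.isAlg
      rw [mem_ofAlg, N_root]
      exact single_mem_pat ⟨rfl, hbj⟩ 1)
    exact hab (((commute_root_iff hbj one_ne_zero).1 h2.symm).1 a)
  · intro g hg
    refine mem_of_root (P := colP j) (fun _ _ h => h.2) ?_ ?_ hg
    · rintro a b c ⟨rfl, h1⟩ ⟨h2, h3⟩
      rw [h2] at h3
      exact lt_irrefl _ h3
    · rintro a b ⟨rfl, h⟩ c
      exact hcon a h c

include D in
/-- `E` is given by an algebra. -/
theorem exists_alg_of_pos [Finite F] (hm : 0 < m) : ∃ (e : Submodule F Mat) (he : IsAlg e), E = ofAlg e he := by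
  classical
  obtain ⟨j, hj⟩ := exists_row D (i := ⟨0, hm⟩) rfl
  -- the last position of the first row which is not centralised
  have hfin : (Finset.univ.filter fun j : Fin m => ∃ h : (⟨0, hm⟩ : Fin m) < j, ∃ c : F,
      root ⟨0, hm⟩ j h c ∉ D.CY).Nonempty := ⟨j, by simpa using hj⟩
  obtain ⟨j, hj, hmax⟩ := Finset.exists_max_image _ id hfin
  rw [Finset.mem_filter] at hj
  obtain ⟨-, h0j, hc⟩ := hj
  set P : Fin m → Fin m → Prop := fun a b => a = ⟨0, hm⟩ ∧ a < b ∧ j < b with hP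
  have hId : StepTwo.IsId P := by
    refine ⟨fun _ _ h => h.2.1, fun a b c hab h => ?_, fun a b c h hbc => ⟨h.1, h.2.1.trans hbc, h.2.2.trans hbc⟩⟩
    rw [h.1, Fin.lt_def] at hab
    exact absurd hab (Nat.not_lt_zero _)
  have hI := isIdeal_of_isId (F := F) hId
  have hPY : ofAlg (pat F P) hI.isAlg ≤ D.CY := by
    intro g hg
    refine mem_of_root (P := P) (fun _ _ h => h.2.1) ?_ ?_ hg
    · rintro a b c ⟨rfl, h1, -⟩ ⟨h2, -⟩
      exact h1.ne' h2
    · rintro a b ⟨rfl, h, h'⟩ c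
      by_contra hcon
      have := hmax b (by
        rw [Finset.mem_filter]
        exact ⟨Finset.mem_univ _, h, c, hcon⟩)
      exact absurd h' (not_lt_of_ge this)
  refine exists_alg D hI hPY (corner_active D hId hPY h0j ?_ ?_ hc)
  · intro a ha
    rw [Fin.lt_def] at ha
    exact absurd ha (Nat.not_lt_zero _)
  · intro b hb
    exact ⟨rfl, h0j.trans hb, hb⟩

theorem two_of_alg [Finite F] {e : Submodule F Mat} {he : IsAlg e} (D : Datum ι (ofAlg e he))
    (hne : ofAlg e he ≠ ⊤) (hT : Triv ι D.Y (Datum.OmZ (ofAlg e he) ⊥ inferInstance) ⊥) :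
    StepTwo.Two e he D.CY where
  ne h := hne (by
    rw [eq_top_iff]
    intro g _
    exact h (N_mem g))
  CY_le := D.CY_le
  comm x y hx hy := by
    have h := D.comm _ _ (isInv_mk he hx) (isInv_mk he hy)
    set z := mk x hx.lev * mk y hy.lev * (mk x hx.lev)⁻¹ * (mk y hy.lev)⁻¹ with hz
    rw [mem_ofAlg] at h
    have h1 : mk x hx.lev * mk y hy.lev = z * (mk y hy.lev * mk x hx.lev) := by rw [hz]; group
    have h2 := congrArg N h1
    rw [N_mul (mk x hx.lev) (mk y hy.lev), N_mul z, N_mul (mk y hy.lev) (mk x hx.lev), N_mk, N_mk] at h2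
    have h3 : x * y - y * x = N z + N z * y + N z * x + N z * y * x := by
      have h4 : x * y = N z + (y + x + y * x) + N z * (y + x + y * x) - x - y := by
        rw [← h2]; abel
      rw [h4]
      noncomm_ring
    rw [h3]
    exact add_mem (add_mem (add_mem h (hy.right _ h)) (hx.right _ h)) (hx.right _ (hy.right _ h))
  omega w hw h1 h2 := by
    have hcen : mk w hw ∈ centralizer ((ofAlg e he : Subgroup (UT m F)) : Set (UT m F)) := by
      rw [mem_centralizer_iff]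
      intro g hg
      rw [UT.commute_iff, N_mk]
      exact (h2 _ hg).symm
    refine le_CY_of_triv D (Datum.OmZ_le _ _) hT ⟨D.centric hcen, fun g hg => ?_, ?_⟩
    · rw [mem_bot, ← mem_centralizer_iff.1 hcen g hg]
      group
    · rw [mem_bot, ← N_eq_zero_iff, N_mul_self, N_mk, h1]
  corner P hP hPY a b hab h1 h2 := by
    refine ⟨?_, fun hc => ?_⟩
    · have := corner_mem D hP (fun g hg => hPY g hg) hab h1 h2 1
      rwa [mem_ofAlg, N_root] at this
    · exact ⟨_, act D (isIdeal_of_isId hP) (fun g hg => hPY g hg)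
        (corner_active D hP (fun g hg => hPY g hg) hab h1 h2 hc)⟩
  row i hi := exists_row D hi
  col j hj := exists_col D hj

theorem two_of_datum [Finite F] (hm : 0 < m) (hne : E ≠ ⊤)
    (hT : Triv ι D.Y (Datum.OmZ E ⊥ inferInstance) ⊥) :
    ∃ (e : Submodule F Mat) (he : IsAlg e), E = ofAlg e he ∧ StepTwo.Two e he D.CY := by
  obtain ⟨e, he, h⟩ := exists_alg_of_pos D hm
  subst h
  exact ⟨e, he, rfl, two_of_alg D hne hT⟩

end Corner

end Cfsg.Agent.SylowL.EssTwo
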