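import Cfsg.Agent.SylowL.Series

/-!
Lower central series, nilpotency class and order of the centre of `UT m F`; comparison of
`UT m F` and `UT n K`.
-/

set_option autoImplicit false

namespace Cfsg.Agent.SylowL.Lower

open Matrix
open scoped commutatorElement
open Cfsg.Agent.SylowL.Lev Cfsg.Agent.SylowL.UT Cfsg.Agent.SylowL.Pat
open Cfsg.Agent.SylowL.Series

variable {m : ℕ} {F : Type*} [Field F]

local notation "Mat" => Matrix (Fin m) (Fin m) F

theorem mem_lowerCentralSeries_iff (k : ℕ) (g : UT m F) :
    g ∈ (⊤ : Subgroup (UT m F)).lowerCentralSeries k ↔ N g ∈ lev m F (k + 1) := by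
  constructor
  · have h1 : ∀ k : ℕ, (⊤ : Subgroup (UT m F)).lowerCentralSeries k
        ≤ ofAlg (lev m F (k + 1)) (isAlg_lev (by omega)) := by
      intro k
      induction k with
      | zero => intro g _; exact N_mem g
      | succ k ih =>
        rw [Subgroup.lowerCentralSeries_succ, Subgroup.commutator_le]
        intro g hg x _
        rw [mem_ofAlg, commutatorElement_def, (isIdeal_lev (by omega)).commutator_mem_iff]
        exact commutator_mem_lev (ih hg) (N_mem x)
    exact fun h => h1 k h
  · have h1 : ∀ k : ℕ, ∀ i j : Fin m, ∀ h : (i : ℕ) + (k + 1) ≤ j, ∀ c : F,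
        root i j (by rw [Fin.lt_def]; omega) c ∈ (⊤ : Subgroup (UT m F)).lowerCentralSeries k := by
      intro k
      induction k with
      | zero => intro i j h c; exact Subgroup.mem_top _
      | succ k ih =>
        intro i j h c
        have hj := j.2
        set j' : Fin m := ⟨j - 1, by omega⟩ with hj'
        have h2 : (i : ℕ) + (k + 1) ≤ j' := by rw [hj']; simp only; omega
        have h3 := ih i j' h2 c
        have h4 : j' < j := by rw [Fin.lt_def, hj']; simp only; omega
        have h5 : i < j' := by rw [Fin.lt_def]; omega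
        rw [← lev_one_comm_root h5 h4 c, Subgroup.lowerCentralSeries_succ]
        exact Subgroup.commutator_mem_commutator h3 (Subgroup.mem_top _)
    intro hg
    rw [lev_eq_pat] at hg
    refine mem_of_roots (D := fun i j : Fin m => (i : ℕ) + (k + 1) ≤ j) ?_ ?_ _ ?_ hg
    · intro i j h; rw [Fin.lt_def]; omega
    · intro i j l h h'; omega
    · intro i j h c
      exact h1 k i j h c

theorem commutator_eq (g : UT m F) : g ∈ commutator (UT m F) ↔ N g ∈ lev m F 2 := by
  rw [← Subgroup.top_lowerCentralSeries_one, mem_lowerCentralSeries_iff]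

theorem lowerCentralSeries_eq_bot_iff (hm : 1 ≤ m) (k : ℕ) :
    (⊤ : Subgroup (UT m F)).lowerCentralSeries k = ⊥ ↔ m ≤ k + 1 := by
  constructor
  · intro h
    by_contra h1
    rw [not_le] at h1
    set i : Fin m := ⟨0, by omega⟩ with hi
    set j : Fin m := ⟨k + 1, h1⟩ with hj
    have hij : i < j := by rw [Fin.lt_def, hi, hj]; simp only; omega
    have h2 : root i j hij (1 : F) ∈ (⊤ : Subgroup (UT m F)).lowerCentralSeries k := by
      rw [mem_lowerCentralSeries_iff, N_root]
      exact single_mem_lev (by rw [hi, hj]; simp only; omega) _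
    rw [h, Subgroup.mem_bot, ← N_eq_zero_iff, N_root] at h2
    have h3 := congrFun (congrFun h2 i) j
    rw [Matrix.single_apply_same] at h3
    exact one_ne_zero h3
  · intro h
    rw [eq_bot_iff]
    intro g hg
    rw [mem_lowerCentralSeries_iff] at hg
    rw [Subgroup.mem_bot, ← N_eq_zero_iff]
    exact eq_zero_of_mem h hg

theorem isNilpotent : Group.IsNilpotent (UT m F) := by
  rw [Subgroup.nilpotent_iff_lowerCentralSeries]
  refine ⟨m, ?_⟩
  rw [eq_bot_iff]
  intro g hg
  rw [mem_lowerCentralSeries_iff] at hg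
  rw [Subgroup.mem_bot, ← N_eq_zero_iff]
  exact eq_zero_of_mem (by omega) hg

theorem natCard_level_top (hm : 2 ≤ m) [Finite F] :
    Nat.card (lev m F (m - 1)) = Nat.card F := by
  rw [lev_eq_pat, card_pat]
  have h1 : Nat.card {p : Fin m × Fin m // (p.1 : ℕ) + (m - 1) ≤ p.2} = 1 := by
    rw [Nat.card_eq_one_iff_unique]
    constructor
    · constructor
      rintro ⟨⟨a, b⟩, h⟩ ⟨⟨c, d⟩, h'⟩
      simp only at h h'
      have := b.2
      have := d.2
      apply Subtype.ext
      simp only [Prod.mk.injEq]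
      constructor
      · apply Fin.ext; omega
      · apply Fin.ext; omega
    · exact ⟨⟨(⟨0, by omega⟩, ⟨m - 1, by omega⟩), by simp⟩⟩
  rw [h1, pow_one]

theorem card_center (hm : 2 ≤ m) [Finite F] :
    Nat.card (Subgroup.center (UT m F)) = Nat.card F := by
  have h1 : Subgroup.center (UT m F) = ofAlg (lev m F (m - 1)) (isAlg_lev (by omega)) := by
    ext g
    rw [mem_center_iff (by omega), mem_ofAlg]
  rw [h1, card_ofAlg, natCard_level_top hm]

/-- `UT m F` determines `m` and `|F|`. -/
theorem eq_of_mulEquiv {n : ℕ} {K : Type*} [Field K] [Finite F] [Finite K] (hm : 2 ≤ m)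
    (hn : 2 ≤ n) (e : UT m F ≃* UT n K) : m = n ∧ Nat.card F = Nat.card K := by
  have h1 : ∀ k, (⊤ : Subgroup (UT m F)).lowerCentralSeries k = ⊥ ↔
      (⊤ : Subgroup (UT n K)).lowerCentralSeries k = ⊥ := by
    intro k
    have h2 := Subgroup.map_lowerCentralSeries (⊤ : Subgroup (UT m F)) (e : UT m F →* UT n K) k
    have h3 : (⊤ : Subgroup (UT m F)).map (e : UT m F →* UT n K) = ⊤ :=
      Subgroup.map_top_of_surjective _ e.surjective
    rw [h3] at h2
    rw [← h2, Subgroup.map_eq_bot_iff_of_injective _ e.injective]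
  have h2 : ∀ k, m ≤ k + 1 ↔ n ≤ k + 1 := fun k => by
    rw [← lowerCentralSeries_eq_bot_iff (F := F) (by omega) k, h1 k,
      lowerCentralSeries_eq_bot_iff (by omega) k]
  have h3 : m = n := by
    have h4 := (h2 (m - 1)).1 (by omega)
    have h5 := (h2 (n - 1)).2 (by omega)
    omega
  refine ⟨h3, ?_⟩
  rw [← card_center hm, ← card_center (F := K) hn]
  exact Nat.card_congr (Subgroup.centerCongr e).toEquiv

/-- The number of pairs `i < j`. -/
theorem card_lt_pairs (m : ℕ) :
    Nat.card {p : Fin m × Fin m // (p.1 : ℕ) + 1 ≤ p.2} = m * (m - 1) / 2 := by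
  rw [← Finset.sum_range_id]
  have e : {p : Fin m × Fin m // (p.1 : ℕ) + 1 ≤ p.2} ≃ (Σ j : Fin m, Fin j) :=
    { toFun := fun p => ⟨p.1.2, ⟨p.1.1, by have := p.2; omega⟩⟩
      invFun := fun p => ⟨(⟨p.2, lt_trans p.2.2 p.1.2⟩, p.1), by
        have := p.2.2
        simp only
        omega⟩
      left_inv := fun p => by
        apply Subtype.ext
        rfl
      right_inv := fun p => rfl }
  rw [Nat.card_congr e, Nat.card_sigma]
  simp only [Nat.card_eq_fintype_card, Fintype.card_fin]
  exact Fin.sum_univ_eq_sum_range (fun i => i) m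

theorem card_UT [Finite F] : Nat.card (UT m F) = Nat.card F ^ (m * (m - 1) / 2) := by
  have h1 : Nat.card (UT m F) = Nat.card (ofAlg (lev m F 1) (isAlg_lev le_rfl)) := by
    rw [ofAlg_lev_one]
    exact (Nat.card_congr Subgroup.topEquiv.toEquiv).symm
  rw [h1, card_ofAlg, lev_eq_pat, card_pat, card_lt_pairs]

end Cfsg.Agent.SylowL.Lower
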