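import Cfsg.Agent.SylowL.UT

/-!
Pattern subspaces and pattern subgroups of `UT m F`, root elements, orders, centralisers.
-/

set_option autoImplicit false

namespace Cfsg.Agent.SylowL.Pat

open Matrix
open Cfsg.Agent.SylowL.Lev Cfsg.Agent.SylowL.UT

variable {m : ℕ} {F : Type*} [Field F]

local notation "Mat" => Matrix (Fin m) (Fin m) F

/-- Matrices supported on the set `D` of positions. -/
def pat (F : Type*) [Field F] (D : Fin m → Fin m → Prop) :
    Submodule F (Matrix (Fin m) (Fin m) F) where
  carrier := {a | ∀ i j : Fin m, a i j ≠ 0 → D i j}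
  add_mem' {a b} ha hb := by
    intro i j h
    by_cases h1 : a i j = 0
    · exact hb i j (by
        intro h2
        exact h (by rw [Matrix.add_apply, h1, h2, add_zero]))
    · exact ha i j h1
  zero_mem' := by
    intro i j h
    exact absurd rfl h
  smul_mem' c a ha := by
    intro i j h
    refine ha i j fun h1 => h ?_
    rw [Matrix.smul_apply, h1, smul_zero]

theorem mem_pat {D : Fin m → Fin m → Prop} {a : Mat} :
    a ∈ pat F D ↔ ∀ i j : Fin m, a i j ≠ 0 → D i j := Iff.rfl

theorem apply_eq_zero {D : Fin m → Fin m → Prop} {a : Mat} (h : a ∈ pat F D) {i j : Fin m}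
    (hij : ¬ D i j) : a i j = 0 := by
  by_contra h1
  exact hij (h i j h1)

theorem lev_eq_pat (k : ℕ) : lev m F k = pat F (fun i j : Fin m => (i : ℕ) + k ≤ j) := rfl

theorem pat_mono {D D' : Fin m → Fin m → Prop} (h : ∀ i j, D i j → D' i j) :
    pat F D ≤ pat F D' := fun _ ha i j h1 => h i j (ha i j h1)

theorem mul_mem_pat {D D' D'' : Fin m → Fin m → Prop}
    (h : ∀ i j k, D i j → D' j k → D'' i k) {a b : Mat} (ha : a ∈ pat F D) (hb : b ∈ pat F D') :
    a * b ∈ pat F D'' := by
  intro i j h1
  rw [Matrix.mul_apply] at h1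
  obtain ⟨t, -, ht⟩ := Finset.exists_ne_zero_of_sum_ne_zero h1
  exact h i t j (ha i t (left_ne_zero_of_mul ht)) (hb t j (right_ne_zero_of_mul ht))

theorem mul_eq_zero_of_pat {D D' : Fin m → Fin m → Prop}
    (h : ∀ i j k, D i j → D' j k → False) {a b : Mat} (ha : a ∈ pat F D) (hb : b ∈ pat F D') :
    a * b = 0 := by
  ext i j
  by_contra h1
  have h2 := mul_mem_pat (D'' := fun _ _ => False) h ha hb
  exact h2 i j h1

theorem pat_le_lev {D : Fin m → Fin m → Prop} {k : ℕ} (h : ∀ i j : Fin m, D i j → (i : ℕ) + k ≤ j) :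
    pat F D ≤ lev m F k := pat_mono h

theorem isAlg_pat {D : Fin m → Fin m → Prop} (h1 : ∀ i j : Fin m, D i j → i < j)
    (h2 : ∀ i j k, D i j → D j k → D i k) : IsAlg (pat F D) where
  le := pat_le_lev fun i j h => by have := h1 i j h; rw [Fin.lt_def] at this; omega
  mul _ ha _ hb := mul_mem_pat h2 ha hb

theorem isIdeal_pat {D : Fin m → Fin m → Prop} (h1 : ∀ i j : Fin m, D i j → i < j)
    (h2 : ∀ i j k : Fin m, i < j → D j k → D i k) (h3 : ∀ i j k : Fin m, D i j → j < k → D i k) :
    IsIdeal (pat F D) where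
  le := pat_le_lev fun i j h => by have := h1 i j h; rw [Fin.lt_def] at this; omega
  left a ha b hb := by
    rw [lev_eq_pat] at ha
    refine mul_mem_pat ?_ ha hb
    intro i j k h4 h5
    exact h2 i j k (by rw [Fin.lt_def]; omega) h5
  right a ha b hb := by
    rw [lev_eq_pat] at ha
    refine mul_mem_pat ?_ hb ha
    intro i j k h4 h5
    exact h3 i j k h4 (by rw [Fin.lt_def]; omega)

theorem single_mem_pat {D : Fin m → Fin m → Prop} {i j : Fin m} (h : D i j) (c : F) :
    Matrix.single i j c ∈ pat F D := by
  intro r s hrs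
  rw [Matrix.single_apply] at hrs
  by_cases h1 : i = r ∧ j = s
  · rw [← h1.1, ← h1.2]; exact h
  · rw [if_neg h1] at hrs
    exact absurd rfl hrs

/-- Coordinates on a pattern subspace. -/
noncomputable def patEquiv (D : Fin m → Fin m → Prop) :
    pat F D ≃ ({p : Fin m × Fin m // D p.1 p.2} → F) where
  toFun a p := (a : Mat) p.1.1 p.1.2
  invFun f := ⟨fun i j => by
      classical
      exact if h : D i j then f ⟨(i, j), h⟩ else 0, by
    intro i j h
    by_contra h1
    exact h (dif_neg h1)⟩
  left_inv a := by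
    apply Subtype.ext
    funext i j
    by_cases h : D i j
    · simp only [h, dite_true]
    · simp only [h, dite_false]
      exact (apply_eq_zero a.2 h).symm
  right_inv f := by
    funext p
    simp only [p.2, dite_true]

theorem card_pat [Finite F] (D : Fin m → Fin m → Prop) :
    Nat.card (pat F D) = Nat.card F ^ Nat.card {p : Fin m × Fin m // D p.1 p.2} := by
  rw [Nat.card_congr (patEquiv D), Nat.card_fun]

/-- `1 + e` is in bijection with `e`. -/
def ofAlgEquiv {e : Submodule F Mat} (he : IsAlg e) : ofAlg e he ≃ e where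
  toFun g := ⟨N g.1, g.2⟩
  invFun a := ⟨mk a.1 (he.le a.2), by
    rw [mem_ofAlg, N_mk]; exact a.2⟩
  left_inv g := by
    apply Subtype.ext
    exact mk_N g.1
  right_inv a := by
    apply Subtype.ext
    exact N_mk a.1 (he.le a.2)

theorem card_ofAlg {e : Submodule F Mat} (he : IsAlg e) : Nat.card (ofAlg e he) = Nat.card e :=
  Nat.card_congr (ofAlgEquiv he)

theorem isAlg_lev {k : ℕ} (hk : 1 ≤ k) : IsAlg (lev m F k) := (isIdeal_lev hk).isAlg

theorem ofAlg_lev_one : ofAlg (lev m F 1) (isAlg_lev le_rfl) = ⊤ := by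
  rw [eq_top_iff]
  intro g _
  exact N_mem g

/-- Root elements. -/
def root (i j : Fin m) (h : i < j) (c : F) : UT m F :=
  mk (Matrix.single i j c) (single_mem_lev (by rw [Fin.lt_def] at h; omega) c)

@[simp] theorem N_root (i j : Fin m) (h : i < j) (c : F) :
    N (root i j h c) = Matrix.single i j c := N_mk _ _

theorem root_mul_root (i j : Fin m) (h : i < j) (c d : F) :
    root i j h c * root i j h d = root i j h (c + d) := by
  apply N_injective
  rw [N_mul, N_root, N_root, N_root, Matrix.single_mul_single_of_ne (h := h.ne'), add_zero,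
    Matrix.single_add]

theorem root_zero (i j : Fin m) (h : i < j) : root i j h (0 : F) = 1 := by
  rw [← N_eq_zero_iff, N_root, Matrix.single_zero]

/-- A root element `E i j` commutes with `g` iff column `i` and row `j` of `N g` vanish. -/
theorem commute_root_iff {i j : Fin m} (h : i < j) {c : F} (hc : c ≠ 0) {g : UT m F} :
    g * root i j h c = root i j h c * g ↔ (∀ a, N g a i = 0) ∧ (∀ b, N g j b = 0) := by
  rw [commute_iff, N_root]
  constructor
  · intro h1
    have h0 : ∀ a, N g a a = 0 := fun a => Lev.apply_eq_zero (N_mem g) (by omega)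
    constructor
    · intro a
      have h2 := congrFun (congrFun h1 a) j
      rw [Matrix.mul_single_apply_same] at h2
      by_cases ha : a = i
      · rw [ha]; exact h0 i
      · rw [Matrix.single_mul_apply_of_ne (h := ha)] at h2
        exact (mul_eq_zero.1 h2).resolve_right hc
    · intro b
      have h2 := congrFun (congrFun h1 i) b
      rw [Matrix.single_mul_apply_same] at h2
      by_cases hb : b = j
      · rw [hb]; exact h0 j
      · rw [Matrix.mul_single_apply_of_ne (hbj := hb)] at h2
        exact (mul_eq_zero.1 h2.symm).resolve_left hc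
  · rintro ⟨h1, h2⟩
    ext a b
    have h3 : (N g * Matrix.single i j c) a b = 0 := by
      by_cases hb : b = j
      · rw [hb, Matrix.mul_single_apply_same, h1, zero_mul]
      · rw [Matrix.mul_single_apply_of_ne (hbj := hb)]
    have h4 : (Matrix.single i j c * N g) a b = 0 := by
      by_cases ha : a = i
      · rw [ha, Matrix.single_mul_apply_same, h2, mul_zero]
      · rw [Matrix.single_mul_apply_of_ne (h := ha)]
    rw [h3, h4]

end Cfsg.Agent.SylowL.Pat
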