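import Cfsg.Agent.SylowL.EssDatum
import Cfsg.Agent.SylowL.Pat
import Cfsg.Agent.SylowL.Lower

/-!
# The local datum on `UT m F`: passage to `F`-linear algebra

Rank one elements `tv w l = 1 + w ⊗ l`, `E = C_S(V/K) = 1 + e`, `V/K = Ω₁Z(E/K)`, `V = 1 + v`.
-/

set_option autoImplicit false

namespace Cfsg.Agent.SylowL.EssUT

open Matrix Subgroup
open Cfsg.Agent.SylowL.Lev Cfsg.Agent.SylowL.UT Cfsg.Agent.SylowL.Pat Cfsg.Agent.SylowL.EssDatum

variable {m : ℕ} {F : Type*} [Field F]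

local notation "Mat" => Matrix (Fin m) (Fin m) F

theorem mat_add_self [CharP F 2] (a : Mat) : a + a = 0 := by
  ext i j
  exact CharTwo.add_self_eq_zero _

/-! ### Rank one elements -/

/-- `w ⊗ l` is strictly upper triangular. -/
def SU (w l : Fin m → F) : Prop := ∀ a b, w a ≠ 0 → l b ≠ 0 → a < b

theorem SU.mem_lev {w l : Fin m → F} (h : SU w l) : vecMulVec w l ∈ lev m F 1 := by
  intro a b hab
  rw [vecMulVec_apply] at hab
  have h1 := h a b (left_ne_zero_of_mul hab) (right_ne_zero_of_mul hab)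
  rw [Fin.lt_def] at h1
  omega

theorem SU.dot {w l : Fin m → F} (h : SU w l) : l ⬝ᵥ w = 0 := by
  rw [dotProduct]
  refine Finset.sum_eq_zero fun a _ => ?_
  by_contra h1
  exact lt_irrefl a (h a a (right_ne_zero_of_mul h1) (left_ne_zero_of_mul h1))

theorem SU.smul_left {w l : Fin m → F} (h : SU w l) (c : F) : SU (c • w) l := by
  intro a b h1 h2
  exact h a b (by
    intro h3
    apply h1
    rw [Pi.smul_apply, h3, smul_zero]) h2

/-- The element `1 + w ⊗ l`. -/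
def tv (w l : Fin m → F) (h : SU w l) : UT m F := mk (vecMulVec w l) h.mem_lev

@[simp] theorem N_tv (w l : Fin m → F) (h : SU w l) : N (tv w l h) = vecMulVec w l := N_mk _ _

theorem vmv_mul_vmv (w l w' l' : Fin m → F) :
    vecMulVec w l * vecMulVec w' l' = (l ⬝ᵥ w') • vecMulVec w l' := by
  rw [vecMulVec_mul_vecMulVec, ← vecMulVec_smul]

theorem N_tv_inv (w l : Fin m → F) (h : SU w l) : N (tv w l h)⁻¹ = - vecMulVec w l := by
  have h1 : N ((tv w l h) * (tv w l h)⁻¹) = 0 := by rw [mul_inv_cancel, N_one]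
  have hm : -vecMulVec w l ∈ lev m F 1 := neg_mem h.mem_lev
  have h2 : (tv w l h)⁻¹ = mk (- vecMulVec w l) hm := by
    rw [inv_eq_iff_mul_eq_one, ← N_eq_zero_iff, N_mul, N_tv, N_mk, Matrix.mul_neg, vmv_mul_vmv, h.dot, zero_smul]
    simp
  rw [h2, N_mk]

theorem tv_mul_self [CharP F 2] (w l : Fin m → F) (h : SU w l) : tv w l h * tv w l h = 1 := by
  rw [← N_eq_zero_iff, N_mul, N_tv, vmv_mul_vmv, h.dot, zero_smul, add_zero, mat_add_self]

/-- Conjugation by a rank one element. -/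
theorem N_conj_tv (w l : Fin m → F) (h : SU w l) (g : UT m F) :
    N (tv w l h * g * (tv w l h)⁻¹) = N g + vecMulVec w (l ᵥ* N g) - vecMulVec (N g *ᵥ w) l
      - ((l ᵥ* N g) ⬝ᵥ w) • vecMulVec w l := by
  rw [N_mul, N_mul, N_tv, N_tv_inv]
  have e1 : vecMulVec w l * vecMulVec w l = 0 := by rw [vmv_mul_vmv, h.dot, zero_smul]
  have e2 : vecMulVec w l * N g = vecMulVec w (l ᵥ* N g) := by rw [vecMulVec_mul]
  have e3 : N g * vecMulVec w l = vecMulVec (N g *ᵥ w) l := by rw [mul_vecMulVec]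
  have e4 : vecMulVec w (l ᵥ* N g) * vecMulVec w l = ((l ᵥ* N g) ⬝ᵥ w) • vecMulVec w l := vmv_mul_vmv _ _ _ _
  rw [Matrix.mul_neg, add_mul, add_mul, e1, e2, e3, e4]
  abel

/-- `single i j c` as a rank one matrix. -/
theorem single_eq_vmv (i j : Fin m) (c : F) : Matrix.single i j c = vecMulVec (Pi.single i c) (Pi.single j 1) := by
  ext a b
  rw [vecMulVec_apply, Matrix.single_apply, Pi.single_apply, Pi.single_apply]
  by_cases h1 : i = a <;> by_cases h2 : j = b <;> simp [h1, h2, eq_comm]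

theorem su_single {i j : Fin m} (h : i < j) (c : F) : SU (Pi.single i c : Fin m → F) (Pi.single j 1) := by
  intro a b ha hb
  have h1 : a = i := by
    by_contra h1
    exact ha (Pi.single_eq_of_ne h1 _)
  have h2 : b = j := by
    by_contra h2
    exact hb (Pi.single_eq_of_ne h2 _)
  rw [h1, h2]; exact h

theorem root_eq_tv {i j : Fin m} (h : i < j) (c : F) : root i j h c = tv _ _ (su_single h c) := by
  apply N_injective
  rw [N_root, N_tv, single_eq_vmv]

/-! ### Conjugation and ideals -/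

/-- `n ↦ t n t⁻¹`, as a linear map. -/
def cj (t : UT m F) : Mat →ₗ[F] Mat where
  toFun n := ((t : Matˣ) : Mat) * n * (((t : Matˣ)⁻¹ : Matˣ) : Mat)
  map_add' a b := by rw [mul_add, add_mul]
  map_smul' c a := by rw [RingHom.id_apply, Matrix.mul_smul, Matrix.smul_mul]

theorem cj_apply (t : UT m F) (n : Mat) :
    cj t n = ((t : Matˣ) : Mat) * n * (((t : Matˣ)⁻¹ : Matˣ) : Mat) := rfl

theorem N_conj' (t g : UT m F) : N (t * g * t⁻¹) = cj t (N g) := N_conj t g

theorem cj_mul (t : UT m F) (a b : Mat) : cj t (a * b) = cj t a * cj t b := by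
  rw [cj_apply, cj_apply, cj_apply]
  have h : (((t : Matˣ)⁻¹ : Matˣ) : Mat) * ((t : Matˣ) : Mat) = 1 := Units.inv_mul _
  calc ((t : Matˣ) : Mat) * (a * b) * (((t : Matˣ)⁻¹ : Matˣ) : Mat)
      = ((t : Matˣ) : Mat) * a * 1 * b * (((t : Matˣ)⁻¹ : Matˣ) : Mat) := by noncomm_ring
    _ = _ := by rw [← h]; noncomm_ring

theorem cj_inv_cj (t : UT m F) (n : Mat) : cj t⁻¹ (cj t n) = n := by
  rw [cj_apply, cj_apply]
  have h : (((t : Matˣ)⁻¹ : Matˣ) : Mat) * ((t : Matˣ) : Mat) = 1 := Units.inv_mul _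
  have e : (((t⁻¹ : UT m F) : Matˣ)) = (t : Matˣ)⁻¹ := rfl
  rw [e, inv_inv]
  calc (((t : Matˣ)⁻¹ : Matˣ) : Mat) * (((t : Matˣ) : Mat) * n * (((t : Matˣ)⁻¹ : Matˣ) : Mat))
        * ((t : Matˣ) : Mat)
      = ((((t : Matˣ)⁻¹ : Matˣ) : Mat) * ((t : Matˣ) : Mat)) * n
        * ((((t : Matˣ)⁻¹ : Matˣ) : Mat) * ((t : Matˣ) : Mat)) := by noncomm_ring
    _ = n := by rw [h]; noncomm_ring

theorem cj_cj_inv (t : UT m F) (n : Mat) : cj t (cj t⁻¹ n) = n := by
  have := cj_inv_cj t⁻¹ n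
  rwa [inv_inv] at this

theorem cj_mem_lev (t : UT m F) {n : Mat} (h : n ∈ lev m F 1) : cj t n ∈ lev m F 1 :=
  (isIdeal_lev le_rfl).conj_mem h

theorem cj_mem {k : Submodule F Mat} (hk : IsIdeal k) (t : UT m F) {n : Mat} (h : n ∈ k) : cj t n ∈ k :=
  hk.conj_mem h

/-- `a b⁻¹ ∈ 1 + k` iff `N a - N b ∈ k`. -/
theorem mul_inv_mem_iff {k : Submodule F Mat} (hk : IsIdeal k) {a b : UT m F} :
    N (a * b⁻¹) ∈ k ↔ N a - N b ∈ k := by
  set c := a * b⁻¹ with hc
  have h1 : a = c * b := by rw [hc]; group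
  have h2 : N a - N b = N c + N c * N b := by
    rw [h1, N_mul]; abel
  have h3 : N c = (N a - N b) + (N a - N b) * N b⁻¹ := by
    rw [h2]
    have h4 : N b + N b⁻¹ + N b * N b⁻¹ = 0 := by rw [← N_mul, mul_inv_cancel, N_one]
    have h5 : N c + N c * N b + (N c + N c * N b) * N b⁻¹
        = N c + N c * (N b + N b⁻¹ + N b * N b⁻¹) := by noncomm_ring
    rw [h5, h4, mul_zero, add_zero]
  constructor
  · intro h
    rw [h2]
    exact add_mem h (hk.right _ (N_mem b) _ h)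
  · intro h
    rw [h3]
    exact add_mem h (hk.right _ (N_mem _) _ h)

theorem comm_mem_iff {k : Submodule F Mat} (hk : IsIdeal k) {t b : UT m F} :
    N (t * b * t⁻¹ * b⁻¹) ∈ k ↔ cj t (N b) - N b ∈ k := by
  rw [mul_inv_mem_iff hk, N_conj']

/-! ### The subalgebra `C(V/K)` -/

/-- `{x : [x, N v] ∈ k for all v ∈ V}` -/
def cAlg (k : Submodule F Mat) (V : Set (UT m F)) : Submodule F Mat where
  carrier := {x | x ∈ lev m F 1 ∧ ∀ v ∈ V, N v * x - x * N v ∈ k}
  add_mem' := by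
    rintro a b ⟨ha, ha'⟩ ⟨hb, hb'⟩
    refine ⟨add_mem ha hb, fun v hv => ?_⟩
    have e : N v * (a + b) - (a + b) * N v = (N v * a - a * N v) + (N v * b - b * N v) := by noncomm_ring
    rw [e]
    exact add_mem (ha' v hv) (hb' v hv)
  zero_mem' := ⟨zero_mem _, fun v _ => by simp⟩
  smul_mem' := by
    rintro c a ⟨ha, ha'⟩
    refine ⟨Submodule.smul_mem _ _ ha, fun v hv => ?_⟩
    have e : N v * (c • a) - (c • a) * N v = c • (N v * a - a * N v) := by
      rw [Matrix.mul_smul, Matrix.smul_mul, smul_sub]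
    rw [e]
    exact Submodule.smul_mem _ _ (ha' v hv)

theorem isAlg_cAlg {k : Submodule F Mat} (hk : IsIdeal k) (V : Set (UT m F)) : IsAlg (cAlg k V) where
  le _ h := h.1
  mul := by
    rintro a ⟨ha, ha'⟩ b ⟨hb, hb'⟩
    refine ⟨lev_anti (by norm_num) (mul_mem_lev ha hb), fun v hv => ?_⟩
    have e : N v * (a * b) - a * b * N v = (N v * a - a * N v) * b + a * (N v * b - b * N v) := by
      noncomm_ring
    rw [e]
    exact add_mem (hk.right _ hb _ (ha' v hv)) (hk.left _ ha _ (hb' v hv))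

theorem mem_ofAlg_cAlg {k : Submodule F Mat} (hk : IsIdeal k) {V : Set (UT m F)} {g : UT m F} :
    g ∈ ofAlg (cAlg k V) (isAlg_cAlg hk V) ↔ ∀ v ∈ V, g * v * g⁻¹ * v⁻¹ ∈ ofAlg k hk.isAlg := by
  rw [mem_ofAlg]
  constructor
  · rintro ⟨-, h⟩ v hv
    rw [mem_ofAlg, hk.commutator_mem_iff]
    have := neg_mem (h v hv)
    rwa [neg_sub] at this
  · intro h
    refine ⟨N_mem g, fun v hv => ?_⟩
    have h1 := h v hv
    rw [mem_ofAlg, hk.commutator_mem_iff] at h1
    have := neg_mem h1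
    rwa [neg_sub] at this

/-- `{n ∈ lev 1 : n² ∈ k, [n, e] ⊆ k}` -/
def vAlg [CharP F 2] (k : Submodule F Mat) (_hk : IsIdeal k) (e : Submodule F Mat) : Submodule F Mat where
  carrier := {n | n ∈ e ∧ n * n ∈ k ∧ ∀ x ∈ e, n * x - x * n ∈ k}
  add_mem' := by
    rintro a b ⟨ha, ha2, ha'⟩ ⟨hb, hb2, hb'⟩
    refine ⟨add_mem ha hb, ?_, fun x hx => ?_⟩
    · have e1 : (a + b) * (a + b) = a * a + b * b + (b * a - a * b) + (a * b + a * b) := by noncomm_ring
      rw [e1, mat_add_self, add_zero]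
      exact add_mem (add_mem ha2 hb2) (hb' a ha)
    · have e1 : (a + b) * x - x * (a + b) = (a * x - x * a) + (b * x - x * b) := by noncomm_ring
      rw [e1]
      exact add_mem (ha' x hx) (hb' x hx)
  zero_mem' := ⟨zero_mem _, by rw [mul_zero]; exact zero_mem _, fun v _ => by simp⟩
  smul_mem' := by
    rintro c a ⟨ha, ha2, ha'⟩
    refine ⟨Submodule.smul_mem _ _ ha, ?_, fun x hx => ?_⟩
    · rw [Matrix.smul_mul, Matrix.mul_smul]
      exact Submodule.smul_mem _ _ (Submodule.smul_mem _ _ ha2)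
    · have e : (c • a) * x - x * (c • a) = c • (a * x - x * a) := by
        rw [Matrix.mul_smul, Matrix.smul_mul, smul_sub]
      rw [e]
      exact Submodule.smul_mem _ _ (ha' x hx)

theorem mem_vAlg [CharP F 2] {k : Submodule F Mat} {hk : IsIdeal k} {e : Submodule F Mat} {n : Mat} :
    n ∈ vAlg k hk e ↔ n ∈ e ∧ n * n ∈ k ∧ ∀ x ∈ e, n * x - x * n ∈ k := Iff.rfl

theorem N_mul_self [CharP F 2] (g : UT m F) : N (g * g) = N g * N g := by
  rw [N_mul, mat_add_self, zero_add]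

theorem mem_OmZ_iff [CharP F 2] {k e : Submodule F Mat} (hk : IsIdeal k) (he : IsAlg e) {g : UT m F} :
    g ∈ Datum.OmZ (ofAlg e he) (ofAlg k hk.isAlg) hk.normal ↔ N g ∈ vAlg k hk e := by
  rw [Datum.mem_OmZ, mem_vAlg, mem_ofAlg, mem_ofAlg, N_mul_self]
  constructor
  · rintro ⟨h1, h2, h3⟩
    refine ⟨h1, h3, fun x hx => ?_⟩
    have h4 := h2 (mk x (he.le hx)) (by rw [mem_ofAlg, N_mk]; exact hx)
    rwa [mem_ofAlg, hk.commutator_mem_iff, N_mk] at h4
  · rintro ⟨h1, h2, h3⟩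
    refine ⟨h1, fun x hx => ?_, h2⟩
    rw [mem_ofAlg, hk.commutator_mem_iff]
    exact h3 _ hx

/-- `vAlg` does not depend on membership in `e`: elements of `lev 1` with the commutation property are in
`e`, when `e = C(V/K)`. -/
theorem mem_e_of_comm [CharP F 2] {k e : Submodule F Mat} (hk : IsIdeal k)
    (h : ∀ x, x ∈ e ↔ x ∈ lev m F 1 ∧ ∀ n ∈ vAlg k hk e, n * x - x * n ∈ k) {n : Mat} (hn : n ∈ lev m F 1)
    (hc : ∀ x ∈ e, n * x - x * n ∈ k) : n ∈ e := by
  rw [h]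
  refine ⟨hn, fun x hx => ?_⟩
  have := neg_mem (hc x hx.1)
  rwa [neg_sub] at this

/-! ### Cardinalities -/

section Card

theorem isPGroup_UT [CharP F 2] : IsPGroup 2 (UT m F) := by
  intro g
  obtain ⟨k, hk⟩ : ∃ k, m ≤ 2 ^ k := ⟨m, (Nat.lt_two_pow_self).le⟩
  refine ⟨k, ?_⟩
  have h : ∀ j : ℕ, N (g ^ 2 ^ j) = N g ^ 2 ^ j := by
    intro j
    induction j with
    | zero => simp
    | succ j ih =>
      rw [pow_succ, pow_mul, sq, N_mul_self, ih, ← pow_add, ← two_mul, mul_comm]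
  rw [← N_eq_zero_iff, h]
  exact Lev.eq_zero_of_mem hk (pow_mem_lev (N_mem g) _)

theorem card_eq_card_of_iff {B : Subgroup (UT m F)} {v : Submodule F Mat} (hv : v ≤ lev m F 1)
    (h : ∀ g, g ∈ B ↔ N g ∈ v) : Nat.card B = Nat.card v := by
  refine Nat.card_congr ⟨fun g => ⟨N g.1, (h g.1).1 g.2⟩,
    fun a => ⟨mk a.1 (hv a.2), (h _).2 (by rw [N_mk]; exact a.2)⟩, ?_, ?_⟩
  · intro g; exact Subtype.ext (mk_N g.1)
  · intro a; exact Subtype.ext (N_mk a.1 (hv a.2))

/-- `{n ∈ v : t n t⁻¹ - n ∈ k}` -/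
def cent (k v : Submodule F Mat) (t : UT m F) : Submodule F Mat := v ⊓ k.comap (cj t - LinearMap.id)

theorem mem_cent {k v : Submodule F Mat} {t : UT m F} {n : Mat} :
    n ∈ cent k v t ↔ n ∈ v ∧ cj t n - n ∈ k := Iff.rfl

theorem card_Cent {k v : Submodule F Mat} (hk : IsIdeal k) {V : Subgroup (UT m F)} (hv : v ≤ lev m F 1)
    (h : ∀ g, g ∈ V ↔ N g ∈ v) (t : UT m F) :
    Nat.card (Cent (ofAlg k hk.isAlg) V t) = Nat.card (cent k v t) := by
  refine Nat.card_congr ⟨fun g => ⟨N g.1, (h g.1).1 g.2.1, (comm_mem_iff hk).1 g.2.2⟩,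
    fun a => ⟨mk a.1 (hv a.2.1), (h _).2 (by rw [N_mk]; exact a.2.1), ?_⟩, ?_, ?_⟩
  · rw [mem_ofAlg, comm_mem_iff hk, N_mk]
    exact a.2.2
  · intro g; exact Subtype.ext (mk_N g.1)
  · intro a; exact Subtype.ext (N_mk a.1 (hv a.2.1))

end Card

/-! ### Root elements and the extremal missing positions -/

/-- `(i, j)` is an extremal missing position of `e`. -/
structure Min (e : Submodule F Mat) (i j : Fin m) : Prop where
  lt : i < j
  nmem : Matrix.single i j (1 : F) ∉ e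
  mem : ∀ a b, a ≤ i → j ≤ b → (a ≠ i ∨ b ≠ j) → Matrix.single a b (1 : F) ∈ e

theorem single_smul_mem {e : Submodule F Mat} {i j : Fin m} (h : Matrix.single i j (1 : F) ∈ e) (c : F) :
    Matrix.single i j c ∈ e := by
  have := e.smul_mem c h
  rwa [Matrix.smul_single, smul_eq_mul, mul_one] at this

theorem single_not_mem {e : Submodule F Mat} {i j : Fin m} (h : Matrix.single i j (1 : F) ∉ e) {c : F}
    (hc : c ≠ 0) : Matrix.single i j c ∉ e := by
  intro h1
  apply h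
  have := e.smul_mem c⁻¹ h1
  rwa [Matrix.smul_single, smul_eq_mul, inv_mul_cancel₀ hc] at this

/-- Existence of extremal missing positions. -/
theorem exists_min {e : Submodule F Mat} {a b : Fin m} (hab : a < b)
    (h : Matrix.single a b (1 : F) ∉ e) : ∃ i j, i ≤ a ∧ b ≤ j ∧ Min e i j := by
  have key : ∀ k : ℕ, ∀ a b : Fin m, a < b → m + a ≤ (b : ℕ) + k → Matrix.single a b (1 : F) ∉ e →
      ∃ i j, i ≤ a ∧ b ≤ j ∧ Min e i j := by
    intro k
    induction k with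
    | zero =>
      intro a b hab hk _
      have := b.2
      omega
    | succ k ih =>
      intro a b hab hk h
      by_cases hM : ∀ a' b', a' ≤ a → b ≤ b' → (a' ≠ a ∨ b' ≠ b) → Matrix.single a' b' (1 : F) ∈ e
      · exact ⟨a, b, le_rfl, le_rfl, hab, h, hM⟩
      · push Not at hM
        obtain ⟨a', b', h1, h2, h3, h4⟩ := hM
        have h5 : m + (a' : ℕ) ≤ b' + k := by
          rw [Fin.le_def] at h1 h2
          rcases h3 with h3 | h3
          · have : (a' : ℕ) ≠ a := fun h => h3 (Fin.ext h)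
            omega
          · have : (b' : ℕ) ≠ b := fun h => h3 (Fin.ext h)
            omega
        obtain ⟨i, j, h6, h7, h8⟩ := ih a' b' (h1.trans_lt (hab.trans_le h2)) h5 h4
        exact ⟨i, j, h6.trans h1, h2.trans h7, h8⟩
  exact key m a b hab (by omega) h

/-- Conjugation by a root element. -/
theorem cj_root {i j : Fin m} (h : i < j) (c : F) {n : Mat} (hn : n ∈ lev m F 1) :
    cj (root i j h c) n = n + c • (vecMulVec (Pi.single i 1) (n j) - vecMulVec (fun a => n a i) (Pi.single j 1)) := by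
  have h1 := N_conj_tv _ _ (su_single (F := F) h c) (mk n hn)
  rw [← root_eq_tv h c, N_conj', N_mk] at h1
  rw [h1]
  have e1 : (Pi.single j (1 : F) : Fin m → F) ᵥ* n = n j := by
    rw [single_one_vecMul]; rfl
  have e2 : n *ᵥ (Pi.single i c : Fin m → F) = c • (fun a => n a i) := by
    ext a
    simp [Matrix.mulVec, mul_comm]
  have e3 : (n j) ⬝ᵥ (Pi.single i c : Fin m → F) = 0 := by
    rw [dotProduct_single, Lev.apply_eq_zero hn (by rw [Fin.lt_def] at h; omega), zero_mul]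
  have e4 : (Pi.single i c : Fin m → F) = c • Pi.single i 1 := by
    rw [← Pi.single_smul, smul_eq_mul, mul_one]
  rw [e1, e2, e3, zero_smul, sub_zero, e4, smul_vecMulVec, smul_vecMulVec, smul_sub]
  abel

end Cfsg.Agent.SylowL.EssUT
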