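import Cfsg.Agent.SylowL.Lin
import Cfsg.Agent.SylowL.Compare
import Cfsg.Agent.SylowL.Coord
import Cfsg.Agent.SylowL.SylowPSL
import Cfsg.Agent.SylowL.CoreFunctor
import Cfsg.Agent.TypeL3.Main
import Cfsg.Prelude.Def_CaseTheorems

/-!
# Simple groups with Sylow `2`-subgroups of type `PSL(m, 2^r)`: assembly

`main` proves the recognition theorem for `m ≥ 4` from the statements of its parts.
-/

set_option autoImplicit false
set_option linter.unusedVariables false

namespace Cfsg.Agent.SylowL.Final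

open Matrix
open Cfsg.Agent.SylowL.Lev Cfsg.Agent.SylowL.UT Cfsg.Agent.SylowL.Pat Cfsg.Agent.SylowL.Series
open Cfsg.Agent.SylowL.Rect Cfsg.Agent.SylowL.NatSec Cfsg.Agent.SylowL.PSec Cfsg.Agent.SylowL.Inv
open Cfsg.Agent.SylowL.Dual Cfsg.Agent.SylowL.RectInv Cfsg.Agent.SylowL.Fus Cfsg.Agent.SylowL.Fus2
open Cfsg.Agent.Lib.EssentialFusion Cfsg.Agent.Lib.GoldschmidtFusion
open Subgroup

universe u w

/-- Coordinates: the assumptions of the fusion analysis. -/
theorem exists_ctx {m r : ℕ} {F : Type w} [Field F] [Fintype F] (hF : Fintype.card F = 2 ^ r)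
    (hr : 2 ≤ r) (hm : 4 ≤ m) {G : Type u} [Group G] [Finite G] (S : Sylow 2 G)
    (e : Nonempty (↥(S : Subgroup G) ≃* UT m F)) : ∃ ι : UT m F →* G, Inv.Ctx S ι := by
  obtain ⟨e⟩ := e
  obtain ⟨φ, hφ⟩ := exists_coord hF hr hm S e.symm
  refine ⟨(S : Subgroup G).subtype.comp φ.toMonoidHom, ⟨?_, ?_⟩, ?_, hm, ?_⟩
  · exact Subtype.val_injective.comp φ.injective
  · ext x
    constructor
    · rintro ⟨y, rfl⟩
      exact (φ y).2
    · intro hx
      refine ⟨φ.symm ⟨x, hx⟩, ?_⟩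
      change ((φ (φ.symm ⟨x, hx⟩) : (S : Subgroup G)) : G) = x
      rw [φ.apply_symm_apply]
  · intro D h
    have h' : Cfsg.Agent.SylowL.IsUR (fun i j : Fin m => D i j) :=
      ⟨fun i j hij => Fin.lt_def.2 (h.lt i j hij), fun i j k hij hjk =>
        h.up i j k (Fin.lt_def.1 hij) hjk, fun i j k hij hjk => h.right i j k hij (Fin.lt_def.1 hjk) k.2⟩
    exact hφ _ h'
  · rw [Nat.card_eq_fintype_card, hF]
    calc 4 = 2 ^ 2 := by norm_num
      _ ≤ 2 ^ r := Nat.pow_le_pow_right (by norm_num) hr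

/-- The induction hypothesis: the recognition theorem for the simple groups of order less than `n`. -/
def Ind (m : ℕ) (F : Type w) [Field F] (n : ℕ) : Prop :=
  ∀ (K : Type u) [Group K] [Finite K] [IsSimpleGroup K], Nat.card K < n → ∀ T : Sylow 2 K,
    Nonempty (↥(T : Subgroup K) ≃* UT m F) →
      Nonempty (K ≃* Matrix.ProjectiveSpecialLinearGroup (Fin m) F)

/-- The conclusion of Timmesfeld's theorem. -/
def Concl (G : Type u) [Group G] : Prop :=
  (∃ (n : ℕ) (F : Type) (_ : Field F) (_ : Fintype F), 2 ≤ n ∧ CharP F 2 ∧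
      Nonempty (G ≃* Matrix.ProjectiveSpecialLinearGroup (Fin n) F)) ∨ Cfsg.IsSuzuki G ∨
    (∃ (F : Type) (_ : Field F) (_ : Fintype F) (q : ℕ), Fintype.card F = q ^ 2 ∧ Even q ∧
      4 ≤ q ∧ Nonempty (G ≃* Cfsg.PSU 3 F q)) ∨
    (∃ n : ℕ, 6 ≤ n ∧ n ≤ 9 ∧ Nonempty (G ≃* alternatingGroup (Fin n))) ∨
    Cfsg.IsM22 G ∨ Cfsg.IsM23 G ∨ Cfsg.IsM24 G ∨ Cfsg.IsHe G

/-- Timmesfeld's theorem (S1179). -/
def H1179 : Prop := ∀ (G : Type u) [Group G] [Finite G] [IsSimpleGroup G], ¬ IsMulCommutative G →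
  ∀ A : Subgroup G, Cfsg.IsElementaryAbelian 2 A → A ≠ ⊥ →
    (∀ a ∈ A, a ≠ 1 → ∀ g : G, A.map (MulAut.conj g).toMonoidHom ≤ Subgroup.centralizer ({a} : Set G) →
      A.map (MulAut.conj g).toMonoidHom = A) → Concl G

/-- Bender's theorem (S0222). -/
def H0222 : Prop := ∀ (G : Type u) [Group G] [Finite G] [IsSimpleGroup G], ¬ IsMulCommutative G →
  ∀ H : Subgroup G, Cfsg.IsStronglyEmbedded H → Concl G

/-- The odd order theorem. -/
def HOdd : Prop := ∀ (G : Type u) [Group G] [Finite G], Odd (Nat.card G) → Group.IsSolvable G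

/-- The result of the analysis of the centralizers of involutions. -/
def CHyp (m : ℕ) (F : Type w) [Field F] : Prop :=
  ∀ (G : Type u) [Group G] [Finite G] [IsSimpleGroup G] (S : Sylow 2 G) (ι : UT m F →* G),
    Inv.Ctx S ι → ∀ h1 : 1 ≤ m - 1,
    CoreFunctor.Ctx S ((R m F (le_refl 1)).map ι) ((R m F (le_refl (m - 1))).map ι)
      ((R m F h1).map ι) → Ind.{u} m F (Nat.card G) →
    CoreFunctor.WW ((R m F h1).map ι) = ⊥ ∨ ∃ H : Subgroup G, Cfsg.IsStronglyEmbedded H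

/-- The recognition theorem for `m ≥ 4`. -/
theorem main {m r : ℕ} {F : Type w} [Field F] [Fintype F] (hF : Fintype.card F = 2 ^ r)
    (hr : 2 ≤ r) (hm : 4 ≤ m) (hP : PHyp.{u} m F) (hE : EHyp.{u} m F) (hC : CHyp.{u} m F)
    (h1169 : TypeL3.H1169.{u}) (hG : CompFacts.GoldHyp.{u}) (hodd : HOdd.{u}) (h1179 : H1179.{u})
    (h0222 : H0222.{u}) : ∀ n, Ind.{u} m F n := by
  have hchar : CharP F 2 := TypeL3.Main.charP_two hF
  intro n
  induction n using Nat.strong_induction_on with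
  | _ n ih =>
  intro G _ _ _ hn S e
  have hIH : Ind.{u} m F (Nat.card G) := ih _ hn
  obtain ⟨ι, c⟩ := exists_ctx hF hr hm S e
  have h1 : 1 ≤ m - 1 := by omega
  have D := Lin.linData c hP hE h1169
  have C : CoreFunctor.Ctx S ((R m F (le_refl 1)).map ι) ((R m F (le_refl (m - 1))).map ι)
      ((R m F h1).map ι) := ⟨D, hG, fun X hX => hodd X hX⟩
  have hna : ¬ IsMulCommutative G := by
    intro hab
    have h2 : IsMulCommutative (UT m F) := by
      refine ⟨⟨fun x y => c.emb.inj ?_⟩⟩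
      rw [map_mul, map_mul]
      exact hab.is_comm.comm _ _
    have h01 : (⟨0, by omega⟩ : Fin m) < ⟨1, by omega⟩ := by rw [Fin.lt_def]; norm_num
    have h12 : (⟨1, by omega⟩ : Fin m) < ⟨2, by omega⟩ := by rw [Fin.lt_def]; norm_num
    have h4 := (commute_root_iff h12 (c := (1 : F)) one_ne_zero).1
      (h2.is_comm.comm (root _ _ h01 (1 : F)) (root _ _ h12 (1 : F)))
    have h5 := h4.1 ⟨0, by omega⟩
    rw [N_root, Matrix.single_apply_same] at h5
    exact one_ne_zero h5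
  have hconcl : Concl G := by
    rcases hC G S ι c h1 C hIH with hW | ⟨H, hH⟩
    · refine h1179 G hna _ D.elA ?_ (C.timmesfeld hW)
      intro h
      have h2 := D.cardA
      rw [h, Subgroup.card_bot] at h2
      omega
    · exact h0222 G hna H hH
  have h3 : 3 ∣ Nat.card G :=
    Lin.three_dvd c (hP G S) (ess_of_simple (hP G S) c (hE G S ι c.emb) h1169 (by omega) (by omega))
  exact Compare.main hr (by omega) hF S e h3 hconcl

end Cfsg.Agent.SylowL.Final
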