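import Cfsg.Agent.SylowL.CompFacts
import Cfsg.Agent.TwoFusion.GoldInner
import Cfsg.Agent.TwoFusion.GoldLayer

/-!
# `GoldHyp` from Goldschmidt's theorem
-/

set_option autoImplicit false
set_option linter.unusedSectionVars false

namespace Cfsg.Agent.SylowL.GoldHypOf

open Subgroup Cfsg
open Cfsg.Agent.SylowL.CompFacts
open Cfsg.Agent.TwoFusion.ClosedFam Cfsg.Agent.TwoFusion.Gold

universe u

/-- the union of the conjugates of an elementary abelian strongly closed subgroup is an elementary closed family -/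
theorem isElemFam {X : Type u} [Group X] [Finite X] (S : Sylow 2 X) {A : Subgroup X}
    (hAe : Cfsg.IsElementaryAbelian 2 A) (hA : Cfsg.IsStronglyClosed A (S : Subgroup X)) :
    IsElemFam {x : X | ∃ g : X, g * x * g⁻¹ ∈ A} where
  toIsClosedFam := isClosedFam_of_isStronglyClosed S A hA
  sq := by
    rintro x ⟨g, hg⟩
    have h1 := elem_sq hAe hg
    calc x * x = g⁻¹ * ((g * x * g⁻¹) * (g * x * g⁻¹)) * g := by group
      _ = 1 := by rw [h1]; group

theorem goldHyp_of (hT : ∀ (L : Type u) [Group L] [Finite L], IsSimpleGroup L →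
    (∃ a b : L, a * b ≠ b * a) → TProp L) : GoldHyp.{u} where
  inner := by
    intro X _ _ hO S A hAe hA K hK hn a ha
    have hfam := isElemFam S hAe hA
    set 𝒜 : Set X := {x : X | ∃ g : X, g * x * g⁻¹ ∈ A} with h𝒜
    have hmem : ∀ x ∈ A, x ∈ 𝒜 := fun x hx => ⟨1, by simpa using hx⟩
    have ctx : Cfsg.Agent.TwoFusion.Gold.Ctx 𝒜 := by
      refine ⟨hfam, hO, ?_⟩
      intro L hL
      obtain ⟨h1, h2⟩ := simple_quot hL
      refine hT _ h1 ?_
      by_contra hcon
      push Not at hcon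
      exact h2 ⟨⟨hcon⟩⟩
    have hAct : Act 𝒜 K := by
      by_contra hcon
      apply hn
      intro l hl
      rw [mem_centralizer_iff]
      intro b hb
      exact comm_of_not_act hfam hO hK hcon b (hmem b hb) l hl
    obtain ⟨b, ⟨g, hg⟩, hbS, hbK, hab⟩ := Cfsg.Agent.TwoFusion.GoldInner.exists_inner ctx hK hAct S a
      (hmem a ha) (hA.1 ha)
    have hbA : b ∈ A := by
      have h1 : g⁻¹ * (g * b * g⁻¹) * g⁻¹⁻¹ = b := by group
      have h2 := hA.2 _ hg g⁻¹ (by rw [h1]; exact hbS)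
      rwa [h1] at h2
    refine ⟨b, ⟨hbA, hbK⟩, b⁻¹ * a, ⟨A.mul_mem (A.inv_mem hbA) ha, ?_⟩, by group⟩
    change b⁻¹ * a ∈ centralizer (K : Set X)
    rw [mem_centralizer_iff]
    intro l hl
    have h1 := hab l hl
    have h2 : a * l = b * l * b⁻¹ * a := by rw [← h1]; group
    calc l * (b⁻¹ * a) = b⁻¹ * (b * l * b⁻¹ * a) := by group
      _ = b⁻¹ * (a * l) := by rw [h2]
      _ = b⁻¹ * a * l := by group
  conj := by
    intro L _ _ _ hna S A hAe hA hne
    have hfam := isElemFam S hAe hA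
    have hT' := hT L inferInstance (by
      by_contra hcon
      push Not at hcon
      exact hna ⟨⟨hcon⟩⟩) _ hfam (by
      obtain ⟨⟨x, hx⟩, hx1⟩ := Subgroup.ne_bot_iff_exists_ne_one.1 hne
      exact ⟨x, ⟨1, by simpa using hx⟩, fun h => hx1 (Subtype.ext h)⟩)
    exact ⟨hT'.conj, fun x hx hxx s hs => hT'.central S x hx hxx s hs⟩

end Cfsg.Agent.SylowL.GoldHypOf
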