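import Cfsg.Agent.SylowL.PSec

/-!
# Subgroups normalised by `N_G(Q k)`
-/

set_option autoImplicit false
set_option linter.unusedSectionVars false
set_option linter.unusedVariables false
set_option linter.unusedSimpArgs false

namespace Cfsg.Agent.SylowL.Inv

open Matrix
open Cfsg.Agent.SylowL.Lev Cfsg.Agent.SylowL.UT Cfsg.Agent.SylowL.Pat Cfsg.Agent.SylowL.Series
open Cfsg.Agent.SylowL.Rect Cfsg.Agent.SylowL.NatSec Cfsg.Agent.SylowL.PSec
open Cfsg.Agent.Lib.EssentialFusion Cfsg.Agent.Lib.GoldschmidtFusion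
open Subgroup

section General

variable {T G : Type*} [Group T] [Group G] {ι : T →* G}

/-- Conjugation of images. -/
theorem exists_conj (hι : Function.Injective ι) {A : Subgroup T} {n : G}
    (hn : n ∈ normalizer ((A.map ι : Subgroup G) : Set G)) {a : T} (ha : a ∈ A) :
    ∃ b ∈ A, n * ι a * n⁻¹ = ι b := by
  obtain ⟨b, hb, h⟩ := (mem_normalizer_iff.1 hn (ι a)).1 ⟨a, ha, rfl⟩
  exact ⟨b, hb, h.symm⟩

theorem le_normalizer_of_conj (hι : Function.Injective ι) {M : Subgroup G} {W : Subgroup T}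
    (h : ∀ n ∈ M, ∀ w ∈ W, ∃ w' ∈ W, n * ι w * n⁻¹ = ι w') :
    M ≤ normalizer ((W.map ι : Subgroup G) : Set G) := by
  intro n hn
  rw [mem_normalizer_iff]
  intro x
  constructor
  · rintro ⟨w, hw, rfl⟩
    obtain ⟨w', hw', h1⟩ := h n hn w hw
    exact ⟨w', hw', h1.symm⟩
  · rintro ⟨w, hw, h1⟩
    obtain ⟨w', hw', h2⟩ := h n⁻¹ (inv_mem hn) w hw
    refine ⟨w', hw', ?_⟩
    rw [← h2, h1]
    group

theorem cen_inv (hι : Function.Injective ι) {M : Subgroup G} {A B C W : Subgroup T}
    (hW : ∀ g, g ∈ W ↔ g ∈ A ∧ ∀ x ∈ B, g * x * g⁻¹ * x⁻¹ ∈ C)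
    (hA : M ≤ normalizer ((A.map ι : Subgroup G) : Set G))
    (hB : M ≤ normalizer ((B.map ι : Subgroup G) : Set G))
    (hC : M ≤ normalizer ((C.map ι : Subgroup G) : Set G)) :
    M ≤ normalizer ((W.map ι : Subgroup G) : Set G) := by
  apply le_normalizer_of_conj hι
  intro n hn w hw
  obtain ⟨hwA, hwB⟩ := (hW w).1 hw
  obtain ⟨w', hw', h1⟩ := exists_conj hι (hA hn) hwA
  refine ⟨w', (hW w').2 ⟨hw', fun x hx => ?_⟩, h1⟩
  obtain ⟨x', hx', h2⟩ := exists_conj hι (hB (inv_mem hn)) hx
  obtain ⟨c, hc, h3⟩ := exists_conj hι (hC hn) (hwB x' hx')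
  have h4 : w' * x * w'⁻¹ * x⁻¹ = c := by
    apply hι
    rw [← h3]
    simp only [map_mul, map_inv]
    rw [← h1, ← h2]
    group
  rw [h4]
  exact hc

theorem sup_inv (hι : Function.Injective ι) {M : Subgroup G} {A B : Subgroup T}
    (hA : M ≤ normalizer ((A.map ι : Subgroup G) : Set G))
    (hB : M ≤ normalizer ((B.map ι : Subgroup G) : Set G)) :
    M ≤ normalizer (((A ⊔ B).map ι : Subgroup G) : Set G) := by
  intro n hn
  rw [mem_normalizer_iff_map_conj, Subgroup.map_sup, Subgroup.map_sup,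
    mem_normalizer_iff_map_conj.1 (hA hn), mem_normalizer_iff_map_conj.1 (hB hn)]

theorem inf_inv (hι : Function.Injective ι) {M : Subgroup G} {A B : Subgroup T}
    (hA : M ≤ normalizer ((A.map ι : Subgroup G) : Set G))
    (hB : M ≤ normalizer ((B.map ι : Subgroup G) : Set G)) :
    M ≤ normalizer (((A ⊓ B).map ι : Subgroup G) : Set G) := by
  intro n hn
  rw [mem_normalizer_iff_map_conj, Subgroup.map_inf _ _ _ hι,
    Subgroup.map_inf _ _ _ (MulAut.conj n).injective,
    mem_normalizer_iff_map_conj.1 (hA hn), mem_normalizer_iff_map_conj.1 (hB hn)]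

end General

variable {m : ℕ} {F : Type*} [Field F] {G : Type*} [Group G]

/-- `M` normalises the image of the pattern subgroup of `D`. -/
def PInv (ι : UT m F →* G) (M : Subgroup G) (D : ℕ → ℕ → Prop) : Prop :=
  ∀ h : IsUR m D, M ≤ normalizer (((X F h).map ι : Subgroup G) : Set G)

variable {ι : UT m F →* G} {M : Subgroup G}

theorem PInv.congr {D D' : ℕ → ℕ → Prop} (h : PInv ι M D) (h0 : IsUR m D)
    (hD : ∀ i j, j < m → (D i j ↔ D' i j)) : PInv ι M D' := by
  intro h'
  rw [← X_congr h0 h' hD]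
  exact h h0

theorem PInv.cen (hι : Function.Injective ι) {Ω Θ Ψ D : ℕ → ℕ → Prop} (hΩ : IsUR m Ω)
    (hΘ : IsUR m Θ) (hΨ : IsUR m Ψ)
    (h1 : PInv ι M Ω) (h2 : PInv ι M Θ) (h3 : PInv ι M Ψ)
    (hD : ∀ i j, i < j → j < m → (D i j ↔ cenD m Ω Θ Ψ i j)) : PInv ι M D := by
  intro h
  refine cen_inv hι ?_ (h1 hΩ) (h2 hΘ) (h3 hΨ)
  intro g
  rw [mem_cen hΩ hΘ hΨ, mem_X]
  constructor
  · intro h4 i j hij
    exact (hD i j (h.lt _ _ (h4 i j hij)) j.2).1 (h4 i j hij)
  · intro h4 i j hij
    exact (hD i j (hΩ.lt _ _ (h4 i j hij).1) j.2).2 (h4 i j hij)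

theorem PInv.or (hι : Function.Injective ι) {D D' : ℕ → ℕ → Prop} (hD : IsUR m D)
    (hD' : IsUR m D') (h : PInv ι M D) (h' : PInv ι M D') : PInv ι M (fun i j => D i j ∨ D' i j) := by
  intro h1
  have h2 : X F h1 = X F hD ⊔ X F hD' := (X_sup hD hD').symm
  rw [h2]
  exact sup_inv hι (h hD) (h' hD')

theorem PInv.and (hι : Function.Injective ι) {D D' : ℕ → ℕ → Prop} (hD : IsUR m D)
    (hD' : IsUR m D') (h : PInv ι M D) (h' : PInv ι M D') : PInv ι M (fun i j => D i j ∧ D' i j) := by
  intro h1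
  have h2 : X F h1 = X F hD ⊓ X F hD' := (X_inf hD hD').symm
  rw [h2]
  exact inf_inv hι (h hD) (h' hD')

theorem isUR_bot (m : ℕ) : IsUR m (fun _ _ => False) where
  lt i j h := h.elim
  up i j l _ h := h
  right i j l h _ _ := h

theorem X_bot : X F (isUR_bot m) = ⊥ := by
  rw [eq_bot_iff]
  intro g hg
  rw [mem_bot, ← N_eq_zero_iff]
  ext i j
  by_contra h
  exact hg i j h

theorem PInv.bot : PInv ι M (fun _ _ => False) := by
  intro h
  have h1 : X F h = ⊥ := X_bot
  rw [h1, Subgroup.map_bot]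
  intro g _
  rw [mem_normalizer_iff_map_conj, Subgroup.map_bot]

/-- The set-up: `ι` identifies `UT m F` with the Sylow subgroup `S`, such that all pattern ideals are
normalised by `N_G(S)`. -/
structure Ctx (S : Sylow 2 G) (ι : UT m F →* G) : Prop where
  emb : Emb S ι
  hK : ∀ (D : ℕ → ℕ → Prop) (h : IsUR m D), NInv S ι (X F h)
  m4 : 4 ≤ m
  q4 : 4 ≤ Nat.card F

variable [Finite G] [Finite F] [CharP F 2] {S : Sylow 2 G} (c : Ctx S ι) {k : ℕ} (hk : 0 < k)
  (hkm : k < m)

include c hk hkm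

theorem step_triv {Ω Ψ W : ℕ → ℕ → Prop} (hΩ : IsUR m Ω) (hΨ : IsUR m Ψ)
    (hΩQ : ∀ i j, j < m → Ω i j → Qd k i j)
    (hΨW : ∀ i j, j < m → Ψ i j → W i j) (hWΩ : ∀ i j, j < m → W i j → Ω i j)
    (h1 : ∀ i j l, l < m → i < j → Ω j l → Ψ i l) (h2 : ∀ i j l, l < m → Ω i j → j < l → Ψ i l)
    (h3 : PInv ι (normalizer (((Q m F k).map ι : Subgroup G) : Set G)) Ω)
    (h4 : PInv ι (normalizer (((Q m F k).map ι : Subgroup G) : Set G)) Ψ) :
    PInv ι (normalizer (((Q m F k).map ι : Subgroup G) : Set G)) W := by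
  intro hW
  have htriv : ∀ s : UT m F, ∀ a ∈ X F hΩ, s * a * s⁻¹ * a⁻¹ ∈ X F hΨ := fun s a ha =>
    commutator_mem (isUR_all m) _ _ (mem_all s) ha h1 h2
  exact inv_of_triv c.emb (tq hk hkm c.q4)
    (sec ((X_le hΩ _).2 hΩQ) ((X_le hΨ hΩ).2 fun i j hj h => hWΩ i j hj (hΨW i j hj h))
      (fun x _ a ha => htriv x a ha) (h3 hΩ) (h4 hΨ)) htriv ((X_le hΨ hW).2 hΨW)
    ((X_le hW hΩ).2 hWΩ) (c.hK W hW)

theorem psec {Ω U1 Y Ψ : ℕ → ℕ → Prop} (p : PS m k Ω U1 Y Ψ)
    (h3 : PInv ι (normalizer (((Q m F k).map ι : Subgroup G) : Set G)) Ω)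
    (h4 : PInv ι (normalizer (((Q m F k).map ι : Subgroup G) : Set G)) Ψ) :
    SecAct.Sec (normalizer (((Q m F k).map ι : Subgroup G) : Set G)) ((X F p.urΩ).map ι)
      ((X F p.urΨ).map ι) :=
  sec (p.tsec (F := F) hk hkm).leQ ((X_le _ _).2 fun i j hj h => p.leΩ i j hj (p.leU i j hj
    (p.leY i j hj h))) (p.tsec hk hkm).triv (h3 _) (h4 _)

theorem step_not_le (hE : Ess S ((Q m F k).map ι)) {Ω U1 Y Ψ W : ℕ → ℕ → Prop}
    (p : PS m k Ω U1 Y Ψ) {a b : ℕ} (hab : a < b) (hb : b < m) (hY : ¬ Y a b) (hU : ¬ U1 a b)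
    (hW : ∀ i j, j < m → (W i j ↔ Y i j ∨ (i = a ∧ j = b)))
    (hWΩ : ∀ i j, j < m → W i j → Ω i j)
    (h3 : PInv ι (normalizer (((Q m F k).map ι : Subgroup G) : Set G)) Ω)
    (h4 : PInv ι (normalizer (((Q m F k).map ι : Subgroup G) : Set G)) Ψ) :
    PInv ι (normalizer (((Q m F k).map ι : Subgroup G) : Set G)) W := by
  intro hW'
  refine (p.tsec (F := F) hk hkm).inv_of_not_le c.emb (tq hk hkm c.q4) hE
    (psec c hk hkm p h3 h4) ?_ ((X_le hW' p.urΩ).2 hWΩ) (c.hK W hW') ?_ ?_
  · exact (X_le _ _).2 fun i j hj h => (hW i j hj).2 (Or.inl (p.leY i j hj h))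
  · rw [X_le]
    intro h
    exact hU (h a b hb ((hW a b hb).2 (Or.inr ⟨rfl, rfl⟩)))
  · rw [← relIndex_mul_relIndex (X F p.urΨ) (X F p.urY) (X F hW')
      ((X_le _ _).2 p.leY) ((X_le _ _).2 fun i j hj h => (hW i j hj).2 (Or.inl h)),
      (p.tsec (F := F) hk hkm).card_Y, relIndex_insert _ _ hab hb hY hW]

theorem step_le (hE : Ess S ((Q m F k).map ι)) {Ω U1 Y Ψ W : ℕ → ℕ → Prop}
    (p : PS m k Ω U1 Y Ψ) (hΨW : ∀ i j, j < m → Ψ i j → W i j)
    (hWU : ∀ i j, j < m → W i j → U1 i j) (hWY : ∀ i j, j < m → W i j → Y i j → Ψ i j)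
    (h3 : PInv ι (normalizer (((Q m F k).map ι : Subgroup G) : Set G)) Ω)
    (h4 : PInv ι (normalizer (((Q m F k).map ι : Subgroup G) : Set G)) Ψ) :
    PInv ι (normalizer (((Q m F k).map ι : Subgroup G) : Set G)) W := by
  intro hW'
  refine (p.tsec (F := F) hk hkm).inv_of_le c.emb (tq hk hkm c.q4) hE
    (psec c hk hkm p h3 h4) ((X_le _ _).2 hΨW) ((X_le _ _).2 hWU) (c.hK W hW') ?_
  rw [X_inf]
  exact (X_le _ _).2 fun i j hj h => hWY i j hj h.1 h.2

omit hk hkm c [Finite G] [Finite F] [CharP F 2] in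
theorem inv_Q : PInv ι (normalizer (((Q m F k).map ι : Subgroup G) : Set G)) (Qd k) :=
  fun _ => le_rfl

/-- The preimage of the centre of `Q k / Ψ`. -/
theorem inv_corner {Ω Ψ : ℕ → ℕ → Prop} (hΨ : IsUR m Ψ)
    (h4 : PInv ι (normalizer (((Q m F k).map ι : Subgroup G) : Set G)) Ψ)
    (hD : ∀ i j, i < j → j < m → (Ω i j ↔ cenD m (Qd k) (Qd k) Ψ i j)) :
    PInv ι (normalizer (((Q m F k).map ι : Subgroup G) : Set G)) Ω :=
  PInv.cen c.emb.inj (isUR_Q m k) (isUR_Q m k) hΨ inv_Q inv_Q h4 hD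

omit hk hkm c [Finite G] [Finite F] [CharP F 2] in
theorem inv_zero : PInv ι M (Rd 0 m) :=
  PInv.congr PInv.bot (isUR_bot m) (fun i j hj => ⟨fun h => h.elim, fun h => absurd h.1 (by omega)⟩)

local macro "po" : tactic => `(tactic| ((try simp only [Qd, Rd, true_and, and_true, true_or, or_true,
  false_and, and_false, false_or, or_false, not_true_eq_false, not_false_eq_true] at *) <;> omega))

omit hk hkm in
/-- `k = 1`: the subgroups of the matrices with nonzero entries in the first two rows and the columns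
`≥ j`. -/
theorem inv_row_one (hE : Ess S ((Q m F 1).map ι)) : ∀ n j, j + n + 1 = m → 2 ≤ j →
    PInv ι (normalizer (((Q m F 1).map ι : Subgroup G) : Set G)) (Rd 2 j) := by
  have hm := c.m4
  intro n
  induction n with
  | zero =>
    intro j hj hj2
    refine inv_corner c one_pos (by omega) (isUR_R m (Nat.zero_le m)) inv_zero ?_
    intro a b hab hb
    constructor
    · intro h
      refine ⟨?_, fun x hx hq => ?_, fun x hq => ?_⟩ <;> po
    · rintro ⟨h1, h2, h3⟩
      have h4 := h2 (m - 1)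
      have h5 := h3 0
      have h6 := h3 1
      po
  | succ n ih =>
    intro j hj hj2
    have h1 := ih (j + 1) (by omega) (by omega)
    have hΨ : IsUR m (Rd 2 (j + 1)) := isUR_R m (by omega)
    have hΩ : IsUR m (fun a b => Rd 2 j a b ∨ Rd 3 (m - 1) a b) :=
      isUR_or (isUR_R m (by omega)) (isUR_R m (by omega))
    have p : PS m 1 (fun a b => Rd 2 j a b ∨ Rd 3 (m - 1) a b)
        (fun a b => (Rd 2 (j + 1) a b ∨ (a = 0 ∧ b = j)) ∨ Rd 3 (m - 1) a b)
        (fun a b => Rd 2 (j + 1) a b ∨ (a = 0 ∧ b = j)) (Rd 2 (j + 1)) := by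
      constructor
      · exact hΩ
      · constructor
        · intro x y h; po
        · intro x y z h h'; po
        · intro x y z h h' h''; po
      · constructor
        · intro x y h; po
        · intro x y z h h'; po
        · intro x y z h h' h''; po
      · exact hΨ
      · intro x y h h'; po
      · intro x y h h'; po
      · intro x y h h'; po
      · intro x y h h'; po
      · intro x y z h h' h''; po
      · intro x y z h h' h''; po
      · intro x h h'; po
      · intro x h; po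
      · intro x h h'
        po
      · intro x h; po
      · refine Or.inl ⟨j, ?_, ?_, ?_, ?_, ?_, ?_⟩
        · omega
        · omega
        · po
        · po
        · intro x y h; po
        · intro x y h
          po
    have h2 : PInv ι (normalizer (((Q m F 1).map ι : Subgroup G) : Set G))
        (fun a b => Rd 2 j a b ∨ Rd 3 (m - 1) a b) := by
      refine inv_corner c one_pos (by omega) hΨ h1 ?_
      intro a b hab hb
      constructor
      · intro h
        refine ⟨?_, fun x hx hq => ?_, fun x hq => ?_⟩ <;> po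
      · rintro ⟨h1, h2, h3⟩
        have h4 := h2 (m - 1)
        have h5 := h3 0
        have h6 := h3 1
        have h7 := h3 2
        have h8 := h2 (b + 1)
        po
    exact step_not_le c one_pos (by omega) hE p (a := 1) (b := j) (by omega) (by omega)
      (by po) (by po) (by intro x y h; po) (by intro x y h h'; po) h2 h1

local macro "pp" : tactic => `(tactic| (intros; po))

local macro "ur" : tactic => `(tactic| (constructor <;> intros <;> po))

omit hk in
/-- `k ≥ 2`: the subgroups of the matrices with nonzero entries in the first row and the columns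
`≥ j`, `j ≠ k`, except for `k = 2`, `j = 1`. -/
theorem inv_row (hk : 2 ≤ k) (hE : Ess S ((Q m F k).map ι)) : ∀ n j, j + n + 1 = m → 1 ≤ j →
    j ≠ k → (k = 2 → 3 ≤ j) →
    PInv ι (normalizer (((Q m F k).map ι : Subgroup G) : Set G)) (Rd 1 j) := by
  have hm := c.m4
  have hk0 : 0 < k := by omega
  intro n
  induction n using Nat.strong_induction_on with
  | _ n ih =>
    intro j hj hj1 hjk hk2
    by_cases hbase : j = m - 1 ∨ (k = m - 1 ∧ j = m - 2)
    · -- the centre of `Q k`
      refine inv_corner c hk0 hkm (isUR_R m (Nat.zero_le m)) inv_zero ?_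
      intro a b hab hb
      constructor
      · intro h
        refine ⟨?_, fun x hx hq => ?_, fun x hq => ?_⟩ <;> po
      · rintro ⟨h1, h2, h3⟩
        have h4 := h2 (m - 1)
        have h5 := h3 0
        have h6 := h2 (m - 2)
        po
    by_cases hjump : j + 1 = k
    · -- `j = k - 1`
      have h1 := ih (n - 2) (by omega) (j + 2) (by omega) (by omega) (by omega) (by omega)
      have hΨ : IsUR m (Rd 1 (j + 2)) := isUR_R m (by omega)
      have p : PS m k (fun a b => Rd 1 j a b ∨ Rd 2 (m - 1) a b)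
          (fun a b => Rd 1 (j + 1) a b ∨ Rd 2 (m - 1) a b)
          (Rd 1 (j + 1)) (Rd 1 (j + 2)) :=
        ⟨by ur, by ur, by ur, hΨ, by pp, by pp, by pp, by pp, by pp, by pp, by pp, by pp, by pp,
          by pp, Or.inr ⟨0, by pp, by pp, by pp, by pp, by pp⟩⟩
      have h2 : PInv ι (normalizer (((Q m F k).map ι : Subgroup G) : Set G))
          (fun a b => Rd 1 j a b ∨ Rd 2 (m - 1) a b) := by
        refine inv_corner c hk0 hkm hΨ h1 ?_
        intro a b hab hb
        constructor
        · intro h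
          refine ⟨?_, fun x hx hq => ?_, fun x hq => ?_⟩ <;> po
        · rintro ⟨h1, h2, h3⟩
          have h4 := h2 (m - 1)
          have h5 := h3 0
          have h6 := h3 1
          have h7 := h3 2
          have h8 := h2 (b + 1)
          have h9 := h2 (b + 2)
          po
      exact step_not_le c hk0 hkm hE p (a := 0) (b := j) (by omega) (by omega)
        (by pp) (by pp) (by pp) (by pp) h2 h1
    have h1 := ih (n - 1) (by omega) (j + 1) (by omega) (by omega) (by omega) (by omega)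
    have hΨ : IsUR m (Rd 1 (j + 1)) := isUR_R m (by omega)
    by_cases hk2' : k = 2
    · subst hk2'
      have hj3 := hk2 rfl
      have p : PS m 2 (fun a b => Rd 1 j a b ∨ Rd 3 (m - 1) a b)
          (fun a b => Rd 1 j a b ∨ Rd 2 (m - 1) a b)
          (fun a b => Rd 1 (j + 1) a b ∨ Rd 2 (m - 1) a b) (Rd 1 (j + 1)) :=
        ⟨by ur, by ur, by ur, hΨ, by pp, by pp, by pp, by pp, by pp, by pp, by pp, by pp, by pp,
          by pp, Or.inl ⟨m - 1, by pp, by pp, by pp, by pp, by pp, by pp⟩⟩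
      have h2 : PInv ι (normalizer (((Q m F 2).map ι : Subgroup G) : Set G))
          (fun a b => Rd 1 j a b ∨ Rd 3 (m - 1) a b) := by
        refine inv_corner c hk0 hkm hΨ h1 ?_
        intro a b hab hb
        constructor
        · intro h
          refine ⟨?_, fun x hx hq => ?_, fun x hq => ?_⟩ <;> po
        · rintro ⟨h1, h2, h3⟩
          have h4 := h2 (m - 1)
          have h5 := h3 0
          have h6 := h3 1
          have h7 := h3 2
          have h8 := h2 (b + 1)
          have h9 := h2 (b + 2)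
          po
      exact step_le c hk0 hkm hE p (by pp) (by pp) (by pp) h2 h1
    by_cases hkm' : k = m - 1
    · have p : PS m k (fun a b => Rd 1 j a b ∨ Rd 2 (m - 2) a b)
          (fun a b => Rd 1 j a b ∨ Rd 2 (m - 1) a b)
          (fun a b => Rd 1 (j + 1) a b ∨ Rd 2 (m - 1) a b) (Rd 1 (j + 1)) :=
        ⟨by ur, by ur, by ur, hΨ, by pp, by pp, by pp, by pp, by pp, by pp, by pp, by pp, by pp,
          by pp, Or.inr ⟨1, by pp, by pp, by pp, by pp, by pp⟩⟩
      have h2 : PInv ι (normalizer (((Q m F k).map ι : Subgroup G) : Set G))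
          (fun a b => Rd 1 j a b ∨ Rd 2 (m - 2) a b) := by
        refine inv_corner c hk0 hkm hΨ h1 ?_
        intro a b hab hb
        constructor
        · intro h
          refine ⟨?_, fun x hx hq => ?_, fun x hq => ?_⟩ <;> po
        · rintro ⟨h1, h2, h3⟩
          have h4 := h2 (m - 1)
          have h5 := h3 0
          have h6 := h3 1
          have h7 := h2 (m - 2)
          have h8 := h2 (b + 1)
          have h9 := h2 (b + 2)
          po
      exact step_le c hk0 hkm hE p (by pp) (by pp) (by pp) h2 h1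
    · have h2 : PInv ι (normalizer (((Q m F k).map ι : Subgroup G) : Set G))
          (fun a b => Rd 1 j a b ∨ Rd 2 (m - 1) a b) := by
        refine inv_corner c hk0 hkm hΨ h1 ?_
        intro a b hab hb
        constructor
        · intro h
          refine ⟨?_, fun x hx hq => ?_, fun x hq => ?_⟩ <;> po
        · rintro ⟨h1, h2, h3⟩
          have h4 := h2 (m - 1)
          have h5 := h3 0
          have h6 := h3 1
          have h7 := h3 2
          have h8 := h2 (b + 1)
          have h9 := h2 (b + 2)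
          po
      exact step_triv c hk0 hkm (isUR_or (isUR_R m (by omega)) (isUR_R m (by omega))) hΨ
        (by pp) (by pp) (by pp) (by pp) (by pp) h2 h1

end Cfsg.Agent.SylowL.Inv
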