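import Mathlib

/-!
Strictly upper triangular matrices, filtered by the level `j - i`.
-/

set_option autoImplicit false

namespace Cfsg.Agent.SylowL.Lev

open Matrix

variable {m : ℕ} {F : Type*} [Field F]

/-- Matrices all of whose nonzero entries `(i, j)` satisfy `i + k ≤ j`. -/
def lev (m : ℕ) (F : Type*) [Field F] (k : ℕ) : Submodule F (Matrix (Fin m) (Fin m) F) where
  carrier := {a | ∀ i j : Fin m, a i j ≠ 0 → (i : ℕ) + k ≤ j}
  add_mem' {a b} ha hb := by
    intro i j h
    by_cases h1 : a i j = 0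
    · exact hb i j (by
        intro h2
        exact h (by rw [Matrix.add_apply, h1, h2, add_zero]))
    · exact ha i j h1
  zero_mem' := by
    intro i j h
    exact absurd rfl h
  smul_mem' c a ha := by
    intro i j h
    refine ha i j fun h1 => h ?_
    rw [Matrix.smul_apply, h1, smul_zero]

theorem mem_lev {k : ℕ} {a : Matrix (Fin m) (Fin m) F} :
    a ∈ lev m F k ↔ ∀ i j : Fin m, a i j ≠ 0 → (i : ℕ) + k ≤ j := Iff.rfl

theorem mem_lev' {k : ℕ} {a : Matrix (Fin m) (Fin m) F} :
    a ∈ lev m F k ↔ ∀ i j : Fin m, (j : ℕ) < i + k → a i j = 0 := by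
  constructor
  · intro h i j hij
    by_contra h1
    exact absurd (h i j h1) (not_le.2 hij)
  · intro h i j h1
    by_contra h2
    exact h1 (h i j (not_le.1 h2))

theorem apply_eq_zero {k : ℕ} {a : Matrix (Fin m) (Fin m) F} (h : a ∈ lev m F k) {i j : Fin m}
    (hij : (j : ℕ) < i + k) : a i j = 0 := mem_lev'.1 h i j hij

theorem lev_anti {k l : ℕ} (h : k ≤ l) : lev m F l ≤ lev m F k := fun _ ha i j h1 =>
  (Nat.add_le_add_left h _).trans (ha i j h1)

theorem mul_mem_lev {k l : ℕ} {a b : Matrix (Fin m) (Fin m) F} (ha : a ∈ lev m F k)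
    (hb : b ∈ lev m F l) : a * b ∈ lev m F (k + l) := by
  intro i j h
  rw [Matrix.mul_apply] at h
  obtain ⟨t, -, ht⟩ := Finset.exists_ne_zero_of_sum_ne_zero h
  have h1 := ha i t (left_ne_zero_of_mul ht)
  have h2 := hb t j (right_ne_zero_of_mul ht)
  omega

theorem lev_eq_bot : lev m F m = ⊥ := by
  rw [Submodule.eq_bot_iff]
  intro a ha
  ext i j
  by_contra h
  have h1 := ha i j h
  have h2 := j.2
  omega

theorem eq_zero_of_mem {k : ℕ} (hk : m ≤ k) {a : Matrix (Fin m) (Fin m) F} (ha : a ∈ lev m F k) :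
    a = 0 := by
  have h := lev_anti hk ha
  rw [lev_eq_bot] at h
  exact (Submodule.mem_bot F).1 h

theorem one_mem_lev : (1 : Matrix (Fin m) (Fin m) F) ∈ lev m F 0 := by
  intro i j h
  have : i = j := by
    by_contra h1
    exact h (one_apply_ne h1)
  rw [this]
  omega

theorem pow_mem_lev {a : Matrix (Fin m) (Fin m) F} (ha : a ∈ lev m F 1) (k : ℕ) :
    a ^ k ∈ lev m F k := by
  induction k with
  | zero => rw [pow_zero]; exact one_mem_lev
  | succ k ih => rw [pow_succ]; exact mul_mem_lev ih ha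

theorem pow_eq_zero {a : Matrix (Fin m) (Fin m) F} (ha : a ∈ lev m F 1) : a ^ m = 0 :=
  eq_zero_of_mem le_rfl (pow_mem_lev ha m)

theorem single_mem_lev {k : ℕ} {i j : Fin m} (h : (i : ℕ) + k ≤ j) (c : F) :
    (Matrix.single i j c) ∈ lev m F k := by
  intro r s hrs
  rw [Matrix.single_apply] at hrs
  by_cases h1 : i = r ∧ j = s
  · rw [← h1.1, ← h1.2]; exact h
  · rw [if_neg h1] at hrs
    exact absurd rfl hrs

end Cfsg.Agent.SylowL.Lev
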