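import Cfsg.Agent.SylowL.EssAct

/-!
# Natural sections of essential subgroups

`T` is (isomorphic to) the Sylow `2`-subgroup of `G`, `Q` a normal subgroup of `T` that is essential
in `G`, `Ψ ≤ Ω ≤ Q` normalised by `N_G(Q)`, `Q` acts trivially on `Ω / Ψ` and `T` acts on it as a
group of transvections of order `q`.
-/

set_option autoImplicit false
set_option linter.unusedSectionVars false

open scoped Pointwise

namespace Cfsg.Agent.SylowL.NatSec

open Subgroup Cfsg.Agent.Lib.EssentialFusion Cfsg.Agent.Lib.GoldschmidtFusion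
open Cfsg.Agent.SylowL.SecAct Cfsg.Agent.SylowL.EssAct

variable {T G : Type*} [Group T] [Group G] [Finite G]

/-- `ι` identifies `T` with the Sylow subgroup `S`. -/
structure Emb (S : Sylow 2 G) (ι : T →* G) : Prop where
  inj : Function.Injective ι
  range : ι.range = (S : Subgroup G)

/-- `Q` is a normal subgroup of `T` with `T / Q` elementary abelian of order `q ≥ 4`. -/
structure TQ (Q : Subgroup T) (q : ℕ) : Prop where
  normal : Q.Normal
  sq : ∀ s : T, s * s ∈ Q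
  index : Q.index = q
  four_le : 4 ≤ q

/-- Natural sections. -/
structure TSec (Q Ω U1 Y Ψ : Subgroup T) (q : ℕ) : Prop where
  leY : Ψ ≤ Y
  leU : Y ≤ U1
  leΩ : U1 ≤ Ω
  leQ : Ω ≤ Q
  triv : ∀ x ∈ Q, ∀ a ∈ Ω, x * a * x⁻¹ * a⁻¹ ∈ Ψ
  fix : ∀ s, s ∉ Q → ∀ a ∈ Ω, s * a * s⁻¹ * a⁻¹ ∈ Ψ → a ∈ U1
  fixed : ∀ s, ∀ a ∈ U1, s * a * s⁻¹ * a⁻¹ ∈ Ψ
  comm : ∀ s, ∀ a ∈ Ω, s * a * s⁻¹ * a⁻¹ ∈ Y
  card_U : U1.relIndex Ω = q
  card_Y : Ψ.relIndex Y = q

variable {S : Sylow 2 G} {ι : T →* G} {Q Ω U1 Y Ψ : Subgroup T} {q : ℕ}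

namespace Emb

theorem mem (e : Emb S ι) (t : T) : ι t ∈ (S : Subgroup G) := by
  rw [← e.range]; exact ⟨t, rfl⟩

theorem exists_eq (e : Emb S ι) {s : G} (hs : s ∈ (S : Subgroup G)) : ∃ t, ι t = s := by
  rw [← e.range] at hs
  exact hs

theorem map_mem (e : Emb S ι) {W : Subgroup T} {t : T} : ι t ∈ W.map ι ↔ t ∈ W := by
  constructor
  · rintro ⟨w, hw, h⟩
    rw [← e.inj h]
    exact hw
  · intro h
    exact ⟨t, h, rfl⟩

theorem map_le (e : Emb S ι) (W : Subgroup T) : W.map ι ≤ (S : Subgroup G) := by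
  rw [← e.range]; exact map_le_range _ _

theorem relIndex_map (e : Emb S ι) (A B : Subgroup T) : (A.map ι).relIndex (B.map ι) =
    A.relIndex B := relIndex_map_map_of_injective _ _ e.inj

theorem le_normalizer_map (e : Emb S ι) {W : Subgroup T} (hW : W.Normal) :
    (S : Subgroup G) ≤ normalizer ((W.map ι : Subgroup G) : Set G) := by
  intro s hs
  obtain ⟨t, rfl⟩ := e.exists_eq hs
  rw [mem_normalizer_iff]
  intro x
  constructor
  · rintro ⟨w, hw, rfl⟩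
    exact ⟨t * w * t⁻¹, hW.conj_mem w hw t, by simp⟩
  · intro h
    obtain ⟨w, hw, h1⟩ := h
    refine ⟨t⁻¹ * w * t, by simpa using hW.conj_mem w hw t⁻¹, ?_⟩
    rw [map_mul, map_mul, h1, map_inv]
    group

theorem map_range (e : Emb S ι) {Q : Subgroup T} : (Q.map ι).relIndex (S : Subgroup G) = Q.index := by
  have h := e.relIndex_map Q ⊤
  rw [← MonoidHom.range_eq_map, e.range, relIndex_top_right] at h
  exact h

end Emb

local notation "NQ" => normalizer ((Q.map ι : Subgroup G) : Set G)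

theorem sec (hQle : Ω ≤ Q) (hΨΩ : Ψ ≤ Ω)
    (triv : ∀ x ∈ Q, ∀ a ∈ Ω, x * a * x⁻¹ * a⁻¹ ∈ Ψ)
    (hΩ : NQ ≤ normalizer ((Ω.map ι : Subgroup G) : Set G))
    (hΨ : NQ ≤ normalizer ((Ψ.map ι : Subgroup G) : Set G)) :
    Sec NQ (Ω.map ι) (Ψ.map ι) where
  le := map_mono hΨΩ
  normA := hΩ
  normB := hΨ
  normAB := ((map_mono hQle).trans le_normalizer).trans hΨ
  comm := by
    rintro _ ⟨a, ha, rfl⟩ _ ⟨b, hb, rfl⟩
    exact ⟨_, triv a (hQle ha) b hb, by simp⟩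

/-! ### Elements of the section -/

section Elements

variable {N A B : Subgroup G} (h : Sec N A B)

theorem smul_mul_inv_eq (n : ↥N) (a : ↥A) :
    n • pr h a * (pr h a)⁻¹ = pr h (cj h n a * a⁻¹) := by
  rw [smul_pr, map_mul, map_inv]

theorem smul_mul_inv_mem (n : ↥N) (a : ↥A) {W : Subgroup G} (hW : B ≤ W) :
    n • pr h a * (pr h a)⁻¹ ∈ sub h W ↔ (n : G) * a * (n : G)⁻¹ * (a : G)⁻¹ ∈ W := by
  rw [smul_mul_inv_eq, mem_sub h hW]
  rfl

theorem smul_eq_iff (n : ↥N) (a : ↥A) :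
    n • pr h a = pr h a ↔ (n : G) * a * (n : G)⁻¹ * (a : G)⁻¹ ∈ B := by
  rw [← mul_inv_eq_one, smul_mul_inv_eq, pr_eq_one_iff]
  rfl

end Elements

variable (e : Emb S ι) (hQ : TQ Q q) (hE : Ess S (Q.map ι))

include e hQ in
theorem TQ.le_normalizer : (S : Subgroup G) ≤ NQ := e.le_normalizer_map hQ.normal

/-- `X C_G(X)` acts trivially on the sections on which `X` acts trivially. -/
theorem XC_triv {X A B : Subgroup G} (h : Sec (normalizer (X : Set G)) A B) (hAX : A ≤ X)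
    (hX : ∀ x : ↥(normalizer (X : Set G)), (x : G) ∈ X → ∀ u : SQ h, x • u = u)
    (x : ↥(normalizer (X : Set G))) (hx : (x : G) ∈ XC X) (u : SQ h) : x • u = u := by
  have h1 : XC X ≤ (Spread.ker ↥(normalizer (X : Set G)) (SQ h)).map
      (normalizer (X : Set G)).subtype := by
    refine sup_le ?_ ?_
    · intro y hy
      exact ⟨⟨y, le_normalizer hy⟩, Spread.mem_ker.2 (hX _ hy), rfl⟩
    · intro y hy
      refine ⟨⟨y, centralizer_le_normalizer _ hy⟩, Spread.mem_ker.2 fun u => ?_, rfl⟩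
      obtain ⟨a, rfl⟩ := pr_surjective h u
      rw [smul_eq_iff]
      have h2 : (a : G) * y = y * a := mem_centralizer_iff.1 hy a (hAX a.2)
      change y * a * y⁻¹ * (a : G)⁻¹ ∈ B
      rw [← h2, mul_inv_cancel_right, mul_inv_cancel]
      exact one_mem _
  obtain ⟨y, hy, hyx⟩ := h1 hx
  have h2 : y = x := Subtype.ext hyx
  rw [← h2]
  exact Spread.mem_ker.1 hy u

include e hQ hE in
/-- A natural section gives the data of the spread lemma. -/
theorem TSec.data (D : TSec Q Ω U1 Y Ψ q)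
    (h : Sec NQ (Ω.map ι) (Ψ.map ι)) :
    Spread.Data (U := SQ h) (S.subtype (hQ.le_normalizer e)) ((Q.map ι).subgroupOf NQ)
      (sub h (U1.map ι)) (sub h (Y.map ι)) q := by
  have hmemS : ∀ {s : ↥NQ}, s ∈ (S.subtype (hQ.le_normalizer e) : Subgroup ↥NQ) ↔
      (s : G) ∈ (S : Subgroup G) := by
    intro s
    rw [Sylow.coe_subtype, mem_subgroupOf]
  have hΨU : Ψ ≤ U1 := D.leY.trans D.leU
  have hfixed : ∀ s ∈ (S.subtype (hQ.le_normalizer e) : Subgroup ↥NQ),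
      ∀ u ∈ sub h (U1.map ι), s • u = u := by
    intro s hs u hu
    obtain ⟨⟨_, ⟨a, ha, rfl⟩⟩, rfl⟩ := pr_surjective h u
    rw [mem_sub h (map_mono hΨU)] at hu
    have hu' := e.map_mem.1 hu
    obtain ⟨t, ht⟩ := e.exists_eq (hmemS.1 hs)
    rw [smul_eq_iff]
    refine ⟨_, D.fixed t a hu', ?_⟩
    simp [ht]
  have hcomm : ∀ s ∈ (S.subtype (hQ.le_normalizer e) : Subgroup ↥NQ), ∀ u : SQ h,
      s • u * u⁻¹ ∈ sub h (Y.map ι) := by
    intro s hs u
    obtain ⟨⟨_, ⟨a, ha, rfl⟩⟩, rfl⟩ := pr_surjective h u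
    obtain ⟨t, ht⟩ := e.exists_eq (hmemS.1 hs)
    rw [smul_mul_inv_mem _ _ _ (map_mono D.leY)]
    refine ⟨_, D.comm t a ha, ?_⟩
    simp [ht]
  have hfix : ∀ s ∈ (S.subtype (hQ.le_normalizer e) : Subgroup ↥NQ),
      s ∉ ((Q.map ι).subgroupOf NQ) → ∀ u : SQ h, s • u = u → u ∈ sub h (U1.map ι) := by
    intro s hs hsQ u hu
    obtain ⟨⟨_, ⟨a, ha, rfl⟩⟩, rfl⟩ := pr_surjective h u
    obtain ⟨t, ht⟩ := e.exists_eq (hmemS.1 hs)
    rw [smul_eq_iff] at hu
    rw [mem_sub h (map_mono hΨU)]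
    refine e.map_mem.2 (D.fix t ?_ a ha ?_)
    · intro h1
      apply hsQ
      rw [mem_subgroupOf, ← ht]
      exact e.map_mem.2 h1
    · rw [← e.map_mem]
      simpa [ht] using hu
  have htwo : IsPGroup 2 (SQ h) := by
    have h1 : IsPGroup 2 (Ω.map ι) := S.isPGroup'.to_le (e.map_le Ω)
    exact h1.of_surjective (pr h) (pr_surjective h)
  have htriv : ∀ x ∈ ((Q.map ι).subgroupOf NQ), ∀ u : SQ h, x • u = u := by
    intro x hx u
    obtain ⟨⟨_, ⟨a, ha, rfl⟩⟩, rfl⟩ := pr_surjective h u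
    obtain ⟨t, ht1, ht⟩ := hx
    rw [smul_eq_iff]
    refine ⟨_, D.triv t ht1 a ha, ?_⟩
    have ht' : ι t = (x : G) := ht
    simp [ht']
  have hcU : Nat.card (SQ h) = q * Nat.card (sub h (U1.map ι)) := by
    have h1 := relIndex_mul_relIndex _ _ _ hΨU D.leΩ
    rw [card_sub h (map_mono hΨU) (map_mono D.leΩ), ← Subgroup.card_top, ← sub_top h,
      card_sub h h.le le_rfl, e.relIndex_map, e.relIndex_map, ← h1, D.card_U, mul_comm]
  have hcY : Nat.card (sub h (Y.map ι)) = q := by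
    rw [card_sub h (map_mono D.leY) (map_mono (D.leU.trans D.leΩ)), e.relIndex_map, D.card_Y]
  have hcS : ((Q.map ι).subgroupOf NQ).relIndex
      (S.subtype (hQ.le_normalizer e) : Subgroup ↥NQ) = q := by
    rw [Sylow.coe_subtype, relIndex_subgroupOf (hQ.le_normalizer e), e.map_range, hQ.index]
  have hYU : sub h (Y.map ι) ≤ sub h (U1.map ι) :=
    (sub_le_sub h (map_mono D.leY) (map_mono (D.leU.trans D.leΩ)) (map_mono hΨU)).2
      (map_mono D.leU)
  refine ⟨htwo, ?_, ?_, htriv, hfix, hfixed, hcomm, hYU, hcU, hcY, hcS, ?_, ?_⟩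
  · exact normal_in_normalizer
  · rw [Sylow.coe_subtype]
    intro x hx
    exact e.map_le Q hx
  · have := hQ.four_le
    omega
  · refine move hE (hQ.le_normalizer e) ((e.map_range).trans hQ.index) hQ.four_le ?_ htwo ?_ ?_ ?_
    · intro s hs
      obtain ⟨t, rfl⟩ := e.exists_eq hs
      exact ⟨t * t, hQ.sq t, by simp⟩
    · exact fun x hx u => XC_triv h (map_mono D.leQ) (fun y hy => htriv y hy) x hx u
    · intro s hs hs1
      by_contra hsQ
      have h1 : sub h (U1.map ι) = ⊤ := by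
        rw [eq_top_iff]
        intro u _
        exact hfix s (hmemS.2 hs) hsQ u (hs1 u)
      rw [h1, Subgroup.card_top] at hcU
      have h2 : 0 < Nat.card (SQ h) := Nat.card_pos
      have h3 := hQ.four_le
      nlinarith
    · intro s hs
      exact ⟨fun u hu => hfixed s (hmemS.2 hs) u hu, fun u => hYU (hcomm s (hmemS.2 hs) u)⟩

/-! ### Invariant subgroups -/

theorem smul_eq_of_frattini {P U : Type*} [Group P] [Finite P] [CommGroup U] [Finite U]
    [MulDistribMulAction P U] (S : Sylow 2 P) {W : Subgroup U}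
    (h1 : ∀ l ∈ Subgroup.normalClosure ((S : Subgroup P) : Set P), l • W = W)
    (h2 : ∀ n : P, n • S = S → n • W = W) (g : P) : g • W = W := by
  have h3 : (S : Subgroup P) ≤ Subgroup.normalClosure ((S : Subgroup P) : Set P) := fun s hs =>
    Subgroup.subset_normalClosure hs
  have h4 := Sylow.normalizer_sup_eq_top' S h3
  have h5 : (⊤ : Subgroup P) ≤ MulAction.stabilizer P W := by
    rw [← h4]
    refine sup_le ?_ ?_
    · intro n hn
      exact h2 n (Sylow.smul_eq_iff_mem_normalizer.2 hn)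
    · intro l hl
      exact h1 l hl
  exact h5 (mem_top g)

include e hQ in
theorem mem_normalizer_of_smul {n : ↥NQ} (hn : n • (S.subtype (hQ.le_normalizer e)) =
    S.subtype (hQ.le_normalizer e)) : (n : G) ∈ normalizer ((S : Subgroup G) : Set G) := by
  rw [Sylow.smul_eq_iff_mem_normalizer] at hn
  change n ∈ normalizer (((S.subtype (hQ.le_normalizer e) : Sylow 2 ↥NQ) : Subgroup ↥NQ) :
    Set ↥NQ) at hn
  rw [mem_normalizer_iff] at hn
  rw [mem_normalizer_iff]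
  intro x
  have key : ∀ {y : G}, y ∈ (S : Subgroup G) → ∃ hy : y ∈ NQ, (⟨y, hy⟩ : ↥NQ) ∈
      (S.subtype (hQ.le_normalizer e) : Subgroup ↥NQ) := by
    intro y hy
    refine ⟨hQ.le_normalizer e hy, ?_⟩
    rw [Sylow.coe_subtype, mem_subgroupOf]
    exact hy
  constructor
  · intro hx
    obtain ⟨hx1, hx2⟩ := key hx
    have := (hn _).1 hx2
    rw [Sylow.coe_subtype] at this
    exact this
  · intro hx
    obtain ⟨hx1, hx2⟩ := key hx
    have hx3 : x ∈ NQ := by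
      have h2 := mul_mem (mul_mem (inv_mem n.2) hx1) n.2
      simpa [mul_assoc] using h2
    have := (hn ⟨x, hx3⟩).2 (by
      rw [Sylow.coe_subtype, mem_subgroupOf]
      exact hx)
    rw [Sylow.coe_subtype] at this
    exact this

/-- The `N_G(S)`-invariant subgroups. -/
def NInv (S : Sylow 2 G) (ι : T →* G) (W : Subgroup T) : Prop :=
  normalizer ((S : Subgroup G) : Set G) ≤ normalizer ((W.map ι : Subgroup G) : Set G)

include e hQ in
theorem smul_sub_of_NInv (h : Sec NQ (Ω.map ι) (Ψ.map ι)) {W : Subgroup T} (hΨW : Ψ ≤ W) (hWΩ : W ≤ Ω) (hW : NInv S ι W) {n : ↥NQ}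
    (hn : n • (S.subtype (hQ.le_normalizer e)) = S.subtype (hQ.le_normalizer e)) :
    n • sub h (W.map ι) = sub h (W.map ι) :=
  (smul_sub_of_mem h (map_mono hΨW) (map_mono hWΩ) n).2
    (hW (mem_normalizer_of_smul e hQ hn))

include e hQ in
theorem le_normalizer_of_closure (h : Sec NQ (Ω.map ι) (Ψ.map ι)) {W : Subgroup T} (hΨW : Ψ ≤ W) (hWΩ : W ≤ Ω)
    (hW : NInv S ι W) (hl : ∀ l ∈ Subgroup.normalClosure
      ((S.subtype (hQ.le_normalizer e) : Subgroup ↥NQ) : Set ↥NQ),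
      l • sub h (W.map ι) = sub h (W.map ι)) :
    NQ ≤ normalizer ((W.map ι : Subgroup G) : Set G) := by
  intro g hg
  exact (smul_sub_of_mem h (map_mono hΨW) (map_mono hWΩ) ⟨g, hg⟩).1
    (smul_eq_of_frattini _ hl (fun n hn => smul_sub_of_NInv e hQ h hΨW hWΩ hW hn) _)

include e hQ hE in
/-- Lemma D, first part. -/
theorem TSec.inv_of_not_le (D : TSec Q Ω U1 Y Ψ q) (h : Sec NQ (Ω.map ι) (Ψ.map ι)) {W : Subgroup T} (hΨW : Ψ ≤ W) (hWΩ : W ≤ Ω)
    (hW : NInv S ι W) (hWU : ¬ W ≤ U1) (hc : Ψ.relIndex W = q * q) :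
    NQ ≤ normalizer ((W.map ι : Subgroup G) : Set G) := by
  have D' := D.data e hQ hE h
  obtain ⟨b, hb⟩ := D'.exists_ne
  have hΨU : Ψ ≤ U1 := D.leY.trans D.leU
  have hinv : ∀ n ∈ Subgroup.normalClosure ((S.subtype (hQ.le_normalizer e) :
      Subgroup ↥NQ) : Set ↥NQ), n • (S.subtype (hQ.le_normalizer e)) =
      S.subtype (hQ.le_normalizer e) → ∀ u ∈ sub h (W.map ι), n • u ∈ sub h (W.map ι) := by
    intro n _ hn u hu
    rw [← smul_sub_of_NInv e hQ h hΨW hWΩ hW hn]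
    exact Subgroup.smul_mem_pointwise_smul _ _ _ hu
  have hle := D'.N_le_of_invariant hb hinv (by
    rw [sub_le_sub h (map_mono hΨW) (map_mono hWΩ) (map_mono hΨU),
      Subgroup.map_le_map_iff_of_injective e.inj]
    exact hWU)
  have heq := Subgroup.eq_of_le_of_card_ge hle (by
    rw [D'.card_N hb, card_sub h (map_mono hΨW) (map_mono hWΩ), e.relIndex_map, hc])
  refine le_normalizer_of_closure e hQ h hΨW hWΩ hW fun l _ => ?_
  rw [← heq]
  exact D'.smul_N hb l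

include e hQ hE in
/-- Lemma D, second part. -/
theorem TSec.inv_of_le (D : TSec Q Ω U1 Y Ψ q) (h : Sec NQ (Ω.map ι) (Ψ.map ι)) {W : Subgroup T} (hΨW : Ψ ≤ W) (hWU : W ≤ U1)
    (hW : NInv S ι W) (hWY : W ⊓ Y ≤ Ψ) :
    NQ ≤ normalizer ((W.map ι : Subgroup G) : Set G) := by
  have D' := D.data e hQ hE h
  obtain ⟨b, hb⟩ := D'.exists_ne
  have hΨU : Ψ ≤ U1 := D.leY.trans D.leU
  have hWΩ : W ≤ Ω := hWU.trans D.leΩ
  have hinv : ∀ n ∈ Subgroup.normalClosure ((S.subtype (hQ.le_normalizer e) :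
      Subgroup ↥NQ) : Set ↥NQ), n • (S.subtype (hQ.le_normalizer e)) =
      S.subtype (hQ.le_normalizer e) → ∀ u ∈ sub h (W.map ι), n • u ∈ sub h (W.map ι) := by
    intro n _ hn u hu
    rw [← smul_sub_of_NInv e hQ h hΨW hWΩ hW hn]
    exact Subgroup.smul_mem_pointwise_smul _ _ _ hu
  have hle := D'.le_C_of_invariant hb hinv ((sub_le_sub h (map_mono hΨW) (map_mono hWΩ)
    (map_mono hΨU)).2 (map_mono hWU)) (by
      rw [sub_inf h (map_mono hΨW) (map_mono hWΩ) (map_mono D.leY)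
        (map_mono (D.leU.trans D.leΩ)), ← sub_self h]
      rw [← Subgroup.map_inf _ _ _ e.inj]
      exact (sub_inj h (map_mono (le_inf hΨW D.leY)) (map_mono (inf_le_left.trans hWΩ))
        le_rfl h.le).2 (by rw [le_antisymm hWY (le_inf hΨW D.leY)]))
  refine le_normalizer_of_closure e hQ h hΨW hWΩ hW fun l hl => ?_
  apply Spread.Data.smul_eq_of_le
  intro u hu
  rw [Subgroup.mem_pointwise_smul_iff_inv_smul_mem] at hu
  have h1 := D'.normalClosure_smul_eq.1 ((D'.mem_C_iff hb).1 (hle hu)) l hl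
  rw [smul_inv_smul] at h1
  rw [h1]
  exact hu

/-- The normal closure of `S` acts trivially if `S` does. -/
theorem smul_of_normalClosure {P U : Type*} [Group P] [Finite P] [CommGroup U] [Finite U]
    [MulDistribMulAction P U] {S : Subgroup P} (hS : ∀ s ∈ S, ∀ u : U, s • u = u) {l : P}
    (hl : l ∈ Subgroup.normalClosure (S : Set P)) (u : U) : l • u = u := by
  have hn : (Spread.ker P U).Normal := by rw [Spread.ker]; infer_instance
  have h1 : Subgroup.normalClosure (S : Set P) ≤ Spread.ker P U :=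
    Subgroup.normalClosure_le_normal fun s hs => Spread.mem_ker.2 (hS s hs)
  exact Spread.mem_ker.1 (h1 hl) u

include e hQ in
/-- If `S` acts trivially on `Ω / Ψ`, then every `N_G(S)`-invariant subgroup between `Ψ` and `Ω` is
normalised by `N_G(Q)`. -/
theorem inv_of_triv (h : Sec NQ (Ω.map ι) (Ψ.map ι))
    (htriv : ∀ s : T, ∀ a ∈ Ω, s * a * s⁻¹ * a⁻¹ ∈ Ψ) {W : Subgroup T} (hΨW : Ψ ≤ W) (hWΩ : W ≤ Ω)
    (hW : NInv S ι W) : NQ ≤ normalizer ((W.map ι : Subgroup G) : Set G) := by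
  refine le_normalizer_of_closure e hQ h hΨW hWΩ hW fun l hl => ?_
  apply Spread.Data.smul_eq_of_le
  intro u hu
  rw [Subgroup.mem_pointwise_smul_iff_inv_smul_mem] at hu
  have h1 := smul_of_normalClosure (U := SQ h) (S := (S.subtype (hQ.le_normalizer e) :
      Subgroup ↥NQ)) ?_ hl (l⁻¹ • u)
  · rw [smul_inv_smul] at h1
    rw [h1]
    exact hu
  · intro s hs u
    obtain ⟨⟨_, ⟨a, ha, rfl⟩⟩, rfl⟩ := pr_surjective h u
    rw [Sylow.coe_subtype, mem_subgroupOf] at hs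
    obtain ⟨t, ht⟩ := e.exists_eq hs
    rw [smul_eq_iff]
    refine ⟨_, htriv t a ha, ?_⟩
    simp [ht]

include e hQ hE in
/-- `N_G(Q)` is transitive on the nontrivial elements of a natural section of order `q ^ 2`. -/
theorem TSec.trans (D : TSec Q Ω U1 Y Ψ q) (h : Sec NQ (Ω.map ι) (Ψ.map ι))
    (hc : Ψ.relIndex Ω = q * q) {a b : T} (ha : a ∈ Ω) (ha1 : a ∉ Ψ) (hb : b ∈ Ω) (hb1 : b ∉ Ψ) :
    ∃ n ∈ NQ, n * ι a * n⁻¹ * (ι b)⁻¹ ∈ Ψ.map ι := by
  have D' := D.data e hQ hE h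
  obtain ⟨c, hc'⟩ := D'.exists_ne
  have htop : sub h (Y.map ι) ⊔ c • sub h (Y.map ι) = ⊤ := by
    apply Subgroup.eq_top_of_card_eq
    rw [D'.card_N hc', ← Subgroup.card_top (G := SQ h), ← sub_top h, card_sub h h.le le_rfl,
      e.relIndex_map, hc]
  have h1 : ∀ {x : T} (hx : x ∈ Ω), x ∉ Ψ → pr h ⟨ι x, e.map_mem.2 hx⟩ ≠ 1 := by
    intro x hx hx1 h2
    rw [pr_eq_one_iff] at h2
    exact hx1 (e.map_mem.1 h2)
  obtain ⟨l, -, hl⟩ := D'.trans_N hc' (v := pr h ⟨ι a, e.map_mem.2 ha⟩)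
    (w := pr h ⟨ι b, e.map_mem.2 hb⟩) (by rw [htop]; exact mem_top _) (by rw [htop]; exact mem_top _)
    (h1 ha ha1) (h1 hb hb1)
  refine ⟨l, l.2, ?_⟩
  have h2 : l • pr h ⟨ι a, e.map_mem.2 ha⟩ * (pr h ⟨ι b, e.map_mem.2 hb⟩)⁻¹ = 1 := by
    rw [hl, mul_inv_cancel]
  rw [smul_pr, ← map_inv, ← map_mul, pr_eq_one_iff] at h2
  exact h2

include e hQ hE in
/-- `N_G(Q) ∩ N_G(S)` is transitive on the nontrivial elements of the commutator space. -/
theorem TSec.transY (D : TSec Q Ω U1 Y Ψ q) (h : Sec NQ (Ω.map ι) (Ψ.map ι))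
    {a b : T} (ha : a ∈ Y) (ha1 : a ∉ Ψ) (hb : b ∈ Y) (hb1 : b ∉ Ψ) :
    ∃ n ∈ NQ, n ∈ normalizer ((S : Subgroup G) : Set G) ∧ n * ι a * n⁻¹ * (ι b)⁻¹ ∈ Ψ.map ι := by
  have D' := D.data e hQ hE h
  have hYΩ : Y ≤ Ω := D.leU.trans D.leΩ
  have h1 : ∀ {x : T} (hx : x ∈ Ω), x ∉ Ψ → pr h ⟨ι x, e.map_mem.2 hx⟩ ≠ 1 := by
    intro x hx hx1 h2
    rw [pr_eq_one_iff] at h2
    exact hx1 (e.map_mem.1 h2)
  obtain ⟨l, -, hlS, hl⟩ := D'.trans_Y (v := pr h ⟨ι a, e.map_mem.2 (hYΩ ha)⟩)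
    (w := pr h ⟨ι b, e.map_mem.2 (hYΩ hb)⟩)
    ((mem_sub h (map_mono D.leY)).2 (e.map_mem.2 ha))
    ((mem_sub h (map_mono D.leY)).2 (e.map_mem.2 hb))
    (h1 (hYΩ ha) ha1) (h1 (hYΩ hb) hb1)
  refine ⟨l, l.2, mem_normalizer_of_smul e hQ hlS, ?_⟩
  have h2 : l • pr h ⟨ι a, e.map_mem.2 (hYΩ ha)⟩ * (pr h ⟨ι b, e.map_mem.2 (hYΩ hb)⟩)⁻¹ = 1 := by
    rw [hl, mul_inv_cancel]
  rw [smul_pr, ← map_inv, ← map_mul, pr_eq_one_iff] at h2
  exact h2

end Cfsg.Agent.SylowL.NatSec
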