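import Mathlib
import Cfsg.Agent.S0058

/-!
# Odd groups acted on by a noncyclic elementary abelian 2-group with constant fixed points
-/

set_option autoImplicit false
set_option linter.unusedSectionVars false

namespace Cfsg.Agent.SylowL.OddAct

open Subgroup

/-- Coprime generation. -/
theorem le_of_commute {Γ : Type*} [Group Γ] [Finite Γ] (E W D : Subgroup Γ)
    (hcomm : ∀ a ∈ E, ∀ b ∈ E, a * b = b * a) (hsq : ∀ a ∈ E, a * a = 1)
    (h4 : ∃ a ∈ E, ∃ b ∈ E, a ≠ 1 ∧ b ≠ 1 ∧ a * b ≠ 1) (hW : Odd (Nat.card W))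
    (hEW : E ≤ normalizer (W : Set Γ)) (hD : ∀ b ∈ E, b ≠ 1 → ∀ f ∈ W, f * b = b * f → f ∈ D) :
    W ≤ D := by
  have hc : IsMulCommutative E := ⟨⟨fun x y => Subtype.ext (hcomm x x.2 y y.2)⟩⟩
  have hncyc : ¬ IsCyclic E := by
    intro hcyc
    obtain ⟨a, ha, b, hb, ha1, hb1, hab⟩ := h4
    obtain ⟨g, hg⟩ := IsCyclic.exists_generator (α := E)
    have hg2 : g * g = 1 := Subtype.ext (hsq g g.2)
    have key : ∀ x : E, x = 1 ∨ x = g := by
      intro x
      obtain ⟨k, rfl⟩ := hg x
      rcases Int.even_or_odd' k with ⟨l, rfl | rfl⟩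
      · left
        change g ^ (2 * l) = 1
        rw [zpow_mul, zpow_two, hg2, one_zpow]
      · right
        change g ^ (2 * l + 1) = g
        rw [zpow_add, zpow_mul, zpow_two, hg2, one_zpow, one_mul, zpow_one]
    rcases key ⟨a, ha⟩ with h1 | h1
    · exact ha1 (congrArg Subtype.val h1)
    rcases key ⟨b, hb⟩ with h2 | h2
    · exact hb1 (congrArg Subtype.val h2)
    apply hab
    have h3 : (⟨a, ha⟩ : E) * ⟨b, hb⟩ = 1 := by rw [h1, h2, hg2]
    exact congrArg Subtype.val h3
  have hEp : IsPGroup 2 E := by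
    intro x
    refine ⟨1, Subtype.ext ?_⟩
    rw [pow_one, pow_two]
    exact hsq x x.2
  have hcop : (Nat.card E).Coprime (Nat.card W) := by
    obtain ⟨n, hn⟩ := IsPGroup.iff_card.1 hEp
    rw [hn]
    exact Nat.Coprime.pow_left n (Nat.coprime_two_left.2 hW)
  have h7 := Cfsg.Agent.S0058.result E W hncyc hEW hcop
  rw [← h7]
  refine iSup₂_le ?_
  rintro a ⟨ha, ha1⟩
  rintro f ⟨hf, hfa⟩
  exact hD a ha ha1 f hf (mem_centralizer_singleton_iff.1 hfa)

variable {X : Type*} [Group X] [Finite X]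

/-- If the 2-group induced by `T` on `A` is elementary abelian, noncyclic and all its non-trivial elements have
the same fixed points `C`, then `C` is invariant under every `T`-invariant `N` inducing an odd group on `A`. -/
theorem conj_mem (A T N C : Subgroup X) (hCA : C ≤ A) (hT : T ≤ normalizer (A : Set X))
    (hN : N ≤ normalizer (A : Set X)) (hTN : T ≤ normalizer (N : Set X))
    (hTT : ∀ s ∈ T, ∀ t ∈ T, ∀ a ∈ A, s * t * a * (s * t)⁻¹ = t * s * a * (t * s)⁻¹)
    (hT2 : ∀ s ∈ T, ∀ a ∈ A, s * s * a * (s * s)⁻¹ = a)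
    (h4 : ∃ s ∈ T, ∃ t ∈ T, s ∉ centralizer (A : Set X) ∧ t ∉ centralizer (A : Set X) ∧
      s * t ∉ centralizer (A : Set X))
    (hodd : ∃ P : Subgroup X, P ≤ N ∧ P ≤ centralizer (A : Set X) ∧ Odd (P.relIndex N))
    (hC : ∀ s ∈ T, s ∉ centralizer (A : Set X) → ∀ a ∈ A, s * a = a * s → a ∈ C)
    (hCT : ∀ c ∈ C, ∀ s ∈ T, s * c = c * s) :
    ∀ n ∈ N, ∀ c ∈ C, n * c * n⁻¹ ∈ C := by
  set φ : normalizer (A : Set X) →* MulAut A := A.normalizerMonoidHom with hφ
  have hφv : ∀ (g : normalizer (A : Set X)) (a : A), ((φ g a : A) : X) = g * a * (g : X)⁻¹ :=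
    fun g a => rfl
  have hφ1 : ∀ g : normalizer (A : Set X), φ g = 1 ↔ (g : X) ∈ centralizer (A : Set X) := by
    intro g
    rw [mem_centralizer_iff]
    constructor
    · intro h a ha
      have h1 := hφv g ⟨a, ha⟩
      rw [h] at h1
      change a = g * a * (g : X)⁻¹ at h1
      calc a * g = (g * a * (g : X)⁻¹) * g := by rw [← h1]
        _ = g * a := by group
    · intro h
      ext a
      rw [hφv]
      change g * (a : X) * (g : X)⁻¹ = a
      rw [← h a a.2]
      group
  let D : Subgroup (MulAut A) :=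
    { carrier := {f | ∀ a : A, ((f a : A) : X) ∈ C ↔ (a : X) ∈ C}
      mul_mem' := by
        intro f g hf hg a
        rw [MulAut.mul_apply, hf, hg]
      one_mem' := fun a => Iff.rfl
      inv_mem' := by
        intro f hf a
        rw [← hf (f⁻¹ a), MulAut.apply_inv_self] }
  have hWD : (N.subgroupOf (normalizer (A : Set X))).map φ ≤ D := by
    apply le_of_commute ((T.subgroupOf (normalizer (A : Set X))).map φ)
    · rintro _ ⟨s, hs, rfl⟩ _ ⟨t, ht, rfl⟩
      ext a
      rw [← map_mul, ← map_mul, hφv, hφv]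
      exact hTT s hs t ht a a.2
    · rintro _ ⟨s, hs, rfl⟩
      ext a
      rw [← map_mul, hφv]
      exact hT2 s hs a a.2
    · obtain ⟨s, hs, t, ht, h1, h2, h3⟩ := h4
      refine ⟨φ ⟨s, hT hs⟩, ⟨_, hs, rfl⟩, φ ⟨t, hT ht⟩, ⟨_, ht, rfl⟩, ?_, ?_, ?_⟩
      · rw [Ne, hφ1]
        exact h1
      · rw [Ne, hφ1]
        exact h2
      · rw [← map_mul, Ne, hφ1]
        exact h3
    · obtain ⟨P, hPN, hPA, hodd⟩ := hodd
      have h1 : Nat.card ((N.subgroupOf (normalizer (A : Set X))).map φ) ∣ P.relIndex N := by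
        have h2 : Nat.card ((N.subgroupOf (normalizer (A : Set X))).map φ) =
            (φ.ker).relIndex (N.subgroupOf (normalizer (A : Set X))) := by
          rw [Subgroup.relIndex_ker]
        rw [h2]
        have h3 : P.subgroupOf (normalizer (A : Set X)) ≤ φ.ker := by
          intro g hg
          rw [MonoidHom.mem_ker, hφ1]
          exact hPA hg
        have h4 := Subgroup.relIndex_dvd_of_le_left (N.subgroupOf (normalizer (A : Set X))) h3
        rwa [Subgroup.relIndex_subgroupOf hN] at h4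
      exact Odd.of_dvd_nat hodd h1
    · rintro _ ⟨s, hs, rfl⟩
      have hsN := hTN hs
      rw [mem_normalizer_iff] at hsN ⊢
      intro f
      constructor
      · rintro ⟨n, hn, rfl⟩
        refine ⟨s * n * s⁻¹, ?_, by rw [map_mul, map_mul, map_inv]⟩
        exact (hsN n).1 hn
      · rintro ⟨n, hn, hnf⟩
        refine ⟨s⁻¹ * n * s, ?_, ?_⟩
        · have h1 : (s : X) * ((s⁻¹ * n * s : normalizer (A : Set X)) : X) * (s : X)⁻¹ = n := by
            change (s : X) * ((s : X)⁻¹ * n * s) * (s : X)⁻¹ = n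
            group
          have h2 := (hsN ((s⁻¹ * n * s : normalizer (A : Set X)) : X)).2 (h1.symm ▸ hn)
          exact h2
        · rw [map_mul, map_mul, map_inv, hnf]
          group
    · rintro _ ⟨s, hs, rfl⟩ hs1 _ ⟨n, hn, rfl⟩ hcom
      have hsC : (s : X) ∉ centralizer (A : Set X) := by
        intro h
        exact hs1 ((hφ1 s).2 h)
      have key : ∀ a : A, (a : X) ∈ C ↔ φ s a = a := by
        intro a
        constructor
        · intro ha
          apply Subtype.ext
          rw [hφv, hCT a ha s hs]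
          group
        · intro ha
          apply hC s hs hsC a a.2
          have h1 := hφv s a
          rw [ha] at h1
          calc (s : X) * a = (s * a * (s : X)⁻¹) * s := by group
            _ = a * s := by rw [← h1]
      intro a
      rw [key, key]
      have h1 : φ s (φ n a) = φ n (φ s a) := by
        rw [← MulAut.mul_apply, ← MulAut.mul_apply, hcom]
      rw [h1]
      exact (φ n).injective.eq_iff
  intro n hn c hc
  have h1 : φ ⟨n, hN hn⟩ ∈ D := hWD ⟨⟨n, hN hn⟩, hn, rfl⟩
  have h2 := (h1 ⟨c, hCA hc⟩).2 hc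
  rw [hφv] at h2
  exact h2

end Cfsg.Agent.SylowL.OddAct
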