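import Cfsg.Agent.SylowL.NoComp
import Cfsg.Agent.SylowL.OddAct

/-!
# No components: a strongly closed subgroup with a noncyclic group of automorphisms with constant fixed points

`layer_eq_bot` is step (C5) of the recognition of `PSL(m, 2^r)` by a Sylow 2-subgroup.
-/

set_option autoImplicit false
set_option linter.unusedSectionVars false

namespace Cfsg.Agent.SylowL.NoCompT

open Subgroup Cfsg
open scoped commutatorElement
open Cfsg.Agent.SignalizersComponents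
open Cfsg.Agent.SignalizersComponents.Components
open Cfsg.Agent.SignalizersComponents.ComponentExists (layer_eq_bot_iff)
open Cfsg.Agent.SylowL.CompFacts
open Cfsg.Agent.SylowL.NoComp

universe u

variable {X : Type u} [Group X] [Finite X] {T : Sylow 2 X} {A C K L : Subgroup X}

theorem inf_centralizer_le (hK : Cfsg.IsComponent K) :
    K ⊓ centralizer (K : Set X) ≤ centralizer (Cfsg.layer X : Set X) := by
  rw [le_centralizer_iff]
  refine sSup_le ?_
  intro L hL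
  rw [le_centralizer_iff]
  by_cases h : K = L
  · rw [← h]
    exact inf_le_right
  · have h1 := component_commutator_eq_bot_of_ne hK hL h
    rw [commutator_eq_bot_iff_le_centralizer] at h1
    exact inf_le_left.trans h1

theorem mem_normalizer_of_conj_mem {P : Subgroup X} {g : X} (h : ∀ x ∈ P, g * x * g⁻¹ ∈ P) :
    g ∈ normalizer (P : Set X) := by
  apply BalanceAux.mem_normalizer_of_map_conj_eq
  apply Subgroup.eq_of_le_of_card_ge
  · rintro _ ⟨x, hx, rfl⟩
    exact h x hx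
  · rw [Subgroup.card_map_of_injective (MulAut.conj g).injective]

/-- `N_K(T ∩ K)` is transitive on the non-central elements of `A ∩ K` modulo the centre. -/
theorem exists_conj (hG : GoldHyp.{u}) (hO : Cfsg.oddCore X = ⊥) (hAe : Cfsg.IsElementaryAbelian 2 A)
    (hA : Cfsg.IsStronglyClosed A (T : Subgroup X)) (hK : Cfsg.IsComponent K) {v v' : X}
    (hv : v ∈ A ⊓ K) (hv1 : v ∉ centralizer (K : Set X)) (hv' : v' ∈ A ⊓ K)
    (hv1' : v' ∉ centralizer (K : Set X)) :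
    ∃ n ∈ K, n ∈ normalizer (((T : Subgroup X) ⊓ K : Subgroup X) : Set X) ∧
      v'⁻¹ * (n * v * n⁻¹) ∈ centralizer (K : Set X) := by
  haveI : Fact (Nat.Prime 2) := ⟨Nat.prime_two⟩
  obtain ⟨hsim, hna⟩ := simple_quot hK
  obtain ⟨P, hP, hsc⟩ := exists_quot T hK.1
  have hA' := hsc A hA
  have hne : (A.subgroupOf K).map (QuotientGroup.mk' (center K)) ≠ ⊥ := by
    intro hbot
    apply mk_ne_one hv.2 hv1
    rw [← mem_bot, ← hbot]
    exact ⟨⟨v, hv.2⟩, hv.1, rfl⟩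
  obtain ⟨hcj, hcen⟩ := hG.conj (K ⧸ center K) hna P _ (elem_map hAe K _) hA' hne
  set π := QuotientGroup.mk' (center K) with hπ
  have hmem : ∀ w, ∀ hw : w ∈ A ⊓ K, π ⟨w, hw.2⟩ ∈ centralizer ((P : Subgroup (K ⧸ center K)) : Set _) := by
    intro w hw
    rw [mem_centralizer_iff]
    intro s hs
    refine hcen _ ?_ ?_ s hs
    · rw [hP]
      exact ⟨⟨w, hw.2⟩, hA.1 hw.1, rfl⟩
    · rw [← map_mul]
      have : (⟨w, hw.2⟩ : K) * ⟨w, hw.2⟩ = 1 := Subtype.ext (elem_sq hAe hw.1)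
      rw [this, map_one]
  obtain ⟨g, hg⟩ := hcj _ _ (orderOf_mk hAe hv hv1) (orderOf_mk hAe hv' hv1')
  have hg' : g⁻¹⁻¹ * π ⟨v, hv.2⟩ * g⁻¹ = π ⟨v', hv'.2⟩ := by
    rw [inv_inv]
    exact hg
  obtain ⟨n, hn, hgn⟩ := Sylow.conj_eq_normalizer_conj_of_mem_centralizer P (π ⟨v, hv.2⟩) g⁻¹
    (hmem v hv) (by rw [hg']; exact hmem v' hv')
  rw [hg'] at hgn
  obtain ⟨m, hm⟩ := QuotientGroup.mk'_surjective (center K) n⁻¹
  rw [← hπ] at hm
  have hmn : π m ∈ normalizer ((P : Subgroup (K ⧸ center K)) : Set _) := by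
    rw [hm]
    exact inv_mem hn
  refine ⟨m, m.2, ?_, ?_⟩
  · apply mem_normalizer_of_conj_mem
    intro x hx
    have h1 : π ⟨x, hx.2⟩ ∈ (P : Subgroup (K ⧸ center K)) := by
      rw [hP]
      exact ⟨⟨x, hx.2⟩, hx.1, rfl⟩
    have h2 := (mem_normalizer_iff.1 hmn _).1 h1
    rw [← map_inv, ← map_mul, ← map_mul, hP] at h2
    obtain ⟨y, hy, hyx⟩ := h2
    have h3 := QuotientGroup.eq.1 hyx
    rw [mem_center_iff_mem_centralizer] at h3
    have h4 : ((y⁻¹ * (m * ⟨x, hx.2⟩ * m⁻¹) : K) : X) ∈ (T : Subgroup X) :=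
      Lib.Cores.pCore_le_sylow T
        (BalanceAux.center_component_le_pCore 2 hO hK ⟨SetLike.coe_mem _, h3⟩)
    refine ⟨?_, Subgroup.mul_mem K (Subgroup.mul_mem K m.2 hx.2) (Subgroup.inv_mem K m.2)⟩
    have h5 : (m : X) * x * (m : X)⁻¹ = (y : X) * ((y⁻¹ * (m * ⟨x, hx.2⟩ * m⁻¹) : K) : X) := by
      change _ = (y : X) * ((y : X)⁻¹ * ((m : X) * x * (m : X)⁻¹))
      group
    change (m : X) * x * (m : X)⁻¹ ∈ (T : Subgroup X)
    rw [h5]
    exact (T : Subgroup X).mul_mem hy h4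
  · have h1 : π (⟨v', hv'.2⟩⁻¹ * (m * ⟨v, hv.2⟩ * m⁻¹)) = 1 := by
      rw [map_mul, map_inv, map_mul, map_mul, map_inv, hm, inv_inv, ← hgn, inv_mul_cancel]
    rw [hπ, QuotientGroup.mk'_apply, QuotientGroup.eq_one_iff, mem_center_iff_mem_centralizer] at h1
    exact h1

theorem layer_eq_bot (hG : GoldHyp.{u}) (hO : Cfsg.oddCore X = ⊥) (T : Sylow 2 X)
    (hAe : Cfsg.IsElementaryAbelian 2 A) (hA : Cfsg.IsStronglyClosed A (T : Subgroup X)) (hCA : C ≤ A)
    (hCT : ∀ c ∈ C, ∀ s ∈ (T : Subgroup X), s * c = c * s)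
    (hC : ∀ s ∈ (T : Subgroup X), s ∉ centralizer (A : Set X) → ∀ a ∈ A, s * a = a * s → a ∈ C)
    (hq : ∀ s ∈ (T : Subgroup X), ∀ a ∈ A, s * a * s⁻¹ * a⁻¹ ∈ C)
    (hd : ∀ s ∈ (T : Subgroup X), s ∉ centralizer (A : Set X) → ∀ a ∈ A,
      s * a * s⁻¹ * a⁻¹ ∈ centralizer (Cfsg.layer X : Set X) → s * a * s⁻¹ * a⁻¹ = 1)
    (hTT : ∀ s ∈ (T : Subgroup X), ∀ t ∈ (T : Subgroup X), ∀ a ∈ A,
      s * t * a * (s * t)⁻¹ = t * s * a * (t * s)⁻¹)
    (hT2 : ∀ s ∈ (T : Subgroup X), s * s ∈ centralizer (A : Set X))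
    (h4 : ∃ s ∈ (T : Subgroup X), ∃ t ∈ (T : Subgroup X), s ∉ centralizer (A : Set X) ∧
      t ∉ centralizer (A : Set X) ∧ s * t ∉ centralizer (A : Set X))
    {z : X} (hz : z ∈ ⁅A, (T : Subgroup X)⁆)
    (hzK : ∀ K : Subgroup X, Cfsg.IsComponent K → z ∉ centralizer (K : Set X)) :
    Cfsg.layer X = ⊥ := by
  rw [layer_eq_bot_iff]
  intro K hK
  -- `A` does not centralise `K`
  have hTA : (T : Subgroup X) ≤ normalizer (A : Set X) := by
    intro s hs
    apply mem_normalizer_of_conj_mem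
    intro a ha
    exact hA.2 a ha s (mul_mem (mul_mem hs (hA.1 ha)) (inv_mem hs))
  have hzA : z ∈ A := by
    have h1 : ⁅A, (T : Subgroup X)⁆ ≤ A := by
      rw [commutator_le]
      intro a ha s hs
      have h2 : s * a⁻¹ * s⁻¹ ∈ A := (mem_normalizer_iff.1 (hTA hs) _).1 (inv_mem ha)
      have h3 : ⁅a, s⁆ = a * (s * a⁻¹ * s⁻¹) := by
        rw [commutatorElement_def]
        group
      rw [h3]
      exact mul_mem ha h2
    exact h1 hz
  have hnA : ¬ K ≤ centralizer (A : Set X) := by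
    intro h
    rw [le_centralizer_iff] at h
    exact hzK K hK (h hzA)
  have hcomm : ∀ a ∈ A, ∀ b ∈ A, a * b = b * a := fun a ha b hb => elem_comm hAe ha hb
  obtain ⟨v0, hv0, hv0'⟩ := exists_not_central hG hO hAe hA hK hnA
  have hinv : ∀ a ∈ A, a⁻¹ = a := fun a ha => inv_eq_of_mul_eq_one_left (elem_sq hAe ha)
  have hconjA : ∀ s ∈ (T : Subgroup X), ∀ a ∈ A, s * a * s⁻¹ ∈ A :=
    fun s hs a ha => (mem_normalizer_iff.1 (hTA hs) a).1 ha
  have hKL : K ⊓ centralizer (K : Set X) ≤ centralizer (Cfsg.layer X : Set X) := inf_centralizer_le hK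
  have hcomK : ∀ s, s ∉ normalizer (K : Set X) → ∀ v ∈ K, s * v * s⁻¹ ∈ centralizer (K : Set X) := by
    intro s hs v hv
    rw [mem_centralizer_iff]
    intro k hk
    exact (commute_of_notMem_normalizer hK hs hv hk).symm
  have hnotC : ∀ s, s ∉ normalizer (K : Set X) → s ∉ centralizer (A : Set X) := by
    intro s hs h
    apply hs
    apply mem_normalizer_of_commute hK hv0.2 hv0'
    exact (mem_centralizer_iff.1 h v0 hv0.1).symm
  -- Step 1: `T` normalises `K`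
  have hTK : (T : Subgroup X) ≤ normalizer (K : Set X) := by
    intro s hs
    by_contra hsK
    have hsA := hnotC s hsK
    have hw : ∀ v ∈ A ⊓ K, ∀ y ∈ (T : Subgroup X),
        y * (v * (s * v * s⁻¹)) * y⁻¹ = v * (s * v * s⁻¹) := by
      intro v hv y hy
      have h1 : v * (s * v * s⁻¹) = s * v * s⁻¹ * v⁻¹ := by
        rw [hinv v hv.1]
        exact hcomm _ hv.1 _ (hconjA s hs v hv.1)
      have h2 := hCT _ (hq s hs v hv.1) y hy
      rw [← h1] at h2
      rw [h2, mul_inv_cancel_right]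
    by_cases hi : ∃ y ∈ (T : Subgroup X), y ∈ normalizer (K : Set X) ∧ y ∉ centralizer (A : Set X)
    · obtain ⟨y, hy, hyK, hyA⟩ := hi
      have hysK : y * s ∉ normalizer (K : Set X) := by
        intro h
        apply hsK
        have := mul_mem (inv_mem hyK) h
        rwa [inv_mul_cancel_left] at this
      have h1 : ∀ v ∈ A ⊓ K, y * v * y⁻¹ * v⁻¹ = 1 := by
        intro v hv
        apply hd y hy hyA v hv.1
        apply hKL
        refine ⟨Subgroup.mul_mem K ((mem_normalizer_iff.1 hyK v).1 hv.2) (Subgroup.inv_mem K hv.2), ?_⟩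
        have h2 := hw v hv y hy
        have h3 : y * v * y⁻¹ * v⁻¹ = (s * v * s⁻¹) * (y * s * v * (y * s)⁻¹)⁻¹ := by
          have h5 : y * v * y⁻¹ * (y * s * v * (y * s)⁻¹) = v * (s * v * s⁻¹) := by
            rw [← h2]
            group
          have h6 : y * v * y⁻¹ = v * (s * v * s⁻¹) * (y * s * v * (y * s)⁻¹)⁻¹ := by
            rw [← h5]
            group
          have hc1 : (s * v * s⁻¹) * (y * s * v * (y * s)⁻¹)⁻¹ ∈ A :=
            mul_mem (hconjA s hs v hv.1) (inv_mem (hconjA _ (mul_mem hy hs) v hv.1))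
          rw [h6, mul_assoc v, hcomm v hv.1 _ hc1, mul_assoc, mul_inv_cancel, mul_one]
        rw [h3]
        exact Subgroup.mul_mem _ (hcomK s hsK v hv.2) (Subgroup.inv_mem _ (hcomK _ hysK v hv.2))
      have h2 : v0 ∈ C := by
        apply hC y hy hyA v0 hv0.1
        have := h1 v0 hv0
        calc y * v0 = y * v0 * y⁻¹ * v0⁻¹ * (v0 * y) := by group
          _ = v0 * y := by rw [this, one_mul]
      exact hsK (mem_normalizer_of_commute hK hv0.2 hv0' (hCT v0 h2 s hs))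
    · push Not at hi
      have hi' : ∀ y ∈ (T : Subgroup X), y ∉ centralizer (A : Set X) → y ∉ normalizer (K : Set X) :=
        fun y hy hyA hyK => hyA (hi y hy hyK)
      have hex : ∃ y ∈ (T : Subgroup X), y ∉ centralizer (A : Set X) ∧
          y * s ∉ centralizer (A : Set X) := by
        obtain ⟨s1, hs1, s2, hs2, h1, h2, h3⟩ := h4
        by_cases hc : s1 * s ∈ centralizer (A : Set X)
        · refine ⟨s2, hs2, h2, ?_⟩
          intro hc2
          apply h3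
          have h5 : s1 * s2 = (s1 * s) * (s2 * s)⁻¹ * (s2 * s2) := by group
          rw [h5]
          exact mul_mem (mul_mem hc (inv_mem hc2)) (hT2 s2 hs2)
        · exact ⟨s1, hs1, h1, hc⟩
      obtain ⟨y, hy, hyA, hysA⟩ := hex
      apply hv0'
      have h2 := hw v0 hv0 y hy
      have h3 : v0 = y * v0 * y⁻¹ * (y * s * v0 * (y * s)⁻¹) * (s * v0 * s⁻¹)⁻¹ := by
        calc v0 = v0 * (s * v0 * s⁻¹) * (s * v0 * s⁻¹)⁻¹ := by group
          _ = y * (v0 * (s * v0 * s⁻¹)) * y⁻¹ * (s * v0 * s⁻¹)⁻¹ := by rw [h2]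
          _ = _ := by group
      rw [h3]
      exact mul_mem (mul_mem (hcomK y (hi' y hy hyA) v0 hv0.2)
        (hcomK _ (hi' _ (mul_mem hy hs) hysA) v0 hv0.2)) (inv_mem (hcomK s hsK v0 hv0.2))
  -- Step 2: `T ∩ K` centralises `A`
  have hTKA : (T : Subgroup X) ⊓ K ≤ centralizer (A : Set X) := by
    intro s hs
    by_contra hsA
    apply hsA
    rw [mem_centralizer_iff]
    intro a ha
    obtain ⟨v, hv, c, hc, rfl⟩ := hG.inner X hO T A hAe hA K hK hnA a ha
    have h1 := commutator_mem hG hO hAe hA hK hnA hv hs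
    have h2 : s * (v * c) * s⁻¹ * (v * c)⁻¹ = s * v * s⁻¹ * v⁻¹ := by
      have h3 : s * c = c * s := mem_centralizer_iff.1 hc.2 s hs.2
      calc s * (v * c) * s⁻¹ * (v * c)⁻¹ = s * v * (c * s⁻¹) * c⁻¹ * v⁻¹ := by group
        _ = s * v * (s⁻¹ * (s * c) * s⁻¹) * c⁻¹ * v⁻¹ := by group
        _ = s * v * (s⁻¹ * (c * s) * s⁻¹) * c⁻¹ * v⁻¹ := by rw [h3]
        _ = s * v * s⁻¹ * v⁻¹ := by group
    have h3 := hd s hs.1 hsA (v * c) ha (by
      rw [h2]
      apply hKL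
      exact ⟨Subgroup.mul_mem K (Subgroup.mul_mem K (Subgroup.mul_mem K hs.2 hv.2) (Subgroup.inv_mem K hs.2)) (Subgroup.inv_mem K hv.2), h1⟩)
    calc v * c * s = (s * (v * c) * s⁻¹ * (v * c)⁻¹)⁻¹ * (s * (v * c)) := by group
      _ = s * (v * c) := by rw [h3, inv_one, one_mul]
  -- Step 3: `N_K(T ∩ K)` normalises `C`
  have hinv3 : ∀ n ∈ K ⊓ normalizer (((T : Subgroup X) ⊓ K : Subgroup X) : Set X),
      ∀ c ∈ C, n * c * n⁻¹ ∈ C := by
    apply OddAct.conj_mem A (T : Subgroup X) _ C hCA hTA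
    · rintro n ⟨hnK, hnT⟩
      apply mem_normalizer_of_conj_mem
      intro a ha
      obtain ⟨v, hv, c, hc, rfl⟩ := hG.inner X hO T A hAe hA K hK hnA a ha
      have h1 : n * v * n⁻¹ ∈ (T : Subgroup X) ⊓ K :=
        (mem_normalizer_iff.1 hnT v).1 ⟨hA.1 hv.1, hv.2⟩
      have h2 : n * v * n⁻¹ ∈ A := hA.2 v hv.1 n h1.1
      have h3 : n * c = c * n := mem_centralizer_iff.1 hc.2 n hnK
      have h5 : n * (v * c) * n⁻¹ = (n * v * n⁻¹) * c := by
        calc n * (v * c) * n⁻¹ = n * v * n⁻¹ * (n * c) * n⁻¹ := by group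
          _ = n * v * n⁻¹ * (c * n) * n⁻¹ := by rw [h3]
          _ = (n * v * n⁻¹) * c := by group
      rw [h5]
      exact mul_mem h2 hc.1
    · intro s hs
      apply mem_normalizer_of_conj_mem
      rintro n ⟨hnK, hnT⟩
      refine ⟨(mem_normalizer_iff.1 (hTK hs) n).1 hnK, ?_⟩
      have hs' : s ∈ normalizer (((T : Subgroup X) ⊓ K : Subgroup X) : Set X) := by
        apply mem_normalizer_of_conj_mem
        rintro x ⟨hx1, hx2⟩
        exact ⟨Subgroup.mul_mem _ (Subgroup.mul_mem _ hs hx1) (Subgroup.inv_mem _ hs), (mem_normalizer_iff.1 (hTK hs) x).1 hx2⟩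
      exact Subgroup.mul_mem _ (Subgroup.mul_mem _ hs' hnT) (Subgroup.inv_mem _ hs')
    · exact hTT
    · intro s hs a ha
      have := mem_centralizer_iff.1 (hT2 s hs) a ha
      rw [← this]
      group
    · exact h4
    · refine ⟨(T : Subgroup X) ⊓ K, le_inf inf_le_right Subgroup.le_normalizer, hTKA, ?_⟩
      obtain ⟨P, hP⟩ := exists_sylow T hK.1
      have h1 : ¬ 2 ∣ ((T : Subgroup X) ⊓ K).relIndex K := by
        rw [Subgroup.inf_relIndex_right]
        have := P.not_dvd_index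
        rwa [hP] at this
      rw [← Nat.not_even_iff_odd, even_iff_two_dvd]
      intro h2
      apply h1
      have h3 := Subgroup.relIndex_mul_relIndex ((T : Subgroup X) ⊓ K)
        (K ⊓ normalizer (((T : Subgroup X) ⊓ K : Subgroup X) : Set X)) K
        (le_inf inf_le_right Subgroup.le_normalizer) inf_le_left
      rw [← h3]
      exact Dvd.dvd.mul_right h2 _
    · exact hC
    · exact hCT
  -- Step 4
  by_cases hc : ∃ c ∈ C ⊓ K, c ∉ centralizer (K : Set X)
  · obtain ⟨c, hc, hc'⟩ := hc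
    -- `A ≤ C C_A(K)`
    have h5 : ∀ a ∈ A, ∃ d ∈ C, ∃ e ∈ A ⊓ centralizer (K : Set X), a = d * e := by
      intro a ha
      obtain ⟨v, hv, e, he, rfl⟩ := hG.inner X hO T A hAe hA K hK hnA a ha
      by_cases hvc : v ∈ centralizer (K : Set X)
      · exact ⟨1, one_mem _, v * e, ⟨ha, mul_mem hvc he.2⟩, by rw [one_mul]⟩
      · obtain ⟨n, hnK, hnT, hn⟩ := exists_conj hG hO hAe hA hK ⟨hCA hc.1, hc.2⟩ hc' hv hvc
        have h6 := hinv3 n ⟨hnK, hnT⟩ c hc.1
        refine ⟨n * c * n⁻¹, h6, (v⁻¹ * (n * c * n⁻¹))⁻¹ * e, ?_, ?_⟩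
        · refine ⟨Subgroup.mul_mem A (Subgroup.inv_mem A (Subgroup.mul_mem A (Subgroup.inv_mem A hv.1) (hCA h6))) he.1, ?_⟩
          exact Subgroup.mul_mem _ (Subgroup.inv_mem _ hn) he.2
        · have h7 : (v⁻¹ * (n * c * n⁻¹))⁻¹ = (n * c * n⁻¹)⁻¹ * v := by group
          rw [h7]
          group
    apply hzK K hK
    have h6 : ⁅A, (T : Subgroup X)⁆ ≤ centralizer (K : Set X) := by
      rw [commutator_le]
      intro a ha s hs
      obtain ⟨d, hd', e, he, rfl⟩ := h5 a ha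
      have h7 : s * d = d * s := hCT d hd' s hs
      have h8 : d * e = e * d := hcomm d (hCA hd') e he.1
      have h9 : ⁅d * e, s⁆ = e * (s * e⁻¹ * s⁻¹) := by
        rw [commutatorElement_def, h8, mul_inv_rev]
        calc e * d * s * (d⁻¹ * e⁻¹) * s⁻¹ = e * (d * s) * d⁻¹ * e⁻¹ * s⁻¹ := by group
          _ = e * (s * d) * d⁻¹ * e⁻¹ * s⁻¹ := by rw [h7]
          _ = e * (s * e⁻¹ * s⁻¹) := by group
      rw [h9]
      exact mul_mem he.2 (conj_mem_centralizer (hTK hs) (inv_mem he.2))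
    exact h6 hz
  · push Not at hc
    apply hv0'
    apply hc v0
    refine ⟨?_, hv0.2⟩
    obtain ⟨s, hs, -, -, hsA, -, -⟩ := h4
    apply hC s hs hsA v0 hv0.1
    have h1 : s * v0 * s⁻¹ * v0⁻¹ = 1 := by
      apply hd s hs hsA v0 hv0.1
      apply hKL
      have h2 : s * v0 * s⁻¹ * v0⁻¹ ∈ C ⊓ K :=
        ⟨hq s hs v0 hv0.1, Subgroup.mul_mem K ((mem_normalizer_iff.1 (hTK hs) v0).1 hv0.2) (Subgroup.inv_mem K hv0.2)⟩
      exact ⟨h2.2, hc _ h2⟩
    calc s * v0 = s * v0 * s⁻¹ * v0⁻¹ * (v0 * s) := by group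
      _ = v0 * s := by rw [h1, one_mul]

end Cfsg.Agent.SylowL.NoCompT
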