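import Cfsg.Agent.SylowL.Rect
import Cfsg.Agent.SylowL.NatSec

/-!
# Natural sections given by patterns

`Q k` is the subgroup of `UT m F` of the matrices with entry `0` at the position `(k - 1, k)`.
-/

set_option autoImplicit false
set_option linter.unusedSectionVars false

namespace Cfsg.Agent.SylowL.PSec

open Matrix
open Cfsg.Agent.SylowL.Lev Cfsg.Agent.SylowL.UT Cfsg.Agent.SylowL.Pat Cfsg.Agent.SylowL.Series
open Cfsg.Agent.SylowL.Rect Cfsg.Agent.SylowL.NatSec

variable {m : ℕ} {F : Type*} [Field F]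

local notation "Mat" => Matrix (Fin m) (Fin m) F

/-- The positions of `Q k`. -/
def Qd (k : ℕ) : ℕ → ℕ → Prop := fun i j => i < j ∧ ¬ (i + 1 = k ∧ j = k)

/-- The positions of the rectangle `rows < a`, `columns ≥ b`. -/
def Rd (a b : ℕ) : ℕ → ℕ → Prop := fun i j => i < a ∧ b ≤ j

theorem isUR_Q (m k : ℕ) : IsUR m (Qd k) where
  lt i j h := h.1
  up i j l hij hjl := by
    unfold Qd at *
    omega
  right i j l hij hjl hl := by
    unfold Qd at *
    omega

theorem isUR_R (m : ℕ) {a b : ℕ} (hab : a ≤ b) : IsUR m (Rd a b) where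
  lt i j h := by unfold Rd at *; omega
  up i j l hij hjl := by unfold Rd at *; omega
  right i j l hij hjl hl := by unfold Rd at *; omega

theorem isUR_all (m : ℕ) : IsUR m (fun i j => i < j) where
  lt i j h := h
  up i j l hij hjl := by omega
  right i j l hij hjl hl := by omega

theorem X_all : X F (isUR_all m) = ⊤ := by
  rw [eq_top_iff]
  intro g _ i j hij
  have := N_mem g i j hij
  omega

/-- The subgroup `Q k`. -/
abbrev Q (m : ℕ) (F : Type*) [Field F] (k : ℕ) : Subgroup (UT m F) := X F (isUR_Q m k)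

theorem mem_Q {k : ℕ} (hk : 0 < k) (hkm : k < m) {g : UT m F} :
    g ∈ Q m F k ↔ N g ⟨k - 1, by omega⟩ ⟨k, hkm⟩ = 0 := by
  rw [mem_X]
  constructor
  · intro h
    by_contra h1
    have h2 := h _ _ h1
    exact h2.2 ⟨by simp only; omega, rfl⟩
  · intro h i j hij
    refine ⟨by have := N_mem g i j hij; omega, ?_⟩
    rintro ⟨h1, h2⟩
    apply hij
    have hi : i = ⟨k - 1, by omega⟩ := Fin.ext (by simp only; omega)
    have hj : j = ⟨k, hkm⟩ := Fin.ext h2
    exact (congrArg₂ (N g) hi hj).trans h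

theorem tq [Finite F] [CharP F 2] {k : ℕ} (hk : 0 < k) (hkm : k < m) (hF : 4 ≤ Nat.card F) :
    TQ (Q m F k) (Nat.card F) where
  normal := X_normal _
  sq s := by
    rw [mem_X']
    have h1 : N (s * s) = N s * N s := by
      rw [N_mul]
      have h2 : N s + N s = 0 := by
        ext i j
        rw [Matrix.add_apply, Matrix.zero_apply]
        exact CharTwo.add_self_eq_zero _
      rw [h2, zero_add]
    rw [h1]
    intro i j hij
    have h2 := mul_mem_lev (N_mem s) (N_mem s) i j hij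
    exact ⟨by omega, by omega⟩
  index := by
    rw [← Subgroup.relIndex_top_right, ← X_all]
    refine relIndex_insert (a := k - 1) (b := k) _ _ (by omega) hkm ?_ ?_
    · unfold Qd
      omega
    · intro i j hj
      unfold Qd
      omega
  four_le := hF

/-- Pattern conditions for a natural section. -/
structure PS (m k : ℕ) (Ω U1 Y Ψ : ℕ → ℕ → Prop) : Prop where
  urΩ : IsUR m Ω
  urU : IsUR m U1
  urY : IsUR m Y
  urΨ : IsUR m Ψ
  leY : ∀ i j, j < m → Ψ i j → Y i j
  leU : ∀ i j, j < m → Y i j → U1 i j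
  leΩ : ∀ i j, j < m → U1 i j → Ω i j
  leQ : ∀ i j, j < m → Ω i j → Qd k i j
  left : ∀ i j l, l < m → Qd k i j → Ω j l → Ψ i l
  right : ∀ i j l, l < m → Ω i j → Qd k j l → Ψ i l
  Uup : ∀ l, l < m → U1 k l → Ψ (k - 1) l
  Uright : ∀ i, U1 i (k - 1) → Ψ i k
  Yup : ∀ l, l < m → Ω k l → Y (k - 1) l
  Yright : ∀ i, Ω i (k - 1) → Y i k
  move : (∃ y, k < y ∧ y < m ∧ ¬ U1 k y ∧ ¬ Ψ (k - 1) y ∧
      (∀ i j, j < m → (Ω i j ↔ U1 i j ∨ (i = k ∧ j = y))) ∧
      ∀ i j, j < m → (Y i j ↔ Ψ i j ∨ (i = k - 1 ∧ j = y))) ∨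
    ∃ x, x + 1 < k ∧ ¬ U1 x (k - 1) ∧ ¬ Ψ x k ∧
      (∀ i j, j < m → (Ω i j ↔ U1 i j ∨ (i = x ∧ j = k - 1))) ∧
      ∀ i j, j < m → (Y i j ↔ Ψ i j ∨ (i = x ∧ j = k))

variable {k : ℕ} {Ω U1 Y Ψ : ℕ → ℕ → Prop}

/-- Commutators of pattern subgroups. -/
theorem commutator_mem {Θ : ℕ → ℕ → Prop} (hΘ : IsUR m Θ) (hΩ : IsUR m Ω) (hΨ : IsUR m Ψ)
    {g x : UT m F} (hg : g ∈ X F hΘ) (hx : x ∈ X F hΩ)
    (h1 : ∀ i j l, l < m → Θ i j → Ω j l → Ψ i l)
    (h2 : ∀ i j l, l < m → Ω i j → Θ j l → Ψ i l) : g * x * g⁻¹ * x⁻¹ ∈ X F hΨ := by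
  rw [mem_X_commutator]
  refine sub_mem ?_ ?_
  · exact mul_mem_pat (D := fun i j : Fin m => Θ i j) (D' := fun i j : Fin m => Ω i j)
      (fun i j k h3 h4 => h1 i j k k.2 h3 h4) hg hx
  · exact mul_mem_pat (D := fun i j : Fin m => Ω i j) (D' := fun i j : Fin m => Θ i j)
      (fun i j k h3 h4 => h2 i j k k.2 h3 h4) hx hg

theorem mem_all (g : UT m F) : g ∈ X F (isUR_all m) := by
  rw [X_all]
  exact Subgroup.mem_top _

/-- A pattern section is a natural section. -/
theorem PS.tsec [Finite F] (h : PS m k Ω U1 Y Ψ) (hk : 0 < k) (hkm : k < m) :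
    TSec (Q m F k) (X F h.urΩ) (X F h.urU) (X F h.urY) (X F h.urΨ) (Nat.card F) where
  leY := (X_le _ _).2 h.leY
  leU := (X_le _ _).2 h.leU
  leΩ := (X_le _ _).2 h.leΩ
  leQ := (X_le _ _).2 h.leQ
  triv x hx a ha := commutator_mem _ _ _ hx ha h.left h.right
  fixed s a ha := by
    refine commutator_mem (isUR_all m) _ _ (mem_all s) ha ?_ ?_
    · intro i j l hl hij hjl
      by_cases h1 : i + 1 = k ∧ j = k
      · obtain ⟨h1, rfl⟩ := h1
        have h2 := h.Uup l hl hjl
        have h3 : j - 1 = i := by omega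
        rwa [h3] at h2
      · exact h.left i j l hl ⟨hij, h1⟩ (h.leΩ _ _ hl hjl)
    · intro i j l hl hij hjl
      by_cases h1 : j + 1 = k ∧ l = k
      · obtain ⟨h1, rfl⟩ := h1
        have h3 : j = l - 1 := by omega
        rw [h3] at hij
        exact h.Uright i hij
      · exact h.right i j l hl (h.leΩ _ _ (by omega) hij) ⟨hjl, h1⟩
  comm s a ha := by
    refine commutator_mem (isUR_all m) _ _ (mem_all s) ha ?_ ?_
    · intro i j l hl hij hjl
      by_cases h1 : i + 1 = k ∧ j = k
      · obtain ⟨h1, rfl⟩ := h1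
        have h2 := h.Yup l hl hjl
        have h3 : j - 1 = i := by omega
        rwa [h3] at h2
      · exact h.leY _ _ hl (h.left i j l hl ⟨hij, h1⟩ hjl)
    · intro i j l hl hij hjl
      by_cases h1 : j + 1 = k ∧ l = k
      · obtain ⟨h1, rfl⟩ := h1
        have h3 : j = l - 1 := by omega
        rw [h3] at hij
        exact h.Yright i hij
      · exact h.leY _ _ hl (h.right i j l hl hij ⟨hjl, h1⟩)
  fix s hs a ha hsa := by
    rw [mem_Q hk hkm] at hs
    rw [mem_X_commutator] at hsa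
    have haΩ : ∀ i j : Fin m, N a i j ≠ 0 → Ω i j := ha
    set k0 : Fin m := ⟨k - 1, by omega⟩ with hk0
    set k1 : Fin m := ⟨k, hkm⟩ with hk1
    have hsQ : ∀ i j : Fin m, ¬ (i = k0 ∧ j = k1) → N s i j ≠ 0 → Qd k i j := by
      intro i j hij hsij
      refine ⟨by have := N_mem s i j hsij; omega, fun h1 => hij ⟨Fin.ext ?_, Fin.ext ?_⟩⟩
      · rw [hk0]; simp only; omega
      · exact h1.2
    rcases h.move with ⟨y, hky, hym, hUy, hΨy, hΩ, -⟩ | ⟨x, hx, hUx, hΨx, hΩ, -⟩
    · set y' : Fin m := ⟨y, hym⟩ with hy'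
      -- the entry `(k - 1, y)` of the commutator
      have h1 : (N s * N a - N a * N s) k0 y' = N s k0 k1 * N a k1 y' := by
        rw [Matrix.sub_apply, Matrix.mul_apply, Matrix.mul_apply]
        rw [Finset.sum_eq_single k1, Finset.sum_eq_zero, sub_zero]
        · intro t _
          by_contra h2
          have h3 := haΩ _ _ (left_ne_zero_of_mul h2)
          have h4 := hsQ t y' (by
            rintro ⟨-, h5⟩
            rw [hy', hk1, Fin.mk.injEq] at h5
            omega) (right_ne_zero_of_mul h2)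
          exact hΨy (h.right _ _ _ hym h3 h4)
        · intro t _ ht
          by_contra h2
          have h3 := haΩ _ _ (right_ne_zero_of_mul h2)
          have h4 := hsQ k0 t (fun h5 => ht h5.2) (left_ne_zero_of_mul h2)
          exact hΨy (h.left _ _ _ hym h4 h3)
        · intro h2
          exact absurd (Finset.mem_univ _) h2
      have h2 : N a k1 y' = 0 := by
        by_contra h3
        exact hΨy (hsa k0 y' (by rw [h1]; exact mul_ne_zero hs h3))
      intro i j hij
      rcases (hΩ i j j.2).1 (haΩ i j hij) with h3 | ⟨h3, h4⟩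
      · exact h3
      · exfalso
        apply hij
        have hi : i = k1 := Fin.ext h3
        have hj : j = y' := Fin.ext h4
        rw [hi, hj, h2]
    · have hxm : x < m := by omega
      set x' : Fin m := ⟨x, hxm⟩ with hx'
      have h1 : (N s * N a - N a * N s) x' k1 = - (N a x' k0 * N s k0 k1) := by
        rw [Matrix.sub_apply, Matrix.mul_apply, Matrix.mul_apply]
        rw [Finset.sum_eq_zero, Finset.sum_eq_single k0, zero_sub]
        · intro t _ ht
          by_contra h2
          have h3 := haΩ _ _ (left_ne_zero_of_mul h2)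
          have h4 := hsQ t k1 (fun h5 => ht h5.1) (right_ne_zero_of_mul h2)
          exact hΨx (h.right _ _ _ hkm h3 h4)
        · intro h2
          exact absurd (Finset.mem_univ _) h2
        · intro t _
          by_contra h2
          have h3 := haΩ _ _ (right_ne_zero_of_mul h2)
          have h4 := hsQ x' t (by
            rintro ⟨h5, -⟩
            rw [hx', hk0, Fin.mk.injEq] at h5
            omega) (left_ne_zero_of_mul h2)
          exact hΨx (h.left _ _ _ hkm h4 h3)
      have h2 : N a x' k0 = 0 := by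
        by_contra h3
        exact hΨx (hsa x' k1 (by rw [h1]; exact neg_ne_zero.2 (mul_ne_zero h3 hs)))
      intro i j hij
      rcases (hΩ i j j.2).1 (haΩ i j hij) with h3 | ⟨h3, h4⟩
      · exact h3
      · exfalso
        apply hij
        have hi : i = x' := Fin.ext h3
        have hj : j = k0 := Fin.ext h4
        rw [hi, hj, h2]
  card_U := by
    rcases h.move with ⟨y, hky, hym, hUy, hΨy, hΩ, -⟩ | ⟨x, hx, hUx, hΨx, hΩ, -⟩
    · exact relIndex_insert _ _ hky hym hUy hΩ
    · exact relIndex_insert _ _ (by omega) (by omega) hUx hΩ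
  card_Y := by
    rcases h.move with ⟨y, hky, hym, hUy, hΨy, -, hY⟩ | ⟨x, hx, hUx, hΨx, -, hY⟩
    · exact relIndex_insert _ _ (by omega) hym hΨy hY
    · exact relIndex_insert _ _ (by omega) hkm hΨx hY

end Cfsg.Agent.SylowL.PSec
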