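import Cfsg.Agent.SylowL.NoCompT
import Cfsg.Agent.SylowL.QuotCore

/-!
# `NoCompT.layer_eq_bot` in a group with an odd core
-/

set_option autoImplicit false
set_option linter.unusedSectionVars false

namespace Cfsg.Agent.SylowL.QuotT

open Subgroup Cfsg
open scoped commutatorElement
open Cfsg.Agent.SylowL.CompFacts
open Cfsg.Agent.SignalizersComponents.ComponentExists (layer_eq_bot_iff)

universe u

variable {H : Type u} [Group H] [Finite H]

theorem mem_centralizer_iff_mk (T : Sylow 2 H) {A : Subgroup H} (hA : A ≤ (T : Subgroup H)) {s : H}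
    (hs : s ∈ (T : Subgroup H)) :
    QuotientGroup.mk' (Cfsg.oddCore H) s ∈
        centralizer ((A.map (QuotientGroup.mk' (Cfsg.oddCore H)) : Subgroup _) : Set _) ↔
      s ∈ centralizer (A : Set H) := by
  rw [mem_centralizer_iff, mem_centralizer_iff]
  constructor
  · intro h a ha
    apply QuotCore.eq_of_mk_eq T ((T : Subgroup H).mul_mem (hA ha) hs)
      ((T : Subgroup H).mul_mem hs (hA ha))
    rw [map_mul, map_mul]
    exact h _ ⟨a, ha, rfl⟩
  · rintro h _ ⟨a, ha, rfl⟩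
    rw [← map_mul, ← map_mul, h a ha]

theorem main (hG : GoldHyp.{u}) (T : Sylow 2 H) {A C : Subgroup H}
    (hAe : Cfsg.IsElementaryAbelian 2 A) (hA : Cfsg.IsStronglyClosed A (T : Subgroup H)) (hCA : C ≤ A)
    (hCT : ∀ c ∈ C, ∀ s ∈ (T : Subgroup H), s * c = c * s)
    (hC : ∀ s ∈ (T : Subgroup H), s ∉ centralizer (A : Set H) → ∀ a ∈ A, s * a = a * s → a ∈ C)
    (hq : ∀ s ∈ (T : Subgroup H), ∀ a ∈ A, s * a * s⁻¹ * a⁻¹ ∈ C)
    (hd : (∃ K : Subgroup (H ⧸ Cfsg.oddCore H), Cfsg.IsComponent K) →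
      ∀ s ∈ (T : Subgroup H), s ∉ centralizer (A : Set H) → ∀ a ∈ A,
      QuotientGroup.mk' (Cfsg.oddCore H) (s * a * s⁻¹ * a⁻¹) ∈
        centralizer (Cfsg.layer (H ⧸ Cfsg.oddCore H) : Set (H ⧸ Cfsg.oddCore H)) →
      s * a * s⁻¹ * a⁻¹ = 1)
    (hTT : ∀ s ∈ (T : Subgroup H), ∀ t ∈ (T : Subgroup H), ∀ a ∈ A,
      s * t * a * (s * t)⁻¹ = t * s * a * (t * s)⁻¹)
    (hT2 : ∀ s ∈ (T : Subgroup H), s * s ∈ centralizer (A : Set H))
    (h4 : ∃ s ∈ (T : Subgroup H), ∃ t ∈ (T : Subgroup H), s ∉ centralizer (A : Set H) ∧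
      t ∉ centralizer (A : Set H) ∧ s * t ∉ centralizer (A : Set H))
    {z : H} (hz : z ∈ ⁅A, (T : Subgroup H)⁆)
    (hzK : ∀ K : Subgroup (H ⧸ Cfsg.oddCore H), Cfsg.IsComponent K →
      QuotientGroup.mk' (Cfsg.oddCore H) z ∉ centralizer (K : Set (H ⧸ Cfsg.oddCore H))) :
    normalizer (A : Set H) ⊔ Cfsg.oddCore H = ⊤ := by
  have hinj := fun (x y : H) (hx : x ∈ (T : Subgroup H)) (hy : y ∈ (T : Subgroup H)) =>
    QuotCore.eq_of_mk_eq T hx hy
  set π := QuotientGroup.mk' (Cfsg.oddCore H) with hπ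
  have hs : Function.Surjective π := QuotientGroup.mk'_surjective _
  have hOq : Cfsg.oddCore (H ⧸ Cfsg.oddCore H) = ⊥ := Lib.Cores.pPrimeCore_quotient_pPrimeCore 2
  let P : Sylow 2 (H ⧸ Cfsg.oddCore H) := T.mapSurjective hs
  have hP : (P : Subgroup (H ⧸ Cfsg.oddCore H)) = (T : Subgroup H).map π := rfl
  have hA' : Cfsg.IsStronglyClosed (A.map π) (P : Subgroup (H ⧸ Cfsg.oddCore H)) :=
    S1250.result T A hA (Cfsg.oddCore H)
  have hcen : ∀ s ∈ (T : Subgroup H), π s ∈ centralizer ((A.map π : Subgroup _) : Set _) ↔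
      s ∈ centralizer (A : Set H) := fun s hs => mem_centralizer_iff_mk T hA.1 hs
  have hl : Cfsg.layer (H ⧸ Cfsg.oddCore H) = ⊥ := by
    by_cases hex : ∃ K : Subgroup (H ⧸ Cfsg.oddCore H), Cfsg.IsComponent K
    swap
    · push Not at hex
      exact layer_eq_bot_iff.2 hex
    apply NoCompT.layer_eq_bot hG hOq P (QuotCore.elem_map' hAe π) hA' (Subgroup.map_mono hCA)
    · rintro _ ⟨c, hc, rfl⟩ s hs
      rw [hP] at hs
      obtain ⟨s, hs, rfl⟩ := hs
      rw [← map_mul, ← map_mul, hCT c hc s hs]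
    · intro s hs hsA a ha hsa
      rw [hP] at hs
      obtain ⟨s, hs, rfl⟩ := hs
      obtain ⟨a, ha, rfl⟩ := ha
      rw [hcen s hs] at hsA
      refine ⟨a, hC s hs hsA a ha ?_, rfl⟩
      rw [← map_mul, ← map_mul] at hsa
      exact hinj _ _ ((T : Subgroup H).mul_mem hs (hA.1 ha)) ((T : Subgroup H).mul_mem (hA.1 ha) hs) hsa
    · intro s hs a ha
      rw [hP] at hs
      obtain ⟨s, hs, rfl⟩ := hs
      obtain ⟨a, ha, rfl⟩ := ha
      rw [← map_inv, ← map_inv, ← map_mul, ← map_mul, ← map_mul]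
      exact ⟨_, hq s hs a ha, rfl⟩
    · intro s hs hsA a ha h1
      rw [hP] at hs
      obtain ⟨s, hs, rfl⟩ := hs
      obtain ⟨a, ha, rfl⟩ := ha
      rw [hcen s hs] at hsA
      rw [← map_inv, ← map_inv, ← map_mul, ← map_mul, ← map_mul] at h1 ⊢
      rw [hd hex s hs hsA a ha h1, map_one]
    · intro s hs t ht a ha
      rw [hP] at hs ht
      obtain ⟨s, hs, rfl⟩ := hs
      obtain ⟨t, ht, rfl⟩ := ht
      obtain ⟨a, ha, rfl⟩ := ha
      have := congrArg π (hTT s hs t ht a ha)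
      simpa only [map_mul, map_inv] using this
    · intro s hs
      rw [hP] at hs
      obtain ⟨s, hs, rfl⟩ := hs
      rw [← map_mul, hcen _ ((T : Subgroup H).mul_mem hs hs)]
      exact hT2 s hs
    · obtain ⟨s, hs, t, ht, h1, h2, h3⟩ := h4
      refine ⟨π s, ⟨s, hs, rfl⟩, π t, ⟨t, ht, rfl⟩, ?_, ?_, ?_⟩
      · rwa [hcen s hs]
      · rwa [hcen t ht]
      · rw [← map_mul, hcen _ ((T : Subgroup H).mul_mem hs ht)]
        exact h3
    · have h1 : (⁅A.map π, (P : Subgroup (H ⧸ Cfsg.oddCore H))⁆ : Subgroup _) =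
          (⁅A, (T : Subgroup H)⁆ : Subgroup H).map π := by
        rw [hP, Subgroup.map_commutator]
      rw [h1]
      exact ⟨z, hz, rfl⟩
    · exact hzK
  exact QuotCore.normalizer_sup_of_map_normal T hA.1
    (NoComp.normal_of_layer hOq hl P
      (fun a ha b hb => elem_comm (QuotCore.elem_map' hAe π) ha hb) hA')

end Cfsg.Agent.SylowL.QuotT
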