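import Cfsg.Agent.SylowL.Series

/-!
# Pattern subgroups of `UT m F` closed up and to the right

A set of positions is a predicate on pairs of natural numbers.
-/

set_option autoImplicit false
set_option linter.unusedSectionVars false

namespace Cfsg.Agent.SylowL.Rect

open Matrix
open Cfsg.Agent.SylowL.Lev Cfsg.Agent.SylowL.UT Cfsg.Agent.SylowL.Pat Cfsg.Agent.SylowL.Series

variable {m : ℕ} {F : Type*} [Field F]

local notation "Mat" => Matrix (Fin m) (Fin m) F

/-- A set of positions above the diagonal, closed under moving up and to the right. -/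
structure IsUR (m : ℕ) (D : ℕ → ℕ → Prop) : Prop where
  lt : ∀ i j, D i j → i < j
  up : ∀ i j k, i < j → D j k → D i k
  right : ∀ i j k, D i j → j < k → k < m → D i k

/-- The ideal of a set of positions. -/
abbrev P (m : ℕ) (F : Type*) [Field F] (D : ℕ → ℕ → Prop) : Submodule F (Matrix (Fin m) (Fin m) F) :=
  pat F (fun i j : Fin m => D i j)

theorem IsUR.isIdeal {D : ℕ → ℕ → Prop} (h : IsUR m D) : IsIdeal (P m F D) :=
  isIdeal_pat (fun i j hij => Fin.lt_def.2 (h.lt i j hij)) (fun i j k hij hjk =>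
    h.up i j k (Fin.lt_def.1 hij) hjk) (fun i j k hij hjk => h.right i j k hij (Fin.lt_def.1 hjk) k.2)

/-- The subgroup of a set of positions. -/
def X (F : Type*) [Field F] {D : ℕ → ℕ → Prop} (h : IsUR m D) : Subgroup (UT m F) :=
  ofAlg (P m F D) h.isIdeal.isAlg

theorem mem_X {D : ℕ → ℕ → Prop} {h : IsUR m D} {g : UT m F} :
    g ∈ X F h ↔ ∀ i j : Fin m, N g i j ≠ 0 → D i j := Iff.rfl

theorem mem_X' {D : ℕ → ℕ → Prop} {h : IsUR m D} {g : UT m F} : g ∈ X F h ↔ N g ∈ P m F D := Iff.rfl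

theorem X_normal {D : ℕ → ℕ → Prop} (h : IsUR m D) : (X F h).Normal := h.isIdeal.normal

theorem root_mem_X {D : ℕ → ℕ → Prop} (h : IsUR m D) {i j : Fin m} (hij : i < j) {c : F} (hc : c ≠ 0) :
    root i j hij c ∈ X F h ↔ D i j := by
  rw [mem_X]
  constructor
  · intro h1
    refine h1 i j ?_
    rw [N_root, Matrix.single_apply_same]
    exact hc
  · intro h1 a b hab
    rw [N_root, Matrix.single_apply] at hab
    by_cases h2 : i = a ∧ j = b
    · rw [← h2.1, ← h2.2]; exact h1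
    · rw [if_neg h2] at hab
      exact absurd rfl hab

theorem X_le {D D' : ℕ → ℕ → Prop} (h : IsUR m D) (h' : IsUR m D') :
    X F h ≤ X F h' ↔ ∀ i j, j < m → D i j → D' i j := by
  constructor
  · intro h1 i j hj hD
    have hi := h.lt i j hD
    have h2 := (root_mem_X h (i := ⟨i, hi.trans hj⟩) (j := ⟨j, hj⟩) (Fin.lt_def.2 hi)
      (one_ne_zero (α := F))).2 hD
    exact (root_mem_X h' _ one_ne_zero).1 (h1 h2)
  · intro h1 g hg i j hij
    exact h1 i j j.2 (hg i j hij)

theorem X_congr {D D' : ℕ → ℕ → Prop} (h : IsUR m D) (h' : IsUR m D')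
    (hD : ∀ i j, j < m → (D i j ↔ D' i j)) : X F h = X F h' :=
  le_antisymm ((X_le h h').2 fun i j hj => (hD i j hj).1) ((X_le h' h).2 fun i j hj => (hD i j hj).2)

theorem mem_X_commutator {D : ℕ → ℕ → Prop} (h : IsUR m D) {g k : UT m F} :
    g * k * g⁻¹ * k⁻¹ ∈ X F h ↔ N g * N k - N k * N g ∈ P m F D :=
  h.isIdeal.commutator_mem_iff

theorem isUR_and {D D' : ℕ → ℕ → Prop} (h : IsUR m D) (h' : IsUR m D') :
    IsUR m (fun i j => D i j ∧ D' i j) where
  lt i j hij := h.lt i j hij.1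
  up i j k hij hjk := ⟨h.up i j k hij hjk.1, h'.up i j k hij hjk.2⟩
  right i j k hij hjk hk := ⟨h.right i j k hij.1 hjk hk, h'.right i j k hij.2 hjk hk⟩

theorem isUR_or {D D' : ℕ → ℕ → Prop} (h : IsUR m D) (h' : IsUR m D') :
    IsUR m (fun i j => D i j ∨ D' i j) where
  lt i j hij := hij.elim (h.lt i j) (h'.lt i j)
  up i j k hij hjk := hjk.imp (h.up i j k hij) (h'.up i j k hij)
  right i j k hij hjk hk := hij.imp (fun h1 => h.right i j k h1 hjk hk)
    (fun h1 => h'.right i j k h1 hjk hk)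

theorem X_inf {D D' : ℕ → ℕ → Prop} (h : IsUR m D) (h' : IsUR m D') :
    X F h ⊓ X F h' = X F (isUR_and h h') := by
  ext g
  rw [Subgroup.mem_inf, mem_X, mem_X, mem_X]
  exact ⟨fun h1 i j hij => ⟨h1.1 i j hij, h1.2 i j hij⟩,
    fun h1 => ⟨fun i j hij => (h1 i j hij).1, fun i j hij => (h1 i j hij).2⟩⟩

/-- A subgroup containing the root elements of `D` contains `X D`. -/
theorem X_le_of_roots {D : ℕ → ℕ → Prop} (h : IsUR m D) {H : Subgroup (UT m F)}
    (hH : ∀ i j : Fin m, ∀ hij : i < j, D i j → ∀ c : F, root i j hij c ∈ H) : X F h ≤ H := by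
  intro g hg
  exact mem_of_roots (D := fun i j : Fin m => D i j) (fun i j hij => Fin.lt_def.2 (h.lt i j hij))
    (fun i j k hij hjk => h.up i j k (h.lt i j hij) hjk) H
    (fun i j hij c => hH i j (Fin.lt_def.2 (h.lt i j hij)) hij c) hg

theorem X_sup {D D' : ℕ → ℕ → Prop} (h : IsUR m D) (h' : IsUR m D') :
    X F h ⊔ X F h' = X F (isUR_or h h') := by
  apply le_antisymm
  · refine sup_le ((X_le _ _).2 fun i j _ => Or.inl) ((X_le _ _).2 fun i j _ => Or.inr)
  · refine X_le_of_roots _ fun i j hij hD c => ?_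
    by_cases hc : c = 0
    · rw [hc, root_zero]; exact one_mem _
    rcases hD with hD | hD
    · exact Subgroup.mem_sup_left ((root_mem_X h hij hc).2 hD)
    · exact Subgroup.mem_sup_right ((root_mem_X h' hij hc).2 hD)

/-! ### Relative centralisers -/

/-- The positions of `Ω` moved by `Θ` into `Ψ`. -/
def cenD (m : ℕ) (Ω Θ Ψ : ℕ → ℕ → Prop) : ℕ → ℕ → Prop := fun a b =>
  Ω a b ∧ (∀ c, c < m → Θ b c → Ψ a c) ∧ ∀ c, Θ c a → Ψ c b

theorem mem_cen {Ω Θ Ψ : ℕ → ℕ → Prop} (hΩ : IsUR m Ω) (hΘ : IsUR m Θ) (hΨ : IsUR m Ψ)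
    {g : UT m F} : (g ∈ X F hΩ ∧ ∀ x ∈ X F hΘ, g * x * g⁻¹ * x⁻¹ ∈ X F hΨ) ↔
      ∀ i j : Fin m, N g i j ≠ 0 → cenD m Ω Θ Ψ i j := by
  constructor
  · rintro ⟨h1, h2⟩ a b hab
    refine ⟨h1 a b hab, fun c hc hbc => ?_, fun c hca => ?_⟩
    · have hlt := hΘ.lt _ _ hbc
      have h3 := h2 _ ((root_mem_X hΘ (i := b) (j := ⟨c, hc⟩) (Fin.lt_def.2 hlt)
        (one_ne_zero (α := F))).2 hbc)
      rw [mem_X_commutator, N_root] at h3
      refine h3 a ⟨c, hc⟩ ?_
      rw [Matrix.sub_apply, Matrix.mul_single_apply_same, mul_one]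
      have hne : b ≠ a := by
        rintro rfl
        exact hab (Lev.apply_eq_zero (N_mem g) (by omega))
      rw [Matrix.single_mul_apply_of_ne (h := fun h => hne h.symm), sub_zero]
      exact hab
    · have hlt := hΘ.lt _ _ hca
      have hcm : c < m := hlt.trans a.2
      have h3 := h2 _ ((root_mem_X hΘ (i := ⟨c, hcm⟩) (j := a) (Fin.lt_def.2 hlt)
        (one_ne_zero (α := F))).2 hca)
      rw [mem_X_commutator, N_root] at h3
      refine h3 ⟨c, hcm⟩ b ?_
      have hne : b ≠ a := by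
        rintro rfl
        exact hab (Lev.apply_eq_zero (N_mem g) (by omega))
      rw [Matrix.sub_apply, Matrix.single_mul_apply_same, one_mul,
        Matrix.mul_single_apply_of_ne (hbj := hne), zero_sub]
      exact neg_ne_zero.2 hab
  · intro h
    refine ⟨fun i j hij => (h i j hij).1, fun x hx => ?_⟩
    rw [mem_X_commutator]
    refine sub_mem ?_ ?_
    · exact mul_mem_pat (D := fun i j : Fin m => cenD m Ω Θ Ψ i j)
        (D' := fun i j : Fin m => Θ i j) (fun i j k h1 h2 => h1.2.1 k k.2 h2) h hx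
    · exact mul_mem_pat (D := fun i j : Fin m => Θ i j)
        (D' := fun i j : Fin m => cenD m Ω Θ Ψ i j) (fun i j k h1 h2 => h2.2.2 i h1) hx h

/-! ### Orders -/

theorem card_X [Finite F] {D : ℕ → ℕ → Prop} (h : IsUR m D) :
    Nat.card (X F h) = Nat.card F ^ Nat.card {p : Fin m × Fin m // D p.1 p.2} := by
  rw [X, card_ofAlg, card_pat]

theorem relIndex_mul_card {G : Type*} [Group G] {A B : Subgroup G} (h : A ≤ B) :
    Nat.card A * A.relIndex B = Nat.card B := by
  have h1 := Subgroup.relIndex_mul_relIndex ⊥ A B bot_le h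
  rwa [Subgroup.relIndex_bot_left, Subgroup.relIndex_bot_left] at h1

theorem relIndex_insert [Finite F] {D D' : ℕ → ℕ → Prop} (h : IsUR m D) (h' : IsUR m D') {a b : ℕ}
    (hab : a < b) (hb : b < m) (hD : ¬ D a b)
    (hD' : ∀ i j, j < m → (D' i j ↔ D i j ∨ (i = a ∧ j = b))) :
    (X F h).relIndex (X F h') = Nat.card F := by
  have hle : X F h ≤ X F h' := (X_le _ _).2 fun i j hj hij => (hD' i j hj).2 (Or.inl hij)
  have h1 := relIndex_mul_card hle
  have h2 : Nat.card {p : Fin m × Fin m // D' p.1 p.2} =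
      Nat.card {p : Fin m × Fin m // D p.1 p.2} + 1 := by
    have h3 : {p : Fin m × Fin m | D' p.1 p.2} =
        insert (⟨⟨a, hab.trans hb⟩, ⟨b, hb⟩⟩ : Fin m × Fin m) {p : Fin m × Fin m | D p.1 p.2} := by
      ext p
      rw [Set.mem_ofPred_eq, hD' _ _ p.2.2, Set.mem_insert_iff, Set.mem_ofPred_eq, or_comm]
      constructor
      · rintro (⟨h4, h5⟩ | h4)
        · exact Or.inl (Prod.ext (Fin.ext h4) (Fin.ext h5))
        · exact Or.inr h4
      · rintro (h4 | h4)
        · rw [h4]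
          exact Or.inl ⟨rfl, rfl⟩
        · exact Or.inr h4
    have h4 := congrArg Set.ncard h3
    rw [Set.ncard_insert_of_notMem (by
      rw [Set.mem_ofPred_eq]
      exact hD)] at h4
    exact h4
  rw [card_X, card_X, h2, pow_succ] at h1
  exact Nat.eq_of_mul_eq_mul_left (pow_pos Nat.card_pos _) h1

end Cfsg.Agent.SylowL.Rect
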