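import Cfsg.Agent.SylowL.Dual

/-!
# The rectangles normalised by `N_G(Q k)`
-/

set_option autoImplicit false
set_option linter.unusedSectionVars false
set_option linter.unusedVariables false
set_option linter.unusedSimpArgs false

namespace Cfsg.Agent.SylowL.RectInv

open Matrix
open Cfsg.Agent.SylowL.Lev Cfsg.Agent.SylowL.UT Cfsg.Agent.SylowL.Pat Cfsg.Agent.SylowL.Series
open Cfsg.Agent.SylowL.Rect Cfsg.Agent.SylowL.NatSec Cfsg.Agent.SylowL.PSec Cfsg.Agent.SylowL.Inv
open Cfsg.Agent.SylowL.Dual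
open Cfsg.Agent.Lib.EssentialFusion Cfsg.Agent.Lib.GoldschmidtFusion
open Subgroup

variable {m : ℕ} {F : Type*} [Field F] [Finite F] [CharP F 2] {G : Type*} [Group G] [Finite G]
  {S : Sylow 2 G} {ι : UT m F →* G}

/-- The exceptional case `k = 2`, `j = 1` of `inv_row`. -/
def P2 (m : ℕ) (F : Type*) [Field F] {G : Type*} [Group G] [Finite G] (S : Sylow 2 G) : Prop :=
  ∀ ι : UT m F →* G, Ctx S ι → Ess S ((Q m F 2).map ι) →
    PInv ι (normalizer (((Q m F 2).map ι : Subgroup G) : Set G)) (Rd 1 1)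

variable (hP : P2 m F S) (c : Ctx S ι) {k : ℕ} (hkm : k < m)

local macro "po" : tactic => `(tactic| ((try simp only [Qd, Rd, flipD, true_and, and_true, true_or,
  or_true, false_and, and_false, false_or, or_false, not_true_eq_false, not_false_eq_true] at *)
  <;> omega))

include hP c hkm

theorem row (hk : 2 ≤ k) (hE : Ess S ((Q m F k).map ι)) {j : ℕ} (hj : 1 ≤ j) (hjm : j < m)
    (hjk : j ≠ k) : PInv ι (normalizer (((Q m F k).map ι : Subgroup G) : Set G)) (Rd 1 j) := by
  by_cases h : k = 2 ∧ j = 1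
  · obtain ⟨rfl, rfl⟩ := h
    exact hP ι c hE
  · exact inv_row c hkm hk hE (m - 1 - j) j (by omega) hj hjk (by omega)

theorem col (hk0 : 0 < k) (hk : k + 2 ≤ m) (hE : Ess S ((Q m F k).map ι)) {a : ℕ} (ha : 1 ≤ a)
    (ham : a < m) (hak : a ≠ k) :
    PInv ι (normalizer (((Q m F k).map ι : Subgroup G) : Set G)) (Rd a (m - 1)) := by
  rw [← map_Q hk0 hkm] at hE ⊢
  refine PInv_of_delta (isUR_R m (a := 1) (b := m - a) (by omega))
    (row hP (ctx_delta c) (k := m - k) (by omega) (by omega) hE (by omega) (by omega) (by omega)) ?_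
  intro i j hij hj
  po

omit hP hkm in
theorem col_last (hE : Ess S ((Q m F (m - 1)).map ι)) {a : ℕ} (ha : 1 ≤ a)
    (ham : a ≤ m - 2) :
    PInv ι (normalizer (((Q m F (m - 1)).map ι : Subgroup G) : Set G)) (Rd a (m - 2)) := by
  have hm := c.m4
  rw [← map_Q (by omega : 0 < m - 1) (by omega)] at hE ⊢
  have h1 : m - (m - 1) = 1 := by omega
  rw [h1] at hE ⊢
  refine PInv_of_delta (isUR_R m (a := 2) (b := m - a) (by omega))
    (inv_row_one (ctx_delta c) hE (a - 1) (m - a) (by omega) (by omega)) ?_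
  intro i j hij hj
  po

omit hkm in
/-- **(F1)**: the rectangles `Rd a b`, `a ≤ b`, `a ≠ k`, `b ≠ k`, are normalised by `N_G(Q k)`. -/
theorem rect (hk0 : 0 < k) (hkm : k < m) (hE : Ess S ((Q m F k).map ι)) {a b : ℕ} (ha : 1 ≤ a)
    (hab : a ≤ b) (hb : b < m) (hak : a ≠ k) (hbk : b ≠ k) :
    PInv ι (normalizer (((Q m F k).map ι : Subgroup G) : Set G)) (Rd a b) := by
  have hm := c.m4
  -- the rows `< a`
  have h1 : PInv ι (normalizer (((Q m F k).map ι : Subgroup G) : Set G))
      (fun i j => Qd k i j ∧ i < a) := by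
    by_cases hk1 : k = 1
    · subst hk1
      refine PInv.cen c.emb.inj (isUR_Q m 1) (isUR_R m (a := 2) (b := a) (by omega))
        (isUR_R m (Nat.zero_le m)) inv_Q
        (inv_row_one c hE (m - 1 - a) a (by omega) (by omega)) inv_zero ?_
      intro x y hxy hy
      constructor
      · intro h
        refine ⟨?_, fun x hx hq => ?_, fun x hq => ?_⟩ <;> po
      · rintro ⟨h1, h2, h3⟩
        have h4 := h2 (m - 1)
        have h5 := h3 0
        po
    · refine PInv.cen c.emb.inj (isUR_Q m k) (isUR_R m (a := 1) (b := a) (by omega))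
        (isUR_R m (Nat.zero_le m)) inv_Q
        (row hP c hkm (by omega) hE ha (by omega) hak) inv_zero ?_
      intro x y hxy hy
      constructor
      · intro h
        refine ⟨?_, fun x hx hq => ?_, fun x hq => ?_⟩ <;> po
      · rintro ⟨h1, h2, h3⟩
        have h4 := h2 (m - 1)
        have h5 := h3 0
        po
  -- the columns `≥ b`
  have h2 : PInv ι (normalizer (((Q m F k).map ι : Subgroup G) : Set G))
      (fun i j => Qd k i j ∧ b ≤ j) := by
    by_cases hk1 : k = m - 1
    · subst hk1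
      refine PInv.cen c.emb.inj (isUR_Q m (m - 1)) (isUR_R m (a := b) (b := m - 2) (by omega))
        (isUR_R m (Nat.zero_le m)) inv_Q
        (col_last c hE (by omega) (by omega)) inv_zero ?_
      intro x y hxy hy
      constructor
      · intro h
        refine ⟨?_, fun x hx hq => ?_, fun x hq => ?_⟩ <;> po
      · rintro ⟨h1, h2, h3⟩
        have h4 := h2 (m - 1)
        have h5 := h3 0
        po
    · refine PInv.cen c.emb.inj (isUR_Q m k) (isUR_R m (a := b) (b := m - 1) (by omega))
        (isUR_R m (Nat.zero_le m)) inv_Q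
        (col hP c hkm hk0 (by omega) hE (by omega) hb hbk) inv_zero ?_
      intro x y hxy hy
      constructor
      · intro h
        refine ⟨?_, fun x hx hq => ?_, fun x hq => ?_⟩ <;> po
      · rintro ⟨h1, h2, h3⟩
        have h4 := h2 (m - 1)
        have h5 := h3 0
        po
  have h3 : IsUR m (fun i j => Qd k i j ∧ i < a) := by
    constructor <;> intros <;> po
  have h4 : IsUR m (fun i j => Qd k i j ∧ b ≤ j) := by
    constructor <;> intros <;> po
  refine PInv.congr (PInv.and c.emb.inj h3 h4 h1 h2) (isUR_and h3 h4) ?_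
  intro i j hj
  po

end Cfsg.Agent.SylowL.RectInv
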