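import Cfsg.Agent.SylowL.RelSet

/-!
# The centralizer of an involution of rank 2 is contained in `M`
-/

set_option autoImplicit false
set_option linter.unusedSectionVars false

namespace Cfsg.Agent.SylowL.RelSet

open Subgroup Cfsg
open Cfsg.Agent.SylowL.CompFacts
open Cfsg.Agent.SylowL.SLMat
open Cfsg.Agent.SylowL.CentT (up E)
open Cfsg.Agent.ClassicalGeometry.AutPSL.SylowU (upper)

universe u

variable {G : Type u} [Group G] [Finite G] {n : ℕ} {F : Type*} [Field F] [Finite F] [CharP F 2]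

variable {S : Sylow 2 G} {M Z O : Subgroup G}
  {R : Subgroup (G × Matrix.SpecialLinearGroup (Fin (n + 4)) F)}

namespace Rel

variable (h : Rel (n := n) (F := F) S M Z R O)

include h

theorem centralizer_le (hG : GoldHyp.{u}) (hF : 4 ≤ Nat.card F) {t : G} (ht : t ∈ (S : Subgroup G))
    (htR : (t, Y n 1) ∈ R) : centralizer ({t} : Set G) ≤ M := by
  haveI : Fact (Nat.Prime 2) := ⟨Nat.prime_two⟩
  have hex : ∀ B : Matrix (Fin 2) (Fin 2) F, ∃ s ∈ (S : Subgroup G), (s, Y n B) ∈ R :=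
    fun B => h.up_S _ (Y_mem_upper B)
  choose l0 hl0S hl0R using hex
  have hYc : ∀ B : Matrix (Fin 2) (Fin 2) F, Y n B * Y n 1 = Y n 1 * Y n B := by
    intro B
    rw [← Y_add, ← Y_add, add_comm B 1]
  have hSt : ∀ s ∈ (S : Subgroup G), ∀ σ, (s, σ) ∈ R → σ * Y n 1 = Y n 1 * σ →
      s ∈ centralizer ({t} : Set G) := by
    intro s hs σ hsσ hσ
    rw [mem_centralizer_singleton_iff]
    exact h.comm_S hs ht hsσ htR hσ
  have hl0t : ∀ B, l0 B ∈ centralizer ({t} : Set G) := fun B => hSt _ (hl0S B) _ (hl0R B) (hYc B)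
  have hSH : IsPGroup 2 ((S : Subgroup G).subgroupOf (centralizer ({t} : Set G))) := S.2.comap_subtype
  obtain ⟨T, hT⟩ := hSH.exists_le_sylow
  let l : Matrix (Fin 2) (Fin 2) F → centralizer ({t} : Set G) := fun B => ⟨l0 B, hl0t B⟩
  have hlT : ∀ B, l B ∈ (T : Subgroup (centralizer ({t} : Set G))) := fun B => hT (hl0S B)
  have hl1 : ∀ B, l0 B = 1 → B = 0 := by
    intro B hB
    apply Y_injective (n := n)
    apply h.eq_of_upper (x := l0 B) (hl0R B) ?_ (Y_mem_upper _) (Y_mem_upper _)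
    rw [hB, Y_zero]
    exact R.one_mem
  have hEZ : ∀ b : F, l0 (E b) ∈ Z := fun b => h.mem_Z_of (hl0S _) (hl0R _)
  have hE1 : ∀ b : F, b ≠ 0 → l0 (E b) ≠ 1 := fun b hb h1 => CentT.E_ne_zero hb (hl1 _ h1)
  have hTM := h.T_le T (hEZ 1) (hE1 1 one_ne_zero) (hl0t _) (hlT _)
  have hTp : IsPGroup 2 ((T : Subgroup (centralizer ({t} : Set G))).map
      (centralizer ({t} : Set G)).subtype) := T.2.map _
  have hTeq : ∀ x y : centralizer ({t} : Set G), x ∈ (T : Subgroup (centralizer ({t} : Set G))) →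
      y ∈ (T : Subgroup (centralizer ({t} : Set G))) → ∀ σ, ((x : G), σ) ∈ R → ((y : G), σ) ∈ R →
      x = y := by
    intro x y hx hy σ hxσ hyσ
    exact Subtype.ext (h.eq_of_mem hTp ⟨x, hx, rfl⟩ ⟨y, hy, rfl⟩ hxσ hyσ)
  have htσ : ∀ (s : centralizer ({t} : Set G)) σ, ((s : G), σ) ∈ R → σ * Y n 1 = Y n 1 * σ := by
    intro s σ hσ
    exact (h.comm (mem_centralizer_singleton_iff.1 s.2).symm htR hσ (Y_sq 1)).symm
  have hTσ : ∀ s : centralizer ({t} : Set G), s ∈ (T : Subgroup (centralizer ({t} : Set G))) →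
      ∃ σ, ((s : G), σ) ∈ R := by
    intro s hs
    exact h.exists_rel (hTM hs) (isPGroup_zpowers_of_mem hTp ⟨s, hs, rfl⟩)
  have hconj : ∀ (x : G) (σ : Matrix.SpecialLinearGroup (Fin (n + 4)) F)
      (P P' B : Matrix (Fin 2) (Fin 2) F), (x, σ) ∈ R → σ * Y n B * σ⁻¹ = Y n (P * B * P') →
      ((x * l0 B * x⁻¹ : G), Y n (P * B * P')) ∈ R := by
    intro x σ P P' B hx hσ
    have h1 := R.mul_mem (R.mul_mem hx (hl0R B)) (R.inv_mem hx)
    have h2 : (x, σ) * (l0 B, Y n B) * (x, σ)⁻¹ = (x * l0 B * x⁻¹, σ * Y n B * σ⁻¹) := rfl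
    rw [h2, hσ] at h1
    exact h1
  have hpS : ∀ s ∈ (S : Subgroup G), IsPGroup 2 (zpowers s) := fun s hs =>
    isPGroup_zpowers_of_mem S.2 hs
  have D : CentT.Data T (M.subgroupOf (centralizer ({t} : Set G)))
      (O.subgroupOf (centralizer ({t} : Set G))) l := by
    refine ⟨hTM, ?_, ?_, hlT, ?_, ?_, ?_, ?_, ?_, ?_, ?_, ?_, hF⟩
    · intro x hx
      apply NoCompT.mem_normalizer_of_conj_mem
      intro y hy
      exact (mem_normalizer_iff.1 (h.O_nor hx) (y : G)).1 hy
    · exact Nat.Coprime.coprime_dvd_left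
        (Subgroup.card_comap_dvd_of_injective _ _ (Subgroup.subtype_injective _)) h.O_odd
    · intro B B'
      apply Subtype.ext
      apply h.eq_of_mem S.2 (hl0S _) ((S : Subgroup G).mul_mem (hl0S B) (hl0S B')) (hl0R _)
      rw [Y_add]
      exact R.mul_mem (hl0R B) (hl0R B')
    · intro B B' hBB
      have h1 : l0 B = l0 B' := congrArg Subtype.val hBB
      apply Y_injective (n := n)
      apply h.eq_of_upper (hl0R B) ?_ (Y_mem_upper _) (Y_mem_upper _)
      rw [h1]
      exact hl0R B'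
    · intro s hs
      obtain ⟨σ, hσ⟩ := hTσ s hs
      obtain ⟨P, P', hP, hPB⟩ := exists_P (htσ s σ hσ)
      refine ⟨P, P', hP, ?_⟩
      intro B
      exact hTeq _ _ (Subgroup.mul_mem _ (Subgroup.mul_mem _ hs (hlT B)) (Subgroup.inv_mem _ hs))
        (hlT _) _ (hconj _ _ _ _ _ hσ (hPB B)) (hl0R _)
    · intro b
      obtain ⟨s, hs, hsR⟩ := h.up_S _ (kap_up_mem (n := n) b)
      have hcj := fun B => kap_conj (n := n) (det_up b) (CentT.up_mul_up b) B
      have hst : s ∈ centralizer ({t} : Set G) := by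
        apply hSt s hs _ hsR
        have h1 := hcj 1
        rw [mul_one, CentT.up_mul_up, mul_inv_eq_iff_eq_mul] at h1
        exact h1
      refine ⟨⟨s, hst⟩, hT hs, ?_⟩
      intro B
      exact hTeq _ _ (Subgroup.mul_mem _ (Subgroup.mul_mem _ (hT hs) (hlT B))
        (Subgroup.inv_mem _ (hT hs))) (hlT _) _ (hconj _ _ _ _ _ hsR (hcj B)) (hl0R _)
    · intro P P' hP hd B
      have hcj := kap_conj (n := n) hd hP
      obtain ⟨k, hk, hkt, hkx⟩ := h.lift (κ := kap n P hd) htR (hl0R B) (y := l0 (P * B * P'))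
        (by rw [hcj]; exact hl0R _) (hpS t ht) (hpS _ (hl0S _)) (hpS _ (hl0S _))
        (by
          have h1 := hcj 1
          rw [mul_one, hP, mul_inv_eq_iff_eq_mul] at h1
          exact h1) (mem_centralizer_singleton_iff.1 (hl0t _))
        (mem_centralizer_singleton_iff.1 (hl0t _))
      exact ⟨⟨k, mem_centralizer_singleton_iff.2 hkt⟩, h.mem_M _ _ hk, Subtype.ext hkx⟩
    · intro hcen g hg b
      by_cases hb : b = 0
      · refine ⟨0, Matrix.trace_zero _ _, ?_⟩
        have h1 : l (E b) = 1 := by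
          apply Subtype.ext
          apply h.eq_one_of (hl0S _)
          have := hl0R (E b)
          rw [hb, CentT.E_zero, Y_zero] at this
          rw [hb, CentT.E_zero]
          exact this
        have h2 : l 0 = 1 := by
          apply Subtype.ext
          apply h.eq_one_of (hl0S _)
          have := hl0R 0
          rwa [Y_zero] at this
        rw [h1, h2, mul_one, mul_inv_cancel, inv_one, one_mul]
        exact Subgroup.one_mem _
      set M1 : Subgroup G := R.map (MonoidHom.fst G _) with hM1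
      have hmem : ∀ x, x ∈ M1 ↔ ∃ σ, (x, σ) ∈ R := by
        intro x
        constructor
        · rintro ⟨⟨y, σ⟩, hy, rfl⟩
          exact ⟨σ, hy⟩
        · rintro ⟨σ, hσ⟩
          exact ⟨(x, σ), hσ, rfl⟩
      have hTM1 : (T : Subgroup (centralizer ({t} : Set G))) ≤
          M1.subgroupOf (centralizer ({t} : Set G)) := by
        intro s hs
        exact (hmem _).2 (hTσ s hs)
      have hP : IsPGroup 2 ((T : Subgroup (centralizer ({t} : Set G))).map
        (MulAut.conj g).toMonoidHom) := T.2.map _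
      have hPM1 : (T : Subgroup (centralizer ({t} : Set G))).map (MulAut.conj g).toMonoidHom ≤
          M1.subgroupOf (centralizer ({t} : Set G)) := by
        rintro _ ⟨s, hs, rfl⟩
        obtain ⟨σ, hσ⟩ := hTσ s hs
        exact (hmem _).2 (h.nor g hg s σ hσ)
      obtain ⟨k, hk, hkx⟩ := KeyClosed.exists_conj_mem T hTM1 hP hPM1
      have hkg : k * g ∈ normalizer ((T : Subgroup (centralizer ({t} : Set G))) : Set _) := by
        apply NoCompT.mem_normalizer_of_conj_mem
        intro s hs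
        have h1 := hkx _ ⟨s, hs, rfl⟩
        have h2 : (k * g) * s * (k * g)⁻¹ = k * ((MulAut.conj g).toMonoidHom s) * k⁻¹ := by
          change _ = k * (g * s * g⁻¹) * k⁻¹
          group
        rw [h2]
        exact h1
      obtain ⟨κ, hκ⟩ := (hmem k).1 hk
      have hkM : (k : G) ∈ M := h.mem_M _ _ hκ
      have hgM : (g : G) ∈ M := hg
      have hyT : (k * g) * l (E b) * (k * g)⁻¹ ∈ (T : Subgroup (centralizer ({t} : Set G))) :=
        (mem_normalizer_iff.1 hkg _).1 (hlT _)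
      have hyc : ∀ s ∈ (T : Subgroup (centralizer ({t} : Set G))),
          ((k * g) * l (E b) * (k * g)⁻¹) * s = s * ((k * g) * l (E b) * (k * g)⁻¹) := by
        intro s hs
        have h1 : (k * g)⁻¹ * s * (k * g) ∈ (T : Subgroup (centralizer ({t} : Set G))) := by
          have := (mem_normalizer_iff.1 (Subgroup.inv_mem _ hkg) s).1 hs
          rwa [inv_inv] at this
        have h2 := hcen b _ h1
        calc ((k * g) * l (E b) * (k * g)⁻¹) * s =
            (k * g) * (l (E b) * ((k * g)⁻¹ * s * (k * g))) * (k * g)⁻¹ := by group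
          _ = (k * g) * (((k * g)⁻¹ * s * (k * g)) * l (E b)) * (k * g)⁻¹ := by rw [h2]
          _ = _ := by group
      obtain ⟨κ', b', -, hb'⟩ := h.conj_Z (g := (k : G) * (g : G)) (M.mul_mem hkM hgM) (hEZ b) (hE1 b hb)
      obtain ⟨b'', hb''⟩ := eq_Y (τ := κ' * Y n (E b') * κ'⁻¹) rfl (by
        intro σ hσ hσ1
        obtain ⟨s, hs, hsR⟩ := h.up_S σ hσ
        have hst := hSt s hs σ hsR hσ1
        have h1 := congrArg Subtype.val (hyc ⟨s, hst⟩ (hT hs))
        refine h.comm h1 hb' hsR ?_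
        calc κ' * Y n (E b') * κ'⁻¹ * (κ' * Y n (E b') * κ'⁻¹)
            = κ' * (Y n (E b') * Y n (E b')) * κ'⁻¹ := by group
          _ = 1 := by rw [Y_sq]; group)
      rw [hb''] at hb'
      have hκ1 : κ⁻¹ * Y n 1 = Y n 1 * κ⁻¹ := by
        have h1 := htσ k κ hκ
        calc κ⁻¹ * Y n 1 = κ⁻¹ * (Y n 1 * κ) * κ⁻¹ := by group
          _ = κ⁻¹ * (κ * Y n 1) * κ⁻¹ := by rw [h1]
          _ = Y n 1 * κ⁻¹ := by group
      obtain ⟨P, P', hP1, hPB⟩ := exists_P hκ1
      refine ⟨P * E b'' * P', ?_, ?_⟩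
      · rw [CentT.trace_conj hP1, CentT.trace_E]
      · have h1 := R.mul_mem (R.mul_mem (R.inv_mem hκ) hb') (R.inv_mem (R.inv_mem hκ))
        have h2 : ((k : G), κ)⁻¹ * ((k : G) * g * l0 (E b) * ((k : G) * g)⁻¹, Y n (E b'')) *
            ((k : G), κ)⁻¹⁻¹ = ((k : G)⁻¹ * ((k : G) * g * l0 (E b) * ((k : G) * g)⁻¹) * (k : G)⁻¹⁻¹,
              κ⁻¹ * Y n (E b'') * κ⁻¹⁻¹) := rfl
        rw [h2, hPB] at h1
        have h3 := R.mul_mem (R.inv_mem (hl0R (P * E b'' * P'))) h1
        have h4 : (l0 (P * E b'' * P'), Y n (P * E b'' * P'))⁻¹ *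
            ((k : G)⁻¹ * ((k : G) * g * l0 (E b) * ((k : G) * g)⁻¹) * (k : G)⁻¹⁻¹,
              Y n (P * E b'' * P')) = ((l0 (P * E b'' * P'))⁻¹ *
              ((k : G)⁻¹ * ((k : G) * g * l0 (E b) * ((k : G) * g)⁻¹) * (k : G)⁻¹⁻¹),
              (Y n (P * E b'' * P'))⁻¹ * Y n (P * E b'' * P')) := rfl
        rw [h4, inv_mul_cancel] at h3
        have h5 : (k : G)⁻¹ * ((k : G) * g * l0 (E b) * ((k : G) * g)⁻¹) * (k : G)⁻¹⁻¹ =
            g * l0 (E b) * (g : G)⁻¹ := by group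
        rw [h5] at h3
        exact (h.mem_O _).2 h3
    · intro b hb g hg
      exact h.M1 _ (hEZ b) (hE1 b hb) g hg
    · intro b hb
      exact LocalComp.constrained_comm (hpS t ht) (h.con _ (hEZ b) (hE1 b hb)) (hl0t _)
  have h1 := D.eq_top hG
  exact Subgroup.subgroupOf_eq_top.1 h1

end Rel

end Cfsg.Agent.SylowL.RelSet
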