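import Cfsg.Agent.SylowL.SLMat
import Cfsg.Agent.SylowL.CosetConj

/-!
# The fiber product of `M` and `SL(m, F)` over `M/O(M)`

`Rel S M Z R O`: `R` is the set of pairs `(g, σ)`, `g ∈ M`, `σ ∈ SL(n + 4, F)`, with the same image in `M/O(M)`.
-/

set_option autoImplicit false
set_option linter.unusedSectionVars false

namespace Cfsg.Agent.SylowL.RelSet

open Subgroup Cfsg
open Cfsg.Agent.SylowL.CompFacts
open Cfsg.Agent.SylowL.SLMat
open Cfsg.Agent.SylowL.CentT (up E)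
open Cfsg.Agent.ClassicalGeometry.AutPSL.SylowU (upper)

universe u

variable {G : Type u} [Group G] [Finite G] {n : ℕ} {F : Type*} [Field F] [Finite F] [CharP F 2]

local notation "SL" => Matrix.SpecialLinearGroup (Fin (n + 4)) F

/-- The setting. -/
structure Rel (S : Sylow 2 G) (M Z : Subgroup G)
    (R : Subgroup (G × Matrix.SpecialLinearGroup (Fin (n + 4)) F)) (O : Subgroup G) : Prop where
  mem_M : ∀ g σ, (g, σ) ∈ R → g ∈ M
  surj : ∀ σ, ∃ g, (g, σ) ∈ R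
  mem_O : ∀ x, x ∈ O ↔ (x, 1) ∈ R
  O_odd : (Nat.card O).Coprime 2
  O_nor : M ≤ normalizer (O : Set G)
  K_cen : ∀ σ, (1, σ) ∈ R → σ ∈ center (Matrix.SpecialLinearGroup (Fin (n + 4)) F)
  nor : ∀ g ∈ M, ∀ x σ, (x, σ) ∈ R → ∃ τ, (g * x * g⁻¹, τ) ∈ R
  S_le : (S : Subgroup G) ≤ M
  S_up : ∀ s ∈ (S : Subgroup G), ∃ σ ∈ upper (n + 4) F, (s, σ) ∈ R
  up_S : ∀ σ ∈ upper (n + 4) F, ∃ s ∈ (S : Subgroup G), (s, σ) ∈ R
  mem_Z : ∀ z, z ∈ Z ↔ z ∈ (S : Subgroup G) ∧ ∀ s ∈ (S : Subgroup G), s * z = z * s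
  M1 : ∀ z ∈ Z, z ≠ 1 → ∀ g, g * z * g⁻¹ ∈ M → g ∈ M
  con : ∀ z ∈ Z, z ≠ 1 → Cfsg.IsPConstrained 2 (centralizer ({z} : Set G))

variable {S : Sylow 2 G} {M Z O : Subgroup G}
  {R : Subgroup (G × Matrix.SpecialLinearGroup (Fin (n + 4)) F)}

theorem isPGroup_zpowers_of_mem {P : Subgroup G} (hP : IsPGroup 2 P) {x : G} (hx : x ∈ P) :
    IsPGroup 2 (zpowers x) := hP.to_le (by rwa [zpowers_le])

theorem isPGroup_zpowers_conj {x : G} (hx : IsPGroup 2 (zpowers x)) (g : G) :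
    IsPGroup 2 (zpowers (g * x * g⁻¹)) := by
  have h1 := hx.map (MulAut.conj g).toMonoidHom
  rw [MonoidHom.map_zpowers] at h1
  exact h1

namespace Rel

variable (h : Rel (n := n) (F := F) S M Z R O)

include h

theorem eq_of_mem {P : Subgroup G} (hP : IsPGroup 2 P) {x y : G} (hx : x ∈ P) (hy : y ∈ P) {σ : SL}
    (h1 : (x, σ) ∈ R) (h2 : (y, σ) ∈ R) : x = y := by
  haveI : Fact (Nat.Prime 2) := ⟨Nat.prime_two⟩
  have h3 : (y⁻¹ * x, (1 : SL)) ∈ R := by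
    have := R.mul_mem (R.inv_mem h2) h1
    simpa using this
  have h4 : y⁻¹ * x ∈ P ⊓ O := ⟨P.mul_mem (P.inv_mem hy) hx, (h.mem_O _).2 h3⟩
  rw [QuotCore.inf_eq_bot_of_coprime hP h.O_odd, mem_bot, inv_mul_eq_one] at h4
  exact h4.symm

theorem eq_of_upper {x : G} {σ τ : SL} (h1 : (x, σ) ∈ R) (h2 : (x, τ) ∈ R)
    (hσ : σ ∈ upper (n + 4) F) (hτ : τ ∈ upper (n + 4) F) : σ = τ := by
  have h3 : ((1 : G), τ⁻¹ * σ) ∈ R := by
    have := R.mul_mem (R.inv_mem h2) h1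
    simpa using this
  have h4 := Cfsg.Agent.ClassicalGeometry.AutPSL.SylowU.eq_one_of_mem_upper_of_mem_center
    (Subgroup.mul_mem _ (Subgroup.inv_mem _ hτ) hσ) (h.K_cen _ h3)
  exact (inv_mul_eq_one.1 h4).symm

/-- commuting elements -/
theorem comm_S {s s' : G} (hs : s ∈ (S : Subgroup G)) (hs' : s' ∈ (S : Subgroup G)) {σ σ' : SL}
    (h1 : (s, σ) ∈ R) (h2 : (s', σ') ∈ R) (hσ : σ * σ' = σ' * σ) : s * s' = s' * s := by
  apply h.eq_of_mem S.2 ((S : Subgroup G).mul_mem hs hs') ((S : Subgroup G).mul_mem hs' hs)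
    (R.mul_mem h1 h2)
  rw [hσ]
  exact R.mul_mem h2 h1

theorem comm_upper {s s' : G} {σ σ' : SL} (h1 : (s, σ) ∈ R) (h2 : (s', σ') ∈ R)
    (hs : s * s' = s' * s) (hσ : σ ∈ upper (n + 4) F) (hσ' : σ' ∈ upper (n + 4) F) :
    σ * σ' = σ' * σ := by
  apply h.eq_of_upper (R.mul_mem h1 h2) ?_ (Subgroup.mul_mem _ hσ hσ') (Subgroup.mul_mem _ hσ' hσ)
  have h3 : (s, σ) * (s', σ') = (s * s', σ * σ') := rfl
  have := R.mul_mem h2 h1
  change (s * s', σ' * σ) ∈ R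
  rw [hs]
  exact this

theorem comm {x y : G} {σ τ : SL} (hxy : x * y = y * x) (hx : (x, σ) ∈ R) (hy : (y, τ) ∈ R)
    (hσ : σ * σ = 1) : σ * τ = τ * σ := by
  have h1 : (y * x * y⁻¹ * x⁻¹, τ * σ * τ⁻¹ * σ⁻¹) ∈ R :=
    R.mul_mem (R.mul_mem (R.mul_mem hy hx) (R.inv_mem hy)) (R.inv_mem hx)
  rw [← hxy, mul_inv_cancel_right, mul_inv_cancel] at h1
  have h2 := h.K_cen _ h1
  set c := τ * σ * τ⁻¹ * σ⁻¹ with hc
  have h3 : c * σ = τ * σ * τ⁻¹ := by rw [hc]; group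
  have h4 : c * c = 1 := by
    have h5 : (c * σ) * (c * σ) = 1 := by
      rw [h3]
      calc τ * σ * τ⁻¹ * (τ * σ * τ⁻¹) = τ * (σ * σ) * τ⁻¹ := by group
        _ = 1 := by rw [hσ]; group
    have h6 : σ * c = c * σ := mem_center_iff.1 h2 σ
    calc c * c = c * (c * (σ * σ)) := by rw [hσ, mul_one]
      _ = c * ((c * σ) * σ) := by rw [mul_assoc c σ]
      _ = c * ((σ * c) * σ) := by rw [h6]
      _ = (c * σ) * (c * σ) := by simp only [mul_assoc]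
      _ = 1 := h5
  have h5 := center_eq_one h2 h4
  rw [h5, one_mul] at h3
  calc σ * τ = τ * σ * τ⁻¹ * τ := by rw [← h3]
    _ = τ * σ := by group

theorem exists_rel {x : G} (hx : x ∈ M) (hp : IsPGroup 2 (zpowers x)) : ∃ σ, (x, σ) ∈ R := by
  haveI : Fact (Nat.Prime 2) := ⟨Nat.prime_two⟩
  obtain ⟨m, hm, hmx⟩ := KeyClosed.exists_conj_mem S h.S_le hp (by rwa [zpowers_le])
  obtain ⟨σ, -, hσ⟩ := h.S_up _ (hmx x (mem_zpowers x))
  obtain ⟨τ, hτ⟩ := h.nor m⁻¹ (M.inv_mem hm) _ _ hσ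
  refine ⟨τ, ?_⟩
  have : m⁻¹ * (m * x * m⁻¹) * m⁻¹⁻¹ = x := by group
  rwa [this] at hτ

/-- lifting of conjugacy, in the centralizer of `t` -/
theorem lift {t x y : G} {ρ σ κ : SL} (ht : (t, ρ) ∈ R) (hx : (x, σ) ∈ R) (hy : (y, κ * σ * κ⁻¹) ∈ R)
    (pt : IsPGroup 2 (zpowers t)) (px : IsPGroup 2 (zpowers x)) (py : IsPGroup 2 (zpowers y))
    (hκ : κ * ρ = ρ * κ) (hxt : x * t = t * x) (hyt : y * t = t * y) :
    ∃ k, (k, κ) ∈ R ∧ k * t = t * k ∧ k * x * k⁻¹ = y := by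
  obtain ⟨k0, hk0⟩ := h.surj κ
  have h1 : (k0 * t * k0⁻¹, ρ) ∈ R := by
    have := R.mul_mem (R.mul_mem hk0 ht) (R.inv_mem hk0)
    have h2 : κ * ρ * κ⁻¹ = ρ := by rw [hκ, mul_inv_cancel_right]
    have h3 : (k0, κ) * (t, ρ) * (k0, κ)⁻¹ = (k0 * t * k0⁻¹, κ * ρ * κ⁻¹) := rfl
    rw [h3, h2] at this
    exact this
  have h2 : t⁻¹ * (k0 * t * k0⁻¹) ∈ O := by
    rw [h.mem_O]
    have := R.mul_mem (R.inv_mem ht) h1
    simpa using this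
  obtain ⟨o1, ho1, ho1t⟩ := CosetConj.conj_of_coset h.O_odd (isPGroup_zpowers_conj pt k0) pt
    (h.O_nor (h.mem_M _ _ ht)) h2
  set k1 := o1 * k0 with hk1
  have hk1R : (k1, κ) ∈ R := by
    have := R.mul_mem ((h.mem_O o1).1 ho1) hk0
    simpa using this
  have hk1t : k1 * t = t * k1 := by
    calc k1 * t = (o1 * (k0 * t * k0⁻¹) * o1⁻¹) * k1 := by rw [hk1]; group
      _ = t * k1 := by rw [ho1t]
  have h3 : (k1 * x * k1⁻¹, κ * σ * κ⁻¹) ∈ R := R.mul_mem (R.mul_mem hk1R hx) (R.inv_mem hk1R)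
  have hk1c : k1 ∈ centralizer ({t} : Set G) := mem_centralizer_singleton_iff.2 hk1t
  have hxc : x ∈ centralizer ({t} : Set G) := mem_centralizer_singleton_iff.2 hxt
  have hyc : y ∈ centralizer ({t} : Set G) := mem_centralizer_singleton_iff.2 hyt
  have h4 : y⁻¹ * (k1 * x * k1⁻¹) ∈ O ⊓ centralizer ({t} : Set G) := by
    refine ⟨?_, ?_⟩
    · have := R.mul_mem (R.inv_mem hy) h3
      change y⁻¹ * (k1 * x * k1⁻¹) ∈ O
      rw [h.mem_O]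
      have h5 : (y, κ * σ * κ⁻¹)⁻¹ * (k1 * x * k1⁻¹, κ * σ * κ⁻¹) =
          (y⁻¹ * (k1 * x * k1⁻¹), (κ * σ * κ⁻¹)⁻¹ * (κ * σ * κ⁻¹)) := rfl
      rw [h5, inv_mul_cancel] at this
      exact this
    · exact Subgroup.mul_mem _ (Subgroup.inv_mem _ hyc)
        (Subgroup.mul_mem _ (Subgroup.mul_mem _ hk1c hxc) (Subgroup.inv_mem _ hk1c))
  have hodd : (Nat.card (O ⊓ centralizer ({t} : Set G) : Subgroup G)).Coprime 2 :=
    Nat.Coprime.coprime_dvd_left (Subgroup.card_dvd_of_le inf_le_left) h.O_odd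
  have hnor : y ∈ normalizer ((O ⊓ centralizer ({t} : Set G) : Subgroup G) : Set G) := by
    apply NoCompT.mem_normalizer_of_conj_mem
    rintro z ⟨hz1, hz2⟩
    refine ⟨?_, ?_⟩
    · exact (mem_normalizer_iff.1 (h.O_nor (h.mem_M _ _ hy)) z).1 hz1
    · exact Subgroup.mul_mem _ (Subgroup.mul_mem _ hyc hz2) (Subgroup.inv_mem _ hyc)
  obtain ⟨o, ⟨ho, hot⟩, hox⟩ := CosetConj.conj_of_coset hodd (isPGroup_zpowers_conj px k1) py hnor h4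
  refine ⟨o * k1, ?_, ?_, ?_⟩
  · have := R.mul_mem ((h.mem_O o).1 ho) hk1R
    simpa using this
  · exact mem_centralizer_singleton_iff.1 (Subgroup.mul_mem _ hot hk1c)
  · rw [← hox]
    group

theorem exists_Z {z : G} (hz : z ∈ Z) : ∃ b : F, (z, Y n (E b)) ∈ R := by
  obtain ⟨hzS, hzc⟩ := (h.mem_Z z).1 hz
  obtain ⟨σ, hσ, hσR⟩ := h.S_up z hzS
  obtain ⟨b, rfl⟩ := (central_upper_iff hσ).1 (by
    intro τ hτ
    obtain ⟨s, hs, hsR⟩ := h.up_S τ hτ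
    exact h.comm_upper hsR hσR (hzc s hs) hτ hσ)
  exact ⟨b, hσR⟩

theorem mem_Z_of {z : G} (hz : z ∈ (S : Subgroup G)) {b : F} (hb : (z, Y n (E b)) ∈ R) : z ∈ Z := by
  rw [h.mem_Z]
  refine ⟨hz, ?_⟩
  intro s hs
  obtain ⟨σ, hσ, hσR⟩ := h.S_up s hs
  exact h.comm_S hs hz hσR hb ((central_upper_iff (Y_mem_upper (E b))).2 ⟨b, rfl⟩ σ hσ)

theorem eq_one_of {z : G} (hz : z ∈ (S : Subgroup G)) (hb : (z, (1 : SL)) ∈ R) : z = 1 :=
  h.eq_of_mem S.2 hz (one_mem _) hb (R.one_mem)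

/-- conjugates of elements of `Z` are transvections -/
theorem conj_Z {g : G} (hg : g ∈ M) {z : G} (hz : z ∈ Z) (hz1 : z ≠ 1) :
    ∃ (κ : SL) (b : F), b ≠ 0 ∧ (g * z * g⁻¹, κ * Y n (E b) * κ⁻¹) ∈ R := by
  haveI : Fact (Nat.Prime 2) := ⟨Nat.prime_two⟩
  set M1 : Subgroup G := R.map (MonoidHom.fst G SL) with hM1
  have hmem : ∀ x, x ∈ M1 ↔ ∃ σ, (x, σ) ∈ R := by
    intro x
    constructor
    · rintro ⟨⟨y, σ⟩, hy, rfl⟩
      exact ⟨σ, hy⟩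
    · rintro ⟨σ, hσ⟩
      exact ⟨(x, σ), hσ, rfl⟩
  have hSM1 : (S : Subgroup G) ≤ M1 := by
    intro s hs
    obtain ⟨σ, -, hσ⟩ := h.S_up s hs
    exact (hmem s).2 ⟨σ, hσ⟩
  have hP : IsPGroup 2 ((S : Subgroup G).map (MulAut.conj g).toMonoidHom) := S.2.map _
  have hPM1 : (S : Subgroup G).map (MulAut.conj g).toMonoidHom ≤ M1 := by
    rintro _ ⟨s, hs, rfl⟩
    obtain ⟨σ, -, hσ⟩ := h.S_up s hs
    exact (hmem _).2 (h.nor g hg s σ hσ)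
  obtain ⟨k, hk, hkx⟩ := KeyClosed.exists_conj_mem S hSM1 hP hPM1
  have hkg : k * g ∈ normalizer ((S : Subgroup G) : Set G) := by
    apply NoCompT.mem_normalizer_of_conj_mem
    intro s hs
    have h1 := hkx _ ⟨s, hs, rfl⟩
    have h2 : (k * g) * s * (k * g)⁻¹ = k * ((MulAut.conj g).toMonoidHom s) * k⁻¹ := by
      change _ = k * (g * s * g⁻¹) * k⁻¹
      group
    rw [h2]
    exact h1
  obtain ⟨hzS, hzc⟩ := (h.mem_Z z).1 hz
  have hz' : (k * g) * z * (k * g)⁻¹ ∈ Z := by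
    rw [h.mem_Z]
    refine ⟨(mem_normalizer_iff.1 hkg z).1 hzS, ?_⟩
    intro s hs
    have h1 : (k * g)⁻¹ * s * (k * g) ∈ (S : Subgroup G) := by
      have := (mem_normalizer_iff.1 (Subgroup.inv_mem _ hkg) s).1 hs
      rwa [inv_inv] at this
    have h2 := hzc _ h1
    calc s * ((k * g) * z * (k * g)⁻¹) = (k * g) * (((k * g)⁻¹ * s * (k * g)) * z) * (k * g)⁻¹ := by group
      _ = (k * g) * (z * ((k * g)⁻¹ * s * (k * g))) * (k * g)⁻¹ := by rw [h2]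
      _ = _ := by group
  obtain ⟨b, hb⟩ := h.exists_Z hz'
  obtain ⟨κ, hκ⟩ := (hmem k).1 hk
  refine ⟨κ⁻¹, b, ?_, ?_⟩
  · rintro rfl
    rw [CentT.E_zero, Y_zero] at hb
    have h1 := h.eq_one_of ((h.mem_Z _).1 hz').1 hb
    apply hz1
    have h2 : z = (k * g)⁻¹ * ((k * g) * z * (k * g)⁻¹) * (k * g) := by group
    rw [h2, h1]
    group
  · have h1 := R.mul_mem (R.mul_mem (R.inv_mem hκ) hb) (R.inv_mem (R.inv_mem hκ))
    have h2 : (k, κ)⁻¹ * (k * g * z * (k * g)⁻¹, Y n (E b)) * (k, κ)⁻¹⁻¹ =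
        (k⁻¹ * (k * g * z * (k * g)⁻¹) * k⁻¹⁻¹, κ⁻¹ * Y n (E b) * κ⁻¹⁻¹) := rfl
    rw [h2] at h1
    have h3 : k⁻¹ * (k * g * z * (k * g)⁻¹) * k⁻¹⁻¹ = g * z * g⁻¹ := by group
    rwa [h3] at h1

theorem S_sq {s : G} {σ : SL} (hs : s ∈ (S : Subgroup G)) (h1 : (s, σ) ∈ R) (hσ : σ * σ = 1) :
    s * s = 1 := by
  have h2 := R.mul_mem h1 h1
  have h3 : (s, σ) * (s, σ) = (s * s, σ * σ) := rfl
  rw [h3, hσ] at h2
  exact h.eq_one_of ((S : Subgroup G).mul_mem hs hs) h2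

/-- a Sylow 2-subgroup of `H` containing a nontrivial element of `Z` is contained in `M` -/
theorem T_le {H : Subgroup G} (T : Sylow 2 H) {z : G} (hz : z ∈ Z) (hz1 : z ≠ 1)
    (hzt : z ∈ H) (hzT : (⟨z, hzt⟩ : H) ∈ (T : Subgroup H)) :
    (T : Subgroup H) ≤ M.subgroupOf H := by
  haveI : Fact (Nat.Prime 2) := ⟨Nat.prime_two⟩
  have hnil : Group.IsNilpotent (T : Subgroup H) := T.2.isNilpotent
  set T0 : Subgroup (T : Subgroup H) := (M.subgroupOf H).subgroupOf (T : Subgroup H) with hT0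
  have hzM : z ∈ M := h.S_le ((h.mem_Z z).1 hz).1
  by_contra hcon
  have hlt : T0 < ⊤ := by
    rw [lt_top_iff_ne_top]
    intro h1
    apply hcon
    intro x hx
    have : (⟨x, hx⟩ : (T : Subgroup H)) ∈ T0 := by rw [h1]; exact mem_top _
    exact this
  have h2 := Group.normalizerCondition_of_isNilpotent (G := (T : Subgroup H)) T0 hlt
  obtain ⟨x, hx, hx'⟩ := SetLike.exists_of_lt h2
  apply hx'
  have h3 : (⟨⟨z, hzt⟩, hzT⟩ : (T : Subgroup H)) ∈ T0 := hzM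
  have h4 := (mem_normalizer_iff.1 hx _).1 h3
  exact h.M1 z hz hz1 _ h4

end Rel

end Cfsg.Agent.SylowL.RelSet
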