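import Cfsg.Agent.SylowL.RelCent

/-!
# The hypotheses of Aschbacher's criterion
-/

set_option autoImplicit false
set_option linter.unusedSectionVars false

namespace Cfsg.Agent.SylowL.RelSet

open Subgroup Cfsg
open Cfsg.Agent.SylowL.CompFacts
open Cfsg.Agent.SylowL.SLMat
open Cfsg.Agent.SylowL.CentT (up E)
open Cfsg.Agent.ClassicalGeometry.AutPSL.SylowU (upper)

universe u

variable {G : Type u} [Group G] [Finite G] {n : ℕ} {F : Type*} [Field F] [Finite F] [CharP F 2]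

variable {S : Sylow 2 G} {M Z O : Subgroup G}
  {R : Subgroup (G × Matrix.SpecialLinearGroup (Fin (n + 4)) F)}

namespace Rel

variable (h : Rel (n := n) (F := F) S M Z R O)

include h

theorem centralizer_Z_le {z : G} (hz : z ∈ Z) (hz1 : z ≠ 1) : centralizer ({z} : Set G) ≤ M := by
  intro c hc
  rw [mem_centralizer_singleton_iff] at hc
  apply h.M1 z hz hz1
  rw [hc, mul_inv_cancel_right]
  exact h.S_le ((h.mem_Z z).1 hz).1

theorem Z_sq {z : G} (hz : z ∈ Z) : z * z = 1 := by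
  obtain ⟨b, hb⟩ := h.exists_Z hz
  exact h.S_sq ((h.mem_Z z).1 hz).1 hb (Y_sq _)

theorem centralizer_mul_le (hG : GoldHyp.{u}) (hF : 4 ≤ Nat.card F) {z : G} (hz : z ∈ Z)
    (hz1 : z ≠ 1) {g : G} (hcom : z * (g * z * g⁻¹) = (g * z * g⁻¹) * z) (hne : g * z * g⁻¹ ≠ z) :
    centralizer ({z * (g * z * g⁻¹)} : Set G) ≤ M := by
  haveI : Fact (Nat.Prime 2) := ⟨Nat.prime_two⟩
  have hzz := h.Z_sq hz
  have hgM : g ∈ M := by
    apply h.M1 z hz hz1
    apply h.centralizer_Z_le hz hz1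
    rw [mem_centralizer_singleton_iff]
    exact hcom.symm
  obtain ⟨b1, hb1⟩ := h.exists_Z hz
  obtain ⟨κ2, b2, -, hb2⟩ := h.conj_Z hgM hz hz1
  set τ1 := Y n (E b1) with hτ1
  set τ2 := κ2 * Y n (E b2) * κ2⁻¹ with hτ2
  have hsq1 : τ1 * τ1 = 1 := Y_sq _
  have hsq2 : τ2 * τ2 = 1 := by
    calc κ2 * Y n (E b2) * κ2⁻¹ * (κ2 * Y n (E b2) * κ2⁻¹)
        = κ2 * (Y n (E b2) * Y n (E b2)) * κ2⁻¹ := by group
      _ = 1 := by rw [Y_sq]; group
  have hc := h.comm hcom hb1 hb2 hsq1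
  have htR : (z * (g * z * g⁻¹), τ1 * τ2) ∈ R := R.mul_mem hb1 hb2
  set t := z * (g * z * g⁻¹) with ht
  have htt : t * t = 1 := by
    have h1 : (g * z * g⁻¹) * (g * z * g⁻¹) = 1 := by
      calc (g * z * g⁻¹) * (g * z * g⁻¹) = g * (z * z) * g⁻¹ := by group
        _ = 1 := by rw [hzz]; group
    calc t * t = z * ((g * z * g⁻¹) * z) * (g * z * g⁻¹) := by rw [ht]; group
      _ = z * (z * (g * z * g⁻¹)) * (g * z * g⁻¹) := by rw [← hcom, ht]
      _ = (z * z) * ((g * z * g⁻¹) * (g * z * g⁻¹)) := by group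
      _ = 1 := by rw [hzz, h1, one_mul]
  have hpt : ∀ x : G, x * x = 1 → IsPGroup 2 (zpowers x) := by
    rintro x hx ⟨_, k, rfl⟩
    refine ⟨1, Subtype.ext ?_⟩
    change (x ^ k) ^ (2 ^ 1) = 1
    rw [pow_one, pow_two, ← Commute.mul_zpow (Commute.refl _), hx, one_zpow]
  have hsq : (τ1 * τ2) * (τ1 * τ2) = 1 := by
    calc (τ1 * τ2) * (τ1 * τ2) = τ1 * (τ2 * τ1) * τ2 := by group
      _ = τ1 * (τ1 * τ2) * τ2 := by rw [hc]
      _ = (τ1 * τ1) * (τ2 * τ2) := by group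
      _ = 1 := by rw [hsq1, hsq2, one_mul]
  have hσ1 : τ1 * τ2 ≠ 1 := by
    intro h1
    rw [h1] at htR
    have h2 : t = 1 := h.eq_of_mem (hpt t htt) (mem_zpowers t) (one_mem _) htR R.one_mem
    apply hne
    have h3 : g * z * g⁻¹ = z⁻¹ * t := by rw [ht]; group
    rw [h3, h2, mul_one]
    exact inv_eq_of_mul_eq_one_left hzz
  have hrk1 : ((τ1 : Matrix (Fin (n + 4)) (Fin (n + 4)) F) - 1).rank ≤ 1 := by
    have := rank_conj_le (n := n) (1 : Matrix.SpecialLinearGroup (Fin (n + 4)) F) b1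
    rwa [one_mul, inv_one, mul_one] at this
  have hrk2 : ((τ2 : Matrix (Fin (n + 4)) (Fin (n + 4)) F) - 1).rank ≤ 1 := rank_conj_le κ2 b2
  obtain ⟨κ, hκ⟩ := conj_of_rank_le hsq hσ1 (SLMat.rank_mul_le τ1 τ2 hrk1 hrk2)
  have key : ∃ y ∈ (S : Subgroup G), (y, κ * (τ1 * τ2) * κ⁻¹) ∈ R ∧
      centralizer ({y} : Set G) ≤ M := by
    rcases hκ with hκ | hκ
    · obtain ⟨y, hy, hyR⟩ := h.up_S _ (Y_mem_upper (n := n) (1 : Matrix (Fin 2) (Fin 2) F))
      refine ⟨y, hy, by rwa [hκ], ?_⟩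
      exact h.centralizer_le hG hF hy hyR
    · obtain ⟨y, hy, hyR⟩ := h.up_S _ (Y_mem_upper (n := n) (E (1 : F)))
      refine ⟨y, hy, by rwa [hκ], ?_⟩
      apply h.centralizer_Z_le (h.mem_Z_of hy hyR)
      intro hy1
      rw [hy1] at hyR
      have h1 := h.eq_of_upper hyR R.one_mem (Y_mem_upper _) (one_mem _)
      rw [← Y_zero] at h1
      exact CentT.E_ne_zero one_ne_zero (Y_injective h1)
  obtain ⟨y, hy, hyR, hyM⟩ := key
  have h1t : ((1 : G), (1 : Matrix.SpecialLinearGroup (Fin (n + 4)) F)) ∈ R := R.one_mem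
  obtain ⟨k, hk, -, hky⟩ := h.lift h1t htR hyR (hpt 1 (one_mul 1)) (hpt t htt)
    (isPGroup_zpowers_of_mem S.2 hy) (by rw [mul_one, one_mul]) (by rw [mul_one, one_mul])
    (by rw [mul_one, one_mul])
  have hkM := h.mem_M _ _ hk
  intro c hc
  rw [mem_centralizer_singleton_iff] at hc
  have h2 : k * c * k⁻¹ ∈ centralizer ({y} : Set G) := by
    rw [mem_centralizer_singleton_iff, ← hky]
    calc k * c * k⁻¹ * (k * t * k⁻¹) = k * (c * t) * k⁻¹ := by group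
      _ = k * (t * c) * k⁻¹ := by rw [hc]
      _ = k * t * k⁻¹ * (k * c * k⁻¹) := by group
  have h3 : c = k⁻¹ * (k * c * k⁻¹) * k := by group
  rw [h3]
  exact M.mul_mem (M.mul_mem (M.inv_mem hkM) (hyM h2)) hkM

end Rel

end Cfsg.Agent.SylowL.RelSet
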