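import Mathlib

/-!
# Square-zero endomorphisms of the same rank are conjugate
-/

set_option autoImplicit false

namespace Cfsg.Agent.SylowL.SqZero

open Module LinearMap

variable {F V : Type*} [Field F] [AddCommGroup V] [Module F V] [FiniteDimensional F V]

theorem exists_coord (N : V →ₗ[F] V) (hN : N ∘ₗ N = 0) (r : ℕ) (hr : finrank F (range N) = r) :
    ∃ e : (((Fin r → F) × (Fin (finrank F V - 2 * r) → F)) × (Fin r → F)) ≃ₗ[F] V,
      ∀ x, N (e x) = e ((0, 0), x.1.1) := by
  have hNN : ∀ v, N (N v) = 0 := fun v => LinearMap.congr_fun hN v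
  obtain ⟨C, hC⟩ := Submodule.exists_isCompl (ker N)
  obtain ⟨D, hD⟩ := Submodule.exists_isCompl (range N)
  have hle : range N ≤ ker N := by
    rintro _ ⟨v, rfl⟩
    exact hNN v
  set E : Submodule F V := D ⊓ ker N with hE
  have hrk := LinearMap.finrank_range_add_finrank_ker N
  have hCr : finrank F C = r := by
    have h1 := Submodule.finrank_add_eq_of_isCompl hC
    omega
  have hsup : range N ⊔ E = ker N := by
    rw [hE, ← sup_inf_assoc_of_le D hle, hD.sup_eq_top, top_inf_eq]
  have hinf : range N ⊓ E = ⊥ := by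
    rw [hE, ← inf_assoc, hD.inf_eq_bot, bot_inf_eq]
  have hEr : finrank F E = finrank F V - 2 * r := by
    have h1 := Submodule.finrank_sup_add_finrank_inf_eq (range N) E
    rw [hsup, hinf, finrank_bot] at h1
    omega
  let f : (C × E) × C →ₗ[F] V :=
    ((C.subtype ∘ₗ LinearMap.fst F C E) + (E.subtype ∘ₗ LinearMap.snd F C E)) ∘ₗ
      LinearMap.fst F (C × E) C + (N ∘ₗ C.subtype) ∘ₗ LinearMap.snd F (C × E) C
  have hf : ∀ x : (C × E) × C, f x = (x.1.1 : V) + x.1.2 + N x.2 := fun x => rfl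
  have hinj : Function.Injective f := by
    rw [← LinearMap.ker_eq_bot, LinearMap.ker_eq_bot']
    rintro ⟨⟨c, e⟩, c'⟩ h
    rw [hf] at h
    simp only at h
    have he : N (e : V) = 0 := e.2.2
    have hc : c = 0 := by
      have h1 : (c : V) ∈ ker N ⊓ C := by
        refine ⟨?_, c.2⟩
        change N (c : V) = 0
        have h2 := congrArg N h
        rw [map_add, map_add, he, hNN, add_zero, add_zero, map_zero] at h2
        exact h2
      rw [hC.inf_eq_bot, Submodule.mem_bot] at h1
      exact Subtype.ext h1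
    have h2 : (e : V) + N c' = 0 := by
      rw [hc] at h
      simpa using h
    have he0 : e = 0 := by
      have h1 : (e : V) ∈ range N ⊓ E := by
        refine ⟨⟨-c', ?_⟩, e.2⟩
        rw [map_neg]
        exact (eq_neg_of_add_eq_zero_left h2).symm
      rw [hinf, Submodule.mem_bot] at h1
      exact Subtype.ext h1
    have hc' : c' = 0 := by
      have h1 : (c' : V) ∈ ker N ⊓ C := by
        refine ⟨?_, c'.2⟩
        change N (c' : V) = 0
        rw [he0] at h2
        simpa using h2
      rw [hC.inf_eq_bot, Submodule.mem_bot] at h1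
      exact Subtype.ext h1
    rw [hc, he0, hc']
    rfl
  have hdim : finrank F ((C × E) × C) = finrank F V := by
    rw [finrank_prod, finrank_prod, hCr, hEr]
    have h1 : finrank F (range N) ≤ finrank F (ker N) := Submodule.finrank_mono hle
    omega
  let e0 : ((C × E) × C) ≃ₗ[F] V := LinearEquiv.ofInjectiveOfFinrankEq f hinj hdim
  let eC : (Fin r → F) ≃ₗ[F] C := LinearEquiv.ofFinrankEq _ _ (by rw [finrank_fin_fun, hCr])
  let eE : (Fin (finrank F V - 2 * r) → F) ≃ₗ[F] E :=
    LinearEquiv.ofFinrankEq _ _ (by rw [finrank_fin_fun, hEr])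
  refine ⟨((eC.prodCongr eE).prodCongr eC).trans e0, ?_⟩
  rintro ⟨⟨a, b⟩, c⟩
  have h0 : ∀ x, e0 x = f x := fun x => rfl
  simp only [LinearEquiv.trans_apply, LinearEquiv.prodCongr_apply, h0, hf, map_add, hNN, add_zero,
    map_zero, Submodule.coe_zero, zero_add]
  have he : N (eE b : V) = 0 := (eE b).2.2
  rw [he, add_zero]

/-- Square-zero endomorphisms of the same rank are conjugate. -/
theorem exists_conj (N N' : V →ₗ[F] V) (hN : N ∘ₗ N = 0) (hN' : N' ∘ₗ N' = 0)
    (h : finrank F (range N) = finrank F (range N')) :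
    ∃ g : V ≃ₗ[F] V, ∀ v, g (N v) = N' (g v) := by
  obtain ⟨e, he⟩ := exists_coord N hN _ rfl
  obtain ⟨e', he'⟩ := exists_coord N' hN' _ h.symm
  refine ⟨e.symm.trans e', ?_⟩
  intro v
  obtain ⟨x, rfl⟩ := e.surjective v
  rw [he]
  simp only [LinearEquiv.trans_apply, LinearEquiv.symm_apply_apply]
  rw [he']

open Matrix in
/-- Square-zero matrices of the same rank are conjugate. -/
theorem exists_conj_matrix {m : ℕ} (N N' : Matrix (Fin m) (Fin m) F) (hN : N * N = 0)
    (hN' : N' * N' = 0) (h : N.rank = N'.rank) :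
    ∃ g : Matrix (Fin m) (Fin m) F, IsUnit g.det ∧ g * N = N' * g := by
  obtain ⟨g, hg⟩ := exists_conj (Matrix.mulVecLin N) (Matrix.mulVecLin N')
    (by rw [← Matrix.mulVecLin_mul, hN, Matrix.mulVecLin_zero])
    (by rw [← Matrix.mulVecLin_mul, hN', Matrix.mulVecLin_zero]) h
  refine ⟨LinearMap.toMatrix' (g : (Fin m → F) →ₗ[F] (Fin m → F)), ?_, ?_⟩
  · rw [← Matrix.isUnit_iff_isUnit_det]
    refine ⟨⟨LinearMap.toMatrix' (g : (Fin m → F) →ₗ[F] (Fin m → F)),
      LinearMap.toMatrix' (g.symm : (Fin m → F) →ₗ[F] (Fin m → F)), ?_, ?_⟩, rfl⟩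
    · rw [← LinearMap.toMatrix'_comp]
      simp
    · rw [← LinearMap.toMatrix'_comp]
      simp
  · apply Matrix.toLin'.injective
    rw [Matrix.toLin'_mul, Matrix.toLin'_mul, Matrix.toLin'_toMatrix']
    apply LinearMap.ext
    intro v
    exact hg v

end Cfsg.Agent.SylowL.SqZero
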