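import Cfsg.Agent.SylowL.SylowPSL
import Cfsg.Agent.SylowL.SqZero
import Cfsg.Agent.SylowL.CentT

/-!
# Matrix facts on involutions of rank 1 and 2 in `SL(m, F)`, `m = n + 4`, `F` of characteristic 2
-/

set_option autoImplicit false
set_option linter.unusedSectionVars false

namespace Cfsg.Agent.SylowL.SLMat

open Matrix
open Cfsg.Agent.SylowL.Lev Cfsg.Agent.SylowL.UT
open Cfsg.Agent.SylowL.CentT (up E up_mul_up two_zero)
open Cfsg.Agent.ClassicalGeometry.AutPSL.SylowU (upper)

variable {n : ℕ} {F : Type*} [Field F]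

local notation "SL" => Matrix.SpecialLinearGroup (Fin (n + 4)) F
local notation "Mat" => Matrix (Fin (n + 4)) (Fin (n + 4)) F
local notation "M2" => Matrix (Fin 2) (Fin 2) F

/-- the first two unit column vectors -/
def U (n : ℕ) (F : Type*) [Field F] : Matrix (Fin (n + 4)) (Fin 2) F :=
  Matrix.of fun i k => if (i : ℕ) = k then 1 else 0

/-- the last two unit row vectors -/
def W (n : ℕ) (F : Type*) [Field F] : Matrix (Fin 2) (Fin (n + 4)) F :=
  Matrix.of fun k j => if (j : ℕ) = n + 2 + k then 1 else 0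

theorem U_apply (i : Fin (n + 4)) (k : Fin 2) : U n F i k = if (i : ℕ) = k then 1 else 0 := rfl
theorem W_apply (k : Fin 2) (j : Fin (n + 4)) : W n F k j = if (j : ℕ) = n + 2 + k then 1 else 0 := rfl

theorem W_mul_U : W n F * U n F = 0 := by
  ext k l
  rw [Matrix.mul_apply, Matrix.zero_apply]
  refine Finset.sum_eq_zero fun j _ => ?_
  rw [W_apply, U_apply]
  have := l.2
  split_ifs with h1 h2
  · omega
  · rw [mul_zero]
  · rw [zero_mul]
  · rw [zero_mul]

theorem Ut_mul_U : (U n F)ᵀ * U n F = 1 := by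
  ext k l
  have hk := k.2
  rw [Matrix.mul_apply, Finset.sum_eq_single (⟨k, by omega⟩ : Fin (n + 4))]
  · rw [Matrix.transpose_apply, U_apply, U_apply, Matrix.one_apply]
    simp [Fin.ext_iff]
  · intro j _ hj
    rw [Matrix.transpose_apply, U_apply, if_neg, zero_mul]
    intro h
    exact hj (Fin.ext h)
  · intro h
    exact absurd (Finset.mem_univ _) h

theorem W_mul_Wt : W n F * (W n F)ᵀ = 1 := by
  ext k l
  have hk := k.2
  rw [Matrix.mul_apply, Finset.sum_eq_single (⟨n + 2 + k, by omega⟩ : Fin (n + 4))]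
  · rw [Matrix.transpose_apply, W_apply, W_apply, Matrix.one_apply]
    simp [Fin.ext_iff]
  · intro j _ hj
    rw [W_apply, if_neg, zero_mul]
    intro h
    exact hj (Fin.ext h)
  · intro h
    exact absurd (Finset.mem_univ _) h

theorem Ut_mul_Wt : (U n F)ᵀ * (W n F)ᵀ = 0 := by
  rw [← Matrix.transpose_mul, W_mul_U, Matrix.transpose_zero]

section rect

variable {p : Type*}

theorem W_U_mul (X : Matrix (Fin 2) p F) : W n F * (U n F * X) = 0 := by
  rw [← Matrix.mul_assoc, W_mul_U, Matrix.zero_mul]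

theorem Ut_U_mul (X : Matrix (Fin 2) p F) : (U n F)ᵀ * (U n F * X) = X := by
  rw [← Matrix.mul_assoc, Ut_mul_U, Matrix.one_mul]

theorem W_Wt_mul (X : Matrix (Fin 2) p F) : W n F * ((W n F)ᵀ * X) = X := by
  rw [← Matrix.mul_assoc, W_mul_Wt, Matrix.one_mul]

theorem Ut_Wt_mul (X : Matrix (Fin 2) p F) : (U n F)ᵀ * ((W n F)ᵀ * X) = 0 := by
  rw [← Matrix.mul_assoc, Ut_mul_Wt, Matrix.zero_mul]

end rect

theorem UBW_apply_eq_zero (B : M2) {i j : Fin (n + 4)} (h : ¬ ((i : ℕ) < 2 ∧ n + 2 ≤ j)) :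
    (U n F * B * W n F) i j = 0 := by
  rw [Matrix.mul_apply]
  refine Finset.sum_eq_zero fun k _ => ?_
  rw [W_apply]
  split_ifs with h1
  · rw [mul_one, Matrix.mul_apply]
    refine Finset.sum_eq_zero fun l _ => ?_
    rw [U_apply, if_neg, zero_mul]
    intro h2
    have := l.2
    omega
  · rw [mul_zero]

theorem UBW_mem (B : M2) : U n F * B * W n F ∈ lev (n + 4) F 1 := by
  intro i j h
  by_contra hcon
  apply h
  apply UBW_apply_eq_zero
  omega

/-- the involutions `1 + U B W` -/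
def Y (n : ℕ) {F : Type*} [Field F] (B : Matrix (Fin 2) (Fin 2) F) :
    Matrix.SpecialLinearGroup (Fin (n + 4)) F :=
  ⟨1 + U n F * B * W n F, SylowPSL.det_eq_one (UBW_mem B)⟩

theorem coe_Y (B : M2) : ((Y n B : SL) : Mat) = 1 + U n F * B * W n F := rfl

theorem Y_add (B B' : M2) : Y n (B + B') = Y n B * Y n B' := by
  apply Subtype.ext
  rw [Matrix.SpecialLinearGroup.coe_mul, coe_Y, coe_Y, coe_Y]
  simp only [Matrix.mul_add, Matrix.add_mul, Matrix.mul_one, Matrix.one_mul, Matrix.mul_assoc, W_U_mul,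
    Matrix.mul_zero, add_zero]
  abel

theorem Y_zero : Y n (0 : M2) = 1 := by
  apply Subtype.ext
  rw [coe_Y, Matrix.mul_zero, Matrix.zero_mul, add_zero, Matrix.SpecialLinearGroup.coe_one]

theorem Y_injective : Function.Injective (Y n : M2 → SL) := by
  intro B B' h
  have h1 : U n F * B * W n F = U n F * B' * W n F := by
    have := congrArg (fun x : SL => (x : Mat)) h
    simp only [coe_Y, add_right_inj] at this
    exact this
  have h2 : (U n F)ᵀ * (U n F * B * W n F) * (W n F)ᵀ = (U n F)ᵀ * (U n F * B' * W n F) * (W n F)ᵀ := by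
    rw [h1]
  simpa only [Matrix.mul_assoc, Ut_U_mul, W_mul_Wt, Matrix.mul_one] using h2

theorem Y_mem_upper [Finite F] (B : M2) : Y n B ∈ upper (n + 4) F := by
  rw [SylowPSL.mem_upper_iff, coe_Y, add_sub_cancel_left]
  exact UBW_mem B

theorem Y_sq [CharP F 2] (B : M2) : Y n B * Y n B = 1 := by
  rw [← Y_add, CentT.add_self, Y_zero]

/-- the diagonal embedding of `GL 2` -/
def kapM (n : ℕ) {F : Type*} [Field F] (P : Matrix (Fin 2) (Fin 2) F) :
    Matrix (Fin (n + 4)) (Fin (n + 4)) F :=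
  (1 + U n F * ((P - 1) * (U n F)ᵀ)) * (1 + (W n F)ᵀ * ((P - 1) * W n F))

theorem kapM_eq (P : M2) :
    kapM n P = 1 + U n F * ((P - 1) * (U n F)ᵀ) + (W n F)ᵀ * ((P - 1) * W n F) := by
  unfold kapM
  rw [Matrix.mul_add, Matrix.mul_one, Matrix.add_mul, Matrix.one_mul]
  have : U n F * ((P - 1) * (U n F)ᵀ) * ((W n F)ᵀ * ((P - 1) * W n F)) = 0 := by
    simp only [Matrix.mul_assoc, Ut_Wt_mul, Matrix.mul_zero]
  rw [this, add_zero]

theorem det_kapM (P : M2) : (kapM n P).det = P.det * P.det := by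
  unfold kapM
  rw [Matrix.det_mul, Matrix.det_one_add_mul_comm (U n F) ((P - 1) * (U n F)ᵀ),
    Matrix.det_one_add_mul_comm (W n F)ᵀ ((P - 1) * W n F), Matrix.mul_assoc,
    Ut_mul_U, Matrix.mul_one, Matrix.mul_assoc, W_mul_Wt, Matrix.mul_one, add_sub_cancel]

theorem kapM_mul_U (P : M2) : kapM n P * U n F = U n F * P := by
  rw [kapM_eq, Matrix.add_mul, Matrix.add_mul, Matrix.one_mul]
  simp only [Matrix.mul_assoc, W_mul_U, Ut_mul_U, Matrix.mul_zero, Matrix.mul_one, add_zero]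
  rw [Matrix.mul_sub, Matrix.mul_one, add_sub_cancel]

theorem W_mul_kapM (P : M2) : W n F * kapM n P = P * W n F := by
  rw [kapM_eq, Matrix.mul_add, Matrix.mul_add, Matrix.mul_one, W_U_mul, W_Wt_mul, add_zero,
    Matrix.sub_mul, Matrix.one_mul, add_sub_cancel]

theorem kapM_mul_Y {P P' : M2} (h : P * P' = 1) (B : M2) :
    kapM n P * (1 + U n F * B * W n F) = (1 + U n F * (P * B * P') * W n F) * kapM n P := by
  have h' := mul_eq_one_comm.1 h
  rw [Matrix.mul_add, Matrix.add_mul, Matrix.mul_one, Matrix.one_mul]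
  congr 1
  calc kapM n P * (U n F * B * W n F) = (kapM n P * U n F) * B * W n F := by
        simp only [Matrix.mul_assoc]
    _ = U n F * P * B * W n F := by rw [kapM_mul_U]
    _ = U n F * P * B * (P' * P) * W n F := by rw [h', Matrix.mul_one]
    _ = U n F * (P * B * P') * (P * W n F) := by simp only [Matrix.mul_assoc]
    _ = U n F * (P * B * P') * (W n F * kapM n P) := by rw [W_mul_kapM]
    _ = U n F * (P * B * P') * W n F * kapM n P := by simp only [Matrix.mul_assoc]

/-- the diagonal embedding of `SL 2` -/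
def kap (n : ℕ) {F : Type*} [Field F] (P : Matrix (Fin 2) (Fin 2) F) (h : P.det = 1) :
    Matrix.SpecialLinearGroup (Fin (n + 4)) F :=
  ⟨kapM n P, by rw [det_kapM, h, one_mul]⟩

theorem kap_conj {P P' : M2} (hd : P.det = 1) (h : P * P' = 1) (B : M2) :
    kap n P hd * Y n B * (kap n P hd)⁻¹ = Y n (P * B * P') := by
  rw [mul_inv_eq_iff_eq_mul]
  apply Subtype.ext
  exact kapM_mul_Y h B

theorem det_up (b : F) : (up b).det = 1 := by
  rw [Matrix.det_fin_two]
  simp [up]

theorem kap_up_mem [Finite F] (b : F) : kap n (up b) (det_up b) ∈ upper (n + 4) F := by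
  rw [SylowPSL.mem_upper_iff]
  change kapM n (up b) - 1 ∈ lev (n + 4) F 1
  have h1 : kapM n (up b) - 1 = U n F * ((up b - 1) * (U n F)ᵀ) + (W n F)ᵀ * ((up b - 1) * W n F) := by
    rw [kapM_eq]
    abel
  rw [h1]
  have h2 : up b - 1 = !![0, b; 0, 0] := by
    ext i j
    fin_cases i <;> fin_cases j <;> simp [up]
  rw [h2]
  refine add_mem ?_ ?_
  · intro i j h
    rw [Matrix.mul_apply, Fin.sum_univ_two, Matrix.mul_apply, Matrix.mul_apply, Fin.sum_univ_two,
      Fin.sum_univ_two] at h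
    simp only [U_apply, Matrix.transpose_apply] at h
    by_contra hcon
    apply h
    have : ¬ ((i : ℕ) = 0 ∧ (j : ℕ) = 1) := by omega
    by_cases h3 : (i : ℕ) = 0
    · have h4 : ¬ (j : ℕ) = 1 := fun h4 => this ⟨h3, h4⟩
      simp [h4]
    · simp [h3]
  · intro i j h
    rw [Matrix.mul_apply, Fin.sum_univ_two, Matrix.mul_apply, Matrix.mul_apply, Fin.sum_univ_two,
      Fin.sum_univ_two] at h
    simp only [W_apply, Matrix.transpose_apply] at h
    by_contra hcon
    apply h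
    have : ¬ ((i : ℕ) = n + 2 ∧ (j : ℕ) = n + 2 + 1) := by omega
    by_cases h3 : (i : ℕ) = n + 2
    · have h4 : ¬ (j : ℕ) = n + 2 + 1 := fun h4 => this ⟨h3, h4⟩
      simp [h4]
    · simp [h3]

/-- the centralizer of `Y 1` acts on the `Y B` -/
theorem exists_P {σ : SL} (h : σ * Y n 1 = Y n 1 * σ) :
    ∃ P P' : M2, P * P' = 1 ∧ ∀ B, σ * Y n B * σ⁻¹ = Y n (P * B * P') := by
  have h1 : (σ : Mat) * (U n F * W n F) = U n F * W n F * (σ : Mat) := by
    have := congrArg (fun x : SL => (x : Mat)) h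
    simp only [Matrix.SpecialLinearGroup.coe_mul, coe_Y, Matrix.mul_one] at this
    rw [Matrix.mul_add, Matrix.mul_one, Matrix.add_mul, Matrix.one_mul, add_right_inj] at this
    exact this
  have key : ∀ σ : SL, (σ : Mat) * (U n F * W n F) = U n F * W n F * (σ : Mat) →
      (σ : Mat) * U n F = U n F * ((U n F)ᵀ * (σ : Mat) * U n F) ∧
      W n F * (σ : Mat) = ((U n F)ᵀ * (σ : Mat) * U n F) * W n F := by
    intro σ h1
    constructor
    · have h2 : (σ : Mat) * U n F = U n F * (W n F * (σ : Mat) * (W n F)ᵀ) := by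
        calc (σ : Mat) * U n F = (σ : Mat) * (U n F * W n F) * (W n F)ᵀ := by
              simp only [Matrix.mul_assoc, W_mul_Wt, Matrix.mul_one]
          _ = _ := by rw [h1]; simp only [Matrix.mul_assoc]
      have h3 : (U n F)ᵀ * (σ : Mat) * U n F = W n F * (σ : Mat) * (W n F)ᵀ := by
        rw [Matrix.mul_assoc, h2, Ut_U_mul]
      rw [h3]
      exact h2
    · calc W n F * (σ : Mat) = (U n F)ᵀ * (U n F * W n F * (σ : Mat)) := by
            simp only [Matrix.mul_assoc, Ut_U_mul]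
        _ = (U n F)ᵀ * ((σ : Mat) * (U n F * W n F)) := by rw [h1]
        _ = _ := by simp only [Matrix.mul_assoc]
  have h2 : ((σ⁻¹ : SL) : Mat) * (U n F * W n F) = U n F * W n F * ((σ⁻¹ : SL) : Mat) := by
    have h3 : ((σ⁻¹ : SL) : Mat) * (σ : Mat) = 1 := by
      rw [← Matrix.SpecialLinearGroup.coe_mul, inv_mul_cancel, Matrix.SpecialLinearGroup.coe_one]
    have h4 : (σ : Mat) * ((σ⁻¹ : SL) : Mat) = 1 := by
      rw [← Matrix.SpecialLinearGroup.coe_mul, mul_inv_cancel, Matrix.SpecialLinearGroup.coe_one]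
    calc ((σ⁻¹ : SL) : Mat) * (U n F * W n F)
        = ((σ⁻¹ : SL) : Mat) * (U n F * W n F * ((σ : Mat) * ((σ⁻¹ : SL) : Mat))) := by
          rw [h4, Matrix.mul_one]
      _ = ((σ⁻¹ : SL) : Mat) * (U n F * W n F * (σ : Mat)) * ((σ⁻¹ : SL) : Mat) := by
          simp only [Matrix.mul_assoc]
      _ = ((σ⁻¹ : SL) : Mat) * ((σ : Mat) * (U n F * W n F)) * ((σ⁻¹ : SL) : Mat) := by rw [h1]
      _ = (((σ⁻¹ : SL) : Mat) * (σ : Mat)) * (U n F * W n F) * ((σ⁻¹ : SL) : Mat) := by
          simp only [Matrix.mul_assoc]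
      _ = _ := by rw [h3, Matrix.one_mul]
  obtain ⟨h3, h4⟩ := key σ h1
  obtain ⟨h5, h6⟩ := key σ⁻¹ h2
  set P : M2 := (U n F)ᵀ * (σ : Mat) * U n F with hP
  set P' : M2 := (U n F)ᵀ * ((σ⁻¹ : SL) : Mat) * U n F with hP'
  have hPP : P * P' = 1 := by
    have h7 : (σ : Mat) * ((σ⁻¹ : SL) : Mat) = 1 := by
      rw [← Matrix.SpecialLinearGroup.coe_mul, mul_inv_cancel, Matrix.SpecialLinearGroup.coe_one]
    calc P * P' = (U n F)ᵀ * ((σ : Mat) * (U n F * P')) := by
          rw [hP]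
          simp only [Matrix.mul_assoc]
      _ = (U n F)ᵀ * ((σ : Mat) * (((σ⁻¹ : SL) : Mat) * U n F)) := by rw [h5]
      _ = (U n F)ᵀ * (((σ : Mat) * ((σ⁻¹ : SL) : Mat)) * U n F) := by simp only [Matrix.mul_assoc]
      _ = 1 := by rw [h7, Matrix.one_mul, Ut_mul_U]
  refine ⟨P, P', hPP, ?_⟩
  intro B
  have hPP' := mul_eq_one_comm.1 hPP
  rw [mul_inv_eq_iff_eq_mul]
  apply Subtype.ext
  rw [Matrix.SpecialLinearGroup.coe_mul, Matrix.SpecialLinearGroup.coe_mul, coe_Y, coe_Y,
    Matrix.mul_add, Matrix.add_mul, Matrix.mul_one, Matrix.one_mul]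
  congr 1
  calc (σ : Mat) * (U n F * B * W n F) = ((σ : Mat) * U n F) * B * W n F := by
        simp only [Matrix.mul_assoc]
    _ = U n F * P * B * W n F := by rw [h3]
    _ = U n F * P * B * (P' * P) * W n F := by rw [hPP', Matrix.mul_one]
    _ = U n F * (P * B * P') * (P * W n F) := by simp only [Matrix.mul_assoc]
    _ = U n F * (P * B * P') * (W n F * (σ : Mat)) := by rw [h4]
    _ = U n F * (P * B * P') * W n F * (σ : Mat) := by simp only [Matrix.mul_assoc]

/-- a central involution of `SL` is trivial -/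
theorem center_eq_one [CharP F 2] {c : SL} (hc : c ∈ Subgroup.center SL) (h : c * c = 1) : c = 1 := by
  obtain ⟨r, -, hr⟩ := Matrix.SpecialLinearGroup.mem_center_iff.1 hc
  have h1 : r = 1 := by
    have h2 := congrArg (fun x : SL => (x : Mat)) h
    simp only [Matrix.SpecialLinearGroup.coe_mul, Matrix.SpecialLinearGroup.coe_one] at h2
    rw [← hr, ← map_mul] at h2
    have h3 := congrFun (congrFun h2 0) 0
    rw [Matrix.scalar_apply, Matrix.diagonal_apply_eq, Matrix.one_apply_eq] at h3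
    have h4 : (r - 1) ^ 2 = 0 := by
      have h5 : (2 : F) = 0 := CharTwo.two_eq_zero
      linear_combination h3 + (1 - r) * h5
    have h6 := (pow_eq_zero_iff two_ne_zero).1 h4
    exact sub_eq_zero.1 h6
  apply Subtype.ext
  rw [← hr, h1, map_one, Matrix.SpecialLinearGroup.coe_one]

/-! ### ranks -/

theorem rank_add_le (A B : Mat) : (A + B).rank ≤ A.rank + B.rank := by
  unfold Matrix.rank
  rw [Matrix.mulVecLin_add]
  refine le_trans (Submodule.finrank_mono ?_) (Submodule.finrank_add_le_finrank_add_finrank _ _)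
  rintro _ ⟨v, rfl⟩
  exact Submodule.add_mem_sup ⟨v, rfl⟩ ⟨v, rfl⟩

theorem eq_zero_of_rank {A : Mat} (h : A.rank = 0) : A = 0 := by
  unfold Matrix.rank at h
  rw [Submodule.finrank_eq_zero, LinearMap.range_eq_bot] at h
  rw [← Matrix.toLin'_apply'] at h
  exact (Matrix.toLin'.map_eq_zero_iff).1 h

theorem rank_E_le (b : F) : (E b : M2).rank ≤ 1 := by
  have : (E b : M2) = Matrix.vecMulVec ![b, 0] ![0, 1] := by
    ext i j
    fin_cases i <;> fin_cases j <;> simp [E, Matrix.vecMulVec_apply]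
  rw [this]
  exact Matrix.rank_vecMulVec_le _ _

theorem rank_UBW_le (B : M2) : (U n F * B * W n F).rank ≤ B.rank :=
  (Matrix.rank_mul_le_left _ _).trans (Matrix.rank_mul_le_right _ _)

theorem rank_UEW [CharP F 2] : (U n F * E (1 : F) * W n F).rank = 1 := by
  apply le_antisymm ((rank_UBW_le _).trans (rank_E_le 1))
  rw [Nat.one_le_iff_ne_zero]
  intro h
  have h1 := eq_zero_of_rank h
  have h2 : Y n (E (1 : F)) = Y n 0 := by
    apply Subtype.ext
    rw [coe_Y, coe_Y, h1, Matrix.mul_zero, Matrix.zero_mul]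
  exact CentT.E_ne_zero one_ne_zero (Y_injective h2)

theorem rank_UW : (U n F * (1 : M2) * W n F).rank = 2 := by
  apply le_antisymm
  · refine (rank_UBW_le _).trans ?_
    rw [Matrix.rank_one, Fintype.card_fin]
  · have h1 : ((U n F)ᵀ * (U n F * (1 : M2) * W n F) * (W n F)ᵀ).rank = 2 := by
      have : (U n F)ᵀ * (U n F * (1 : M2) * W n F) * (W n F)ᵀ = 1 := by
        simp only [Matrix.mul_assoc, Ut_U_mul, W_mul_Wt, Matrix.mul_one]
      rw [this, Matrix.rank_one, Fintype.card_fin]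
    exact h1.ge.trans ((Matrix.rank_mul_le_left _ _).trans (Matrix.rank_mul_le_right _ _))

/-- `σ - 1` is of square zero -/
theorem sub_one_sq [CharP F 2] {σ : SL} (h : σ * σ = 1) : ((σ : Mat) - 1) * ((σ : Mat) - 1) = 0 := by
  have h1 : (σ : Mat) * σ = 1 := by
    rw [← Matrix.SpecialLinearGroup.coe_mul, h, Matrix.SpecialLinearGroup.coe_one]
  have h2 : ∀ X : Mat, X + X = 0 := fun X => by
    ext i j
    exact two_zero _
  rw [Matrix.sub_mul, Matrix.mul_sub, h1, Matrix.mul_one, Matrix.one_mul]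
  have : (1 : Mat) - σ - (σ - 1) = (1 + 1) - (σ + σ) := by abel
  rw [this, h2, h2, sub_zero]

theorem exists_pow_four [Finite F] [CharP F 2] {δ : F} : ∃ a : F, a ^ 4 = δ := by
  have h1 : Function.Surjective (frobenius F 2) :=
    Finite.surjective_of_injective (frobenius_inj F 2)
  obtain ⟨b, hb⟩ := h1 δ
  obtain ⟨a, ha⟩ := h1 b
  refine ⟨a, ?_⟩
  rw [frobenius_def] at ha hb
  rw [← hb, ← ha, ← pow_mul]

theorem conj_of_rank_eq [Finite F] [CharP F 2] {σ : SL} (h2 : σ * σ = 1) (B : M2)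
    (hr : ((σ : Mat) - 1).rank = (U n F * B * W n F).rank) :
    ∃ κ : SL, κ * σ * κ⁻¹ = Y n B := by
  obtain ⟨g, hg, hgc⟩ := SqZero.exists_conj_matrix ((σ : Mat) - 1) (U n F * B * W n F)
    (sub_one_sq h2) (by
      simp only [Matrix.mul_assoc, W_U_mul, Matrix.mul_zero]) hr
  obtain ⟨a, ha⟩ := exists_pow_four (F := F) (δ := (g.det)⁻¹)
  have ha0 : a ≠ 0 := by
    rintro rfl
    rw [zero_pow (by norm_num)] at ha
    exact inv_ne_zero hg.ne_zero ha.symm
  have hdet : (kapM n (a • (1 : M2))).det = (g.det)⁻¹ := by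
    rw [det_kapM, Matrix.det_smul, Matrix.det_one, Fintype.card_fin, ← ha]
    ring
  have hcom : kapM n (a • (1 : M2)) * (U n F * B * W n F) =
      (U n F * B * W n F) * kapM n (a • (1 : M2)) := by
    have h3 : (a • (1 : M2)) * (a⁻¹ • (1 : M2)) = 1 := by
      rw [smul_mul_smul_comm, mul_inv_cancel₀ ha0, Matrix.mul_one, one_smul]
    have h4 := kapM_mul_Y (n := n) h3 B
    have h5 : (a • (1 : M2)) * B * (a⁻¹ • (1 : M2)) = B := by
      rw [smul_mul_assoc, smul_mul_smul_comm, mul_inv_cancel₀ ha0, Matrix.mul_one, Matrix.one_mul,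
        one_smul]
    rw [h5, Matrix.mul_add, Matrix.add_mul, Matrix.mul_one, Matrix.one_mul, add_right_inj] at h4
    exact h4
  have hdet' : (kapM n (a • (1 : M2)) * g).det = 1 := by
    rw [Matrix.det_mul, hdet, inv_mul_cancel₀ hg.ne_zero]
  let κ : SL := ⟨kapM n (a • (1 : M2)) * g, hdet'⟩
  refine ⟨κ, ?_⟩
  · rw [mul_inv_eq_iff_eq_mul]
    apply Subtype.ext
    rw [Matrix.SpecialLinearGroup.coe_mul, Matrix.SpecialLinearGroup.coe_mul, coe_Y]
    change kapM n (a • (1 : M2)) * g * (σ : Mat) =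
      (1 + U n F * B * W n F) * (kapM n (a • (1 : M2)) * g)
    have h6 : g * (σ : Mat) = g + U n F * B * W n F * g := by
      rw [← hgc, Matrix.mul_sub, Matrix.mul_one, add_sub_cancel]
    rw [Matrix.mul_assoc, h6, Matrix.mul_add, Matrix.add_mul, Matrix.one_mul, ← Matrix.mul_assoc,
      hcom, Matrix.mul_assoc]

/-- involutions of rank at most 2 -/
theorem conj_of_rank_le [Finite F] [CharP F 2] {σ : SL} (h2 : σ * σ = 1) (h1 : σ ≠ 1)
    (hr : ((σ : Mat) - 1).rank ≤ 2) :
    ∃ κ : SL, κ * σ * κ⁻¹ = Y n 1 ∨ κ * σ * κ⁻¹ = Y n (E 1) := by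
  have h0 : ((σ : Mat) - 1).rank ≠ 0 := by
    intro h
    apply h1
    apply Subtype.ext
    rw [Matrix.SpecialLinearGroup.coe_one]
    exact sub_eq_zero.1 (eq_zero_of_rank h)
  by_cases h3 : ((σ : Mat) - 1).rank = 1
  · obtain ⟨κ, hκ⟩ := conj_of_rank_eq h2 (E 1) (by rw [h3, rank_UEW])
    exact ⟨κ, Or.inr hκ⟩
  · obtain ⟨κ, hκ⟩ := conj_of_rank_eq h2 1 (by rw [rank_UW]; omega)
    exact ⟨κ, Or.inl hκ⟩

theorem rank_conj_le (κ : SL) (b : F) : (((κ * Y n (E b) * κ⁻¹ : SL) : Mat) - 1).rank ≤ 1 := by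
  have h1 : ((κ * Y n (E b) * κ⁻¹ : SL) : Mat) - 1 =
      (κ : Mat) * (U n F * E b * W n F) * ((κ⁻¹ : SL) : Mat) := by
    have h3 : (κ : Mat) * ((κ⁻¹ : SL) : Mat) = 1 := by
      rw [← Matrix.SpecialLinearGroup.coe_mul, mul_inv_cancel, Matrix.SpecialLinearGroup.coe_one]
    rw [Matrix.SpecialLinearGroup.coe_mul, Matrix.SpecialLinearGroup.coe_mul, coe_Y, Matrix.mul_add,
      Matrix.mul_one, Matrix.add_mul, h3, add_sub_cancel_left]
  rw [h1]
  exact (Matrix.rank_mul_le_left _ _).trans ((Matrix.rank_mul_le_right _ _).trans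
    ((rank_UBW_le _).trans (rank_E_le b)))

/-- products of two transvections -/
theorem rank_mul_le (σ τ : SL) (h1 : ((σ : Mat) - 1).rank ≤ 1) (h2 : ((τ : Mat) - 1).rank ≤ 1) :
    (((σ * τ : SL) : Mat) - 1).rank ≤ 2 := by
  have h3 : ((σ * τ : SL) : Mat) - 1 = ((σ : Mat) - 1) * τ + ((τ : Mat) - 1) := by
    rw [Matrix.SpecialLinearGroup.coe_mul, Matrix.sub_mul, Matrix.one_mul]
    abel
  rw [h3]
  refine (rank_add_le _ _).trans ?_
  have h4 := Matrix.rank_mul_le_left ((σ : Mat) - 1) (τ : Mat)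
  omega

/-! ### elements commuting with the centralizer of `Y 1` in the group of unitriangular matrices -/

/-- a matrix supported on the rows `0, 1` and the columns `n + 2`, `n + 3` -/
theorem eq_UBW {N : Mat} (h : ∀ i j : Fin (n + 4), ¬ ((i : ℕ) < 2 ∧ n + 2 ≤ (j : ℕ)) → N i j = 0) :
    N = U n F * ((U n F)ᵀ * N * (W n F)ᵀ) * W n F := by
  have h1 : ∀ k l : Fin 2, ((U n F)ᵀ * N * (W n F)ᵀ) k l =
      N ⟨k, by have := k.2; omega⟩ ⟨n + 2 + l, by have := l.2; omega⟩ := by
    intro k l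
    rw [Matrix.mul_apply, Finset.sum_eq_single (⟨n + 2 + l, by have := l.2; omega⟩ : Fin (n + 4))]
    · rw [Matrix.transpose_apply, W_apply, if_pos rfl, mul_one, Matrix.mul_apply,
        Finset.sum_eq_single (⟨k, by have := k.2; omega⟩ : Fin (n + 4))]
      · rw [Matrix.transpose_apply, U_apply, if_pos rfl, one_mul]
      · intro j _ hj
        rw [Matrix.transpose_apply, U_apply, if_neg, zero_mul]
        intro h
        exact hj (Fin.ext h)
      · intro h
        exact absurd (Finset.mem_univ _) h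
    · intro j _ hj
      rw [Matrix.transpose_apply, W_apply, if_neg, mul_zero]
      intro h
      exact hj (Fin.ext h)
    · intro h
      exact absurd (Finset.mem_univ _) h
  generalize (U n F)ᵀ * N * (W n F)ᵀ = B at h1 ⊢
  ext i j
  by_cases hij : (i : ℕ) < 2 ∧ n + 2 ≤ (j : ℕ)
  · have hj := j.2
    rw [Matrix.mul_apply, Finset.sum_eq_single (⟨j - (n + 2), by omega⟩ : Fin 2)]
    · rw [W_apply, if_pos (by simp only; omega), mul_one, Matrix.mul_apply,
        Finset.sum_eq_single (⟨i, hij.1⟩ : Fin 2)]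
      · rw [U_apply, if_pos rfl, one_mul, h1]
        congr 1
        apply Fin.ext
        simp only
        omega
      · intro k _ hk
        rw [U_apply, if_neg, zero_mul]
        intro h
        exact hk (Fin.ext h.symm)
      · intro h
        exact absurd (Finset.mem_univ _) h
    · intro k _ hk
      rw [W_apply, if_neg, mul_zero]
      intro h
      apply hk
      apply Fin.ext
      simp only
      omega
    · intro h
      exact absurd (Finset.mem_univ _) h
  · rw [h i j hij, UBW_apply_eq_zero B hij]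

/-- the root elements -/
def rt (i j : Fin (n + 4)) (h : i < j) : Matrix.SpecialLinearGroup (Fin (n + 4)) F :=
  SylowPSL.toSL (Pat.root i j h 1)

theorem coe_rt (i j : Fin (n + 4)) (h : i < j) :
    ((rt i j h : SL) : Mat) = 1 + Matrix.single i j 1 := by
  unfold rt
  rw [SylowPSL.toSL_coe, Pat.N_root]

theorem rt_mem [Finite F] (i j : Fin (n + 4)) (h : i < j) : (rt i j h : SL) ∈ upper (n + 4) F := by
  rw [← SylowPSL.range_toSL]
  exact ⟨_, rfl⟩

theorem comm_rt_iff {i j : Fin (n + 4)} (h : i < j) {τ : SL} :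
    τ * rt i j h = rt i j h * τ ↔
      ((τ : Mat) - 1) * Matrix.single i j 1 = Matrix.single i j 1 * ((τ : Mat) - 1) := by
  have e : τ * rt i j h = rt i j h * τ ↔ ((τ * rt i j h : SL) : Mat) = ((rt i j h * τ : SL) : Mat) :=
    ⟨fun h => congrArg _ h, fun h => Subtype.ext h⟩
  rw [e, Matrix.SpecialLinearGroup.coe_mul, Matrix.SpecialLinearGroup.coe_mul, coe_rt,
    Matrix.mul_add, Matrix.add_mul, Matrix.mul_one, Matrix.one_mul, add_right_inj, Matrix.sub_mul,
    Matrix.mul_sub, Matrix.one_mul, Matrix.mul_one, sub_left_inj]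

theorem rt_comm_Y {i j : Fin (n + 4)} (h : i < j)
    (h1 : ((i : ℕ) = 0 ∧ 2 ≤ (j : ℕ)) ∨ ((j : ℕ) = n + 3 ∧ (i : ℕ) < n + 2)) :
    (rt i j h : SL) * Y n 1 = Y n 1 * rt i j h := by
  rw [eq_comm, comm_rt_iff, coe_Y, add_sub_cancel_left]
  have h2 : U n F * (1 : M2) * W n F * Matrix.single i j 1 = 0 := by
    ext a b
    rw [Matrix.zero_apply]
    by_cases hb : b = j
    · rw [hb, Matrix.mul_single_apply_same, mul_one]
      apply UBW_apply_eq_zero
      rcases h1 with h1 | h1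
      · omega
      · have : (i : ℕ) < n + 2 := h1.2
        omega
    · rw [Matrix.mul_single_apply_of_ne (hbj := hb)]
  have h3 : Matrix.single i j 1 * (U n F * (1 : M2) * W n F) = 0 := by
    ext a b
    rw [Matrix.zero_apply]
    by_cases ha : a = i
    · rw [ha, Matrix.single_mul_apply_same, one_mul]
      apply UBW_apply_eq_zero
      rcases h1 with h1 | h1
      · omega
      · omega
    · rw [Matrix.single_mul_apply_of_ne (h := ha)]
  rw [h2, h3]

theorem eq_Y [Finite F] [CharP F 2] {τ κ' : SL} {b : F} (hτ : τ = κ' * Y n (E b) * κ'⁻¹)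
    (hc : ∀ σ ∈ upper (n + 4) F, σ * Y n 1 = Y n 1 * σ → τ * σ = σ * τ) :
    ∃ b' : F, τ = Y n (E b') := by
  have hsq : τ * τ = 1 := by
    rw [hτ]
    calc κ' * Y n (E b) * κ'⁻¹ * (κ' * Y n (E b) * κ'⁻¹) = κ' * (Y n (E b) * Y n (E b)) * κ'⁻¹ := by group
      _ = 1 := by rw [Y_sq]; group
  have hN2 := sub_one_sq hsq
  have hrow : ∀ j k : Fin (n + 4), 2 ≤ (j : ℕ) →
      ((τ : Mat) - 1) j k = if k = j then ((τ : Mat) - 1) 0 0 else 0 := by
    intro j k hj
    have h0 : (0 : Fin (n + 4)) < j := by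
      rw [Fin.lt_def, Fin.val_zero]
      omega
    have h1 := (comm_rt_iff h0).1 (hc _ (rt_mem 0 j h0) (rt_comm_Y h0 (Or.inl ⟨by simp, hj⟩)))
    have h2 := congrFun (congrFun h1 0) k
    rw [Matrix.single_mul_apply_same, one_mul] at h2
    rw [← h2]
    split_ifs with h3
    · rw [h3, Matrix.mul_single_apply_same, mul_one]
    · rw [Matrix.mul_single_apply_of_ne (hbj := h3)]
  have hcol : ∀ k i : Fin (n + 4), (i : ℕ) < n + 2 →
      ((τ : Mat) - 1) k i = if k = i then ((τ : Mat) - 1) (Fin.last _) (Fin.last _) else 0 := by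
    intro k i hi
    have h0 : i < Fin.last (n + 3) := by
      rw [Fin.lt_def, Fin.val_last]
      omega
    have h1 := (comm_rt_iff h0).1 (hc _ (rt_mem i _ h0) (rt_comm_Y h0 (Or.inr ⟨by simp, hi⟩)))
    have h2 := congrFun (congrFun h1 k) (Fin.last _)
    rw [Matrix.mul_single_apply_same, mul_one] at h2
    rw [h2]
    split_ifs with h3
    · rw [h3, Matrix.single_mul_apply_same, one_mul]
    · rw [Matrix.single_mul_apply_of_ne (h := h3)]
  generalize hN : (τ : Mat) - 1 = N at hN2 hrow hcol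
  have h00 : N 0 0 = 0 := by
    have h1 := congrFun (congrFun hN2 (Fin.last _)) (Fin.last _)
    rw [Matrix.mul_apply, Finset.sum_eq_single (Fin.last (n + 3)), hrow _ _ (by simp), if_pos rfl,
      Matrix.zero_apply, mul_self_eq_zero] at h1
    · exact h1
    · intro k _ hk
      rw [hrow _ k (by simp), if_neg hk, zero_mul]
    · intro h
      exact absurd (Finset.mem_univ _) h
  have hll : N (Fin.last _) (Fin.last _) = 0 := by
    rw [hrow _ _ (by simp), if_pos rfl, h00]
  have hsupp : N = U n F * ((U n F)ᵀ * N * (W n F)ᵀ) * W n F := by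
    apply eq_UBW
    intro i j hij
    by_cases hi : 2 ≤ (i : ℕ)
    · rw [hrow i j hi, h00, ite_self]
    · rw [hcol i j (by omega), hll, ite_self]
  set B : M2 := (U n F)ᵀ * N * (W n F)ᵀ with hB
  have hτB : τ = Y n B := by
    apply Subtype.ext
    rw [coe_Y, ← hsupp, ← hN, add_sub_cancel]
  -- commute with `kap (up 1)`
  have h1 : kap n (up 1) (det_up 1) * Y n B * (kap n (up 1) (det_up 1))⁻¹ = Y n B := by
    have h2 := hc _ (kap_up_mem (n := n) (1 : F)) (by
      have h3 := kap_conj (n := n) (det_up (1 : F)) (up_mul_up (1 : F)) 1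
      rw [Matrix.mul_one, up_mul_up] at h3
      rw [mul_inv_eq_iff_eq_mul] at h3
      exact h3)
    rw [hτB] at h2
    rw [← h2, mul_inv_cancel_right]
  rw [kap_conj (det_up 1) (up_mul_up 1)] at h1
  have h2 := Y_injective h1
  have h10 : B 1 0 = 0 := by
    have := congrFun (congrFun h2 0) 0
    simp [up, Matrix.mul_apply, Fin.sum_univ_two, Matrix.vecMul, vecHead, vecTail] at this
    exact this
  have h3 : up 1 * B = B * up 1 := by
    calc up 1 * B = up 1 * B * (up 1 * up 1) := by rw [up_mul_up, Matrix.mul_one]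
      _ = (up 1 * B * up 1) * up 1 := by simp only [Matrix.mul_assoc]
      _ = B * up 1 := by rw [h2]
  have h11 : B 0 0 = B 1 1 := by
    have h4 := congrFun (congrFun h3 0) 1
    simp only [Matrix.mul_apply, Fin.sum_univ_two] at h4
    simp [up] at h4
    linear_combination -h4
  have hdet : B.det = 0 := by
    have h4 : B = ((U n F)ᵀ * (κ' : Mat) * U n F) * E b * (W n F * ((κ'⁻¹ : SL) : Mat) * (W n F)ᵀ) := by
      have h5 : N = (κ' : Mat) * (U n F * E b * W n F) * ((κ'⁻¹ : SL) : Mat) := by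
        have h6 : (κ' : Mat) * ((κ'⁻¹ : SL) : Mat) = 1 := by
          rw [← Matrix.SpecialLinearGroup.coe_mul, mul_inv_cancel, Matrix.SpecialLinearGroup.coe_one]
        rw [← hN, hτ, Matrix.SpecialLinearGroup.coe_mul, Matrix.SpecialLinearGroup.coe_mul, coe_Y,
          Matrix.mul_add, Matrix.mul_one, Matrix.add_mul, h6, add_sub_cancel_left]
      rw [hB, h5]
      simp only [Matrix.mul_assoc]
    rw [h4, Matrix.det_mul, Matrix.det_mul]
    have h5 : (E b).det = 0 := by
      rw [Matrix.det_fin_two]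
      simp [E]
    rw [h5, mul_zero, zero_mul]
  rw [Matrix.det_fin_two, h10, mul_zero, sub_zero, ← h11, mul_self_eq_zero] at hdet
  refine ⟨B 0 1, ?_⟩
  rw [hτB]
  congr 1
  ext i j
  fin_cases i <;> fin_cases j
  · simp [E, hdet]
  · simp [E]
  · simp [E, h10]
  · simp [E, ← h11, hdet]

/-! ### the centre of the group of unitriangular matrices -/

theorem N_eq_of_mem_lev {N : Mat} (h : N ∈ lev (n + 4) F (n + 3)) :
    ∃ b : F, N = U n F * E b * W n F := by
  have hsupp : N = U n F * ((U n F)ᵀ * N * (W n F)ᵀ) * W n F := by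
    apply eq_UBW
    intro i j hij
    apply Lev.apply_eq_zero h
    have := i.2
    have := j.2
    omega
  refine ⟨N 0 (Fin.last _), ?_⟩
  ext i j
  by_cases hij : (i : ℕ) = 0 ∧ (j : ℕ) = n + 3
  · have hi : i = 0 := Fin.ext hij.1
    have hj : j = Fin.last _ := Fin.ext hij.2
    rw [hi, hj, Matrix.mul_apply, Fin.sum_univ_two, Matrix.mul_apply, Matrix.mul_apply,
      Fin.sum_univ_two, Fin.sum_univ_two]
    simp [E, U_apply, W_apply]
  · have h1 : N i j = 0 := by
      apply Lev.apply_eq_zero h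
      have := i.2
      have := j.2
      omega
    rw [h1, Matrix.mul_apply, Fin.sum_univ_two, Matrix.mul_apply, Matrix.mul_apply,
      Fin.sum_univ_two, Fin.sum_univ_two]
    simp only [E, U_apply, W_apply]
    by_cases hi : (i : ℕ) = 0
    · have hj : ¬ (j : ℕ) = n + 3 := fun hj => hij ⟨hi, hj⟩
      have hj' : ¬ (j : ℕ) = n + 2 + 1 := hj
      simp [hj']
    · simp [hi]

theorem UEW_mem_lev (b : F) : U n F * E b * W n F ∈ lev (n + 4) F (n + 3) := by
  intro i j h
  by_contra hcon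
  apply h
  rw [Matrix.mul_apply, Fin.sum_univ_two, Matrix.mul_apply, Matrix.mul_apply,
    Fin.sum_univ_two, Fin.sum_univ_two]
  simp only [E, U_apply, W_apply]
  by_cases hi : (i : ℕ) = 0
  · have hj' : ¬ (j : ℕ) = n + 2 + 1 := by omega
    simp [hj']
  · simp [hi]

theorem central_upper_iff [Finite F] {z : SL} (hz : z ∈ upper (n + 4) F) :
    (∀ σ ∈ upper (n + 4) F, σ * z = z * σ) ↔ ∃ b : F, z = Y n (E b) := by
  rw [← SylowPSL.range_toSL] at hz ⊢
  obtain ⟨g, rfl⟩ := hz
  have h1 : (∀ σ ∈ (SylowPSL.toSL : UT (n + 4) F →* SL).range,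
      σ * SylowPSL.toSL g = SylowPSL.toSL g * σ) ↔ g ∈ Subgroup.center (UT (n + 4) F) := by
    rw [Subgroup.mem_center_iff]
    constructor
    · intro h x
      apply SylowPSL.toSL_injective
      rw [map_mul, map_mul]
      exact h _ ⟨x, rfl⟩
    · rintro h _ ⟨x, rfl⟩
      rw [← map_mul, ← map_mul, h x]
  rw [h1, Series.mem_center_iff (by omega)]
  constructor
  · intro h
    obtain ⟨b, hb⟩ := N_eq_of_mem_lev h
    refine ⟨b, ?_⟩
    apply Subtype.ext
    rw [SylowPSL.toSL_coe, coe_Y, hb]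
  · rintro ⟨b, hb⟩
    have h2 := congrArg (fun x : SL => (x : Mat)) hb
    simp only [SylowPSL.toSL_coe, coe_Y, add_right_inj] at h2
    rw [h2]
    exact UEW_mem_lev b

end Cfsg.Agent.SylowL.SLMat
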