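import Cfsg.Agent.SylowL.Pat

/-!
Upper central series and lower central series of `UT m F`.
-/

set_option autoImplicit false

namespace Cfsg.Agent.SylowL.Series

open Matrix
open scoped commutatorElement
open Cfsg.Agent.SylowL.Lev Cfsg.Agent.SylowL.UT Cfsg.Agent.SylowL.Pat

variable {m : ℕ} {F : Type*} [Field F]

local notation "Mat" => Matrix (Fin m) (Fin m) F

/-- If all commutators `N g * n - n * N g` lie in level `k + 1`, `k < m - 1`... -/
theorem mem_lev_of_commutator {k : ℕ} (hk : k + 1 < m) {a : Mat} (ha : a ∈ lev m F 1)
    (h : ∀ n ∈ lev m F 1, a * n - n * a ∈ lev m F (k + 1)) : a ∈ lev m F k := by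
  intro i j hij
  by_contra hlt
  have hij1 := ha i j hij
  rw [not_le] at hlt
  by_cases hj : (j : ℕ) + 1 < m
  · -- multiply with E j (j+1)
    have h1 := h (Matrix.single j ⟨j + 1, hj⟩ 1) (single_mem_lev (by simp) 1)
    have h2 := Lev.apply_eq_zero h1 (i := i) (j := ⟨j + 1, hj⟩) (by
      simp only
      omega)
    rw [Matrix.sub_apply, Matrix.mul_single_apply_same, mul_one,
      Matrix.single_mul_apply_of_ne (h := by
        intro h3
        rw [h3] at hij1
        omega), sub_zero] at h2
    exact hij h2
  · have hi : 1 ≤ (i : ℕ) := by
      by_contra h3
      have := j.2
      omega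
    set i' : Fin m := ⟨i - 1, by have := i.2; omega⟩ with hi'
    have h1 := h (Matrix.single i' i 1) (single_mem_lev (by simp [hi']; omega) 1)
    have h2 := Lev.apply_eq_zero h1 (i := i') (j := j) (by
      simp only [hi']
      omega)
    rw [Matrix.sub_apply, Matrix.single_mul_apply_same, one_mul,
      Matrix.mul_single_apply_of_ne (hbj := by
        intro h3
        rw [h3] at hij1
        omega), zero_sub, neg_eq_zero] at h2
    exact hij h2

theorem commutator_mem_lev {k : ℕ} {a : Mat} (ha : a ∈ lev m F k) {n : Mat} (hn : n ∈ lev m F 1) :
    a * n - n * a ∈ lev m F (k + 1) :=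
  sub_mem (mul_mem_lev ha hn) (lev_anti (by omega) (mul_mem_lev hn ha))

/-- The upper central series of `UT m F` consists of the level subgroups. -/
theorem mem_upperCentralSeries_iff {k : ℕ} (hk : k < m) (g : UT m F) :
    g ∈ Subgroup.upperCentralSeries (UT m F) k ↔ N g ∈ lev m F (m - k) := by
  induction k generalizing g with
  | zero =>
    rw [Subgroup.upperCentralSeries_zero, Subgroup.mem_bot]
    rw [Nat.sub_zero, lev_eq_bot, Submodule.mem_bot, N_eq_zero_iff]
  | succ k ih =>
    rw [Subgroup.mem_upperCentralSeries_succ_iff]
    have h1 : ∀ y : UT m F, g * y * g⁻¹ * y⁻¹ ∈ Subgroup.upperCentralSeries (UT m F) k ↔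
        N g * N y - N y * N g ∈ lev m F (m - k) := by
      intro y
      rw [ih (by omega), (isIdeal_lev (by omega)).commutator_mem_iff]
    constructor
    · intro h
      have h2 : ∀ n ∈ lev m F 1, N g * n - n * N g ∈ lev m F ((m - (k + 1)) + 1) := by
        intro n hn
        have h3 := (h1 (mk n hn)).1 (h (mk n hn))
        rw [N_mk] at h3
        have h4 : m - (k + 1) + 1 = m - k := by omega
        rw [h4]
        exact h3
      by_cases hk0 : k = 0
      · subst hk0
        -- centre
        have h5 : m - (0 + 1) = m - 1 := rfl
        intro i j hij
        by_contra hlt
        have hij1 := N_mem g i j hij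
        rw [not_le] at hlt
        have h6 : ∀ n ∈ lev m F 1, N g * n - n * N g = 0 := by
          intro n hn
          have h7 := h2 n hn
          refine eq_zero_of_mem ?_ h7
          omega
        by_cases hj : (j : ℕ) + 1 < m
        · have h1 := h6 (Matrix.single j ⟨j + 1, hj⟩ 1) (single_mem_lev (by simp) 1)
          have h2 := congrFun (congrFun h1 i) ⟨j + 1, hj⟩
          rw [Matrix.sub_apply, Matrix.mul_single_apply_same, mul_one,
            Matrix.single_mul_apply_of_ne (h := by
              intro h3
              rw [h3] at hij1
              omega), sub_zero] at h2
          exact hij h2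
        · have hi : 1 ≤ (i : ℕ) := by
            by_contra h3
            have := j.2
            omega
          set i' : Fin m := ⟨i - 1, by have := i.2; omega⟩ with hi'
          have h1 := h6 (Matrix.single i' i 1) (single_mem_lev (by simp [hi']; omega) 1)
          have h2 := congrFun (congrFun h1 i') j
          rw [Matrix.sub_apply, Matrix.single_mul_apply_same, one_mul,
            Matrix.mul_single_apply_of_ne (hbj := by
              intro h3
              rw [h3] at hij1
              omega), zero_sub, Matrix.zero_apply, neg_eq_zero] at h2
          exact hij h2
      · exact mem_lev_of_commutator (by omega) (N_mem g) h2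
    · intro h y
      rw [commutatorElement_def, h1]
      have h3 := commutator_mem_lev h (N_mem y)
      have h4 : m - (k + 1) + 1 = m - k := by omega
      rwa [h4] at h3

theorem mem_center_iff (hm : 1 < m) (g : UT m F) :
    g ∈ Subgroup.center (UT m F) ↔ N g ∈ lev m F (m - 1) := by
  rw [← Subgroup.upperCentralSeries_one, mem_upperCentralSeries_iff hm]

theorem lev_one_comm_root {i j k : Fin m} (hij : i < j) (hjk : j < k) (c : F) :
    ⁅root i j hij c, root j k hjk 1⁆ = root i k (hij.trans hjk) c := by
  rw [commutatorElement_def]
  have h1 : root i k (hij.trans hjk) c * (root j k hjk 1 * root i j hij c)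
      = root i j hij c * root j k hjk 1 := by
    apply N_injective
    rw [N_mul, N_mul (root j k hjk 1), N_mul (root i j hij c), N_root, N_root, N_root]
    rw [Matrix.single_mul_single_same, mul_one, mul_add, mul_add,
      Matrix.single_mul_single_of_ne (h := (hij.trans hjk).ne'),
      Matrix.single_mul_single_of_ne (h := hjk.ne'), Matrix.mul_zero,
      Matrix.single_mul_single_of_ne (h := (hij.trans hjk).ne')]
    abel
  rw [← h1]
  group

/-- Subgroups containing all root elements with positions in `D` contain every element with
nilpotent part in `pat F D`, if `D` is a closed set of positions. -/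
theorem mem_of_roots {D : Fin m → Fin m → Prop} (h1 : ∀ i j : Fin m, D i j → i < j)
    (h2 : ∀ i j k, D i j → D j k → D i k) (H : Subgroup (UT m F))
    (hH : ∀ i j (h : D i j) (c : F), root i j (h1 i j h) c ∈ H) {g : UT m F}
    (hg : N g ∈ pat F D) : g ∈ H := by
  classical
  have hA := isAlg_pat (F := F) h1 h2
  -- downward induction on the level
  have key : ∀ k : ℕ, ∀ g : UT m F, N g ∈ pat F D → N g ∈ lev m F (m - k) → g ∈ H := by
    intro k
    induction k with
    | zero =>
      intro g _ hg2
      rw [Nat.sub_zero, lev_eq_bot, Submodule.mem_bot, N_eq_zero_iff] at hg2
      rw [hg2]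
      exact one_mem _
    | succ k ih =>
      intro g hg1 hg2
      by_cases hk : m ≤ k + 1
      · -- level 0 or less: use lev 1
        by_cases hk2 : m ≤ k
        · refine ih g hg1 ?_
          have : m - k = 0 := by omega
          rw [this]
          have h3 : m - (k + 1) = 0 := by omega
          rwa [h3] at hg2
        · refine ih g hg1 ?_
          have : m - k = 1 := by omega
          rw [this]
          exact N_mem g
      -- clear the entries at level l = m - (k+1), one by one
      set l := m - (k + 1) with hl
      have hl1 : 1 ≤ l := by omega
      have hlk : m - k = l + 1 := by omega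
      rw [hlk] at ih
      -- induction on the number of rows cleared
      have aux : ∀ r : ℕ, ∀ g : UT m F, N g ∈ pat F D → N g ∈ lev m F l →
          (∀ i j : Fin m, r ≤ (i : ℕ) → (j : ℕ) = i + l → N g i j = 0) → g ∈ H := by
        intro r
        induction r with
        | zero =>
          intro g hg1 hg2 hg3
          refine ih g hg1 ?_
          intro i j hij
          have h4 := hg2 i j hij
          by_contra h5
          exact hij (hg3 i j (Nat.zero_le _) (by omega))
        | succ r ihr =>
          intro g hg1 hg2 hg3
          by_cases hr : r + l < m
          · have hrm : r < m := by omega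
            set i0 : Fin m := ⟨r, hrm⟩ with hi0
            set j0 : Fin m := ⟨r + l, hr⟩ with hj0
            have hij0 : i0 < j0 := by rw [Fin.lt_def]; simp [hi0, hj0]; omega
            by_cases hD : D i0 j0
            · set x := root i0 j0 hij0 (-(N g i0 j0)) with hx
              have hxH : x ∈ H := hH i0 j0 hD _
              have h5 : N (x * g) = Matrix.single i0 j0 (-(N g i0 j0)) + N g
                  + Matrix.single i0 j0 (-(N g i0 j0)) * N g := by
                rw [N_mul, hx, N_root]
              have h6 : N (x * g) ∈ pat F D := by
                rw [h5]
                exact add_mem (add_mem (single_mem_pat hD _) hg1)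
                  (hA.mul _ (single_mem_pat hD _) _ hg1)
              have h7 : N (x * g) ∈ lev m F l := by
                rw [h5]
                have h8 : Matrix.single i0 j0 (-(N g i0 j0)) ∈ lev m F l :=
                  single_mem_lev (by simp [hi0, hj0]) _
                exact add_mem (add_mem h8 hg2)
                  (lev_anti (by omega) (mul_mem_lev h8 hg2))
              have h8 : x * g ∈ H := by
                refine ihr (x * g) h6 h7 ?_
                intro i j hir hj
                have h9 : (Matrix.single i0 j0 (-(N g i0 j0)) * N g) i j = 0 := by
                  refine Lev.apply_eq_zero (k := l + 1) (mul_mem_lev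
                    (single_mem_lev (by simp [hi0, hj0]) _) (N_mem g)) (by omega)
                rw [h5, Matrix.add_apply, Matrix.add_apply, h9, add_zero]
                by_cases hi : i = i0
                · have hj' : j = j0 := by
                    apply Fin.ext
                    rw [hj, hi, hi0, hj0]
                  rw [hi, hj', Matrix.single_apply_same, neg_add_cancel]
                · rw [Matrix.single_apply_of_row_ne (fun h => hi h.symm), zero_add]
                  refine hg3 i j ?_ hj
                  have h10 : (i : ℕ) ≠ r := by
                    intro h11
                    exact hi (Fin.ext h11)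
                  omega
              have h9 := mul_mem (inv_mem hxH) h8
              rwa [inv_mul_cancel_left] at h9
            · have h5 : N g i0 j0 = 0 := Pat.apply_eq_zero hg1 hD
              refine ihr g hg1 hg2 ?_
              intro i j hir hj
              by_cases hi : i = i0
              · have hj' : j = j0 := by
                  apply Fin.ext
                  rw [hj, hi, hi0, hj0]
                rw [hi, hj', h5]
              · refine hg3 i j ?_ hj
                have h10 : (i : ℕ) ≠ r := by
                  intro h11
                  exact hi (Fin.ext h11)
                omega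
          · refine ihr g hg1 hg2 ?_
            intro i j hir hj
            exfalso
            have := j.2
            omega
      refine aux m g hg1 hg2 ?_
      intro i j hi _
      exfalso
      have := i.2
      omega
  exact key m g hg (by rw [Nat.sub_self]; exact lev_anti (Nat.zero_le _) (N_mem g))

end Cfsg.Agent.SylowL.Series
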