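import Cfsg.Agent.Lib.GoldschmidtFusion

/-!
# The spread lemma

A finite group `P` acts on a finite elementary (or just abelian) `2`-group `U`; the Sylow
`2`-subgroup `S` of `P` acts "like a transvection group" on `U`. Then the commutator spaces form a
spread of a submodule of order `q ^ 2` and `U` is the direct product of this submodule and the
fixed points.
-/

set_option autoImplicit false
set_option linter.unusedSectionVars false

open scoped Pointwise

namespace Cfsg.Agent.SylowL.Spread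

open Subgroup

variable {P U : Type*} [Group P] [Finite P] [CommGroup U] [Finite U] [MulDistribMulAction P U]

/-- The hypotheses of the spread lemma. -/
structure Data (S : Sylow 2 P) (Q : Subgroup P) (U1 Y : Subgroup U) (q : ℕ) : Prop where
  two : IsPGroup 2 U
  normal : Q.Normal
  le : Q ≤ S
  triv : ∀ x ∈ Q, ∀ u : U, x • u = u
  fix : ∀ s ∈ (S : Subgroup P), s ∉ Q → ∀ u : U, s • u = u → u ∈ U1
  fixed : ∀ s ∈ (S : Subgroup P), ∀ u ∈ U1, s • u = u
  comm : ∀ s ∈ (S : Subgroup P), ∀ u : U, s • u * u⁻¹ ∈ Y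
  Y_le : Y ≤ U1
  card_U : Nat.card U = q * Nat.card U1
  card_Y : Nat.card Y = q
  card_S : Q.relIndex S = q
  two_lt : 2 < q
  move : ∃ g : P, g • U1 ≠ U1

/-- Elements acting trivially on `W` and on `U / W`. -/
def stab (W : Subgroup U) : Subgroup P where
  carrier := {h | (∀ u ∈ W, h • u = u) ∧ ∀ u : U, h • u * u⁻¹ ∈ W}
  one_mem' := ⟨fun u _ => one_smul _ u, fun u => by rw [one_smul, mul_inv_cancel]; exact one_mem _⟩
  mul_mem' {a b} ha hb := by
    refine ⟨fun u hu => ?_, fun u => ?_⟩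
    · rw [mul_smul, hb.1 u hu, ha.1 u hu]
    · have h1 := hb.2 u
      have h2 := ha.2 u
      have h3 : b • u = (b • u * u⁻¹) * u := by group
      rw [mul_smul, h3, smul_mul', ha.1 _ h1]
      have h4 : b • u * u⁻¹ * a • u * u⁻¹ = (b • u * u⁻¹) * (a • u * u⁻¹) := by group
      rw [h4]
      exact mul_mem h1 h2
  inv_mem' {a} ha := by
    have h0 : ∀ u ∈ W, a⁻¹ • u = u := fun u hu => by
      rw [inv_smul_eq_iff]; exact (ha.1 u hu).symm
    refine ⟨h0, fun u => ?_⟩
    have h1 := ha.2 (a⁻¹ • u)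
    rw [smul_inv_smul] at h1
    have h2 := inv_mem h1
    rwa [mul_inv_rev, inv_inv] at h2

theorem mem_stab {W : Subgroup U} {h : P} :
    h ∈ stab (P := P) W ↔ (∀ u ∈ W, h • u = u) ∧ ∀ u : U, h • u * u⁻¹ ∈ W := Iff.rfl

/-- The kernel of the action. -/
def ker (P U : Type*) [Group P] [CommGroup U] [MulDistribMulAction P U] : Subgroup P :=
  (MulDistribMulAction.toMulAut P U).ker

theorem mem_ker {h : P} : h ∈ ker P U ↔ ∀ u : U, h • u = u := by
  rw [ker, MonoidHom.mem_ker]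
  constructor
  · intro h1 u
    have := congrArg (fun f : MulAut U => f u) h1
    simpa using this
  · intro h1
    ext u
    simpa using h1 u

instance : (ker P U).Normal := by
  unfold ker
  infer_instance

theorem pow_smul_of_mem_stab {W : Subgroup U} {h : P} (hh : h ∈ stab (P := P) W) (u : U) (n : ℕ) :
    h ^ n • u = u * (h • u * u⁻¹) ^ n := by
  induction n with
  | zero => simp
  | succ n ih =>
    have h1 : h • (h • u * u⁻¹) = h • u * u⁻¹ := hh.1 _ (hh.2 u)
    rw [pow_succ', mul_smul, ih, smul_mul', smul_pow', h1, pow_succ']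
    have h2 : h • u = u * (h • u * u⁻¹) := by
      rw [mul_comm (h • u) u⁻¹, mul_inv_cancel_left]
    conv_lhs => rw [h2]
    rw [mul_assoc]
    simp [mul_assoc]

/-- `stab W` is a `2`-group modulo the kernel, so it is covered by `S`. -/
theorem exists_mul_of_mem_stab (hU : IsPGroup 2 U) (S : Sylow 2 P) {W : Subgroup U}
    (hS : (S : Subgroup P) ≤ stab W) {h : P} (hh : h ∈ stab (P := P) W) :
    ∃ s ∈ (S : Subgroup P), ∀ u : U, h • u = s • u := by
  classical
  set H := stab (P := P) W with hH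
  set K := (ker P U).subgroupOf H with hK
  have hKn : K.Normal := by rw [hK]; infer_instance
  have hp : IsPGroup 2 (H ⧸ K) := by
    intro x
    obtain ⟨n, hn⟩ := IsPGroup.exists_card_eq hU
    induction x using QuotientGroup.induction_on with
    | H y =>
      refine ⟨n, ?_⟩
      rw [← QuotientGroup.mk_pow, QuotientGroup.eq_one_iff, hK, mem_subgroupOf, mem_ker]
      intro u
      rw [Subgroup.coe_pow, pow_smul_of_mem_stab y.2, ← hn, pow_card_eq_one', mul_one]
  set SH : Sylow 2 H := S.subtype hS with hSH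
  have h2 : ((SH : Subgroup H).map (QuotientGroup.mk' K)) = ⊤ := by
    have h3 := Sylow.not_dvd_index (SH.mapSurjective (QuotientGroup.mk'_surjective K))
    rw [Sylow.coe_mapSurjective] at h3
    have h4 := hp.index ((SH : Subgroup H).map (QuotientGroup.mk' K))
    obtain ⟨n, hn⟩ := h4
    rw [← Subgroup.index_eq_one, hn]
    rcases Nat.eq_zero_or_pos n with h0 | h0
    · rw [h0, pow_zero]
    · exact absurd (by rw [hn]; exact dvd_pow_self 2 h0.ne') h3
  have h3 : (QuotientGroup.mk' K ⟨h, hh⟩) ∈ ((SH : Subgroup H).map (QuotientGroup.mk' K)) := by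
    rw [h2]; exact mem_top _
  obtain ⟨s, hs, hse⟩ := h3
  have hs' : (s : P) ∈ (S : Subgroup P) := hs
  refine ⟨s, hs', fun u => ?_⟩
  rw [QuotientGroup.mk'_apply, QuotientGroup.mk'_apply, QuotientGroup.eq, hK, mem_subgroupOf,
    mem_ker] at hse
  have h5 := hse u
  rw [Subgroup.coe_mul, Subgroup.coe_inv, mul_smul, inv_smul_eq_iff] at h5
  exact h5

namespace Data

variable {S : Sylow 2 P} {Q : Subgroup P} {U1 Y : Subgroup U} {q : ℕ} (D : Data S Q U1 Y q)
include D

theorem exists_notMem : ∃ s ∈ (S : Subgroup P), s ∉ Q := by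
  by_contra h
  push Not at h
  have h1 : Q.relIndex S = 1 := Subgroup.relIndex_eq_one.2 fun s hs => h s hs
  have h2 := D.card_S
  have h3 := D.two_lt
  omega

theorem U1_ne_top : U1 ≠ ⊤ := by
  intro h
  have h1 := D.card_U
  rw [h, Subgroup.card_top] at h1
  have h2 : 0 < Nat.card U := Nat.card_pos
  have h3 := D.two_lt
  nlinarith

/-- Every element of `Y` is a commutator with a given `s ∈ S \ Q`. -/
theorem exists_comm {s : P} (hs : s ∈ (S : Subgroup P)) (hsQ : s ∉ Q) {y : U} (hy : y ∈ Y) :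
    ∃ u : U, s • u * u⁻¹ = y := by
  -- the homomorphism `u ↦ s u / u`
  let f : U →* U := MonoidHom.mk' (fun u => s • u * u⁻¹) (fun a b => by
    rw [smul_mul', mul_inv_rev]
    calc s • a * s • b * (b⁻¹ * a⁻¹) = s • a * (s • b * b⁻¹) * a⁻¹ := by group
      _ = s • a * a⁻¹ * (s • b * b⁻¹) := by
        rw [mul_assoc, mul_comm (s • b * b⁻¹) a⁻¹, ← mul_assoc])
  have hf : ∀ u, f u = s • u * u⁻¹ := fun _ => rfl
  have hker : f.ker = U1 := by
    ext u
    rw [MonoidHom.mem_ker, hf, mul_inv_eq_one]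
    exact ⟨D.fix s hs hsQ u, D.fixed s hs u⟩
  have hr : f.range ≤ Y := by
    rintro _ ⟨u, rfl⟩
    exact D.comm s hs u
  have hc : Nat.card f.range = q := by
    have h1 : f.ker.index = Nat.card f.range := Subgroup.index_ker f
    have h2 := Subgroup.card_mul_index f.ker
    rw [hker] at h2 h1
    have h3 := D.card_U
    rw [← h2, mul_comm] at h3
    have h4 : 0 < Nat.card U1 := Nat.card_pos
    have h5 := Nat.eq_of_mul_eq_mul_right h4 h3
    rw [← h1, h5]
  have h1 : f.range = Y := Subgroup.eq_of_le_of_card_ge hr (by rw [hc, D.card_Y])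
  rw [← h1] at hy
  exact hy

theorem smul_Y_of_mem {s : P} (hs : s ∈ (S : Subgroup P)) : s • Y = Y := by
  apply Subgroup.ext
  intro u
  rw [Subgroup.mem_smul_pointwise_iff_exists]
  constructor
  · rintro ⟨y, hy, rfl⟩
    rw [D.fixed s hs y (D.Y_le hy)]
    exact hy
  · intro hu
    exact ⟨u, hu, D.fixed s hs u (D.Y_le hu)⟩

theorem le_stab_U1 : (S : Subgroup P) ≤ stab U1 := fun s hs =>
  ⟨fun u hu => D.fixed s hs u hu, fun u => D.Y_le (D.comm s hs u)⟩

theorem le_stab_Y : (S : Subgroup P) ≤ stab Y := fun s hs =>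
  ⟨fun u hu => D.fixed s hs u (D.Y_le hu), fun u => D.comm s hs u⟩

omit D in
theorem smul_eq_of_le {g : P} {W : Subgroup U} (h : g • W ≤ W) : g • W = W :=
  Subgroup.eq_of_le_of_card_ge h (by rw [Nat.card_congr (Subgroup.equivSMul g W).toEquiv])

omit D in
theorem smul_mem_smul_iff' {g : P} {W : Subgroup U} {u : U} : u ∈ g • W ↔ g⁻¹ • u ∈ W :=
  Subgroup.mem_pointwise_smul_iff_inv_smul_mem

theorem smul_Y_of_smul_U1 {g : P} (h : g • U1 = U1) : g • Y = Y := by
  obtain ⟨s, hs, hsQ⟩ := D.exists_notMem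
  apply smul_eq_of_le
  intro v hv
  obtain ⟨y, hy, rfl⟩ := Subgroup.mem_smul_pointwise_iff_exists _ _ _ |>.1 hv
  obtain ⟨u, rfl⟩ := D.exists_comm hs hsQ hy
  have h1 : g * s * g⁻¹ ∈ stab (P := P) U1 := by
    refine ⟨fun w hw => ?_, fun w => ?_⟩
    · rw [← h, smul_mem_smul_iff'] at hw
      rw [mul_smul, mul_smul, D.fixed s hs _ hw, smul_inv_smul]
    · have h2 := D.Y_le (D.comm s hs (g⁻¹ • w))
      rw [← h, smul_mem_smul_iff', smul_mul', smul_inv', mul_smul, mul_smul, inv_smul_smul]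
      exact h2
  obtain ⟨s', hs', he⟩ := exists_mul_of_mem_stab D.two S D.le_stab_U1 h1
  have h3 := D.comm s' hs' (g • u)
  rw [← he] at h3
  rw [smul_mul', smul_inv']
  rwa [mul_smul, mul_smul, inv_smul_smul] at h3

theorem smul_U1_of_smul_Y {g : P} (h : g • Y = Y) : g • U1 = U1 := by
  obtain ⟨s, hs, hsQ⟩ := D.exists_notMem
  have h1 : g * s * g⁻¹ ∈ stab (P := P) Y := by
    refine ⟨fun w hw => ?_, fun w => ?_⟩
    · rw [← h, smul_mem_smul_iff'] at hw
      rw [mul_smul, mul_smul, D.fixed s hs _ (D.Y_le hw), smul_inv_smul]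
    · have h2 := D.comm s hs (g⁻¹ • w)
      rw [← h, smul_mem_smul_iff', smul_mul', smul_inv', mul_smul, mul_smul, inv_smul_smul]
      exact h2
  obtain ⟨s', hs', he⟩ := exists_mul_of_mem_stab D.two S D.le_stab_Y h1
  have hs'Q : s' ∉ Q := by
    intro h2
    apply D.U1_ne_top
    rw [eq_top_iff]
    intro u _
    apply D.fix s hs hsQ
    have h3 := he (g • u)
    rw [D.triv s' h2, mul_smul, mul_smul, inv_smul_smul] at h3
    exact smul_left_cancel g h3
  apply smul_eq_of_le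
  intro u hu
  apply D.fix s' hs' hs'Q
  rw [← he]
  rw [smul_mem_smul_iff'] at hu
  rw [mul_smul, mul_smul, D.fixed s hs _ hu, smul_inv_smul]

/-- The conjugates of `S` satisfy the same hypotheses with the translated subgroups. -/
theorem conj (g : P) : Data (g • S) Q (g • U1) (g • Y) q := by
  have key : ∀ s : P, s ∈ ((g • S : Sylow 2 P) : Subgroup P) → g⁻¹ * s * g ∈ (S : Subgroup P) := by
    intro s hs
    rw [Sylow.coe_subgroup_smul, Subgroup.mem_pointwise_smul_iff_inv_smul_mem] at hs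
    simpa [MulAut.smul_def, mul_assoc] using hs
  have hn := D.normal
  have act : ∀ (s : P) (u : U), (g⁻¹ * s * g) • g⁻¹ • u = g⁻¹ • s • u := by
    intro s u
    rw [mul_smul, mul_smul, smul_inv_smul]
  have hcard : ∀ W : Subgroup U, Nat.card (g • W : Subgroup U) = Nat.card W := fun W =>
    Nat.card_congr (Subgroup.equivSMul g W).toEquiv.symm
  have hle : Q ≤ ((g • S : Sylow 2 P) : Subgroup P) := by
    intro x hx
    rw [Sylow.coe_subgroup_smul, Subgroup.mem_pointwise_smul_iff_inv_smul_mem]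
    have h1 : g⁻¹ * x * g ∈ Q := by
      have := hn.conj_mem x hx g⁻¹
      rwa [inv_inv] at this
    simpa [MulAut.smul_def, mul_assoc] using D.le h1
  refine ⟨D.two, hn, hle, D.triv, ?_, ?_, ?_, ?_, ?_, ?_, ?_, D.two_lt, ?_⟩
  · intro s hs hsQ u hu
    rw [smul_mem_smul_iff']
    apply D.fix _ (key s hs)
    · intro h1
      apply hsQ
      have := hn.conj_mem _ h1 g
      simpa [mul_assoc] using this
    · rw [act, hu]
  · intro s hs u hu
    rw [smul_mem_smul_iff'] at hu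
    have h1 := D.fixed _ (key s hs) _ hu
    rw [act] at h1
    exact smul_left_cancel _ h1
  · intro s hs u
    rw [smul_mem_smul_iff', smul_mul', smul_inv', ← act]
    exact D.comm _ (key s hs) _
  · exact Subgroup.pointwise_smul_le_pointwise_smul_iff.2 D.Y_le
  · rw [hcard]; exact D.card_U
  · rw [hcard]; exact D.card_Y
  · have h1 : Nat.card ((g • S : Sylow 2 P) : Subgroup P) = Nat.card (S : Subgroup P) := by
      rw [Sylow.coe_subgroup_smul]
      exact Nat.card_congr (Subgroup.equivSMul (MulAut.conj g) (S : Subgroup P)).toEquiv.symm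
    have h2 := Subgroup.card_mul_index (Q.subgroupOf (S : Subgroup P))
    have h3 := Subgroup.card_mul_index (Q.subgroupOf ((g • S : Sylow 2 P) : Subgroup P))
    have h4 : Nat.card (Q.subgroupOf (S : Subgroup P)) = Nat.card Q :=
      Nat.card_congr (Subgroup.subgroupOfEquivOfLe D.le).toEquiv
    have h5 : Nat.card (Q.subgroupOf ((g • S : Sylow 2 P) : Subgroup P)) = Nat.card Q :=
      Nat.card_congr (Subgroup.subgroupOfEquivOfLe hle).toEquiv
    rw [h4] at h2
    rw [h5, h1, ← h2] at h3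
    have h6 : 0 < Nat.card Q := Nat.card_pos
    have h7 := Nat.eq_of_mul_eq_mul_left h6 h3
    rw [Subgroup.relIndex, h7]
    exact D.card_S
  · obtain ⟨x, hx⟩ := D.move
    refine ⟨g * x * g⁻¹, ?_⟩
    rw [mul_smul, mul_smul, inv_smul_smul]
    intro h
    exact hx (smul_left_cancel g h)

/-- If `t ∈ S \ Q` normalises a conjugate of `Y`, this conjugate is `Y`. -/
theorem star {t g : P} (ht : t ∈ (S : Subgroup P)) (htQ : t ∉ Q) (h : t • g • Y = g • Y) :
    g • Y = Y := by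
  have hn := D.normal
  set H := MulAction.stabilizer P (g • Y) with hH
  have hSg : ((g • S : Sylow 2 P) : Subgroup P) ≤ H := fun s hs => by
    rw [hH, MulAction.mem_stabilizer_iff]
    exact (D.conj g).smul_Y_of_mem hs
  have hRi : ¬ 2 ∣ ((g • S : Sylow 2 P) : Subgroup P).relIndex H := by
    intro h2
    apply (g • S : Sylow 2 P).not_dvd_index
    rw [← Subgroup.relIndex_mul_index hSg]
    exact h2.mul_right _
  have hD : IsPGroup 2 (Subgroup.zpowers t) := S.isPGroup'.to_le (Subgroup.zpowers_le.2 ht)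
  have hDN : Subgroup.zpowers t ≤ H := Subgroup.zpowers_le.2 (by
    rw [hH, MulAction.mem_stabilizer_iff]; exact h)
  obtain ⟨n, hn1, hn2⟩ := Cfsg.Agent.Lib.GoldschmidtFusion.exists_conj_le_in (p := 2)
    (g • S : Sylow 2 P).isPGroup' hRi hDN hD
  have h1 : n * t * n⁻¹ ∈ ((g • S : Sylow 2 P) : Subgroup P) := by
    apply hn2
    exact Cfsg.Agent.Lib.GoldschmidtFusion.conj_mem_map_conj (Subgroup.mem_zpowers t) n
  have h1Q : n * t * n⁻¹ ∉ Q := by
    intro h2
    apply htQ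
    have := hn.conj_mem _ h2 n⁻¹
    simpa [mul_assoc] using this
  have h2 : n • U1 = g • U1 := by
    apply Subgroup.ext
    intro u
    constructor
    · intro hu
      rw [smul_mem_smul_iff'] at hu
      apply (D.conj g).fix _ h1 h1Q
      rw [mul_smul, mul_smul, D.fixed t ht _ hu, smul_inv_smul]
    · intro hu
      have h3 := (D.conj g).fixed _ h1 _ hu
      rw [smul_mem_smul_iff']
      apply D.fix t ht htQ
      rw [mul_smul, mul_smul] at h3
      exact (eq_inv_smul_iff.2 h3)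
  have h3 : n • Y = g • Y := by
    have h4 : (g⁻¹ * n) • U1 = U1 := by rw [mul_smul, h2, inv_smul_smul]
    have h5 := D.smul_Y_of_smul_U1 h4
    rw [mul_smul, inv_smul_eq_iff] at h5
    exact h5
  rw [hH, MulAction.mem_stabilizer_iff] at hn1
  rw [← h3] at hn1
  have h4 := smul_left_cancel n hn1
  rw [← h3]
  exact h4

omit D in
theorem card_sup_mul (A B : Subgroup U) :
    Nat.card ↥(A ⊔ B) * Nat.card ↥(A ⊓ B) = Nat.card A * Nat.card B := by
  have h1 := relIndex_mul_relIndex (⊥ : Subgroup U) B (A ⊔ B) bot_le le_sup_right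
  have h2 := relIndex_mul_relIndex (⊥ : Subgroup U) (A ⊓ B) A bot_le inf_le_left
  rw [relIndex_bot_left, relIndex_bot_left, relIndex_sup_right] at h1
  rw [relIndex_bot_left, relIndex_bot_left, inf_relIndex_left] at h2
  rw [← h1, ← h2]
  ring

omit D in
theorem card_smul (g : P) (W : Subgroup U) : Nat.card (g • W : Subgroup U) = Nat.card W :=
  Nat.card_congr (Subgroup.equivSMul g W).toEquiv.symm

omit D in
theorem smul_inf' (g : P) (A B : Subgroup U) : g • (A ⊓ B) = g • A ⊓ g • B := by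
  apply Subgroup.ext
  intro u
  rw [smul_mem_smul_iff', Subgroup.mem_inf, Subgroup.mem_inf, smul_mem_smul_iff',
    smul_mem_smul_iff']

omit D in
theorem smul_sup' (g : P) (A B : Subgroup U) : g • (A ⊔ B) = g • A ⊔ g • B :=
  Subgroup.smul_sup g A B

theorem inter_aux {g : P} (hg : g • Y ≠ Y)
    (hmax : ∀ h : P, h • Y ≠ Y → Nat.card ↥(h • Y ⊓ Y) ≤ Nat.card ↥(g • Y ⊓ Y)) :
    Nat.card ↥(g • Y ⊓ Y) = 1 := by
  classical
  set c := Nat.card ↥(g • Y ⊓ Y) with hc
  -- key injectivity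
  have key : ∀ t ∈ (S : Subgroup P), t ∉ Q → ∀ y ∈ g • Y, t⁻¹ • y ∈ g • Y → y ∈ Y := by
    intro t ht htQ y hy hty
    have h1 : t • g • Y ≠ g • Y := fun h => hg (D.star ht htQ h)
    have h2 : (g⁻¹ * t * g) • Y ≠ Y := by
      intro h
      apply h1
      rw [mul_smul, mul_smul, inv_smul_eq_iff] at h
      exact h
    have h3 := hmax _ h2
    have h4 : Nat.card ↥(g • Y ⊓ t • g • Y) = Nat.card ↥((g⁻¹ * t * g) • Y ⊓ Y) := by
      rw [← card_smul g ((g⁻¹ * t * g) • Y ⊓ Y), smul_inf', ← mul_smul, inf_comm]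
      congr 3
      rw [← mul_smul]
      group
    rw [← h4] at h3
    have h5 : g • Y ⊓ Y ≤ g • Y ⊓ t • g • Y := by
      intro u hu
      refine Subgroup.mem_inf.2 ⟨hu.1, ?_⟩
      rw [smul_mem_smul_iff']
      have h6 := D.fixed t ht u (D.Y_le hu.2)
      rw [inv_smul_eq_iff.2 h6.symm]
      exact hu.1
    have h6 := Subgroup.eq_of_le_of_card_ge h5 h3
    have h7 : y ∈ g • Y ⊓ t • g • Y :=
      Subgroup.mem_inf.2 ⟨hy, by rw [smul_mem_smul_iff']; exact hty⟩
    rw [← h6] at h7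
    exact h7.2
  let R := (S : Subgroup P) ⧸ (Q.subgroupOf (S : Subgroup P))
  let A : Set U := ((g • Y : Subgroup U) : Set U) \ (Y : Set U)
  let B : Set U := ((g • Y ⊔ Y : Subgroup U) : Set U) \ (Y : Set U)
  have hfix : ∀ t ∈ (S : Subgroup P), ∀ u ∈ Y, t⁻¹ • u = u := fun t ht u hu =>
    D.fixed t⁻¹ (inv_mem ht) u (D.Y_le hu)
  let f : R × A → B := fun p => ⟨((p.1.out : (S : Subgroup P)) : P) • (p.2 : U), by
    obtain ⟨r, y, hy1, hy2⟩ := p
    refine ⟨?_, fun h => hy2 ?_⟩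
    · have h1 := D.comm _ (r.out : (S : Subgroup P)).2 y
      have h2 : ((r.out : (S : Subgroup P)) : P) • y
          = y * (((r.out : (S : Subgroup P)) : P) • y * y⁻¹) := by
        rw [mul_comm _ y⁻¹, mul_inv_cancel_left]
      change ((r.out : (S : Subgroup P)) : P) • y ∈ (g • Y ⊔ Y : Subgroup U)
      rw [h2]
      exact mul_mem (Subgroup.mem_sup_left hy1) (Subgroup.mem_sup_right h1)
    · have h1 := hfix _ (r.out : (S : Subgroup P)).2 _ h
      rw [inv_smul_smul] at h1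
      have h2 : y = ((r.out : (S : Subgroup P)) : P) • y := h1
      change y ∈ Y
      rw [h2]
      exact h⟩
  have hf : Function.Injective f := by
    rintro ⟨r, y, hy1, hy2⟩ ⟨r', y', hy1', hy2'⟩ h
    have h1 : ((r.out : (S : Subgroup P)) : P) • y = ((r'.out : (S : Subgroup P)) : P) • y' :=
      congrArg Subtype.val h
    set t : P := ((r.out : (S : Subgroup P)) : P) with ht
    set t' : P := ((r'.out : (S : Subgroup P)) : P) with ht'
    have hr : r = r' := by
      by_contra hne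
      have h2 : t⁻¹ * t' ∉ Q := by
        intro h3
        apply hne
        rw [← QuotientGroup.out_eq' r, ← QuotientGroup.out_eq' r', QuotientGroup.eq,
          mem_subgroupOf]
        exact h3
      have h3 : t⁻¹ * t' ∈ (S : Subgroup P) :=
        mul_mem (inv_mem (r.out : (S : Subgroup P)).2) (r'.out : (S : Subgroup P)).2
      apply hy2
      apply key _ h3 h2 y hy1
      have h4 : (t⁻¹ * t')⁻¹ • y = y' := by
        rw [mul_inv_rev, inv_inv, mul_smul, h1, inv_smul_smul]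
      rw [h4]
      exact hy1'
    subst hr
    have h2 : y = y' := smul_left_cancel _ h1
    subst h2
    rfl
  have h1 : q * A.ncard ≤ B.ncard := by
    have h2 := Nat.card_le_card_of_injective f hf
    rw [Nat.card_prod] at h2
    have h3 : Nat.card R = q := D.card_S
    rw [h3] at h2
    exact h2
  have h2 : A.ncard + c = q := by
    have h3 := Set.ncard_inter_add_ncard_sdiff_eq_ncard ((g • Y : Subgroup U) : Set U) (Y : Set U)
      (Set.toFinite _)
    have h4 : (((g • Y : Subgroup U) : Set U) ∩ (Y : Set U)).ncard = c := rfl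
    have h5 : ((g • Y : Subgroup U) : Set U).ncard = q := by
      rw [← D.card_Y, ← card_smul g Y]; rfl
    rw [h4, h5] at h3
    change c + A.ncard = q at h3
    omega
  have h3 : B.ncard + q = Nat.card ↥(g • Y ⊔ Y) := by
    have h3 := Set.ncard_inter_add_ncard_sdiff_eq_ncard ((g • Y ⊔ Y : Subgroup U) : Set U)
      (Y : Set U) (Set.toFinite _)
    have h4 : (((g • Y ⊔ Y : Subgroup U) : Set U) ∩ (Y : Set U)) = (Y : Set U) := by
      rw [Set.inter_eq_right]
      exact fun u hu => Subgroup.mem_sup_right hu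
    have h5 : (Y : Set U).ncard = q := D.card_Y
    rw [h4, h5] at h3
    have h6 : ((g • Y ⊔ Y : Subgroup U) : Set U).ncard = Nat.card ↥(g • Y ⊔ Y) := rfl
    rw [h6] at h3
    change B.ncard + q = _
    have h7 : (((g • Y ⊔ Y : Subgroup U) : Set U) \ (Y : Set U)) = B := rfl
    rw [h7] at h3
    omega
  have h4 := card_sup_mul (g • Y) Y
  rw [← hc, card_smul, D.card_Y] at h4
  obtain ⟨d, hd⟩ : c ∣ q := by
    rw [← D.card_Y]
    exact Subgroup.card_dvd_of_le inf_le_right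
  have hc0 : 0 < c := Nat.card_pos
  have hcq : c ≠ q := by
    intro h
    apply hg
    have h5 : g • Y ⊓ Y = Y := Subgroup.eq_of_le_of_card_ge inf_le_right (by rw [← hc, h, D.card_Y])
    have h6 : Y ≤ g • Y := inf_eq_right.1 h5
    exact (Subgroup.eq_of_le_of_card_ge h6 (by rw [card_smul])).symm
  have h5 : Nat.card ↥(g • Y ⊔ Y) = q * d := by
    have h6 : Nat.card ↥(g • Y ⊔ Y) * c = (q * d) * c := by
      rw [h4, hd]; ring
    exact Nat.eq_of_mul_eq_mul_right hc0 h6
  have hq := D.two_lt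
  have h6 : q * (A.ncard + 1) ≤ q * d := by
    rw [← h5, ← h3]; linarith
  have h7 : A.ncard + 1 ≤ d := Nat.le_of_mul_le_mul_left h6 (by omega)
  have hd2 : 2 ≤ d := by
    rcases d with _ | _ | d
    · omega
    · exfalso; apply hcq; rw [hd]; ring
    · omega
  by_contra hne
  have hc2 : 2 ≤ c := by omega
  nlinarith

theorem inter {g : P} (hg : g • Y ≠ Y) : g • Y ⊓ Y = ⊥ := by
  obtain ⟨a, ha, hmax⟩ := Set.exists_max_image {g : P | g • Y ≠ Y}
    (fun g => Nat.card ↥(g • Y ⊓ Y)) (Set.toFinite _) ⟨g, hg⟩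
  have h1 := D.inter_aux ha hmax
  have h2 := hmax g hg
  rw [h1] at h2
  rw [← Subgroup.card_eq_one]
  have h3 : 0 < Nat.card ↥(g • Y ⊓ Y) := Nat.card_pos
  omega

theorem inter2 {a b : P} (h : a • Y ≠ b • Y) : a • Y ⊓ b • Y = ⊥ := by
  have h1 : (b⁻¹ * a) • Y ≠ Y := by
    intro h2
    apply h
    rw [mul_smul, inv_smul_eq_iff] at h2
    exact h2
  have h2 := D.inter h1
  have h3 : b • ((b⁻¹ * a) • Y ⊓ Y) = b • (⊥ : Subgroup U) := by rw [h2]
  rw [smul_inf', ← mul_smul, mul_inv_cancel_left, Subgroup.smul_bot] at h3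
  exact h3

theorem eq_of_mem {a b : P} {v : U} (hv : v ≠ 1) (ha : v ∈ a • Y) (hb : v ∈ b • Y) :
    a • Y = b • Y := by
  by_contra h
  have h1 : v ∈ a • Y ⊓ b • Y := ⟨ha, hb⟩
  rw [D.inter2 h, Subgroup.mem_bot] at h1
  exact hv h1

/-- An element of a conjugate `b • Y` fixed by `S` forces `b • Y = Y`. -/
theorem eq_of_mem_U1 {b : P} {v : U} (hv : v ≠ 1) (hb : v ∈ b • Y) (h1 : v ∈ U1) :
    b • Y = Y := by
  obtain ⟨s, hs, hsQ⟩ := D.exists_notMem
  apply D.star hs hsQ
  rw [← mul_smul]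
  refine D.eq_of_mem hv ?_ hb
  rw [mul_smul, smul_mem_smul_iff', inv_smul_eq_iff.2 (D.fixed s hs v h1).symm]
  exact hb

theorem exists_smul {w : U} (hw : w ∉ U1) {y : U} (hy : y ∈ Y) :
    ∃ t ∈ (S : Subgroup P), t • w = w * y := by
  let f : (S : Subgroup P) →* U := MonoidHom.mk' (fun t => (t : P) • w * w⁻¹) (fun a b => by
    have h1 := D.comm b b.2 w
    have h2 := D.fixed a a.2 _ (D.Y_le h1)
    rw [smul_mul'] at h2
    have h3 : (a : P) • (b : P) • w = ((b : P) • w * w⁻¹) * (a : P) • w := by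
      rw [← h2, smul_inv', inv_mul_cancel_right]
    rw [Subgroup.coe_mul, mul_smul, h3]
    rw [mul_assoc, mul_comm])
  have hf : ∀ t : (S : Subgroup P), f t = (t : P) • w * w⁻¹ := fun _ => rfl
  have hker : f.ker = Q.subgroupOf (S : Subgroup P) := by
    ext t
    rw [MonoidHom.mem_ker, hf, mul_inv_eq_one, mem_subgroupOf]
    constructor
    · intro h
      by_contra h1
      exact hw (D.fix t t.2 h1 w h)
    · intro h
      exact D.triv t h w
  have hr : f.range ≤ Y := by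
    rintro _ ⟨t, rfl⟩
    exact D.comm t t.2 w
  have hc : Nat.card f.range = q := by
    rw [← Subgroup.index_ker f, hker]
    exact D.card_S
  have h1 : f.range = Y := Subgroup.eq_of_le_of_card_ge hr (by rw [hc, D.card_Y])
  rw [← h1] at hy
  obtain ⟨t, ht⟩ := hy
  refine ⟨t, t.2, ?_⟩
  rw [← ht, hf, mul_comm _ w⁻¹, mul_inv_cancel_left]

section Pair

variable {b : P} (hb : b • Y ≠ Y)
include hb

theorem pair_inf_U1 : b • Y ⊓ U1 = ⊥ := by
  rw [Subgroup.eq_bot_iff_forall]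
  intro v hv
  by_contra h
  exact hb (D.eq_of_mem_U1 h hv.1 hv.2)

theorem N_inf_U1 : (Y ⊔ b • Y) ⊓ U1 = Y := by
  rw [sup_inf_assoc_of_le _ D.Y_le, D.pair_inf_U1 hb, sup_bot_eq]

theorem card_N : Nat.card ↥(Y ⊔ b • Y) = q * q := by
  have h1 := card_sup_mul Y (b • Y)
  rw [inf_comm, D.inter hb, Subgroup.card_bot, mul_one, card_smul, D.card_Y] at h1
  exact h1

theorem hb' : b⁻¹ • b • Y ≠ b • Y := by
  rw [inv_smul_smul]; exact hb.symm

theorem N_inf_bU1 : (Y ⊔ b • Y) ⊓ b • U1 = b • Y := by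
  have h1 := (D.conj b).N_inf_U1 (b := b⁻¹) (hb' D hb)
  rw [inv_smul_smul, sup_comm] at h1
  exact h1

theorem C_inf_N : (U1 ⊓ b • U1) ⊓ (Y ⊔ b • Y) = ⊥ := by
  rw [eq_bot_iff, ← D.inter hb]
  intro v hv
  refine ⟨?_, ?_⟩
  · rw [← D.N_inf_bU1 hb]; exact ⟨hv.2, hv.1.2⟩
  · rw [← D.N_inf_U1 hb]; exact ⟨hv.2, hv.1.1⟩

theorem C_sup_N : (U1 ⊓ b • U1) ⊔ (Y ⊔ b • Y) = ⊤ := by
  have h1 := card_sup_mul U1 (b • U1)
  have h2 : Nat.card ↥(U1 ⊔ b • U1) ≤ Nat.card U := Subgroup.card_le_card_group _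
  have h3 := card_sup_mul (U1 ⊓ b • U1) (Y ⊔ b • Y)
  rw [D.C_inf_N hb, Subgroup.card_bot, mul_one, D.card_N hb] at h3
  rw [card_smul] at h1
  rw [D.card_U] at h2
  have h4 : 0 < Nat.card U1 := Nat.card_pos
  have h5 : 0 < Nat.card ↥(U1 ⊓ b • U1) := Nat.card_pos
  have hq := D.two_lt
  -- |U1| ≤ q |C|
  have h6 : Nat.card U1 ≤ q * Nat.card ↥(U1 ⊓ b • U1) := by
    have h7 : Nat.card U1 * Nat.card U1
        ≤ Nat.card U1 * (q * Nat.card ↥(U1 ⊓ b • U1)) := by
      rw [← h1]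
      calc _ ≤ (q * Nat.card U1) * Nat.card ↥(U1 ⊓ b • U1) := Nat.mul_le_mul_right _ h2
        _ = _ := by ring
    exact Nat.le_of_mul_le_mul_left h7 h4
  apply Subgroup.eq_top_of_le_card
  rw [h3, D.card_U]
  calc q * Nat.card U1 ≤ q * (q * Nat.card ↥(U1 ⊓ b • U1)) := Nat.mul_le_mul_left _ h6
    _ = _ := by ring

theorem N_sup_U1 : (Y ⊔ b • Y) ⊔ U1 = ⊤ := by
  rw [eq_top_iff, ← D.C_sup_N hb, sup_comm]
  exact sup_le_sup_left inf_le_left _

/-- Every nontrivial element of `N` lies in `Y` or in some `t • b • Y`. -/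
theorem exists_mem_line {v : U} (hv : v ∈ Y ⊔ b • Y) (hvY : v ∉ Y) :
    ∃ t ∈ (S : Subgroup P), v ∈ (t * b) • Y := by
  obtain ⟨y, hy, w, hw, rfl⟩ := Subgroup.mem_sup.1 hv
  have hw1 : w ≠ 1 := by
    rintro rfl
    apply hvY
    rwa [mul_one]
  have hwU : w ∉ U1 := fun h => hb (D.eq_of_mem_U1 hw1 hw h)
  obtain ⟨t, ht, h1⟩ := D.exists_smul hwU hy
  refine ⟨t, ht, ?_⟩
  rw [mul_comm y w, ← h1, mul_smul, smul_mem_smul_iff', inv_smul_smul]
  exact hw

theorem line (c : P) : c • Y = Y ∨ ∃ t ∈ (S : Subgroup P), c • Y = (t * b) • Y := by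
  have h1 := card_sup_mul (Y ⊔ b • Y) (c • U1)
  have h2 : Nat.card ↥((Y ⊔ b • Y) ⊔ c • U1) ≤ Nat.card U := Subgroup.card_le_card_group _
  rw [D.card_N hb, card_smul] at h1
  rw [D.card_U] at h2
  have h4 : 0 < Nat.card U1 := Nat.card_pos
  have hq := D.two_lt
  have h3 : 1 < Nat.card ↥((Y ⊔ b • Y) ⊓ c • U1) := by
    by_contra h5
    have h6 : Nat.card ↥((Y ⊔ b • Y) ⊓ c • U1) ≤ 1 := by omega
    have h7 : q * q * Nat.card U1 ≤ q * Nat.card U1 := by
      rw [← h1]
      calc _ ≤ (q * Nat.card U1) * 1 := Nat.mul_le_mul h2 h6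
        _ = _ := by ring
    have h8 : q * Nat.card U1 * q ≤ q * Nat.card U1 * 1 := by linarith
    have h9 := Nat.le_of_mul_le_mul_left h8 (Nat.mul_pos (by omega) h4)
    omega
  obtain ⟨v, hv, hv1⟩ : ∃ v ∈ (Y ⊔ b • Y) ⊓ c • U1, v ≠ 1 := by
    by_contra h5
    push Not at h5
    have h6 : (Y ⊔ b • Y) ⊓ c • U1 = ⊥ := (Subgroup.eq_bot_iff_forall _).2 h5
    rw [h6, Subgroup.card_bot] at h3
    omega
  -- an element of `d • Y` fixed by the conjugate by `c`
  have key : ∀ d : P, v ∈ d • Y → d • Y = c • Y := by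
    intro d hd
    have h5 : v ∈ (d * c⁻¹) • c • Y := by
      rwa [← mul_smul, inv_mul_cancel_right]
    have h6 := (D.conj c).eq_of_mem_U1 hv1 h5 hv.2
    rwa [← mul_smul, inv_mul_cancel_right] at h6
  by_cases hvY : v ∈ Y
  · left
    have h5 := key 1 (by rwa [one_smul])
    rw [one_smul] at h5
    exact h5.symm
  · right
    obtain ⟨t, ht, h5⟩ := D.exists_mem_line hb hv.1 hvY
    exact ⟨t, ht, (key _ h5).symm⟩

theorem smul_Y_le (c : P) : c • Y ≤ Y ⊔ b • Y := by
  rcases D.line hb c with h | ⟨t, ht, h⟩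
  · rw [h]; exact le_sup_left
  · rw [h]
    intro v hv
    rw [mul_smul, smul_mem_smul_iff'] at hv
    have h1 := D.comm t ht (t⁻¹ • v)
    rw [smul_inv_smul] at h1
    have h2 : v = (v * (t⁻¹ • v)⁻¹) * (t⁻¹ • v) := by rw [inv_mul_cancel_right]
    rw [h2]
    exact mul_mem (Subgroup.mem_sup_left h1) (Subgroup.mem_sup_right hv)

theorem C_le (c : P) : U1 ⊓ b • U1 ≤ c • U1 := by
  rcases D.line hb c with h | ⟨t, ht, h⟩
  · rw [D.smul_U1_of_smul_Y h]; exact inf_le_left
  · have h1 : ((t * b)⁻¹ * c) • Y = Y := by rw [mul_smul, h, inv_smul_smul]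
    have h2 := D.smul_U1_of_smul_Y h1
    rw [mul_smul, inv_smul_eq_iff] at h2
    rw [h2]
    intro v hv
    rw [mul_smul, smul_mem_smul_iff', inv_smul_eq_iff.2 (D.fixed t ht v hv.1).symm]
    exact hv.2

theorem smul_N (g : P) : g • (Y ⊔ b • Y) = Y ⊔ b • Y := by
  apply smul_eq_of_le
  rw [smul_sup', ← mul_smul]
  exact sup_le (D.smul_Y_le hb g) (D.smul_Y_le hb (g * b))

theorem mem_C_iff {v : U} : v ∈ U1 ⊓ b • U1 ↔ ∀ c : P, v ∈ c • U1 := by
  constructor
  · intro h c
    exact D.C_le hb c h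
  · intro h
    refine Subgroup.mem_inf.2 ⟨?_, h b⟩
    have := h 1
    rwa [one_smul] at this

theorem smul_C (g : P) : g • (U1 ⊓ b • U1) = U1 ⊓ b • U1 := by
  apply smul_eq_of_le
  intro v hv
  rw [smul_mem_smul_iff', D.mem_C_iff hb] at hv
  rw [D.mem_C_iff hb]
  intro c
  have h1 := hv (g⁻¹ * c)
  rw [mul_smul, smul_mem_smul_iff', inv_inv, smul_inv_smul] at h1
  exact h1

end Pair

omit D in
theorem mem_smul_sylow_conj {s c : P} (hs : s ∈ (S : Subgroup P)) :
    c * s * c⁻¹ ∈ ((c • S : Sylow 2 P) : Subgroup P) := by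
  rw [Sylow.coe_subgroup_smul, Subgroup.mem_pointwise_smul_iff_inv_smul_mem]
  simpa [MulAut.smul_def, mul_assoc] using hs

/-- The normal closure of the Sylow subgroup. -/
theorem normalClosure_smul_eq {v : U} :
    (∀ c : P, v ∈ c • U1) ↔ ∀ l ∈ Subgroup.normalClosure ((S : Subgroup P) : Set P), l • v = v := by
  constructor
  · intro h l hl
    induction hl using Subgroup.closure_induction with
    | mem x hx =>
      rw [Group.mem_conjugatesOfSet_iff] at hx
      obtain ⟨s, hs, hc⟩ := hx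
      obtain ⟨c, rfl⟩ := isConj_iff.1 hc
      have h1 := h c
      exact (D.conj c).fixed _ (mem_smul_sylow_conj hs) v h1
    | one => exact one_smul _ _
    | mul a b _ _ ha hb => rw [mul_smul, hb, ha]
    | inv a _ ha => rw [inv_smul_eq_iff]; exact ha.symm
  · intro h c
    obtain ⟨s, hs, hsQ⟩ := D.exists_notMem
    have hn := D.normal
    rw [smul_mem_smul_iff']
    apply D.fix s hs hsQ
    have h1 : c * s * c⁻¹ ∈ Subgroup.normalClosure ((S : Subgroup P) : Set P) :=
      Subgroup.normalClosure_normal.conj_mem s (Subgroup.subset_normalClosure hs) c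
    have h2 := h _ h1
    rw [mul_smul, mul_smul, smul_eq_iff_eq_inv_smul] at h2
    exact h2

omit D in
theorem smul_sylow_le (c : P) : ((c • S : Sylow 2 P) : Subgroup P)
    ≤ Subgroup.normalClosure ((S : Subgroup P) : Set P) := by
  intro x hx
  rw [Sylow.coe_subgroup_smul, Subgroup.mem_pointwise_smul_iff_inv_smul_mem] at hx
  have h1 : c⁻¹ * x * c ∈ (S : Subgroup P) := by
    simpa [MulAut.smul_def, mul_assoc] using hx
  have h2 := Subgroup.normalClosure_normal.conj_mem _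
    (Subgroup.subset_normalClosure (s := ((S : Subgroup P) : Set P)) h1) c
  simpa [mul_assoc] using h2

theorem smul_eq_of_smul_sylow {n : P} (hn : n • S = S) : n • U1 = U1 ∧ n • Y = Y := by
  have h1 := D.conj n
  rw [hn] at h1
  obtain ⟨s, hs, hsQ⟩ := D.exists_notMem
  have h2 : n • U1 = U1 := by
    apply Subgroup.ext
    intro u
    exact ⟨fun hu => D.fix s hs hsQ u (h1.fixed s hs u hu),
      fun hu => h1.fix s hs hsQ u (D.fixed s hs u hu)⟩
  exact ⟨h2, D.smul_Y_of_smul_U1 h2⟩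

/-- An element of `L` stabilising `Y` acts as an element of `L` normalising `S`. -/
theorem exists_normalizer {l : P} (hl : l ∈ Subgroup.normalClosure ((S : Subgroup P) : Set P))
    (hY : l • Y = Y) : ∃ n ∈ Subgroup.normalClosure ((S : Subgroup P) : Set P), n • S = S ∧
      ∀ u : U, n • u = l • u := by
  set L := Subgroup.normalClosure ((S : Subgroup P) : Set P) with hL
  set H : Subgroup P := stab Y ⊓ L with hH
  have hSH : (S : Subgroup P) ≤ H := le_inf D.le_stab_Y (fun s hs =>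
    Subgroup.subset_normalClosure hs)
  have hlSH : ((l • S : Sylow 2 P) : Subgroup P) ≤ H := by
    refine le_inf ?_ (smul_sylow_le l)
    have := (D.conj l).le_stab_Y
    rwa [hY] at this
  have hRi : ¬ 2 ∣ (S : Subgroup P).relIndex H := by
    intro h2
    apply S.not_dvd_index
    rw [← Subgroup.relIndex_mul_index hSH]
    exact h2.mul_right _
  obtain ⟨h, hh, hle⟩ := Cfsg.Agent.Lib.GoldschmidtFusion.exists_conj_le_in (p := 2)
    S.isPGroup' hRi hlSH (l • S : Sylow 2 P).isPGroup'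
  obtain ⟨s, hs, he⟩ := exists_mul_of_mem_stab D.two S D.le_stab_Y hh.1
  have h1 : h • l • S = S := by
    apply Sylow.ext
    have h2 : ((h • l • S : Sylow 2 P) : Subgroup P)
        = ((l • S : Sylow 2 P) : Subgroup P).map (MulAut.conj h).toMonoidHom := by
      rw [Sylow.coe_subgroup_smul]
      rfl
    rw [h2]
    apply Subgroup.eq_of_le_of_card_ge hle
    rw [Cfsg.Agent.Lib.GoldschmidtFusion.card_map_conj]
    rw [Sylow.coe_subgroup_smul]
    exact le_of_eq (Nat.card_congr (Subgroup.equivSMul (MulAut.conj l)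
      (S : Subgroup P)).toEquiv)
  have hsL : s ∈ L := Subgroup.subset_normalClosure hs
  refine ⟨s⁻¹ * h * l, mul_mem (mul_mem (inv_mem hsL) hh.2) hl, ?_, ?_⟩
  · rw [mul_smul, mul_smul, h1]
    exact Sylow.smul_eq_iff_mem_normalizer.2 (inv_mem (Subgroup.le_normalizer hs))
  · intro u
    rw [mul_smul, mul_smul, he, inv_smul_smul]

theorem trans_aux {d : P} (hd : d • Y ≠ Y) {v w : U} (hv : v ∈ Y) (hw : w ∈ d • Y) (hv1 : v ≠ 1)
    (hw1 : w ≠ 1) : ∃ l ∈ Subgroup.normalClosure ((S : Subgroup P) : Set P), l • v = w := by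
  have hwU : w ∉ U1 := fun h => hd (D.eq_of_mem_U1 hw1 hw h)
  obtain ⟨t, ht, h1⟩ := D.exists_smul hwU hv
  have hvU : v ∉ d • U1 := by
    intro h
    have h2 : v ∈ d⁻¹ • d • Y := by rwa [inv_smul_smul]
    have h3 := (D.conj d).eq_of_mem_U1 hv1 h2 h
    rw [inv_smul_smul] at h3
    exact hd h3.symm
  obtain ⟨t', ht', h2⟩ := (D.conj d).exists_smul hvU hw
  refine ⟨t⁻¹ * t', mul_mem (inv_mem (Subgroup.subset_normalClosure ht)) (smul_sylow_le d ht'), ?_⟩
  rw [mul_smul, h2, mul_comm v w, ← h1, inv_smul_smul]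

theorem trans_pair {c d : P} (hcd : c • Y ≠ d • Y) {v w : U} (hv : v ∈ c • Y) (hw : w ∈ d • Y)
    (hv1 : v ≠ 1) (hw1 : w ≠ 1) :
    ∃ l ∈ Subgroup.normalClosure ((S : Subgroup P) : Set P), l • v = w := by
  have h1 : (c⁻¹ * d) • Y ≠ Y := by
    intro h
    rw [mul_smul, inv_smul_eq_iff] at h
    exact hcd h.symm
  have hv' : c⁻¹ • v ∈ Y := by rwa [← smul_mem_smul_iff']
  have hw' : c⁻¹ • w ∈ (c⁻¹ * d) • Y := by
    rw [mul_smul, smul_mem_smul_iff', smul_smul, inv_inv, mul_inv_cancel, one_smul]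
    exact hw
  have hv1' : c⁻¹ • v ≠ 1 := by
    intro h
    rw [inv_smul_eq_iff, smul_one] at h
    exact hv1 h
  have hw1' : c⁻¹ • w ≠ 1 := by
    intro h
    rw [inv_smul_eq_iff, smul_one] at h
    exact hw1 h
  obtain ⟨l, hl, h2⟩ := D.trans_aux h1 hv' hw' hv1' hw1'
  refine ⟨c * l * c⁻¹, Subgroup.normalClosure_normal.conj_mem l hl c, ?_⟩
  rw [mul_smul, mul_smul, h2, smul_inv_smul]

theorem exists_ne : ∃ b : P, b • Y ≠ Y := by
  obtain ⟨b, hb⟩ := D.move
  exact ⟨b, fun h => hb (D.smul_U1_of_smul_Y h)⟩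

theorem Y_ne_bot : ∃ v ∈ Y, v ≠ 1 := by
  by_contra h
  push Not at h
  have h1 : Y = ⊥ := (Subgroup.eq_bot_iff_forall _).2 h
  have h2 := D.card_Y
  rw [h1, Subgroup.card_bot] at h2
  have := D.two_lt
  omega

theorem conj_ne_bot (c : P) : ∃ v ∈ c • Y, v ≠ 1 := (D.conj c).Y_ne_bot

theorem exists_mem {b : P} (hb : b • Y ≠ Y) {v : U} (hv : v ∈ Y ⊔ b • Y) : ∃ c : P, v ∈ c • Y := by
  by_cases h : v ∈ Y
  · exact ⟨1, by rwa [one_smul]⟩
  · obtain ⟨t, _, h1⟩ := D.exists_mem_line hb hv h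
    exact ⟨_, h1⟩

/-- `L` is transitive on the nontrivial elements of `N`. -/
theorem trans_N {b : P} (hb : b • Y ≠ Y) {v w : U} (hv : v ∈ Y ⊔ b • Y) (hw : w ∈ Y ⊔ b • Y)
    (hv1 : v ≠ 1) (hw1 : w ≠ 1) :
    ∃ l ∈ Subgroup.normalClosure ((S : Subgroup P) : Set P), l • v = w := by
  obtain ⟨c, hc⟩ := D.exists_mem hb hv
  obtain ⟨d, hd⟩ := D.exists_mem hb hw
  by_cases hcd : c • Y = d • Y
  · obtain ⟨e, he⟩ : ∃ e : P, e • Y ≠ c • Y := by
      by_cases h : c • Y = Y
      · exact ⟨b, by rwa [h]⟩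
      · exact ⟨1, by rw [one_smul]; exact fun h1 => h h1.symm⟩
    obtain ⟨x, hx, hx1⟩ := D.conj_ne_bot e
    obtain ⟨l, hl, h1⟩ := D.trans_pair he.symm hc hx hv1 hx1
    obtain ⟨l', hl', h2⟩ := D.trans_pair (by rw [← hcd]; exact he) hx hd hx1 hw1
    exact ⟨l' * l, mul_mem hl' hl, by rw [mul_smul, h1, h2]⟩
  · exact D.trans_pair hcd hc hd hv1 hw1

/-- `N_L(S)` is transitive on the nontrivial elements of `Y`. -/
theorem trans_Y {v w : U} (hv : v ∈ Y) (hw : w ∈ Y) (hv1 : v ≠ 1) (hw1 : w ≠ 1) :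
    ∃ n ∈ Subgroup.normalClosure ((S : Subgroup P) : Set P), n • S = S ∧ n • v = w := by
  obtain ⟨b, hb⟩ := D.exists_ne
  obtain ⟨l, hl, h1⟩ := D.trans_N hb (Subgroup.mem_sup_left hv) (Subgroup.mem_sup_left hw) hv1 hw1
  have h2 : l • Y = Y := by
    have h3 : w ∈ l • Y := by
      rw [smul_mem_smul_iff', ← h1, inv_smul_smul]; exact hv
    have h4 := D.eq_of_mem (a := l) (b := 1) hw1 h3 (by rwa [one_smul])
    rwa [one_smul] at h4
  obtain ⟨n, hn, hnS, hne⟩ := D.exists_normalizer hl h2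
  exact ⟨n, hn, hnS, by rw [hne, h1]⟩

/-- `N_L(S)` is transitive on the elements of `N \ Y`. -/
theorem trans_sub {b : P} (hb : b • Y ≠ Y) {v w : U} (hv : v ∈ Y ⊔ b • Y) (hw : w ∈ Y ⊔ b • Y)
    (hv1 : v ∉ Y) (hw1 : w ∉ Y) :
    ∃ n ∈ Subgroup.normalClosure ((S : Subgroup P) : Set P), n • S = S ∧ n • v = w := by
  obtain ⟨c, hc⟩ := D.exists_mem hb hv
  obtain ⟨d, hd⟩ := D.exists_mem hb hw
  have hw0 : w ≠ 1 := by rintro rfl; exact hw1 (one_mem _)
  have hcY : c • Y ≠ Y := by intro h; rw [h] at hc; exact hv1 hc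
  have hdY : d • Y ≠ Y := by intro h; rw [h] at hd; exact hw1 hd
  -- move `c • Y` to `d • Y` by `S`
  obtain ⟨t, ht, h1⟩ : ∃ t ∈ (S : Subgroup P), d • Y = (t * c) • Y :=
    (D.line hcY d).resolve_left hdY
  have hv' : t • v ∈ d • Y := by
    rw [h1, mul_smul, smul_mem_smul_iff', inv_smul_smul]; exact hc
  have hv0 : t • v ≠ 1 := by
    intro h
    rw [smul_eq_iff_eq_inv_smul, smul_one] at h
    rw [h] at hv1
    exact hv1 (one_mem _)
  obtain ⟨n0, hn0, hn0S, h2⟩ := (D.conj d).trans_Y hv' hd hv0 hw0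
  have hL : ∀ x, x ∈ Subgroup.normalClosure (((d • S : Sylow 2 P) : Subgroup P) : Set P) →
      x ∈ Subgroup.normalClosure ((S : Subgroup P) : Set P) := by
    intro x hx
    have h3 : Subgroup.normalClosure (((d • S : Sylow 2 P) : Subgroup P) : Set P)
        ≤ Subgroup.normalClosure ((S : Subgroup P) : Set P) :=
      Subgroup.normalClosure_le_normal (smul_sylow_le d)
    exact h3 hx
  -- move `n0 • Y` to `Y` by `d • S`
  have h3 : ∃ t' ∈ ((d • S : Sylow 2 P) : Subgroup P), t' • n0 • Y = Y := by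
    have h4 : d⁻¹ • d • Y ≠ d • Y := by rw [inv_smul_smul]; exact hdY.symm
    rcases (D.conj d).line h4 (n0 * d⁻¹) with h5 | ⟨t', ht', h5⟩
    · exfalso
      rw [mul_smul, inv_smul_smul] at h5
      have h6 : n0 • d • Y = d • Y := ((D.conj d).smul_eq_of_smul_sylow hn0S).2
      rw [← h6] at h5
      exact hdY (smul_left_cancel n0 h5).symm
    · refine ⟨t'⁻¹, inv_mem ht', ?_⟩
      rw [mul_smul, inv_smul_smul, mul_smul, inv_smul_smul] at h5
      rw [h5, inv_smul_smul]
  obtain ⟨t', ht', h4⟩ := h3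
  have hl : t' * n0 ∈ Subgroup.normalClosure ((S : Subgroup P) : Set P) :=
    mul_mem (smul_sylow_le d ht') (hL _ hn0)
  obtain ⟨n, hn, hnS, hne⟩ := D.exists_normalizer hl (by rw [mul_smul, h4])
  refine ⟨n * t, mul_mem hn (Subgroup.subset_normalClosure ht), ?_, ?_⟩
  · rw [mul_smul, Sylow.smul_eq_iff_mem_normalizer.2 (Subgroup.le_normalizer ht), hnS]
  · rw [mul_smul, hne, mul_smul, h2]
    exact (D.conj d).fixed t' ht' w ((D.conj d).Y_le hd)

/-- Lemma D, first part: a subgroup invariant under `N_L(S)` and not fixed by `S` contains `N`. -/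
theorem N_le_of_invariant {b : P} (hb : b • Y ≠ Y) {W : Subgroup U}
    (hW : ∀ n ∈ Subgroup.normalClosure ((S : Subgroup P) : Set P), n • S = S →
      ∀ u ∈ W, n • u ∈ W) (hWU : ¬ W ≤ U1) : Y ⊔ b • Y ≤ W := by
  obtain ⟨u, hu, huU⟩ := SetLike.not_le_iff_exists.1 hWU
  have h1 : u ∈ (U1 ⊓ b • U1) ⊔ (Y ⊔ b • Y) := by rw [D.C_sup_N hb]; exact mem_top _
  obtain ⟨c, hc, x, hx, rfl⟩ := Subgroup.mem_sup.1 h1
  have hxY : x ∉ Y := fun h => huU (mul_mem hc.1 (D.Y_le h))
  have key : ∀ x' ∈ Y ⊔ b • Y, x' ∉ Y → x' * x⁻¹ ∈ W := by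
    intro x' hx' hxY'
    obtain ⟨n, hn, hnS, h2⟩ := D.trans_sub hb hx hx' hxY hxY'
    have h3 := hW n hn hnS _ hu
    have h4 : n • c = c := (D.normalClosure_smul_eq.1 ((D.mem_C_iff hb).1 hc)) n hn
    rw [smul_mul', h4, h2] at h3
    have h5 := mul_mem h3 (inv_mem hu)
    have h6 : c * x' * (c * x)⁻¹ = x' * x⁻¹ := by
      rw [mul_inv_rev, mul_comm c x', mul_assoc, mul_comm x⁻¹ c⁻¹, mul_inv_cancel_left]
    rwa [h6] at h5
  intro z hz
  by_cases hzx : z * x ∈ Y
  · -- choose `z'` with `z' * x ∉ Y` and `z' ∉ Y`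
    obtain ⟨z', hz', h2, h3⟩ : ∃ z' ∈ Y ⊔ b • Y, z' ∉ Y ∧ z' * x ∉ Y := by
      by_contra hcon
      push Not at hcon
      have h4 : ((Y ⊔ b • Y : Subgroup U) : Set U) ⊆ (Y : Set U) ∪ (fun y => y * x⁻¹) '' (Y : Set U) := by
        intro z' hz'
        by_cases h5 : z' ∈ Y
        · exact Or.inl h5
        · exact Or.inr ⟨z' * x, hcon z' hz' h5, by simp⟩
      have h5 := Set.ncard_le_ncard h4 (Set.toFinite _)
      have h6 := Set.ncard_union_le (Y : Set U) ((fun y => y * x⁻¹) '' (Y : Set U))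
      have h7 := Set.ncard_image_le (f := fun y => y * x⁻¹) (Set.toFinite (Y : Set U))
      have h8 : (Y : Set U).ncard = q := D.card_Y
      have h9 : ((Y ⊔ b • Y : Subgroup U) : Set U).ncard = q * q := D.card_N hb
      have := D.two_lt
      nlinarith
    have h4 : z' ∈ W := by
      have := key (z' * x) (mul_mem hz' hx) h3
      rwa [mul_inv_cancel_right] at this
    have h5 : z * z'⁻¹ ∈ W := by
      have h6 : z * z'⁻¹ * x ∉ Y := by
        intro h7
        apply h2
        have h8 : z' = (z * x) * (z * z'⁻¹ * x)⁻¹ := by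
          rw [mul_inv_rev, mul_inv_rev, inv_inv]
          have : z * x * (x⁻¹ * (z' * z⁻¹)) = z * z' * z⁻¹ := by group
          rw [this, mul_comm z z', mul_inv_cancel_right]
        rw [h8]
        exact mul_mem hzx (inv_mem h7)
      have := key (z * z'⁻¹ * x) (mul_mem (mul_mem hz (inv_mem hz')) hx) h6
      rwa [mul_inv_cancel_right] at this
    have h6 := mul_mem h5 h4
    rwa [inv_mul_cancel_right] at h6
  · have := key (z * x) (mul_mem hz hx) hzx
    rwa [mul_inv_cancel_right] at this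

/-- Lemma D, second part: a subgroup of `U1` invariant under `N_L(S)` meeting `Y` trivially is
fixed by `L`. -/
theorem le_C_of_invariant {b : P} (hb : b • Y ≠ Y) {W : Subgroup U}
    (hW : ∀ n ∈ Subgroup.normalClosure ((S : Subgroup P) : Set P), n • S = S →
      ∀ u ∈ W, n • u ∈ W) (hWU : W ≤ U1) (hWY : W ⊓ Y = ⊥) : W ≤ U1 ⊓ b • U1 := by
  intro u hu
  have h1 : u ∈ (U1 ⊓ b • U1) ⊔ (Y ⊔ b • Y) := by rw [D.C_sup_N hb]; exact mem_top _
  obtain ⟨c, hc, y, hy, rfl⟩ := Subgroup.mem_sup.1 h1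
  have hyY : y ∈ Y := by
    rw [← D.N_inf_U1 hb]
    refine Subgroup.mem_inf.2 ⟨hy, ?_⟩
    have h2 := mul_mem (inv_mem (Subgroup.mem_inf.1 hc).1) (hWU hu)
    rwa [inv_mul_cancel_left] at h2
  have key : ∀ n ∈ Subgroup.normalClosure ((S : Subgroup P) : Set P), n • S = S → n • y = y := by
    intro n hn hnS
    have h3 := hW n hn hnS _ hu
    have h4 : n • c = c := (D.normalClosure_smul_eq.1 ((D.mem_C_iff hb).1 hc)) n hn
    rw [smul_mul', h4] at h3
    have h5 := mul_mem h3 (inv_mem hu)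
    have h6 : c * n • y * (c * y)⁻¹ = n • y * y⁻¹ := by
      rw [mul_inv_rev, mul_comm c (n • y), mul_assoc, mul_comm y⁻¹ c⁻¹, mul_inv_cancel_left]
    rw [h6] at h5
    have h7 : n • y ∈ Y := by
      have h8 := (D.smul_eq_of_smul_sylow hnS).2
      rw [← h8, smul_mem_smul_iff', inv_smul_smul]
      exact hyY
    have h8 : n • y * y⁻¹ ∈ W ⊓ Y := Subgroup.mem_inf.2 ⟨h5, mul_mem h7 (inv_mem hyY)⟩
    rw [hWY, Subgroup.mem_bot, mul_inv_eq_one] at h8
    exact h8
  have hy1 : y = 1 := by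
    by_contra hy1
    -- another nontrivial element of `Y`
    obtain ⟨w, hw, hw1, hwy⟩ : ∃ w ∈ Y, w ≠ 1 ∧ w ≠ y := by
      by_contra hcon
      push Not at hcon
      have h4 : (Y : Set U) ⊆ {1, y} := by
        intro w hw
        by_cases h5 : w = 1
        · exact Or.inl h5
        · exact Or.inr (hcon w hw h5)
      have h5 := Set.ncard_le_ncard h4 (Set.toFinite _)
      have h6 := Set.ncard_insert_le (1 : U) {y}
      rw [Set.ncard_singleton] at h6
      have h8 : (Y : Set U).ncard = q := D.card_Y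
      have := D.two_lt
      omega
    obtain ⟨n, hn, hnS, h2⟩ := D.trans_Y hyY hw hy1 hw1
    rw [key n hn hnS] at h2
    exact hwy h2.symm
  rw [hy1, mul_one]
  exact hc

end Data

end Cfsg.Agent.SylowL.Spread
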