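import Cfsg.Agent.SylowL.Lev

/-!
The group `UT m F` of upper unitriangular matrices: `N g = g - 1`, ideals and subalgebras of the
algebra of strictly upper triangular matrices give (normal) subgroups.
-/

set_option autoImplicit false

namespace Cfsg.Agent.SylowL.UT

open Matrix
open Cfsg.Agent.SylowL.Lev

variable {m : ℕ} {F : Type*} [Field F]

local notation "Mat" => Matrix (Fin m) (Fin m) F

theorem geom_mul {a : Mat} (ha : a ∈ lev m F 1) :
    (1 + a) * (∑ k ∈ Finset.range m, (-a) ^ k) = 1 := by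
  have h := mul_neg_geom_sum (-a) m
  rw [sub_neg_eq_add] at h
  rw [h, pow_eq_zero (neg_mem ha), sub_zero]

theorem mul_geom {a : Mat} (ha : a ∈ lev m F 1) :
    (∑ k ∈ Finset.range m, (-a) ^ k) * (1 + a) = 1 := by
  have h := geom_sum_mul_neg (-a) m
  rw [sub_neg_eq_add] at h
  rw [h, pow_eq_zero (neg_mem ha), sub_zero]

theorem geom_sub_one_mem {a : Mat} (ha : a ∈ lev m F 1) :
    (∑ k ∈ Finset.range m, (-a) ^ k) - 1 ∈ lev m F 1 := by
  have h : (∑ k ∈ Finset.range m, (-a) ^ k) - 1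
      = -(a * (∑ k ∈ Finset.range m, (-a) ^ k)) := by
    have h1 := geom_mul ha
    rw [add_mul, one_mul] at h1
    rw [← h1]
    abel
  rw [h]
  refine neg_mem ?_
  have h0 : (∑ k ∈ Finset.range m, (-a) ^ k) ∈ lev m F 0 :=
    Submodule.sum_mem _ fun k _ => lev_anti (Nat.zero_le _) (pow_mem_lev (neg_mem ha) k)
  have := mul_mem_lev ha h0
  rwa [add_zero] at this

/-- The group of upper unitriangular matrices. -/
def UT (m : ℕ) (F : Type*) [Field F] : Subgroup (Matrix (Fin m) (Fin m) F)ˣ where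
  carrier := {u | (u : Matrix (Fin m) (Fin m) F) - 1 ∈ lev m F 1}
  mul_mem' {u v} hu hv := by
    have h : ((u * v : (Matrix (Fin m) (Fin m) F)ˣ) : Matrix (Fin m) (Fin m) F) - 1
        = ((u : Matrix (Fin m) (Fin m) F) - 1) + ((v : Matrix (Fin m) (Fin m) F) - 1)
          + ((u : Matrix (Fin m) (Fin m) F) - 1) * ((v : Matrix (Fin m) (Fin m) F) - 1) := by
      rw [Units.val_mul]
      noncomm_ring
    change ((u * v : (Matrix (Fin m) (Fin m) F)ˣ) : Matrix (Fin m) (Fin m) F) - 1 ∈ lev m F 1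
    rw [h]
    exact add_mem (add_mem hu hv) (lev_anti (by norm_num) (mul_mem_lev hu hv))
  one_mem' := by
    change ((1 : (Matrix (Fin m) (Fin m) F)ˣ) : Matrix (Fin m) (Fin m) F) - 1 ∈ lev m F 1
    rw [Units.val_one, sub_self]
    exact zero_mem _
  inv_mem' {u} hu := by
    change ((u⁻¹ : (Matrix (Fin m) (Fin m) F)ˣ) : Matrix (Fin m) (Fin m) F) - 1 ∈ lev m F 1
    have h1 : ((u⁻¹ : (Matrix (Fin m) (Fin m) F)ˣ) : Matrix (Fin m) (Fin m) F)
        = ∑ k ∈ Finset.range m, (-((u : Matrix (Fin m) (Fin m) F) - 1)) ^ k := by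
      apply Units.inv_eq_of_mul_eq_one_right
      have := geom_mul hu
      rwa [add_sub_cancel] at this
    rw [h1]
    exact geom_sub_one_mem hu

/-- The nilpotent part. -/
def N (g : UT m F) : Mat := ((g : Matˣ) : Mat) - 1

theorem val_eq (g : UT m F) : ((g : Matˣ) : Mat) = 1 + N g := by
  rw [N, add_sub_cancel]

theorem N_mem (g : UT m F) : N g ∈ lev m F 1 := g.2

theorem N_injective : Function.Injective (N : UT m F → Mat) := by
  intro g h hgh
  apply Subtype.ext
  apply Units.ext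
  rw [val_eq, val_eq, hgh]

/-- The element `1 + a`. -/
def mk (a : Mat) (ha : a ∈ lev m F 1) : UT m F :=
  ⟨⟨1 + a, ∑ k ∈ Finset.range m, (-a) ^ k, geom_mul ha, mul_geom ha⟩, by
    change (1 + a) - 1 ∈ lev m F 1
    rwa [add_sub_cancel_left]⟩

@[simp] theorem N_mk (a : Mat) (ha : a ∈ lev m F 1) : N (mk a ha) = a := by
  change (1 + a) - 1 = a
  rw [add_sub_cancel_left]

@[simp] theorem mk_N (g : UT m F) : mk (N g) (N_mem g) = g := N_injective (N_mk _ _)

@[simp] theorem N_one : N (1 : UT m F) = 0 := by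
  change ((1 : Matˣ) : Mat) - 1 = 0
  rw [Units.val_one, sub_self]

theorem N_mul (g h : UT m F) : N (g * h) = N g + N h + N g * N h := by
  have h1 : ((g * h : UT m F) : Matˣ) = (g : Matˣ) * (h : Matˣ) := rfl
  rw [N, h1, Units.val_mul, val_eq, val_eq]
  noncomm_ring

theorem N_eq_zero_iff {g : UT m F} : N g = 0 ↔ g = 1 := by
  rw [← N_one]
  exact N_injective.eq_iff

/-- Conjugation in matrix form. -/
theorem N_conj (g h : UT m F) :
    N (g * h * g⁻¹) = ((g : Matˣ) : Mat) * N h * ((g⁻¹ : Matˣ) : Mat) := by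
  have h1 : ((g * h * g⁻¹ : UT m F) : Matˣ) = (g : Matˣ) * (h : Matˣ) * (g : Matˣ)⁻¹ := rfl
  rw [N, h1, Units.val_mul, Units.val_mul, val_eq h, mul_add, mul_one, add_mul, Units.mul_inv,
    add_sub_cancel_left]

theorem commute_iff {g h : UT m F} : g * h = h * g ↔ N g * N h = N h * N g := by
  rw [← N_injective.eq_iff, N_mul, N_mul, add_comm (N h) (N g), add_left_cancel_iff]

/-- A submodule of the strictly upper triangular matrices closed under multiplication. -/
structure IsAlg (e : Submodule F Mat) : Prop where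
  le : e ≤ lev m F 1
  mul : ∀ a ∈ e, ∀ b ∈ e, a * b ∈ e

/-- A two-sided ideal of the strictly upper triangular matrices. -/
structure IsIdeal (e : Submodule F Mat) : Prop where
  le : e ≤ lev m F 1
  left : ∀ a ∈ lev m F 1, ∀ b ∈ e, a * b ∈ e
  right : ∀ a ∈ lev m F 1, ∀ b ∈ e, b * a ∈ e

theorem IsIdeal.isAlg {e : Submodule F Mat} (h : IsIdeal e) : IsAlg e :=
  ⟨h.le, fun a ha b hb => h.left a (h.le ha) b hb⟩

theorem isIdeal_lev {k : ℕ} (hk : 1 ≤ k) : IsIdeal (lev m F k) := by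
  refine ⟨lev_anti hk, fun a ha b hb => ?_, fun a ha b hb => ?_⟩
  · exact lev_anti (by omega) (mul_mem_lev ha hb)
  · exact lev_anti (by omega) (mul_mem_lev hb ha)

theorem IsAlg.pow_mem {e : Submodule F Mat} (h : IsAlg e) {a : Mat} (ha : a ∈ e) {k : ℕ}
    (hk : k ≠ 0) : a ^ k ∈ e := by
  induction k with
  | zero => exact absurd rfl hk
  | succ k ih =>
    by_cases h0 : k = 0
    · subst h0; simpa using ha
    · rw [pow_succ]
      exact h.mul _ (ih h0) _ ha

theorem IsAlg.inv_mem {e : Submodule F Mat} (h : IsAlg e) {g : UT m F} (hg : N g ∈ e) :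
    N g⁻¹ ∈ e := by
  have h1 : ((g⁻¹ : UT m F) : Matˣ) = (g : Matˣ)⁻¹ := rfl
  have h2 : (((g : Matˣ)⁻¹ : Matˣ) : Mat) = ∑ k ∈ Finset.range m, (-N g) ^ k := by
    apply Units.inv_eq_of_mul_eq_one_right
    rw [val_eq]
    exact geom_mul (N_mem g)
  rw [N, h1, h2]
  have h3 : (∑ k ∈ Finset.range m, (-N g) ^ k) - 1
      = -(N g * (∑ k ∈ Finset.range m, (-N g) ^ k)) := by
    have h1 := geom_mul (N_mem g)
    rw [add_mul, one_mul] at h1
    rw [← h1]
    abel
  rw [h3]
  refine neg_mem ?_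
  rw [Finset.mul_sum]
  refine Submodule.sum_mem _ fun k _ => ?_
  by_cases h0 : k = 0
  · subst h0; simpa using hg
  · exact h.mul _ hg _ (h.pow_mem (neg_mem hg) h0)

/-- The subgroup `1 + e`. -/
def ofAlg (e : Submodule F Mat) (he : IsAlg e) : Subgroup (UT m F) where
  carrier := {g | N g ∈ e}
  mul_mem' {g h} hg hh := by
    change N (g * h) ∈ e
    rw [N_mul]
    exact add_mem (add_mem hg hh) (he.mul _ hg _ hh)
  one_mem' := by
    change N 1 ∈ e
    rw [N_one]
    exact zero_mem _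
  inv_mem' {g} hg := he.inv_mem hg

theorem mem_ofAlg {e : Submodule F Mat} {he : IsAlg e} {g : UT m F} : g ∈ ofAlg e he ↔ N g ∈ e :=
  Iff.rfl

theorem IsIdeal.conj_mem {e : Submodule F Mat} (h : IsIdeal e) {g : UT m F} {b : Mat}
    (hb : b ∈ e) : ((g : Matˣ) : Mat) * b * (((g : Matˣ)⁻¹ : Matˣ) : Mat) ∈ e := by
  have h2 : (((g : Matˣ)⁻¹ : Matˣ) : Mat) = 1 + N g⁻¹ := val_eq g⁻¹
  rw [h2, val_eq]
  have h3 : (1 + N g) * b * (1 + N g⁻¹) = b + N g * b + (b + N g * b) * N g⁻¹ := by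
    noncomm_ring
  rw [h3]
  have h4 : b + N g * b ∈ e := add_mem hb (h.left _ (N_mem g) _ hb)
  exact add_mem h4 (h.right _ (N_mem g⁻¹) _ h4)

theorem IsIdeal.normal {e : Submodule F Mat} (h : IsIdeal e) : (ofAlg e h.isAlg).Normal := by
  refine ⟨fun b hb g => ?_⟩
  change N (g * b * g⁻¹) ∈ e
  rw [N_conj]
  exact h.conj_mem hb

/-- Commutators and ideals. -/
theorem IsIdeal.commutator_mem_iff {e : Submodule F Mat} (h : IsIdeal e) {g k : UT m F} :
    N (g * k * g⁻¹ * k⁻¹) ∈ e ↔ N g * N k - N k * N g ∈ e := by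
  -- g k = c (k g)
  set c := g * k * g⁻¹ * k⁻¹ with hc
  have h1 : c * (k * g) = g * k := by rw [hc]; group
  have h2 : N g * N k - N k * N g = N c * (1 + N (k * g)) := by
    have h3 := congrArg N h1
    rw [N_mul c, N_mul g k, N_mul k g] at h3
    rw [N_mul k g]
    have h4 : N c * (1 + (N k + N g + N k * N g))
        = (N c + (N k + N g + N k * N g) + N c * (N k + N g + N k * N g))
          - (N k + N g + N k * N g) := by noncomm_ring
    rw [h4, h3]
    noncomm_ring
  have h5 : N c = (N g * N k - N k * N g) * (1 + N (k * g)⁻¹) := by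
    rw [h2, mul_assoc]
    have h6 : (1 + N (k * g)) * (1 + N (k * g)⁻¹) = 1 := by
      have h7 := N_mul (k * g) (k * g)⁻¹
      rw [mul_inv_cancel, N_one] at h7
      have h8 : (1 + N (k * g)) * (1 + N (k * g)⁻¹)
          = 1 + (N (k * g) + N (k * g)⁻¹ + N (k * g) * N (k * g)⁻¹) := by noncomm_ring
      rw [h8, ← h7, add_zero]
    rw [h6, mul_one]
  constructor
  · intro h6
    rw [h2, mul_add, mul_one]
    exact add_mem h6 (h.right _ (N_mem _) _ h6)
  · intro h6
    rw [h5, mul_add, mul_one]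
    exact add_mem h6 (h.right _ (N_mem _) _ h6)

theorem natCard_UT [Finite F] : Finite (UT m F) := inferInstance

end Cfsg.Agent.SylowL.UT
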